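import Cfsg.Prelude.Def_CaseTheorems
import Cfsg.Agent.H2.Cores

set_option autoImplicit false

namespace Cfsg.Agent.GO.Jn
open Cfsg Subgroup

theorem jO {G : Type*} [Group G] [Finite G] {z : G} (hz : ∀ g : G, g * z = z * g) (zz : z * z = 1)
    [(zpowers z).Normal] (hO : oddCore G = ⊥) : oddCore (G ⧸ zpowers z) = ⊥ := by
  haveI := H2.pPrimeCore_characteristic (p := 2) (G := G ⧸ zpowers z)
  let K := (oddCore (G ⧸ zpowers z)).comap (QuotientGroup.mk' (zpowers z))
  let φ : K →* oddCore (G ⧸ zpowers z) :=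
    ((QuotientGroup.mk' (zpowers z)).comp K.subtype).codRestrict _ fun k => k.2
  have hk : ∀ n ∈ φ.ker, (n : G) ∈ zpowers z := fun n hn =>
    (QuotientGroup.eq_one_iff _).1 (congrArg Subtype.val hn)
  have h1 : Nat.card φ.ker ∣ 2 := by
    rw [← card_map_of_injective K.subtype_injective]
    refine (card_dvd_of_le (by rintro _ ⟨n, hn, rfl⟩; exact hk n hn)).trans ?_
    rw [Nat.card_zpowers]
    exact orderOf_dvd_of_pow_eq_one (by rw [pow_two, zz])
  have h2 : φ.ker.index.Coprime 2 := by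
    rw [index_ker]
    exact Nat.Coprime.coprime_dvd_left (card_subgroup_dvd_card _) H2.pPrimeCore_coprime
  obtain ⟨H, hH⟩ := exists_right_complement'_of_coprime (Nat.Coprime.coprime_dvd_left h1 h2.symm)
  haveI : H.Normal := ⟨fun h hh k => by
    obtain ⟨⟨n, l⟩, rfl⟩ := (hH.existsUnique k).exists
    obtain ⟨i, hi⟩ := hk n n.2
    have : ∀ y : K, (n : K) * y = y * n := fun y => Subtype.ext (by
      rw [coe_mul, coe_mul, ← hi]; exact (Commute.zpow_right (hz y) i).eq.symm)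
    rw [show (n : K) * l * h * ((n : K) * l)⁻¹ = n * (l * h * (l : K)⁻¹) * (n : K)⁻¹ by group, this,
      mul_inv_cancel_right]
    exact mul_mem (mul_mem l.2 hh) (inv_mem l.2)⟩
  have h3 : H ≤ pPrimeCore 2 K := H2.le_pPrimeCore (hH.symm.index_eq_card ▸ h2)
  have h4 : H.map K.subtype ≤ ⊥ := hO ▸ (map_mono h3).trans (H2.pPrimeCore_map_subtype_le_of_normal K)
  refine eq_bot_iff.2 fun o ho => ?_
  obtain ⟨g, rfl⟩ := QuotientGroup.mk'_surjective _ o
  obtain ⟨⟨n, l⟩, e⟩ := (hH.existsUnique ⟨g, ho⟩).exists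
  have e2 : ((n : K) : G) * (l : K) = g := congrArg Subtype.val e
  rw [show ((l : K) : G) = 1 from h4 ⟨l, l.2, rfl⟩, mul_one] at e2
  exact (QuotientGroup.eq_one_iff _).2 (e2 ▸ hk n n.2)

end Cfsg.Agent.GO.Jn
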