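import Mathlib
import Cfsg.Prelude.Def_Spor_Conway
import Cfsg.Prelude.Def_SporadicCombinatorics
import Cfsg.Agent.H14.M24
import Cfsg.Agent.H25.Word

/-! The Leech lattice: membership, norms, counting by generating functions. -/

set_option linter.all false

namespace Cfsg.Agent.H25.Leech
open Cfsg.Agent.H14 (GCode gC)
open scoped Pointwise

attribute [-simp] Fintype.sum_option Fintype.prod_option

abbrev V := GolayPt → ℤ
abbrev L := leechLattice

/-- indicator of a set of coordinates -/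
def ic (C : Finset GolayPt) : V := fun i => if i ∈ C then 1 else 0

theorem sum_ic (C : Finset GolayPt) : ∑ i, ic C i = C.card := by simp [ic]

def InL (x : V) : Prop :=
  ∃ m : ℤ, ∃ C ∈ GCode, (∀ i, (4 : ℤ) ∣ x i - m - 2 * ic C i) ∧ (8 : ℤ) ∣ ∑ i, x i - 4 * m

theorem InL.norm {x : V} (h : InL x) : ∃ m : ℤ, (m = 0 ∨ m = 1) ∧ ∃ C ∈ GCode,
    (∀ i, (4 : ℤ) ∣ x i - m - 2 * ic C i) ∧ (8 : ℤ) ∣ ∑ i, x i - 4 * m := by
  obtain ⟨m, C, hC, h1, h2⟩ := h
  by_cases hm : m % 4 < 2
  · refine ⟨m % 2, by omega, C, hC, fun i => ?_, by omega⟩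
    have := h1 i; omega
  · refine ⟨m % 2, by omega, Cᶜ, H14.compl_mem_gcode hC, fun i => ?_, by omega⟩
    have := h1 i
    by_cases hi : i ∈ C <;> simp [ic, hi] at this ⊢ <;> omega

theorem leechSet_iff {x : V} : x ∈ leechSet ↔ InL x := by
  constructor
  · rintro ⟨m, h1, h2, h3⟩
    refine ⟨m, _, h3 (m + 2), fun i => ?_, (Int.modEq_iff_dvd.1 h2.symm)⟩
    have := h1 i
    simp only [Int.ModEq] at this
    by_cases hi : x i ≡ m + 2 [ZMOD 4] <;> simp only [ic, Finset.mem_filter, Finset.mem_univ, hi,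
      true_and, if_true, if_false] <;> simp only [Int.ModEq] at hi <;> omega
  · rintro ⟨m, C, hC, h1, h2⟩
    refine ⟨m, fun i => ?_, (Int.modEq_iff_dvd.2 h2).symm, fun k => ?_⟩
    · have := h1 i
      simp only [Int.ModEq]; omega
    · by_cases a : (k - m) % 4 = 2
      · refine (congrArg (· ∈ GCode) (?_ : _ = C)).mpr hC
        ext i
        have := h1 i
        rw [Finset.mem_filter]
        by_cases hi : i ∈ C <;> simp only [ic, hi, Int.ModEq, Finset.mem_filter, Finset.mem_univ,
            true_and, if_true, if_false, Finset.mem_compl, not_true, not_false_iff, iff_true, iff_false,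
            Finset.notMem_empty] at this ⊢ <;> omega
      · by_cases b : (k - m) % 4 = 0
        · refine (congrArg (· ∈ GCode) (?_ : _ = Cᶜ)).mpr (H14.compl_mem_gcode hC)
          ext i
          have := h1 i
          rw [Finset.mem_filter]
          by_cases hi : i ∈ C <;> simp only [ic, hi, Int.ModEq, Finset.mem_filter, Finset.mem_univ,
            true_and, if_true, if_false, Finset.mem_compl, not_true, not_false_iff, iff_true, iff_false,
            Finset.notMem_empty] at this ⊢ <;> omega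
        · refine (congrArg (· ∈ GCode) (?_ : _ = ∅)).mpr H14.empty_mem_gcode
          ext i
          have := h1 i
          rw [Finset.mem_filter]
          by_cases hi : i ∈ C <;> simp only [ic, hi, Int.ModEq, Finset.mem_filter, Finset.mem_univ,
            true_and, if_true, if_false, Finset.mem_compl, not_true, not_false_iff, iff_true, iff_false,
            Finset.notMem_empty] at this ⊢ <;> omega

def LS : AddSubgroup V where
  carrier := {x | InL x}
  zero_mem' := ⟨0, ∅, H14.empty_mem_gcode, by simp [ic], by simp⟩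
  add_mem' := by
    rintro x y ⟨m, C, hC, h1, h2⟩ ⟨m', C', hC', h1', h2'⟩
    refine ⟨m + m', _, H14.symmDiff_mem_gcode hC hC', fun i => ?_, ?_⟩
    · have a := h1 i
      have b := h1' i
      by_cases hi : i ∈ C <;> by_cases hi' : i ∈ C' <;>
        simp [ic, hi, hi', Finset.mem_symmDiff] at a b ⊢ <;> omega
    · simp only [Pi.add_apply, Finset.sum_add_distrib]; omega
  neg_mem' := by
    rintro x ⟨m, C, hC, h1, h2⟩
    refine ⟨-m, C, hC, fun i => ?_, ?_⟩
    · have a := h1 i
      by_cases hi : i ∈ C <;> simp [ic, hi] at a ⊢ <;> omega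
    · simp only [Pi.neg_apply, Finset.sum_neg_distrib]; omega

theorem LS_coe : (LS : Set V) = leechSet := by ext x; exact leechSet_iff.symm

theorem L_eq : L = LS := by
  rw [L, leechLattice, ← LS_coe, AddSubgroup.closure_eq]

theorem mem_iff {x : V} : x ∈ L ↔ InL x := by rw [L_eq]; rfl

theorem card24 : Fintype.card GolayPt = 24 := H14.card_golayPt

theorem four_dvd_card {C : Finset GolayPt} (h : C ∈ GCode) : (4 : ℤ) ∣ C.card := by
  have := H14.gcode_card h; omega

theorem sixteen_dvd {x : V} (hx : x ∈ L) : (16 : ℤ) ∣ sqNorm x := by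
  obtain ⟨m, hm, C, hC, h1, h2⟩ := (mem_iff.1 hx).norm
  have h4 := four_dvd_card hC
  have hs := sum_ic C
  rcases hm with rfl | rfl
  · have : (16 : ℤ) ∣ ∑ i, (x i ^ 2 - 4 * ic C i) := Finset.dvd_sum fun i _ => by
      obtain ⟨y, hy⟩ := h1 i
      have e : x i = 2 * ic C i + 4 * y := by linarith
      rw [e]
      by_cases hi : i ∈ C <;> simp only [ic, hi, if_true, if_false]
      · exact ⟨y + y ^ 2, by ring⟩
      · exact ⟨y ^ 2, by ring⟩
    rw [Finset.sum_sub_distrib, ← Finset.mul_sum] at this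
    unfold sqNorm; omega
  · have : (16 : ℤ) ∣ ∑ i, (x i ^ 2 + 1 - 2 * x i - 4 * ic C i) := Finset.dvd_sum fun i _ => by
      obtain ⟨y, hy⟩ := h1 i
      have e : x i = 1 + 2 * ic C i + 4 * y := by linarith
      rw [e]
      by_cases hi : i ∈ C <;> simp only [ic, hi, if_true, if_false]
      · exact ⟨y + y ^ 2, by ring⟩
      · exact ⟨y ^ 2, by ring⟩
    simp only [Finset.sum_sub_distrib, Finset.sum_add_distrib, ← Finset.mul_sum, Finset.sum_const,
      Finset.card_univ, card24] at this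
    unfold sqNorm; simp at this; omega

theorem dot_comm (x y : V) : dotInt x y = dotInt y x := by simp [dotInt, mul_comm]
theorem dot_self (x : V) : dotInt x x = sqNorm x := by simp [dotInt, sqNorm, sq]
theorem dot_add (x y z : V) : dotInt x (y + z) = dotInt x y + dotInt x z := by
  simp [dotInt, mul_add, Finset.sum_add_distrib]
theorem add_dot (x y z : V) : dotInt (x + y) z = dotInt x z + dotInt y z := by
  simp [dotInt, add_mul, Finset.sum_add_distrib]
theorem dot_neg (x y : V) : dotInt x (-y) = -dotInt x y := by simp [dotInt]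
theorem neg_dot (x y : V) : dotInt (-x) y = -dotInt x y := by simp [dotInt]
theorem dot_sub (x y z : V) : dotInt x (y - z) = dotInt x y - dotInt x z := by
  simp [dotInt, mul_sub]
theorem sub_dot (x y z : V) : dotInt (x - y) z = dotInt x z - dotInt y z := by
  simp [dotInt, sub_mul]
theorem dot_zsmul (c : ℤ) (x y : V) : dotInt x (c • y) = c * dotInt x y := by
  simp [dotInt, Finset.mul_sum, mul_left_comm]
theorem zsmul_dot (c : ℤ) (x y : V) : dotInt (c • x) y = c * dotInt x y := by
  simp [dotInt, Finset.mul_sum, mul_assoc]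
theorem dot_single (x : V) (i : GolayPt) (c : ℤ) : dotInt x (Pi.single i c) = x i * c := by
  simp [dotInt, Pi.single_apply]
theorem sq_add (x y : V) : sqNorm (x + y) = sqNorm x + sqNorm y + 2 * dotInt x y := by
  simp only [← dot_self, dot_add, add_dot, dot_comm y x]; ring
theorem sq_sub (x y : V) : sqNorm (x - y) = sqNorm x + sqNorm y - 2 * dotInt x y := by
  simp only [← dot_self, dot_sub, sub_dot, dot_comm y x]; ring
theorem sq_neg (x : V) : sqNorm (-x) = sqNorm x := by simp [sqNorm]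
theorem sq_zsmul (c : ℤ) (x : V) : sqNorm (c • x) = c ^ 2 * sqNorm x := by
  simp [sqNorm, mul_pow, Finset.mul_sum]
theorem sq_nonneg' (x : V) : 0 ≤ sqNorm x := Finset.sum_nonneg fun _ _ => sq_nonneg _
theorem sq_le (x : V) (i : GolayPt) : x i ^ 2 ≤ sqNorm x :=
  Finset.single_le_sum (f := fun i => x i ^ 2) (fun _ _ => sq_nonneg _) (Finset.mem_univ i)
theorem sq_eq_zero {x : V} (h : sqNorm x = 0) : x = 0 := by
  funext i
  have := sq_le x i
  rw [h] at this
  exact pow_eq_zero_iff (two_ne_zero) |>.1 (le_antisymm this (sq_nonneg _))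
theorem abs_le8 {x : V} (h : sqNorm x ≤ 64) (i : GolayPt) : -8 ≤ x i ∧ x i ≤ 8 := by
  have := sq_le x i
  constructor <;> nlinarith

theorem eight_dvd {x y : V} (hx : x ∈ L) (hy : y ∈ L) : (8 : ℤ) ∣ dotInt x y := by
  have a := sixteen_dvd hx
  have b := sixteen_dvd hy
  have c := sixteen_dvd (L.add_mem hx hy)
  rw [sq_add] at c
  omega

theorem perm_mem {σ : Equiv.Perm GolayPt} (hσ : σ ∈ M24) {x : V} (hx : x ∈ L) :
    (fun i => x (σ i)) ∈ L := by
  obtain ⟨m, C, hC, h1, h2⟩ := mem_iff.1 hx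
  refine mem_iff.2 ⟨m, σ⁻¹ • C, H14.smul_mem_gcode (M24.inv_mem hσ) hC, fun i => ?_, ?_⟩
  · have := h1 (σ i)
    simp only [ic, Finset.mem_inv_smul_finset_iff] at this ⊢
    exact this
  · rwa [Equiv.sum_comp σ x]

theorem four_mem {y : V} (h : (2 : ℤ) ∣ ∑ i, y i) : (4 : ℤ) • y ∈ L := by
  refine mem_iff.2 ⟨0, ∅, H14.empty_mem_gcode, fun i => by simp [ic], ?_⟩
  simp only [Pi.smul_apply, smul_eq_mul, ← Finset.mul_sum]; omega

theorem two_ic_mem {C : Finset GolayPt} (h : C ∈ GCode) : (2 : ℤ) • ic C ∈ L := by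
  refine mem_iff.2 ⟨0, C, h, fun i => by simp, ?_⟩
  have := four_dvd_card h
  simp only [Pi.smul_apply, smul_eq_mul, ← Finset.mul_sum, sum_ic]; omega

theorem sign_mem {c : Finset GolayPt} (hc : c ∈ GCode) {x : V} (hx : x ∈ L) :
    (fun i => if i ∈ c then -x i else x i) ∈ L := by
  obtain ⟨m, C, hC, h1, h2⟩ := mem_iff.1 hx
  choose y hy using h1
  have e : (fun i => if i ∈ c then -x i else x i) =
      x - m • ((2 : ℤ) • ic c) - (4 : ℤ) • (ic (c ∩ C) + (2 : ℤ) • fun i => ic c i * y i) := by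
    funext i
    have := hy i
    by_cases hi : i ∈ c <;> by_cases hi' : i ∈ C <;> simp [ic, hi, hi'] at this ⊢ <;> linarith
  rw [e]
  refine L.sub_mem (L.sub_mem hx (L.zsmul_mem (two_ic_mem hc) _)) (four_mem ?_)
  obtain ⟨k, hk⟩ := H14.gcode_inter_even hc hC
  simp only [Pi.add_apply, Finset.sum_add_distrib, sum_ic, Pi.smul_apply, smul_eq_mul,
    ← Finset.mul_sum]
  omega

theorem eight_mem (y : V) : (8 : ℤ) • y ∈ L := by
  have := four_mem (y := (2 : ℤ) • y) (by simp [← Finset.mul_sum])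
  rwa [smul_smul] at this

/-! ### generating functions -/

theorem dg_single {w a : ℕ} (ha : a < 2 ^ w) (e j : ℕ) :
    dg w (a * 2 ^ (w * e)) j = if e = j then a else 0 := by
  simp only [dg]
  split_ifs with h
  · subst h
    rw [Nat.mul_div_cancel _ (by positivity), Nat.mod_eq_of_lt ha]
  · rcases Nat.lt_or_gt_of_ne h with h | h
    · rw [Nat.div_eq_of_lt, Nat.zero_mod]
      calc a * 2 ^ (w * e) < 2 ^ w * 2 ^ (w * e) := Nat.mul_lt_mul_of_pos_right ha (by positivity)
        _ = 2 ^ (w * (e + 1)) := by ring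
        _ ≤ _ := Nat.pow_le_pow_right (by norm_num) (Nat.mul_le_mul_left _ h)
    · obtain ⟨d, rfl⟩ := Nat.exists_eq_add_of_lt h
      rw [show a * 2 ^ (w * (j + d + 1)) = a * 2 ^ (w * d) * 2 ^ w * 2 ^ (w * j) by ring,
        Nat.mul_div_cancel _ (by positivity), Nat.mul_mod_left]

theorem dg_sum {ι : Type*} {w : ℕ} (a e : ι → ℕ) (S : Finset ι) (h : ∑ s ∈ S, a s < 2 ^ w) (j : ℕ) :
    dg w (∑ s ∈ S, a s * 2 ^ (w * e s)) j = ∑ s ∈ S, if e s = j then a s else 0 := by
  classical
  induction S using Finset.induction_on generalizing j with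
  | empty => simp
  | insert s S hs ih =>
    rw [Finset.sum_insert hs] at h
    have ih' := ih (by omega)
    have hle : ∀ j, (∑ s ∈ S, if e s = j then a s else 0) ≤ ∑ s ∈ S, a s := fun j =>
      Finset.sum_le_sum fun s _ => by split_ifs <;> omega
    rw [Finset.sum_insert hs, Finset.sum_insert hs, dg_add (j + 1) (fun i _ => ?_) j (by omega),
      dg_single (by omega), ih']
    rw [dg_single (by omega), ih']
    have := hle i
    split_ifs <;> omega

/-- the code as a finite set -/
noncomputable def codeF : Finset (Finset GolayPt) := (Set.toFinite GCode).toFinset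

theorem mem_codeF {C : Finset GolayPt} : C ∈ codeF ↔ C ∈ GCode := Set.Finite.mem_toFinset _

theorem card_codeF_filter (k n : ℕ)
    (h : H14.cntLt2 64 64 (fun n => Nat.beq (H14.pop24 (H14.cw n)) k) = n) :
    (codeF.filter fun C => C.card = k).card = n := by
  rw [← h, ← H14.ncard_gcode (P := fun s => s.card = k) (p := fun m => Nat.beq (H14.pop24 m) k)
    fun m _ => by rw [H14.nbeq_iff, H14.card_gset], ← Set.ncard_coe_finset]
  congr 1
  ext C; simp [mem_codeF]

theorem sum_code (H : ℕ → ℕ) :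
    ∑ C ∈ codeF, H C.card = H 0 + 759 * H 8 + 2576 * H 12 + 759 * H 16 + H 24 := by
  rw [← Finset.sum_fiberwise_of_maps_to (s := codeF) (t := {0, 8, 12, 16, 24}) (g := Finset.card)
    (fun C hC => by simpa using H14.gcode_card (mem_codeF.1 hC))]
  have : ∀ k, ∑ C ∈ codeF with C.card = k, H C.card = (codeF.filter fun C => C.card = k).card * H k :=
    fun k => by
      rw [← smul_eq_mul, ← Finset.sum_const]
      exact Finset.sum_congr rfl fun C hC => by rw [(Finset.mem_filter.1 hC).2]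
  simp only [this]
  rw [Finset.sum_insert (by decide), Finset.sum_insert (by decide), Finset.sum_insert (by decide),
    Finset.sum_insert (by decide), Finset.sum_singleton,
    card_codeF_filter 0 1 (by decide +kernel), card_codeF_filter 8 759 (by decide +kernel),
    card_codeF_filter 12 2576 (by decide +kernel), card_codeF_filter 16 759 (by decide +kernel),
    card_codeF_filter 24 1 (by decide +kernel)]
  ring

/-- allowed digits (coordinate plus 8) in a residue class -/
def alph (al r : ℕ) : Finset ℕ := (Finset.range 17).filter fun d => al.testBit d ∧ d % 4 = r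

noncomputable def gf1 (al : ℕ) (e : ℕ → ℕ) (r : ℕ) : ℕ :=
  H14.sumLt 17 fun d => Bool.rec 0 (Bool.rec 0 (Nat.pow 2 (72 * (512 * e d + d)))
    (Nat.beq (Nat.mod d 4) r)) (H14.tb al d)

theorem gf1_eq (al : ℕ) (e : ℕ → ℕ) (r : ℕ) :
    gf1 al e r = ∑ d ∈ alph al r, 2 ^ (72 * (512 * e d + d)) := by
  rw [gf1, H14.sumLt_eq, alph, Finset.sum_filter]
  refine Finset.sum_congr rfl fun d _ => ?_
  rw [H14.tb_eq]
  by_cases h : d % 4 = r
  · have : Nat.beq (Nat.mod d 4) r = true := Nat.beq_eq ▸ h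
    rw [this]
    cases al.testBit d <;> simp [h]
  · have : Nat.beq (Nat.mod d 4) r = false := by
      rw [Bool.eq_false_iff]; exact fun h' => h (Nat.eq_of_beq_eq_true h')
    rw [this]
    cases al.testBit d <;> simp [h]

noncomputable def gfm (al : ℕ) (e : ℕ → ℕ) (m : ℕ) : ℕ :=
  force (gf1 al e m) fun a => force (gf1 al e (m + 2)) fun b =>
    a ^ 24 + 759 * (a ^ 16 * b ^ 8) + 2576 * (a ^ 12 * b ^ 12) + 759 * (a ^ 8 * b ^ 16) + b ^ 24

def res (m : ℕ) (C : Finset GolayPt) (i : GolayPt) : ℕ := if i ∈ C then m + 2 else m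

noncomputable def cfg (al m : ℕ) : Finset (Σ _ : Finset GolayPt, GolayPt → ℕ) :=
  codeF.sigma fun C => Fintype.piFinset fun i => alph al (res m C i)

theorem prod_res (F : ℕ → ℕ) (m : ℕ) (C : Finset GolayPt) :
    ∏ i, F (res m C i) = F m ^ (24 - C.card) * F (m + 2) ^ C.card := by
  simp only [res, apply_ite F]
  rw [Finset.prod_ite, Finset.prod_const, Finset.prod_const, mul_comm]
  congr 2
  · rw [← card24, ← Finset.card_compl]; congr 1; ext; simp
  · congr 1; ext; simp

theorem gfm_eq (al : ℕ) (e : ℕ → ℕ) (m : ℕ) :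
    gfm al e m = ∑ s ∈ cfg al m, 1 * 2 ^ (72 * ∑ i, (512 * e (s.2 i) + s.2 i)) := by
  rw [cfg, Finset.sum_sigma]
  have : ∀ C : Finset GolayPt, ∑ d ∈ Fintype.piFinset fun i => alph al (res m C i),
      1 * 2 ^ (72 * ∑ i, (512 * e (d i) + d i)) =
      gf1 al e m ^ (24 - C.card) * gf1 al e (m + 2) ^ C.card := fun C => by
    rw [← prod_res (gf1 al e)]
    simp only [gf1_eq]
    rw [Finset.prod_univ_sum]
    refine Finset.sum_congr rfl fun d _ => ?_
    rw [one_mul, Finset.prod_pow_eq_pow_sum, Finset.mul_sum]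
  simp only [this]
  rw [sum_code fun k => gf1 al e m ^ (24 - k) * gf1 al e (m + 2) ^ k]
  simp [gfm]

theorem card_alph (al r : ℕ) : (alph al r).card ≤ 5 := by
  have : alph al r ⊆ (Finset.range 5).image fun k => 4 * k + r := fun d hd => by
    simp only [alph, Finset.mem_filter, Finset.mem_range, Finset.mem_image] at hd ⊢
    exact ⟨d / 4, by omega, by omega⟩
  exact (Finset.card_le_card this).trans (Finset.card_image_le.trans (by simp))

theorem card_cfg (al m : ℕ) : ∑ _s ∈ cfg al m, 1 < 2 ^ 72 := by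
  rw [← Finset.card_eq_sum_ones, cfg, Finset.card_sigma]
  calc _ ≤ ∑ C ∈ codeF, (fun _ => 5 ^ 24) C.card := Finset.sum_le_sum fun C _ => by
        rw [Fintype.card_piFinset]
        exact (Finset.prod_le_pow_card _ _ 5 fun i _ => card_alph _ _).trans (by simp [card24])
    _ < _ := by rw [sum_code fun _ => 5 ^ 24]; norm_num

noncomputable def cntm (al : ℕ) (e : ℕ → ℕ) (j m : ℕ) : ℕ :=
  force (gfm al e m >>> (72 * 512 * j) % 2 ^ (72 * 512)) fun g =>
    H14.sumLt 64 fun t => dg 72 g (8 * t + 4 * m)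

theorem dg_block (G j s : ℕ) (hs : s < 512) :
    dg 72 (G >>> (72 * 512 * j) % 2 ^ (72 * 512)) s = dg 72 G (512 * j + s) := by
  apply Nat.eq_of_testBit_eq
  intro b
  simp only [dg, Nat.testBit_mod_two_pow, ← Nat.shiftRight_eq_div_pow, Nat.testBit_shiftRight]
  by_cases hb : b < 72
  · have : 72 * s + b < 72 * 512 := by omega
    simp only [hb, this, decide_true, Bool.true_and]
    congr 1; ring
  · simp [hb]

theorem cntm_eq (al : ℕ) (e : ℕ → ℕ) (j m : ℕ) (hm : m < 2) : cntm al e j m =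
    ((cfg al m).filter fun s => ∑ i, e (s.2 i) = j ∧ (∑ i, s.2 i) % 8 = 4 * m).card := by
  rw [cntm, force_eq, H14.sumLt_eq, Finset.card_eq_sum_ones, Finset.sum_filter,
    Finset.sum_congr rfl fun t ht => by
      rw [dg_block _ _ _ (by have := Finset.mem_range.1 ht; omega), gfm_eq,
        dg_sum _ _ _ (card_cfg al m)], Finset.sum_comm]
  refine Finset.sum_congr rfl fun s hs => ?_
  have hb : ∑ i, s.2 i ≤ 24 * 16 := by
    have := Finset.sum_le_card_nsmul Finset.univ s.2 16 fun i _ => by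
      have := Fintype.mem_piFinset.1 (Finset.mem_sigma.1 hs).2 i
      simp only [alph, Finset.mem_filter, Finset.mem_range] at this
      omega
    simpa [card24] using this
  rw [Finset.sum_add_distrib, ← Finset.mul_sum]
  generalize ∑ i, s.2 i = A at hb
  generalize ∑ i, e (s.2 i) = B
  split_ifs with h
  · rw [Finset.sum_eq_single (A / 8)]
    · rw [if_pos (by omega)]
    · intro t _ ht; rw [if_neg (by omega)]
    · intro ht; exact absurd (Finset.mem_range.2 (by omega)) ht
  · exact Finset.sum_eq_zero fun t ht => by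
      have := Finset.mem_range.1 ht
      rw [if_neg (by omega)]

/-- lattice vectors with allowed digits and given weight -/
def LSet (al : ℕ) (e : ℕ → ℕ) (j : ℕ) : Set V :=
  {x | x ∈ L ∧ (∀ i, ∃ d < 17, al.testBit d ∧ x i = (d : ℤ) - 8) ∧ ∑ i, e (x i + 8).toNat = j}

theorem LSet_finite (al : ℕ) (e : ℕ → ℕ) (j : ℕ) : (LSet al e j).Finite := by
  refine (Set.Finite.pi' fun _ : GolayPt => Set.finite_Icc (-8 : ℤ) 8).subset fun x hx i => ?_
  obtain ⟨d, h1, -, h2⟩ := hx.2.1 i
  constructor <;> omega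

theorem ncard_LSet (al : ℕ) (e : ℕ → ℕ) (j : ℕ) :
    (LSet al e j).ncard = cntm al e j 0 + cntm al e j 1 := by
  classical
  rw [cntm_eq _ _ _ _ (by norm_num), cntm_eq _ _ _ _ (by norm_num)]
  set F := fun m => (cfg al m).filter fun s => ∑ i, e (s.2 i) = j ∧ (∑ i, s.2 i) % 8 = 4 * m
  let φ : (Σ _ : Finset GolayPt, GolayPt → ℕ) → V := fun s i => (s.2 i : ℤ) - 8
  have hmem : ∀ m s, s ∈ F m ↔ s.1 ∈ GCode ∧ (∀ i, (s.2 i < 17 ∧ al.testBit (s.2 i)) ∧
      s.2 i % 4 = res m s.1 i) ∧ ∑ i, e (s.2 i) = j ∧ (∑ i, s.2 i) % 8 = 4 * m := fun m s => by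
    simp only [F, cfg, alph, mem_codeF, and_assoc, Finset.mem_filter, Finset.mem_sigma,
      Fintype.mem_piFinset, Finset.mem_range]
  have hinj : ∀ m, Set.InjOn φ (F m) := by
    rintro m ⟨C, d⟩ hs ⟨C', d'⟩ ht h
    have e1 : d = d' := funext fun i => by have := congrFun h i; simp only [φ] at this; omega
    subst e1
    have e2 : C = C' := by
      ext i
      have a := (((hmem _ _).1 hs).2.1 i).2
      have b := (((hmem _ _).1 ht).2.1 i).2
      simp only [res] at a b
      by_cases h1 : i ∈ C <;> by_cases h2 : i ∈ C' <;>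
        simp only [h1, h2, if_true, if_false] at a b ⊢ <;> omega
    rw [e2]
  have hsum : ∀ d : GolayPt → ℕ, ∑ i, ((d i : ℤ) - 8) = ((∑ i, d i : ℕ) : ℤ) - 192 := fun d => by
    rw [Finset.sum_sub_distrib, Finset.sum_const, Finset.card_univ, card24, Nat.cast_sum]; rfl
  show _ = (F 0).card + (F 1).card
  rw [← Finset.card_image_of_injOn (hinj 0), ← Finset.card_image_of_injOn (hinj 1),
    ← Finset.card_union_of_disjoint, ← Set.ncard_coe_finset]
  · congr 1
    ext x
    simp only [Finset.coe_union, Finset.coe_image, Set.mem_union, Set.mem_image, Finset.mem_coe, hmem]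
    constructor
    · rintro ⟨h1, h2, h3⟩
      choose d hd1 hd2 hd3 using h2
      obtain rfl : x = fun i => (d i : ℤ) - 8 := funext hd3
      obtain ⟨m, hm, C, hC, h4, h5⟩ := (mem_iff.1 h1).norm
      rw [hsum] at h5
      have h3' : ∑ i, e (d i) = j := by simpa using h3
      rcases hm with rfl | rfl
      · refine Or.inl ⟨⟨C, d⟩, ⟨hC, fun i => ⟨⟨hd1 i, hd2 i⟩, ?_⟩, h3', by dsimp only; omega⟩, rfl⟩
        have := h4 i
        simp only [res, ic] at this ⊢
        split_ifs at this ⊢ <;> omega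
      · refine Or.inr ⟨⟨C, d⟩, ⟨hC, fun i => ⟨⟨hd1 i, hd2 i⟩, ?_⟩, h3', by dsimp only; omega⟩, rfl⟩
        have := h4 i
        simp only [res, ic] at this ⊢
        split_ifs at this ⊢ <;> omega
    · have key : ∀ m : ℕ, ∀ s ∈ F m, φ s ∈ LSet al e j := fun m s hs => by
        obtain ⟨h1, h2, h3, h4⟩ := (hmem _ _).1 hs
        refine ⟨mem_iff.2 ⟨m, s.1, h1, fun i => ?_, ?_⟩, fun i => ⟨_, (h2 i).1.1, (h2 i).1.2, rfl⟩,
          by simpa [φ] using h3⟩
        · have := (h2 i).2
          simp only [res, ic, φ] at this ⊢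
          split_ifs at this ⊢ <;> omega
        · simp only [φ]; rw [hsum]; omega
      rintro (⟨s, hs, rfl⟩ | ⟨s, hs, rfl⟩)
      · exact key 0 s ((hmem _ _).2 hs)
      · exact key 1 s ((hmem _ _).2 hs)
  · rw [Finset.disjoint_left]
    intro x h0 h1
    obtain ⟨s, hs, rfl⟩ := Finset.mem_image.1 h0
    obtain ⟨t, ht, e⟩ := Finset.mem_image.1 h1
    have a := (((hmem _ _).1 hs).2.1 none).2
    have b := (((hmem _ _).1 ht).2.1 none).2
    have c := congrFun e none
    simp only [res, φ] at a b c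
    split_ifs at a b <;> omega

/-- square of the coordinate with digit `d` -/
def sqd (d : ℕ) : ℕ := (d - 8) * (d - 8) + (8 - d) * (8 - d)

theorem sqd_eq {a : ℤ} (h : -8 ≤ a) : (sqd (a + 8).toNat : ℤ) = a ^ 2 := by
  obtain ⟨d, hd⟩ := Int.eq_ofNat_of_zero_le (show 0 ≤ a + 8 by omega)
  obtain rfl : a = d - 8 := by omega
  simp only [sub_add_cancel, Int.toNat_natCast, sqd]
  rcases le_total d 8 with h | h
  · rw [Nat.sub_eq_zero_of_le h]; push_cast [h]; ring
  · rw [Nat.sub_eq_zero_of_le h]; push_cast [h]; ring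

theorem mem_LSet_sq {al n : ℕ} (hn : n ≤ 64) {x : V} : x ∈ LSet al sqd n ↔
    x ∈ L ∧ sqNorm x = n ∧ ∀ i, al.testBit (x i + 8).toNat := by
  have key : (∀ i, -8 ≤ x i) → ((∑ i, sqd (x i + 8).toNat = n) ↔ sqNorm x = n) := fun h => by
    rw [← Nat.cast_inj (R := ℤ), Nat.cast_sum, Finset.sum_congr rfl fun i _ => sqd_eq (h i)]; rfl
  constructor
  · rintro ⟨h1, h2, h3⟩
    refine ⟨h1, (key fun i => ?_).1 h3, fun i => ?_⟩ <;> obtain ⟨d, a, b, c⟩ := h2 i
    · omega
    · rw [c]; simpa using b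
  · rintro ⟨h1, h2, h3⟩
    have hb := abs_le8 (x := x) (by omega)
    exact ⟨h1, fun i => ⟨_, by have := hb i; omega, h3 i, by have := hb i; omega⟩,
      (key fun i => (hb i).1).2 h2⟩

/-- the vectors of given norm -/
def Sh (n : ℕ) : Set V := {x | x ∈ L ∧ sqNorm x = n}

theorem Sh_eq {n : ℕ} (hn : n ≤ 64) : Sh n = LSet 131071 sqd n := by
  ext x
  rw [mem_LSet_sq hn]
  refine ⟨fun h => ⟨h.1, h.2, fun i => ?_⟩, fun h => ⟨h.1, h.2.1⟩⟩
  have := abs_le8 (x := x) (by have := h.2; omega) i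
  rw [show 131071 = 2 ^ 17 - 1 by norm_num, Nat.testBit_two_pow_sub_one]
  simp only [decide_eq_true_eq]; omega

theorem Sh_finite {n : ℕ} (hn : n ≤ 64) : (Sh n).Finite := Sh_eq hn ▸ LSet_finite _ _ _

theorem ncard_Sh {n k : ℕ} (hn : n ≤ 64)
    (h : Nat.beq (cntm 131071 sqd n 0 + cntm 131071 sqd n 1) k = true) : (Sh n).ncard = k := by
  rw [Sh_eq hn, ncard_LSet]; exact Nat.eq_of_beq_eq_true h

theorem ncard_Sh16 : (Sh 16).ncard = 0 := ncard_Sh (by norm_num) (by decide +kernel)
theorem ncard_Sh32 : (Sh 32).ncard = 196560 := ncard_Sh (by norm_num) (by decide +kernel)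
theorem ncard_Sh48 : (Sh 48).ncard = 16773120 := ncard_Sh (by norm_num) (by decide +kernel)
theorem ncard_Sh64 : (Sh 64).ncard = 398034000 := ncard_Sh (by norm_num) (by decide +kernel)

theorem min_norm {x : V} (hx : x ∈ L) (h0 : x ≠ 0) : 32 ≤ sqNorm x := by
  have h1 := sixteen_dvd hx
  have h2 := sq_nonneg' x
  have h3 : sqNorm x ≠ 0 := fun h => h0 (sq_eq_zero h)
  have h4 : sqNorm x ≠ 16 := fun h => by
    have := (Set.ncard_eq_zero (Sh_finite (n := 16) (by norm_num))).1 ncard_Sh16
    exact (this ▸ (⟨hx, h⟩ : x ∈ Sh 16) : x ∈ (∅ : Set V))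
  omega

theorem index_L : L.index = 2 ^ 36 := by
  let π : V →+ (GolayPt → ZMod 8) := (Int.castAddHom (ZMod 8)).compLeft GolayPt
  have hs : Function.Surjective π := fun y => ⟨fun i => (y i).val, funext fun i => by simp [π]⟩
  have hk : ∀ x y : V, π x = π y → x - y ∈ L := fun x y h => by
    have : ∀ i, (8 : ℤ) ∣ x i - y i := fun i =>
      (ZMod.intCast_eq_intCast_iff_dvd_sub _ _ 8).1 (congrFun h i).symm
    choose z hz using this
    rw [show x - y = (8 : ℤ) • z from funext hz]
    exact eight_mem z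
  have hc : L = (L.map π).comap π := by
    rw [AddSubgroup.comap_map_eq, left_eq_sup]
    intro x hx
    simpa using hk x 0 (by rw [map_zero]; exact hx)
  have h1 : Nat.card (L.map π) = 2 ^ 36 := by
    have : (LSet 65280 (fun _ => 0) 0).ncard = 2 ^ 36 := by rw [ncard_LSet]; decide +kernel
    rw [← this, ← SetLike.coe_sort_coe, Nat.card_coe_set_eq]
    have hb : ∀ d < 17, (65280 : ℕ).testBit d ↔ 8 ≤ d ∧ d < 16 := by decide
    symm
    refine Set.ncard_congr (fun x _ => π x) (fun x hx => ⟨x, hx.1, rfl⟩) (fun x y hx hy h => ?_) ?_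
    · funext i
      have := (ZMod.intCast_eq_intCast_iff_dvd_sub _ _ 8).1 (congrFun h i)
      obtain ⟨d, a, b, c⟩ := hx.2.1 i
      obtain ⟨d', a', b', c'⟩ := hy.2.1 i
      have := (hb _ a).1 b
      have := (hb _ a').1 b'
      omega
    · rintro _ ⟨x, hx, rfl⟩
      have e : π (fun i => x i % 8) = π x := funext fun i => ZMod.intCast_mod (x i) 8
      refine ⟨fun i => x i % 8, ⟨?_, fun i => ⟨(x i % 8 + 8).toNat, by omega, (hb _ (by omega)).2
        (by omega), by dsimp only; omega⟩, by simp⟩, e⟩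
      simpa using L.add_mem (hk _ _ e) hx
  have h2 := (L.map π).card_mul_index
  rw [h1, Nat.card_fun, Nat.card_zmod, Nat.card_eq_fintype_card, card24] at h2
  rw [hc, AddSubgroup.index_comap_of_surjective _ hs]
  omega

end Cfsg.Agent.H25.Leech
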