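import Mathlib
import Cfsg.Agent.H25.Leech

/-! Even lattices of rank 24 without roots, modulo 2. -/

set_option linter.all false

namespace Cfsg.Agent.H25.Leech
open Cfsg.Agent.H14 (GCode gC)
open scoped Pointwise Matrix

attribute [-simp] Fintype.sum_option Fintype.prod_option

section Abs
variable {M : Type*} [AddCommGroup M]

structure EL (b : M →+ M →+ ℤ) : Prop where
  symm : ∀ x y, b x y = b y x
  pos : ∀ x, x ≠ 0 → 0 < b x x
  even : ∀ x, (2 : ℤ) ∣ b x x
  no2 : ∀ x, b x x ≠ 2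

variable {b : M →+ M →+ ℤ}

theorem EL.four (h : EL b) {x : M} (hx : x ≠ 0) : 4 ≤ b x x := by
  have := h.pos x hx
  have := h.even x
  have := h.no2 x
  omega

theorem EL.short (h : EL b) {x y : M} (hx : b x x ≤ 8) (hy : b y y ≤ 8) (hc : ∃ z, x - y = 2 • z) :
    x = y ∨ x = -y ∨ (b x x = 8 ∧ b y y = 8 ∧ b x y = 0) := by
  obtain ⟨z, hz⟩ := hc
  by_cases h1 : z = 0
  · left; rw [h1, smul_zero] at hz; exact sub_eq_zero.1 hz
  by_cases h2 : z + y = 0
  · right; left
    rw [eq_neg_of_add_eq_zero_left h2, two_smul] at hz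
    rw [eq_add_of_sub_eq hz]; abel
  right; right
  have a1 := h.four h1
  have a2 := h.four h2
  obtain rfl : x = z + z + y := by rw [← two_smul ℕ z, ← hz]; abel
  simp only [map_add, AddMonoidHom.add_apply, h.symm y z] at hx a2 ⊢
  omega

theorem exists_orth (hs : ∀ x y, b x y = b y x) (S : Finset M)
    (h : ∀ x ∈ S, ∀ y ∈ S, x = y ∨ x = -y ∨ b x y = 0) :
    ∃ R ⊆ S, (∀ x ∈ R, ∀ y ∈ R, x ≠ y → b x y = 0) ∧ S.card ≤ 2 * R.card := by
  classical
  induction S using Finset.strongInduction with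
  | H S ih =>
    rcases S.eq_empty_or_nonempty with rfl | ⟨y, hy⟩
    · exact ⟨∅, by simp⟩
    have hsub : (S.erase y).erase (-y) ⊆ S.erase y := Finset.erase_subset _ _
    obtain ⟨R, h1, h2, h3⟩ := ih ((S.erase y).erase (-y))
      (lt_of_le_of_lt hsub (Finset.erase_ssubset hy))
      fun x hx z hz => h x (Finset.mem_of_mem_erase (hsub hx)) z (Finset.mem_of_mem_erase (hsub hz))
    have h4 : ∀ x ∈ R, b x y = 0 := fun x hx => by
      have := h1 hx
      simp only [Finset.mem_erase] at this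
      rcases h x this.2.2 y hy with e | e | e
      · exact absurd e this.2.1
      · exact absurd e this.1
      · exact e
    have h5 : y ∉ R := fun hr => by simpa using h1 hr
    refine ⟨insert y R, Finset.insert_subset hy (h1.trans (hsub.trans (Finset.erase_subset _ _))),
      fun x hx z hz hne => ?_, ?_⟩
    · rcases Finset.mem_insert.1 hx with rfl | hx' <;> rcases Finset.mem_insert.1 hz with rfl | hz'
      · exact absurd rfl hne
      · rw [hs]; exact h4 z hz'
      · exact h4 x hx'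
      · exact h2 x hx' z hz' hne
    · rw [Finset.card_insert_of_notMem h5]
      have a := Finset.pred_card_le_card_erase (s := S.erase y) (a := -y)
      have c := Finset.pred_card_le_card_erase (s := S) (a := y)
      omega

variable [Module.Free ℤ M] [Module.Finite ℤ M]

theorem orth_card {R : Finset M} (h1 : ∀ x ∈ R, ∀ y ∈ R, x ≠ y → b x y = 0)
    (h2 : ∀ x ∈ R, b x x ≠ 0) : R.card ≤ Module.finrank ℤ M := by
  classical
  have : LinearIndependent ℤ fun x : R => (x : M) := by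
    rw [Fintype.linearIndependent_iff]
    intro g hg j
    have := congrArg (b j) hg
    rw [map_sum, map_zero, Finset.sum_eq_single j] at this
    · rw [map_zsmul, smul_eq_mul] at this
      exact (mul_eq_zero.1 this).resolve_right (h2 _ j.2)
    · intro i _ hi
      rw [map_zsmul, h1 _ j.2 _ i.2 fun e => hi (Subtype.ext e.symm), smul_zero]
    · simp
  simpa using this.fintype_card_le_finrank

theorem EL.mod2 (h : EL b) (hr : Module.finrank ℤ M = 24) (h4 : {x | b x x = 4}.ncard = 196560)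
    (h6 : {x | b x x = 6}.ncard = 16773120) (h8 : {x | b x x = 8}.ncard = 398034000) :
    (∀ x, ∃ y, b y y ≤ 8 ∧ ∃ z, x - y = 2 • z) ∧
      ∀ x, b x x = 8 → {y | b y y = 8 ∧ ∃ z, x - y = 2 • z}.ncard = 48 := by
  classical
  set N := (nsmulAddMonoidHom (α := M) 2).range with hN
  have hQ : Nat.card (M ⧸ N) = 2 ^ 24 := by
    rw [← hr, ← AddSubgroup.index_range_nsmul]; rfl
  haveI : Finite (M ⧸ N) := Nat.finite_of_card_ne_zero (by rw [hQ]; norm_num)
  haveI := Fintype.ofFinite (M ⧸ N)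
  let π : M → M ⧸ N := QuotientAddGroup.mk
  have hπ : ∀ x y, π x = π y ↔ ∃ z, x - y = 2 • z := fun x y => by
    rw [QuotientAddGroup.eq_iff_sub_mem]
    exact ⟨fun ⟨z, hz⟩ => ⟨z, hz.symm⟩, fun ⟨z, hz⟩ => ⟨z, hz.symm⟩⟩
  have fin : ∀ n : ℤ, ∀ k, k ≠ 0 → {x | b x x = n}.ncard = k →
      ∃ S : Finset M, S.card = k ∧ ∀ x, x ∈ S ↔ b x x = n := fun n k hk e => by
    have hf := Set.finite_of_ncard_ne_zero (e ▸ hk)
    exact ⟨hf.toFinset, by rw [← e, Set.ncard_eq_toFinset_card _ hf], by simp⟩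
  obtain ⟨S4, c4, m4⟩ := fin 4 _ (by norm_num) h4
  obtain ⟨S6, c6, m6⟩ := fin 6 _ (by norm_num) h6
  obtain ⟨S8, c8, m8⟩ := fin 8 _ (by norm_num) h8
  have two : ∀ (n : ℤ) (S : Finset M), n < 8 → (∀ x, x ∈ S ↔ b x x = n) →
      S.card ≤ 2 * (S.image π).card := fun n S hn m => by
    refine Finset.card_le_mul_card_image S 2 fun q hq => ?_
    obtain ⟨y, hy, rfl⟩ := Finset.mem_image.1 hq
    refine (Finset.card_le_card (t := {y, -y}) fun x hx => ?_).trans Finset.card_le_two
    have hx' := Finset.mem_filter.1 hx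
    have a := (m _).1 hx'.1
    have c := (m _).1 hy
    rcases h.short (by omega) (by omega) ((hπ _ _).1 hx'.2) with e | e | e
    · simp [e]
    · simp [e]
    · omega
  have fib : ∀ q, (S8.filter fun x => π x = q).card ≤ 48 := fun q => by
    obtain ⟨R, r1, r2, r3⟩ := exists_orth h.symm (S8.filter fun x => π x = q) fun x hx y hy => by
      have hx' := Finset.mem_filter.1 hx
      have hy' := Finset.mem_filter.1 hy
      have := h.short ((m8 _).1 hx'.1).le ((m8 _).1 hy'.1).le ((hπ _ _).1 (hx'.2.trans hy'.2.symm))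
      tauto
    have := orth_card r2 fun x hx => by rw [(m8 _).1 (Finset.mem_filter.1 (r1 hx)).1]; norm_num
    omega
  have a4 := two 4 S4 (by norm_num) m4
  have a6 := two 6 S6 (by norm_num) m6
  have a8 := Finset.card_le_mul_card_image S8 48 fun q _ => fib q
  have dj : ∀ (n n' : ℤ) (S S' : Finset M), n < n' → n' ≤ 8 → (∀ x, x ∈ S → b x x = n) →
      (∀ x, x ∈ S' → b x x = n') → Disjoint (S.image π) (S'.image π) := fun n n' S S' a c m m' => by
    rw [Finset.disjoint_left]
    intro q h1 h2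
    obtain ⟨x, hx, rfl⟩ := Finset.mem_image.1 h1
    obtain ⟨y, hy, e⟩ := Finset.mem_image.1 h2
    have a1 := m _ hx
    have a2 := m' _ hy
    rcases h.short (by omega) (by omega) ((hπ _ _).1 e) with e | e | e
    · subst e; omega
    · subst e; simp at a2; omega
    · omega
  have m0 : ∀ x, x ∈ ({0} : Finset M) → b x x = 0 := by simp
  set U := (({0} : Finset M).image π ∪ S4.image π) ∪ (S6.image π ∪ S8.image π) with hU
  have cU : U.card = 1 + (S4.image π).card + ((S6.image π).card + (S8.image π).card) := by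
    rw [hU, Finset.card_union_of_disjoint, Finset.card_union_of_disjoint,
      Finset.card_union_of_disjoint]
    · simp
    · exact dj 6 8 _ _ (by norm_num) (by norm_num) (fun x => (m6 x).1) fun x => (m8 x).1
    · exact dj 0 4 _ _ (by norm_num) (by norm_num) m0 fun x => (m4 x).1
    · simp only [Finset.disjoint_union_left, Finset.disjoint_union_right]
      exact ⟨⟨dj 0 6 _ _ (by norm_num) (by norm_num) m0 fun x => (m6 x).1,
        dj 4 6 _ _ (by norm_num) (by norm_num) (fun x => (m4 x).1) fun x => (m6 x).1⟩,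
        dj 0 8 _ _ (by norm_num) (by norm_num) m0 fun x => (m8 x).1,
        dj 4 8 _ _ (by norm_num) (by norm_num) (fun x => (m4 x).1) fun x => (m8 x).1⟩
  have hle := Finset.card_le_univ U
  rw [← Nat.card_eq_fintype_card, hQ] at hle
  have hU' : U = Finset.univ := Finset.eq_univ_of_card U (by
    rw [← Nat.card_eq_fintype_card, hQ]; omega)
  refine ⟨fun x => ?_, fun x hx => ?_⟩
  · have : π x ∈ U := hU' ▸ Finset.mem_univ _
    simp only [hU, Finset.mem_union, Finset.mem_image] at this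
    rcases this with (⟨y, hy, e⟩ | ⟨y, hy, e⟩) | ⟨y, hy, e⟩ | ⟨y, hy, e⟩ <;>
      refine ⟨y, ?_, (hπ _ _).1 e.symm⟩
    · rw [m0 y hy]; norm_num
    · rw [(m4 y).1 hy]; norm_num
    · rw [(m6 y).1 hy]; norm_num
    · rw [(m8 y).1 hy]
  · have e1 := Finset.card_eq_sum_card_image π S8
    have e2 : ∑ q ∈ S8.image π, (S8.filter fun x => π x = q).card = ∑ q ∈ S8.image π, 48 := by
      rw [← e1, Finset.sum_const, smul_eq_mul]; omega
    rw [← (Finset.sum_eq_sum_iff_of_le fun q _ => fib q).1 e2 (π x)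
      (Finset.mem_image_of_mem _ ((m8 x).2 hx)), ← Set.ncard_coe_finset]
    congr 1
    ext y
    simp only [Set.mem_setOf_eq, Finset.coe_filter, m8]
    rw [eq_comm (a := π y), hπ]

end Abs

/-- the form of a symmetric integer matrix -/
def mform (B : Matrix (Fin 24) (Fin 24) ℤ) : (Fin 24 → ℤ) →+ (Fin 24 → ℤ) →+ ℤ :=
  AddMonoidHom.mk' (fun x => AddMonoidHom.mk' (fun y => x ⬝ᵥ (B *ᵥ y)) fun y z => by
    rw [Matrix.mulVec_add, dotProduct_add]) fun x y => by ext z; simp

theorem mform_apply (B : Matrix (Fin 24) (Fin 24) ℤ) (x y : Fin 24 → ℤ) :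
    mform B x y = x ⬝ᵥ (B *ᵥ y) := rfl

theorem mform_EL {B : Matrix (Fin 24) (Fin 24) ℤ} (hsymm : B.IsSymm)
    (hpos : ∀ x : Fin 24 → ℤ, x ≠ 0 → 0 < x ⬝ᵥ (B *ᵥ x)) (heven : ∀ x : Fin 24 → ℤ, (2 : ℤ) ∣ x ⬝ᵥ (B *ᵥ x))
    (h2 : ∀ x : Fin 24 → ℤ, x ⬝ᵥ (B *ᵥ x) ≠ 2) : EL (mform B) := by
  refine ⟨fun x y => ?_, ?_, ?_, ?_⟩ <;> simp only [mform_apply]
  · rw [Matrix.dotProduct_mulVec, ← Matrix.mulVec_transpose, hsymm.eq, dotProduct_comm]
  all_goals assumption

theorem two_dvd_iff {ι : Type*} (v : ι → ℤ) : (∃ z, v = 2 • z) ↔ ∀ i, (2 : ℤ) ∣ v i := by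
  constructor
  · rintro ⟨z, rfl⟩ i; simp
  · intro h; choose z hz using h; exact ⟨z, funext fun i => by simp [hz i]⟩

/-- the customary form on the Leech lattice -/
def lf : L →+ L →+ ℤ := AddMonoidHom.mk' (fun x => AddMonoidHom.mk' (fun y => dotInt x.1 y.1 / 8)
    fun y z => by
      rw [AddSubgroup.coe_add, dot_add, Int.add_ediv_of_dvd_left (eight_dvd x.2 y.2)])
  fun x y => by
    ext z
    simp only [AddMonoidHom.mk'_apply, AddMonoidHom.add_apply]
    rw [AddSubgroup.coe_add, add_dot, Int.add_ediv_of_dvd_left (eight_dvd x.2 z.2)]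

theorem lf_mul (x y : L) : 8 * lf x y = dotInt x.1 y.1 := Int.mul_ediv_cancel' (eight_dvd x.2 y.2)

theorem lf_self (x : L) : 8 * lf x x = sqNorm x.1 := by rw [lf_mul, dot_self]

theorem lf_EL : EL lf := by
  refine ⟨fun x y => ?_, fun x hx => ?_, fun x => ?_, fun x => ?_⟩
  · have := lf_mul x y; have := lf_mul y x; have := dot_comm x.1 y.1; omega
  · have := min_norm x.2 (fun h => hx (Subtype.ext h)); have := lf_self x; omega
  · have := sixteen_dvd x.2; have := lf_self x; omega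
  · by_cases hx : x.1 = 0
    · have := lf_self x; rw [hx] at this; simp [sqNorm] at this; omega
    · have := min_norm x.2 hx; have := lf_self x; omega

instance L_finite : Module.Finite ℤ L :=
  Module.Finite.of_injective L.subtype.toIntLinearMap L.subtype_injective

instance L_free : Module.Free ℤ L := Module.free_of_finite_type_torsion_free'

theorem finrank_L : Module.finrank ℤ L = 24 := by
  have hV : Module.finrank ℤ V = 24 := by simp [card24]
  apply le_antisymm
  · rw [← hV]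
    exact LinearMap.finrank_le_finrank_of_injective (f := L.subtype.toIntLinearMap)
      L.subtype_injective
  · rw [← hV]
    let f : V →+ L := AddMonoidHom.mk' (fun y => ⟨(8 : ℤ) • y, eight_mem y⟩) fun a c =>
      Subtype.ext (smul_add _ _ _)
    refine LinearMap.finrank_le_finrank_of_injective (f := f.toIntLinearMap) fun a c e => ?_
    exact smul_right_injective V (by norm_num : (8 : ℤ) ≠ 0) (congrArg Subtype.val e)

theorem ncard_L (P : V → Prop) : {x : L | P x.1}.ncard = {x : V | x ∈ L ∧ P x}.ncard := by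
  rw [← Set.ncard_image_of_injective _ Subtype.val_injective]
  congr 1; ext x; simp [and_comm]

theorem ncard_lf (n : ℕ) : {x : L | lf x x = n}.ncard = (Sh (8 * n)).ncard := by
  rw [Sh, ← ncard_L fun x => sqNorm x = (8 * n : ℕ)]
  congr 1; ext x
  have := lf_self x
  simp only [Set.mem_setOf_eq]; push_cast; omega

theorem L_mod2 : (∀ x : L, ∃ y, lf y y ≤ 8 ∧ ∃ z, x - y = 2 • z) ∧
    ∀ x : L, lf x x = 8 → {y | lf y y = 8 ∧ ∃ z, x - y = 2 • z}.ncard = 48 :=
  lf_EL.mod2 finrank_L ((ncard_lf 4).trans ncard_Sh32) ((ncard_lf 6).trans ncard_Sh48)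
    ((ncard_lf 8).trans ncard_Sh64)

theorem short {x y : V} (hx : x ∈ L) (hy : y ∈ L) (hxn : sqNorm x ≤ 64) (hyn : sqNorm y ≤ 64)
    (hc : ∃ z ∈ L, x - y = 2 • z) :
    x = y ∨ x = -y ∨ (sqNorm x = 64 ∧ sqNorm y = 64 ∧ dotInt x y = 0) := by
  obtain ⟨z, hz, e⟩ := hc
  have a := lf_self ⟨x, hx⟩
  have c := lf_self ⟨y, hy⟩
  have d := lf_mul ⟨x, hx⟩ ⟨y, hy⟩
  simp only at a c d
  rcases lf_EL.short (x := ⟨x, hx⟩) (y := ⟨y, hy⟩) (by omega) (by omega)
    ⟨⟨z, hz⟩, Subtype.ext e⟩ with h | h | h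
  · exact Or.inl (congrArg Subtype.val h)
  · exact Or.inr (Or.inl (congrArg Subtype.val h))
  · omega

theorem exists_short {x : V} (hx : x ∈ L) : ∃ y ∈ L, sqNorm y ≤ 64 ∧ ∃ z ∈ L, x - y = 2 • z := by
  obtain ⟨y, h1, z, h2⟩ := L_mod2.1 ⟨x, hx⟩
  exact ⟨y, y.2, by have := lf_self y; omega, z, z.2, congrArg Subtype.val h2⟩

theorem ncard_cross {x : V} (hx : x ∈ L) (hxn : sqNorm x = 64) : (cross x).ncard = 48 := by
  rw [← L_mod2.2 ⟨x, hx⟩ (by have := lf_self ⟨x, hx⟩; simp only at this; omega), cross, ← ncard_L]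
  congr 1; ext y
  have := lf_self y
  simp only [Set.mem_setOf_eq]
  exact ⟨fun ⟨a, z, hz, e⟩ => ⟨by omega, ⟨z, hz⟩, Subtype.ext e⟩,
    fun ⟨a, z, e⟩ => ⟨by omega, z, z.2, congrArg Subtype.val e⟩⟩

/-! ### generators -/

def e1 (i : GolayPt) : V := Pi.single i 1

theorem sum_e1 (y : V) : ∑ i, y i • e1 i = y := by
  funext j; simp [e1, Finset.sum_apply, Pi.single_apply]

/-- the vector `(-3, 1^23)` -/
def odd0 : V := fun i => if i = none then -3 else 1

theorem odd0_mem : odd0 ∈ L := mem_iff.2 ⟨1, ∅, H14.empty_mem_gcode, by decide, by decide⟩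

theorem four_e_mem (i j : GolayPt) (s : ℤ) (hs : s = 1 ∨ s = -1) :
    (4 : ℤ) • (e1 i + s • e1 j) ∈ L := four_mem (by
  simp only [e1, Pi.add_apply, Pi.smul_apply, Finset.sum_add_distrib, smul_eq_mul, ← Finset.mul_sum,
    Finset.sum_pi_single', Finset.mem_univ, if_true]
  omega)

theorem ic_symmDiff (C D : Finset GolayPt) :
    (2 : ℤ) • ic (symmDiff C D) = (2 : ℤ) • ic C + (2 : ℤ) • ic D - (4 : ℤ) • ic (C ∩ D) := by
  funext i
  by_cases h1 : i ∈ C <;> by_cases h2 : i ∈ D <;> simp [ic, h1, h2, Finset.mem_symmDiff]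

/-- generators of the lattice -/
theorem L_le {K : AddSubgroup V} (h1 : odd0 ∈ K)
    (h2 : ∀ i < 12, (2 : ℤ) • ic (gC.set (H14.bw i)) ∈ K)
    (h3 : ∀ i : ZMod 23, (4 : ℤ) • (e1 none + e1 (some i)) ∈ K)
    (h4 : (4 : ℤ) • (e1 none - e1 (some 0)) ∈ K) : L ≤ K := by
  have h8 : (4 : ℤ) • (e1 none + e1 none) ∈ K := by
    have := K.add_mem (h3 0) h4
    rwa [← smul_add, show e1 none + e1 (some 0) + (e1 none - e1 (some 0)) = e1 none + e1 none by abel]
      at this
  have h5 : ∀ y : V, (2 : ℤ) ∣ ∑ i, y i → (4 : ℤ) • y ∈ K := by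
    rintro y ⟨c, hc⟩
    have : (4 : ℤ) • y = ∑ i, y i • ((4 : ℤ) • (e1 none + e1 i)) - c • ((4 : ℤ) • (e1 none + e1 none)) := by
      simp only [smul_comm _ (4 : ℤ), ← Finset.smul_sum, ← smul_sub, smul_add, Finset.sum_add_distrib,
        sum_e1, ← Finset.sum_smul, hc]
      congr 1
      rw [two_mul, add_smul]; abel
    rw [this]
    refine K.sub_mem (K.sum_mem fun i _ => K.zsmul_mem ?_ _) (K.zsmul_mem h8 _)
    cases i with
    | none => exact h8
    | some i => exact h3 i
  have h6 : ∀ n m, n ≤ 12 → gC.set (H14.lin H14.bw n m) ∈ GCode ∧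
      (2 : ℤ) • ic (gC.set (H14.lin H14.bw n m)) ∈ K := by
    intro n m hn
    induction n with
    | zero =>
      rw [H14.lin_zero, gC.set_zero]
      exact ⟨H14.empty_mem_gcode, by rw [show (2 : ℤ) • ic ∅ = 0 by funext i; simp [ic]]; exact K.zero_mem⟩
    | succ n ih =>
      obtain ⟨a, c⟩ := ih (by omega)
      rw [H14.lin_succ]
      split
      · have d := (H14.isCW_bw (i := n) (by omega)).set_mem
        rw [gC.set_xor, ic_symmDiff]
        refine ⟨H14.symmDiff_mem_gcode a d, K.sub_mem (K.add_mem c (h2 n (by omega))) (h5 _ ?_)⟩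
        obtain ⟨k, hk⟩ := H14.gcode_inter_even a d
        rw [sum_ic]; omega
      · rw [Nat.xor_zero]; exact ⟨a, c⟩
  intro x hx
  obtain ⟨m, C, hC, a, c⟩ := mem_iff.1 hx
  have h7 : (2 : ℤ) • ic C ∈ K := by
    obtain ⟨k, hk, rfl⟩ := H14.mem_gcode_iff.1 hC
    rw [← hk.cw_eq, H14.cw_eq]
    exact (h6 12 k le_rfl).2
  choose y hy using a
  have e : x = m • odd0 + (2 : ℤ) • ic C + (4 : ℤ) • (y + m • e1 none) := by
    funext i
    have := hy i
    by_cases hi : i = none <;> simp [odd0, e1, hi, Pi.single_apply] at this ⊢ <;> linarith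
  rw [e]
  refine K.add_mem (K.add_mem (K.zsmul_mem h1 _) h7) (h5 _ ?_)
  have s := Finset.sum_congr rfl fun i (_ : i ∈ Finset.univ) => hy i
  have := four_dvd_card hC
  simp only [Finset.sum_sub_distrib, ← Finset.mul_sum, sum_ic, Finset.sum_const, Finset.card_univ,
    card24, e1, Pi.add_apply, Pi.smul_apply, Finset.sum_add_distrib, smul_eq_mul,
    Finset.sum_pi_single', Finset.mem_univ, if_true, nsmul_eq_mul] at s ⊢
  push_cast at s
  omega

theorem sq_ic (C : Finset GolayPt) : sqNorm (ic C) = C.card := by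
  rw [← sum_ic]; exact Finset.sum_congr rfl fun i _ => by by_cases h : i ∈ C <;> simp [ic, h]

theorem closure_min : AddSubgroup.closure (Sh 32) = L := by
  refine le_antisymm ((AddSubgroup.closure_le _).2 fun x hx => hx.1) (L_le ?_ ?_ ?_ ?_)
  · exact AddSubgroup.subset_closure ⟨odd0_mem, by decide⟩
  · intro i hi
    refine AddSubgroup.subset_closure ⟨two_ic_mem (H14.isCW_bw hi).set_mem, ?_⟩
    rw [sq_zsmul, sq_ic, H14.card_gset]
    revert i; decide +kernel
  · intro i
    refine AddSubgroup.subset_closure ⟨by simpa using four_e_mem none (some i) 1 (by simp), ?_⟩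
    revert i; decide +kernel
  · refine AddSubgroup.subset_closure ⟨?_, by decide +kernel⟩
    simpa [sub_eq_add_neg] using four_e_mem none (some 0) (-1) (by simp)

end Cfsg.Agent.H25.Leech
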