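import Mathlib
import Cfsg.Agent.H25.Leech2

/-! The group `Co0`: monomial elements, the standard cross, the centre. -/

set_option linter.all false

namespace Cfsg.Agent.H25.Leech
open Cfsg.Agent.H14 (GCode gC)
open scoped Pointwise
open MulAction

attribute [-simp] Fintype.sum_option Fintype.prod_option

/-- the additive map of an element of `Co0` -/
def hom (g : Co0) : L →+ L := AddMonoidHom.mk' (fun v => g • v) g.2.1

theorem g_add (g : Co0) (v w : L) : g • (v + w) = g • v + g • w := g.2.1 v w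
theorem g_neg (g : Co0) (v : L) : g • (-v) = -(g • v) := (hom g).map_neg v
theorem g_sub (g : Co0) (v w : L) : g • (v - w) = g • v - g • w := (hom g).map_sub v w
theorem g_zsmul (g : Co0) (c : ℤ) (v : L) : g • (c • v) = c • (g • v) := (hom g).map_zsmul c v
theorem g_zero (g : Co0) : g • (0 : L) = 0 := (hom g).map_zero
theorem g_sq (g : Co0) (v : L) : sqNorm (g • v).1 = sqNorm v.1 := g.2.2 v
theorem g_dot (g : Co0) (v w : L) : dotInt (g • v).1 (g • w).1 = dotInt v.1 w.1 := by
  have := g_sq g (v + w)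
  rw [g_add, AddSubgroup.coe_add, AddSubgroup.coe_add, sq_add, sq_add, g_sq, g_sq] at this
  omega

theorem co_ext {g h : Co0} (e : ∀ v : L, g • v = h • v) : g = h := Subtype.ext (Equiv.ext e)

theorem L_induction {K : AddSubgroup L} (h : ∀ v : L, sqNorm v.1 = 32 → v ∈ K) (v : L) : v ∈ K := by
  have : L ≤ K.map L.subtype := by
    refine closure_min.ge.trans ((AddSubgroup.closure_le _).2 ?_)
    exact fun x hx => ⟨⟨x, hx.1⟩, h _ hx.2, rfl⟩
  obtain ⟨w, hw, e⟩ := this v.2
  rwa [← Subtype.ext e]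

/-- vectors of given norm, in the lattice -/
def SL (n : ℕ) : Set L := {x | sqNorm x.1 = n}

theorem SL_finite {n : ℕ} (hn : n ≤ 64) : (SL n).Finite :=
  (Sh_finite hn).preimage Subtype.val_injective.injOn |>.subset fun x hx => ⟨x.2, hx⟩

theorem ncard_SL (n : ℕ) : (SL n).ncard = (Sh n).ncard := ncard_L fun x => sqNorm x = n

theorem bij_of_isom (f : L →+ L) (h : ∀ v, sqNorm (f v).1 = sqNorm v.1) : Function.Bijective f := by
  have hi : Function.Injective f := (injective_iff_map_eq_zero f).2 fun v hv =>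
    Subtype.ext (sq_eq_zero (by rw [← h, hv]; simp [sqNorm]))
  refine ⟨hi, fun v => L_induction (K := f.range) (fun w hw => ?_) v⟩
  obtain ⟨u, -, e⟩ := (((SL_finite (n := 32) (by norm_num)).injOn_iff_bijOn_of_mapsTo
    (f := f) fun u hu => (h u).trans hu).1 hi.injOn).surjOn (show w ∈ SL 32 from hw)
  exact ⟨u, e⟩

noncomputable def mkCo (f : L →+ L) (h : ∀ v, sqNorm (f v).1 = sqNorm v.1) : Co0 :=
  ⟨Equiv.ofBijective f (bij_of_isom f h), f.map_add, h⟩

theorem mkCo_smul (f : L →+ L) (h) (v : L) : mkCo f h • v = f v := rfl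

noncomputable def neg1 : Co0 := mkCo (-AddMonoidHom.id L) fun v => sq_neg _

theorem neg1_smul (v : L) : neg1 • v = -v := rfl

theorem neg1_central : neg1 ∈ Subgroup.center Co0 :=
  Subgroup.mem_center_iff.2 fun g => co_ext fun v => by
    rw [mul_smul, mul_smul, neg1_smul, neg1_smul, g_neg]

theorem neg1_sq : neg1 * neg1 = 1 := co_ext fun v => by
  rw [mul_smul, neg1_smul, neg1_smul, neg_neg, one_smul]

/-- the vector `8 e_i` -/
def e8 (i : GolayPt) : L := ⟨(8 : ℤ) • e1 i, eight_mem _⟩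

theorem e8_val (i j : GolayPt) : (e8 i).1 j = if j = i then 8 else 0 := by
  simp [e8, e1, Pi.single_apply]

theorem e8_eq (i : GolayPt) : (e8 i).1 = Pi.single i 8 := by
  funext j; rw [e8_val, Pi.single_apply]

theorem sq_e8 (i : GolayPt) : sqNorm (e8 i).1 = 64 := by
  rw [← dot_self, e8_eq, dot_single]; simp

theorem neg1_ne : neg1 ≠ 1 := fun h => by
  have := congrFun (congrArg Subtype.val (neg1_smul (e8 none))) none
  rw [h, one_smul, AddSubgroup.coe_neg, Pi.neg_apply, e8_val] at this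
  simp at this

theorem eight_smul (v : L) : (8 : ℤ) • v = ∑ i, v.1 i • e8 i := by
  apply Subtype.ext
  rw [AddSubmonoidClass.coe_finset_sum]
  simp only [AddSubgroup.coe_zsmul, e8, smul_comm _ (8 : ℤ), ← Finset.smul_sum, sum_e1]

theorem eight_g (g : Co0) (v : L) (j : GolayPt) :
    8 * (g • v).1 j = ∑ i, v.1 i * (g • e8 i).1 j := by
  have : (8 : ℤ) • (g • v) = ∑ i, v.1 i • (g • e8 i) := by
    rw [← g_zsmul, eight_smul]
    exact (map_sum (hom g) _ _).trans (Finset.sum_congr rfl fun i _ => g_zsmul g _ _)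
  have h := congrFun (congrArg Subtype.val this) j
  rw [AddSubmonoidClass.coe_finset_sum, Finset.sum_apply] at h
  exact h

theorem co_ext8 {g h : Co0} (e : ∀ i, g • e8 i = h • e8 i) : g = h := co_ext fun v => by
  apply Subtype.ext
  funext j
  have a := eight_g g v j
  have b := eight_g h v j
  simp only [e] at a
  omega

instance finite_Co0 : Finite Co0 := by
  haveI := (SL_finite (n := 64) le_rfl).to_subtype
  exact Finite.of_injective (fun (g : Co0) (i : GolayPt) =>
    (⟨g • e8 i, (g_sq g _).trans (sq_e8 i)⟩ : SL 64))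
    fun g h e => co_ext8 fun i => congrArg Subtype.val (congrFun e i)

theorem signedPerm_mem {σ : Equiv.Perm GolayPt} (hσ : σ ∈ M24) {c : Finset GolayPt} (hc : c ∈ GCode)
    {x : V} (hx : x ∈ L) : signedPerm σ c x ∈ L :=
  sign_mem hc (perm_mem (M24.inv_mem hσ) hx)

/-- monomial elements -/
noncomputable def mon (σ : M24) (c : GCode) : Co0 :=
  mkCo (AddMonoidHom.mk' (fun v => ⟨signedPerm σ c v.1, signedPerm_mem σ.2 c.2 v.2⟩) fun v w =>
    Subtype.ext (funext fun i => by
      simp only [signedPerm, AddSubgroup.coe_add, Pi.add_apply]; split_ifs <;> ring)) fun v => by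
    refine Eq.trans (Finset.sum_congr rfl fun i _ => ?_) (Equiv.sum_comp σ.1.symm fun i => v.1 i ^ 2)
    simp only [AddMonoidHom.mk'_apply, signedPerm]; split_ifs <;> ring

theorem mon_val (σ : M24) (c : GCode) (v : L) : (mon σ c • v).1 = signedPerm σ c v.1 := rfl

theorem mon_apply (σ : M24) (c : GCode) (v : L) (i : GolayPt) :
    (mon σ c • v).1 (σ.1 i) = if σ.1 i ∈ c.1 then -v.1 i else v.1 i := by
  simp [mon_val, signedPerm]

theorem mon_e8 (σ : M24) (c : GCode) (i : GolayPt) :
    mon σ c • e8 i = if σ.1 i ∈ c.1 then -e8 (σ.1 i) else e8 (σ.1 i) := by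
  apply Subtype.ext
  funext j
  obtain ⟨k, rfl⟩ := σ.1.surjective j
  rw [mon_apply]
  by_cases h : k = i
  · subst h; split_ifs <;> simp [e8_val]
  · split_ifs <;> simp [e8_val, h]

theorem e8_inj {i j : GolayPt} {s t : ℤ} (hs : s ≠ 0) (h : s • e8 i = t • e8 j) : i = j ∧ s = t := by
  have := congrFun (congrArg Subtype.val h) i
  simp only [AddSubgroup.coe_zsmul, Pi.smul_apply, e8_val, if_true, smul_eq_mul] at this
  split_ifs at this with e
  · exact ⟨e, by omega⟩
  · omega

theorem mon_e8' (σ : M24) (c : GCode) (i : GolayPt) :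
    mon σ c • e8 i = (if σ.1 i ∈ c.1 then -1 else 1 : ℤ) • e8 (σ.1 i) := by
  rw [mon_e8]; split_ifs <;> simp

theorem mon_inj : Function.Injective fun p : M24 × GCode => mon p.1 p.2 := by
  rintro ⟨σ, c⟩ ⟨τ, d⟩ h
  have key := fun i => e8_inj (by split_ifs <;> norm_num)
    ((mon_e8' σ c i).symm.trans ((congrArg (· • e8 i) h).trans (mon_e8' τ d i)))
  have e : σ = τ := Subtype.ext (Equiv.ext fun i => (key i).1)
  subst e
  congr 1
  ext j
  obtain ⟨k, rfl⟩ := σ.1.surjective j
  have := (key k).2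
  split_ifs at this with a b b <;> simp_all

theorem mem_cross {v : L} : v.1 ∈ stdCross ↔ ∃ i, ∃ s : ℤ, (s = 1 ∨ s = -1) ∧ v = s • e8 i := by
  constructor
  · rintro ⟨i, s, hs, e⟩
    refine ⟨i, s / 8, by omega, Subtype.ext ?_⟩
    rw [e]; funext j
    rcases hs with rfl | rfl <;> simp [e8_val, Pi.single_apply]
    split_ifs <;> simp
  · rintro ⟨i, s, hs, rfl⟩
    refine ⟨i, s * 8, by omega, funext fun j => ?_⟩
    simp [e8_val, Pi.single_apply]

theorem exists_mon {g : Co0} (h : ∀ i, (g • e8 i).1 ∈ stdCross) : ∃ σ c, g = mon σ c := by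
  choose f s hs e using fun i => mem_cross.1 (h i)
  have hf : Function.Injective f := fun i j hij => by
    have := g_dot g (e8 i) (e8 j)
    rw [e, e, hij, AddSubgroup.coe_zsmul, AddSubgroup.coe_zsmul, dot_zsmul, zsmul_dot, dot_self, sq_e8,
      e8_eq j, dot_single, e8_val] at this
    by_contra hne
    rw [if_neg (Ne.symm hne)] at this
    rcases hs i with a | a <;> rcases hs j with b | b <;> rw [a, b] at this <;> omega
  let σ := Equiv.ofBijective f (Finite.injective_iff_bijective.1 hf)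
  have hv : ∀ (v : L) i, (g • v).1 (σ i) = s i * v.1 i := fun v i => by
    have := eight_g g v (σ i)
    rw [Finset.sum_eq_single i, e] at this
    · simp only [AddSubgroup.coe_zsmul, Pi.smul_apply, e8_val, smul_eq_mul] at this
      rw [if_pos (by rfl)] at this
      linarith
    · intro j _ hj
      rw [e, AddSubgroup.coe_zsmul, Pi.smul_apply, e8_val, if_neg fun h' : σ i = f j => hj (hf h').symm]; simp
    · simp
  have hL : ∀ (v : L) (k : ℤ), (Finset.univ.filter fun i => (g • v).1 i ≡ k [ZMOD 4]) ∈ GCode :=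
    fun v k => (leechSet_iff.2 (mem_iff.1 (g • v).2)).choose_spec.2.2 k
  have hσ : σ ∈ M24 := H14.mem_M24_of_forall fun C hC => by
    refine (congrArg (· ∈ GCode) (?_ : _ = _)).mp (hL ⟨_, two_ic_mem hC⟩ 2)
    ext j
    obtain ⟨k, rfl⟩ := σ.surjective j
    rw [Finset.mem_filter, hv, ← Equiv.Perm.smul_def, Finset.smul_mem_smul_finset_iff]
    by_cases hk : k ∈ C <;> rcases hs k with a | a <;> simp [a, ic, hk] <;> decide
  refine ⟨⟨σ, hσ⟩, ⟨_, hL ⟨_, odd0_mem⟩ 3⟩, co_ext8 fun i => ?_⟩
  rw [mon_e8', e]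
  congr 1
  simp only [Finset.mem_filter, hv]
  rcases hs i with a | a <;> rw [a] <;> by_cases hi : i = none <;> simp [odd0, hi] <;> decide

/-- the stabiliser of the standard cross -/
def NN : Subgroup Co0 where
  carrier := {g | ∀ v : L, v.1 ∈ stdCross → (g • v).1 ∈ stdCross}
  one_mem' := fun v hv => by rwa [one_smul]
  mul_mem' := fun ha hb v hv => by rw [mul_smul]; exact ha _ (hb v hv)
  inv_mem' := fun {g} hg v hv => by
    have : ∀ n : ℕ, (g ^ n • v).1 ∈ stdCross := fun n => by
      induction n with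
      | zero => rwa [pow_zero, one_smul]
      | succ n ih => rw [pow_succ', mul_smul]; exact hg _ ih
    obtain ⟨n, hn⟩ := (mem_powers_iff_mem_zpowers (x := g) (y := g⁻¹)).2
      (Subgroup.inv_mem _ (Subgroup.mem_zpowers g))
    rw [← hn]; exact this n

theorem e8_cross (i : GolayPt) : (e8 i).1 ∈ stdCross := mem_cross.2 ⟨i, 1, by simp, by simp⟩

theorem mem_NN_of {g : Co0} (h : ∀ i, (g • e8 i).1 ∈ stdCross) : g ∈ NN := fun v hv => by
  obtain ⟨i, s, hs, rfl⟩ := mem_cross.1 hv
  obtain ⟨j, t, ht, e⟩ := mem_cross.1 (h i)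
  rw [g_zsmul, e, smul_smul]
  exact mem_cross.2 ⟨j, s * t, by rcases hs with rfl | rfl <;> omega, rfl⟩

theorem mon_mem (σ : M24) (c : GCode) : mon σ c ∈ NN := mem_NN_of fun i => by
  rw [mon_e8']
  exact mem_cross.2 ⟨_, _, by split_ifs <;> simp, rfl⟩

theorem mem_NN {g : Co0} : g ∈ NN ↔ ∃ σ c, g = mon σ c :=
  ⟨fun h => exists_mon fun i => h _ (e8_cross i), by rintro ⟨σ, c, rfl⟩; exact mon_mem σ c⟩

theorem card_mon (K : Set Co0) (A : Subgroup M24) (B : Set (Finset GolayPt)) (hB : B ⊆ GCode)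
    (h1 : ∀ g ∈ K, g ∈ NN) (h2 : ∀ σ c, mon σ c ∈ K ↔ σ ∈ A ∧ c.1 ∈ B) :
    Nat.card K = Nat.card A * B.ncard := by
  rw [← Nat.card_coe_set_eq, ← Nat.card_prod]
  symm
  refine Nat.card_eq_of_bijective (fun p => ⟨mon p.1 ⟨p.2, hB p.2.2⟩, (h2 _ _).2 ⟨p.1.2, p.2.2⟩⟩)
    ⟨fun p q e => ?_, fun g => ?_⟩
  · have := mon_inj (a₁ := (p.1, ⟨p.2, hB p.2.2⟩)) (a₂ := (q.1, ⟨q.2, hB q.2.2⟩))
      (congrArg Subtype.val e)
    simp only [Prod.mk.injEq, Subtype.mk.injEq] at this
    exact Prod.ext (Subtype.ext this.1) (Subtype.ext this.2)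
  · obtain ⟨σ, c, e⟩ := mem_NN.1 (h1 _ g.2)
    have := (h2 σ c).1 (e ▸ g.2)
    exact ⟨(⟨σ, this.1⟩, ⟨c, this.2⟩), Subtype.ext e.symm⟩

theorem card_NN : Nat.card NN = 4096 * 244823040 := by
  have := card_mon NN ⊤ GCode le_rfl (fun _ h => h) fun σ c => by simp [mon_mem]
  rw [Subgroup.card_top, H14.card_M24, H14.ncard_gcode_all, mul_comm] at this
  exact this

open Spor in
theorem UU' : leechU + leechU' = e8 none ∧ leechU - leechU' = e8 (some 0) := by
  constructor <;> apply Subtype.ext <;> decide +kernel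

theorem exists_word {i j : GolayPt} (h : i ≠ j) : ∃ c ∈ GCode, i ∈ c ∧ j ∉ c := by
  obtain ⟨g, h1, h2⟩ := H14.m24_two (p := some 0) (q := some 1) (by decide) h
  refine ⟨g • gC.set (H14.bw 0), (H14.m24_smul_gcode g).2 (H14.isCW_bw (by norm_num)).set_mem, ?_, ?_⟩
  · rw [← h1, Finset.smul_mem_smul_finset_iff]; decide +kernel
  · rw [← h2, Finset.smul_mem_smul_finset_iff]; decide +kernel

/-- elements fixing two vectors of the cross -/
theorem card_fix2 : Nat.card ↥(stabilizer Co0 (e8 none) ⊓ stabilizer Co0 (e8 (some 0))) =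
    443520 * 1024 := by
  have hB : {s | s ∈ GCode ∧ (none ∉ s ∧ some 0 ∉ s)}.ncard = 1024 :=
    (H14.ncard_gcode (p := fun m => Nat.beq (Nat.land m 0x800001) 0) fun m hm => by
      rw [H14.nbeq_iff, ← Finset.disjoint_singleton_right, ← Finset.disjoint_singleton_right,
        ← Finset.disjoint_union_right, show ({none} ∪ {some 0} : Finset GolayPt) = gC.set 0x800001 by
          decide +kernel, gC.set_disjoint_iff hm.1]; rfl).trans (by decide +kernel)
  rw [← hB, ← show Nat.card H14.S22.K = 443520 from H14.S22.card_eq]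
  refine card_mon _ _ _ (fun _ h => h.1) (fun g hg => mem_NN_of fun i => ?_) fun σ c => ?_
  · have h1 : g • e8 none = e8 none := hg.1
    have hc : (g • e8 i).1 ∈ cross (e8 none).1 := by
      have hz : ∃ z : L, e8 none - e8 i = 2 • z := ⟨⟨_, four_e_mem none i (-1) (by simp)⟩, Subtype.ext
        (funext fun j => by simp [e8]; ring)⟩
      obtain ⟨z, hz⟩ := hz
      refine ⟨(g • e8 i).2, by rw [g_sq, sq_e8, sq_e8], (g • z).1, (g • z).2, ?_⟩
      have := congrArg (g • ·) hz
      simp only [g_sub, h1, two_smul, g_add] at this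
      rw [two_smul]; exact congrArg Subtype.val this
    have hsub : stdCross ⊆ cross (e8 none).1 := by
      rintro _ ⟨k, s, hs, rfl⟩
      refine ⟨?_, ?_, _, four_e_mem none k (-s / 8) (by omega), funext fun j => ?_⟩
      · rcases hs with rfl | rfl
        · exact e8_eq k ▸ (e8 k).2
        · have := (-e8 k).2
          rwa [AddSubgroup.coe_neg, e8_eq, ← Pi.single_neg] at this
      · rw [sq_e8, ← dot_self, dot_single]; rcases hs with rfl | rfl <;> simp
      · rcases hs with rfl | rfl <;> simp [e8, e1, Pi.single_apply] <;> split_ifs <;> norm_num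
    have hcard : stdCross.ncard = 48 := by
      have : stdCross = Set.range fun p : GolayPt × Bool =>
          (Pi.single p.1 (if p.2 then 8 else -8) : V) := by
        ext y
        constructor
        · rintro ⟨k, s, rfl | rfl, rfl⟩
          · exact ⟨(k, true), rfl⟩
          · exact ⟨(k, false), rfl⟩
        · rintro ⟨⟨k, _ | _⟩, rfl⟩
          · exact ⟨k, _, Or.inr rfl, rfl⟩
          · exact ⟨k, _, Or.inl rfl, rfl⟩
      rw [this, Set.ncard_range_of_injective, Nat.card_prod, Nat.card_eq_fintype_card, card24]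
      · simp
      · rintro ⟨k, a⟩ ⟨l, b⟩ e
        have := congrFun e k
        simp only [Pi.single_apply, if_true] at this
        cases a <;> cases b <;> simp at this ⊢ <;> first | exact this | (split_ifs at this <;> omega)
    have hn := ncard_cross (e8 none).2 (sq_e8 _)
    rwa [Set.eq_of_subset_of_ncard_le hsub (by omega) (Set.finite_of_ncard_ne_zero (by omega))]
  · have key : ∀ i, mon σ c • e8 i = e8 i ↔ σ.1 i = i ∧ i ∉ c.1 := fun i => by
      rw [mon_e8']
      constructor
      · intro h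
        obtain ⟨a, b⟩ := e8_inj (by split_ifs <;> norm_num) (h.trans (one_smul ℤ _).symm)
        refine ⟨a, fun hc => ?_⟩
        rw [a, if_pos hc] at b; omega
      · rintro ⟨a, b⟩; rw [a, if_neg b, one_smul]
    show mon σ c • e8 none = e8 none ∧ mon σ c • e8 (some 0) = e8 (some 0) ↔
      (σ.1 none = none ∧ σ.1 (some 0) = some 0) ∧ c.1 ∈ GCode ∧ _
    rw [key, key]
    have := c.2
    tauto

theorem center_cases {z : Co0} (hz : z ∈ Subgroup.center Co0) : z = 1 ∨ z = neg1 := by
  have hc := fun g (v : L) => congrArg (· • v) (Subgroup.mem_center_iff.1 hz g :)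
  simp only [mul_smul] at hc
  have h1 : ∀ i, ∃ s : ℤ, (s = 1 ∨ s = -1) ∧ z • e8 i = s • e8 i := fun i => by
    have h0 : ∀ j, j ≠ i → (z • e8 i).1 j = 0 := fun j hj => by
      obtain ⟨c, hc1, a, b⟩ := exists_word hj
      have := congrFun (congrArg Subtype.val (hc (mon 1 ⟨c, hc1⟩) (e8 i))) j
      rw [mon_e8, if_neg (by exact b)] at this
      have e := mon_apply 1 ⟨c, hc1⟩ (z • e8 i) j
      rw [if_pos (by exact a)] at e
      have : (mon 1 ⟨c, hc1⟩ • z • e8 i).1 j = (z • e8 i).1 j := this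
      have e : (mon 1 ⟨c, hc1⟩ • z • e8 i).1 j = -(z • e8 i).1 j := e
      omega
    have h2 := (g_sq z (e8 i)).trans (sq_e8 i)
    rw [sqNorm, Finset.sum_eq_single i (fun j _ hj => by rw [h0 j hj]; rfl) (by simp),
      show (64 : ℤ) = 8 ^ 2 by norm_num, sq_eq_sq_iff_eq_or_eq_neg] at h2
    refine ⟨(z • e8 i).1 i / 8, by omega, Subtype.ext (funext fun j => ?_)⟩
    rw [AddSubgroup.coe_zsmul, Pi.smul_apply, e8_val]
    split_ifs with h
    · subst h; simp only [smul_eq_mul]; omega
    · rw [h0 j h]; simp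
  obtain ⟨s, hs, e⟩ := h1 none
  have h3 : ∀ i, z • e8 i = s • e8 i := fun i => by
    obtain ⟨g, hg⟩ := H14.m24_one none i
    have a : mon g ⟨∅, H14.empty_mem_gcode⟩ • e8 none = e8 i := by
      rw [mon_e8, if_neg (by simp), ← hg]; rfl
    rw [← a, ← hc, e, g_zsmul]
  rcases hs with rfl | rfl
  · exact Or.inl (co_ext8 fun i => by simpa using h3 i)
  · exact Or.inr (co_ext8 fun i => by rw [neg1_smul]; simpa using h3 i)

theorem mem_center {z : Co0} : z ∈ Subgroup.center Co0 ↔ z = 1 ∨ z = neg1 :=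
  ⟨center_cases, by rintro (rfl | rfl); exacts [Subgroup.one_mem _, neg1_central]⟩

theorem card_center : Nat.card (Subgroup.center Co0) = 2 := by
  rw [← SetLike.coe_sort_coe, Nat.card_coe_set_eq, show (Subgroup.center Co0 : Set Co0) = {1, neg1} by
    ext z; exact mem_center, Set.ncard_pair neg1_ne.symm]

end Cfsg.Agent.H25.Leech
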