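import Mathlib
import Cfsg.Agent.H25.Leech3
import Cfsg.Agent.H25.Util

/-! Elements of `Co0` given by matrices, acting on packed vectors. -/

set_option linter.all false
set_option maxRecDepth 100000
set_option exponentiation.threshold 2000

namespace Cfsg.Agent.H25.Leech
open Cfsg.Agent.H14 (GCode gC sumLt sumLt_eq)
open Finset Matrix MulAction

attribute [-simp] Fintype.sum_option Fintype.prod_option

def pk (f : ℕ → ℕ) : ℕ := ∑ j ∈ range 24, f j * 2 ^ (25 * j)

def ONES : ℕ := nat_lit 0x800000400000200000100000080000040000020000010000008000004000002000001000000800000400000200000100000080000040000020000010000008000004000002000001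
def Z1 : ℕ := nat_lit 0x4000002000001000000800000400000200000100000080000040000020000010000008000004000002000001000000800000400000200000100000080000040000020000010000008
def S16 : ℕ := nat_lit 0x8000004000002000001000000800000400000200000100000080000040000020000010000008000004000002000001000000800000400000200000100000080000040000020000010
def Z8 : ℕ := nat_lit 0x20000010000008000004000002000001000000800000400000200000100000080000040000020000010000008000004000002000001000000800000400000200000100000080000040
def MD : ℕ := nat_lit 0x7fffffffffffffffffffffffffffffffffffffffffffffffffffffffffffffffffffffffffffffffffffffffffffffffffffffffffffffffffffffffffffffffffffffffffffffffffffffffffffffffffffffffffffffffffffffffffffffffffffffffffffffffffffffffffffffffffffffffffffffffffffffffffffffffffffffffffffffffffffffffffffffffffffff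
def MASK : ℕ := nat_lit 0x1ffffff000000000000000000000000000000000000000000000000000000000000000000000000000000000000000000000000000000000000000000000000000000000000000000000000000000000000000000000000000000000000000000000000000000000000000000000000000000000000000000000000000000000000000000000000000000000000000000000000000001ffffff000000000000000000000000000000000000000000000000000000000000000000000000000000000000000000000000000000000000000000000000000000000000000000000000000000000000000000000000000000000000000000000000000000000000000000000000000000000000000000000000000000000000000000000000000000000000000000000000000001ffffff000000000000000000000000000000000000000000000000000000000000000000000000000000000000000000000000000000000000000000000000000000000000000000000000000000000000000000000000000000000000000000000000000000000000000000000000000000000000000000000000000000000000000000000000000000000000000000000000000001ffffff00000000000000000000000000000000000000000000000000000000000000000000000000000000000000000000000000000000000000000000000000000000000000000000000000000000000000000000000000000000000000000000000000000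0000000000000000000000000000000000000000000000000000000000000000000000000000000000000000000000001ffffff000000000000000000000000000000000000000000000000000000000000000000000000000000000000000000000000000000000000000000000000000000000000000000000000000000000000000000000000000000000000000000000000000000000000000000000000000000000000000000000000000000000000000000000000000000000000000000000000000001ffffff000000000000000000000000000000000000000000000000000000000000000000000000000000000000000000000000000000000000000000000000000000000000000000000000000000000000000000000000000000000000000000000000000000000000000000000000000000000000000000000000000000000000000000000000000000000000000000000000000001ffffff000000000000000000000000000000000000000000000000000000000000000000000000000000000000000000000000000000000000000000000000000000000000000000000000000000000000000000000000000000000000000000000000000000000000000000000000000000000000000000000000000000000000000000000000000000000000000000000000000001ffffff00000000000000000000000000000000000000000000000000000000000000000000000000000000000000000000000000000000000000000000000000000000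0000000000000000000000000000000000000000000000000000000000000000000000000000000000000000000000000000000000000000000000000000000000000000000000000000000000000000000001ffffff000000000000000000000000000000000000000000000000000000000000000000000000000000000000000000000000000000000000000000000000000000000000000000000000000000000000000000000000000000000000000000000000000000000000000000000000000000000000000000000000000000000000000000000000000000000000000000000000000001ffffff000000000000000000000000000000000000000000000000000000000000000000000000000000000000000000000000000000000000000000000000000000000000000000000000000000000000000000000000000000000000000000000000000000000000000000000000000000000000000000000000000000000000000000000000000000000000000000000000000001ffffff000000000000000000000000000000000000000000000000000000000000000000000000000000000000000000000000000000000000000000000000000000000000000000000000000000000000000000000000000000000000000000000000000000000000000000000000000000000000000000000000000000000000000000000000000000000000000000000000000001ffffff00000000000000000000000000000000000000000000000000000000000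0000000000000000000000000000000000000000000000000000000000000000000000000000000000000000000000000000000000000000000000000000000000000000000000000000000000000000000000000000000000000000000000000000000000000000000000000000000000000000001ffffff000000000000000000000000000000000000000000000000000000000000000000000000000000000000000000000000000000000000000000000000000000000000000000000000000000000000000000000000000000000000000000000000000000000000000000000000000000000000000000000000000000000000000000000000000000000000000000000000000001ffffff000000000000000000000000000000000000000000000000000000000000000000000000000000000000000000000000000000000000000000000000000000000000000000000000000000000000000000000000000000000000000000000000000000000000000000000000000000000000000000000000000000000000000000000000000000000000000000000000000001ffffff00000000000000000000000000000000000000000000000000000000000000000000000000000000000000000000000000000000000000000000000000000000000000000000000000000000000000000000000000000000000000000000000000000000000000000000000000000000000000000000000000000000000000000000000000000000000000000000000000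0001ffffff000000000000000000000000000000000000000000000000000000000000000000000000000000000000000000000000000000000000000000000000000000000000000000000000000000000000000000000000000000000000000000000000000000000000000000000000000000000000000000000000000000000000000000000000000000000000000000000000000001ffffff000000000000000000000000000000000000000000000000000000000000000000000000000000000000000000000000000000000000000000000000000000000000000000000000000000000000000000000000000000000000000000000000000000000000000000000000000000000000000000000000000000000000000000000000000000000000000000000000000001ffffff000000000000000000000000000000000000000000000000000000000000000000000000000000000000000000000000000000000000000000000000000000000000000000000000000000000000000000000000000000000000000000000000000000000000000000000000000000000000000000000000000000000000000000000000000000000000000000000000000001ffffff00000000000000000000000000000000000000000000000000000000000000000000000000000000000000000000000000000000000000000000000000000000000000000000000000000000000000000000000000000000000000000000000000000000000000000000000000000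0000000000000000000000000000000000000000000000000000000000000000000000001ffffff000000000000000000000000000000000000000000000000000000000000000000000000000000000000000000000000000000000000000000000000000000000000000000000000000000000000000000000000000000000000000000000000000000000000000000000000000000000000000000000000000000000000000000000000000000000000000000000000000001ffffff000000000000000000000000000000000000000000000000000000000000000000000000000000000000000000000000000000000000000000000000000000000000000000000000000000000000000000000000000000000000000000000000000000000000000000000000000000000000000000000000000000000000000000000000000000000000000000000000000001ffffff000000000000000000000000000000000000000000000000000000000000000000000000000000000000000000000000000000000000000000000000000000000000000000000000000000000000000000000000000000000000000000000000000000000000000000000000000000000000000000000000000000000000000000000000000000000000000000000000000001ffffff000000000000000000000000000000000000000000000000000000000000000000000000000000000000000000000000000000000000000000000000000000000000000000000000000000000000000000000000000000000000000000000000000000000000000000000000000000000000000000000000000000000000000000000000000000000000000000000000000001ffffff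

theorem dg_lt (w v j : ℕ) : dg w v j < 2 ^ w := Nat.mod_lt _ (by positivity)

theorem eq_sum_dg (w n : ℕ) : ∀ c, c < 2 ^ (w * n) → c = ∑ j ∈ range n, dg w c j * 2 ^ (w * j) := by
  induction n with
  | zero => intro c h; simpa using h
  | succ n ih =>
    intro c h
    have := ih (c / 2 ^ w) (by
      rw [Nat.div_lt_iff_lt_mul (by positivity), ← pow_add]; exact h)
    rw [sum_range_succ', dg_zero_idx, Nat.mul_zero, pow_zero, mul_one]
    simp only [dg_succ, Nat.mul_succ, pow_add, ← mul_assoc]
    rw [← sum_mul, ← this, Nat.div_add_mod']

theorem sum_lt_pow (w : ℕ) (f : ℕ → ℕ) (n : ℕ) (h : ∀ j < n, f j < 2 ^ w) :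
    ∑ j ∈ range n, f j * 2 ^ (w * j) < 2 ^ (w * n) := by
  induction n with
  | zero => simp
  | succ n ih =>
    have a := ih fun j hj => h j (by omega)
    have b := Nat.mul_le_mul_right (2 ^ (w * n)) (Nat.succ_le_of_lt (h n (by omega)))
    rw [sum_range_succ, Nat.mul_succ, pow_add, mul_comm (2 ^ (w * n))]
    rw [Nat.succ_mul] at b
    omega

theorem dg_pk {f : ℕ → ℕ} (h : ∀ j < 24, f j ≤ 1000000) {j : ℕ} (hj : j < 24) : dg 25 (pk f) j = f j := by
  rw [pk, dg_sum f (fun j => j) _ (lt_of_le_of_lt (sum_le_card_nsmul _ _ 1000000 fun j hj =>
    h j (mem_range.1 hj)) (by simp)), sum_ite_eq', if_pos (mem_range.2 hj)]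

theorem dg_land (w a b j : ℕ) : dg w (a &&& b) j = dg w a j &&& dg w b j := by
  simp only [dg]
  rw [Nat.and_div_two_pow, Nat.and_mod_two_pow]

theorem dg_shift (w a k j : ℕ) : dg w (a >>> (w * k)) j = dg w a (j + k) := by
  simp only [dg]
  rw [Nat.shiftRight_eq_div_pow, Nat.div_div_eq_div_mul, ← pow_add]
  congr 3; ring

def Dg (c : ℕ) : Prop := c < 2 ^ 600 ∧ ∀ i < 24, dg 25 c i ≤ 16

theorem Dg.eq {c : ℕ} (h : Dg c) : c = pk (dg 25 c) := eq_sum_dg 25 24 c h.1

theorem Dg_pk {f : ℕ → ℕ} (h : ∀ j < 24, f j ≤ 16) : Dg (pk f) :=
  ⟨sum_lt_pow 25 f 24 fun j hj => by have := h j hj; omega, fun i hi => by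
    rw [dg_pk (fun j hj => by have := h j hj; omega) hi]; exact h i hi⟩

noncomputable def mkS (a : ℕ → ℕ → ℕ) (n : ℕ) : ℕ :=
  sumLt n fun j => sumLt 24 fun i => Nat.shiftLeft (a j i) (25 * (48 * j + (23 - i)))

theorem mkS_eq (a : ℕ → ℕ → ℕ) (n : ℕ) :
    mkS a n = ∑ t ∈ range n ×ˢ range 24, a t.1 t.2 * 2 ^ (25 * (48 * t.1 + (23 - t.2))) := by
  rw [mkS, sumLt_eq, sum_product]
  refine sum_congr rfl fun j _ => ?_
  rw [sumLt_eq]
  exact sum_congr rfl fun i _ => Nat.shiftLeft_eq _ _

noncomputable def mkP (a : ℕ → ℕ → ℕ) (n : ℕ) : ℕ := mkS (fun j i => a j i - 8) n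
noncomputable def mkN (a : ℕ → ℕ → ℕ) (n : ℕ) : ℕ := mkS (fun j i => 8 - a j i) n

noncomputable def conv (P N c : ℕ) : ℕ := Nat.add (Nat.mul c P) (Nat.mul (Nat.sub S16 c) N)

def sv (a : ℕ → ℕ → ℕ) (c j : ℕ) : ℕ :=
  ∑ i ∈ range 24, (dg 25 c i * (a j i - 8) + (16 - dg 25 c i) * (8 - a j i))

theorem term_le {d a : ℕ} (hd : d ≤ 16) (ha : a ≤ 16) : d * (a - 8) + (16 - d) * (8 - a) ≤ 256 := by
  have := Nat.mul_le_mul hd (show a - 8 ≤ 8 by omega)
  have := Nat.mul_le_mul (show 16 - d ≤ 16 by omega) (show 8 - a ≤ 8 by omega)
  omega

theorem sv_le {a : ℕ → ℕ → ℕ} {c j : ℕ} (hc : Dg c) (ha : ∀ i < 24, a j i ≤ 16) : sv a c j ≤ 6144 :=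
  (sum_le_card_nsmul _ _ 256 fun i hi =>
    term_le (hc.2 i (mem_range.1 hi)) (ha i (mem_range.1 hi))).trans (by simp)

theorem S16_sub {c : ℕ} (hc : Dg c) : S16 - c = pk fun i => 16 - dg 25 c i := by
  have e : S16 = pk fun _ => 16 := by decide +kernel
  have : pk (fun _ => 16) = pk (dg 25 c) + pk fun i => 16 - dg 25 c i := by
    simp only [pk, ← sum_add_distrib, ← add_mul]
    exact sum_congr rfl fun i hi => by rw [Nat.add_sub_cancel' (hc.2 i (mem_range.1 hi))]
  rw [e, this, ← hc.eq, Nat.add_sub_cancel_left]

theorem conv_dg {a : ℕ → ℕ → ℕ} {n c j : ℕ} (hn : n ≤ 24) (ha : ∀ j < n, ∀ i < 24, a j i ≤ 16)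
    (hc : Dg c) (hj : j < n) : dg 25 (conv (mkP a n) (mkN a n) c) (48 * j + 23) = sv a c j := by
  have e : conv (mkP a n) (mkN a n) c = ∑ s ∈ range 24 ×ˢ (range n ×ˢ range 24),
      (dg 25 c s.1 * (a s.2.1 s.2.2 - 8) + (16 - dg 25 c s.1) * (8 - a s.2.1 s.2.2)) *
        2 ^ (25 * (48 * s.2.1 + (23 - s.2.2) + s.1)) := by
    show c * mkP a n + (S16 - c) * mkN a n = _
    rw [S16_sub hc]
    conv_lhs => enter [1, 1]; rw [hc.eq]
    simp only [mkP, mkN, mkS_eq, pk, sum_mul_sum, ← sum_add_distrib]
    rw [sum_product]
    refine sum_congr rfl fun i _ => sum_congr rfl fun t _ => ?_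
    rw [mul_add 25 _ i, pow_add]; ring
  rw [e, dg_sum, sum_product, sv]
  · refine sum_congr rfl fun i hi => ?_
    have hi := mem_range.1 hi
    rw [sum_eq_single (j, i)]
    · rw [if_pos (by dsimp only; omega)]
    · rintro ⟨j', i'⟩ ht hne
      have := mem_range.1 (mem_product.1 ht).2
      rw [if_neg fun h => hne (by dsimp only at h this; rw [Prod.mk.injEq]; omega)]
    · intro h; exact absurd (mem_product.2 ⟨mem_range.2 hj, mem_range.2 hi⟩) h
  · refine lt_of_le_of_lt (sum_le_card_nsmul _ _ 256 fun s hs => ?_) ?_
    · simp only [mem_product, mem_range] at hs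
      exact term_le (hc.2 _ hs.1) (ha _ hs.2.1 _ hs.2.2)
    · simp only [card_product, card_range, smul_eq_mul]; omega

noncomputable def raw (P N c : ℕ) : ℕ :=
  Nat.mod (Nat.land (Nat.shiftRight (conv P N c) 575) MASK) MD

theorem mask_eq (T : ℕ) : T &&& MASK = ∑ j ∈ range 24, dg 25 T (48 * j) * 2 ^ (25 * (48 * j)) := by
  have h1 : MASK < 2 ^ (25 * 1152) := by decide +kernel
  have h2 : ∀ k < 1152, dg 25 MASK k = if k % 48 = 0 then 2 ^ 25 - 1 else 0 := by decide +kernel
  rw [eq_sum_dg 25 1152 _ (lt_of_le_of_lt Nat.and_le_right h1),
    sum_congr rfl (g := fun k => if k % 48 = 0 then dg 25 T k * 2 ^ (25 * k) else 0) fun k hk => by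
      rw [dg_land, h2 k (mem_range.1 hk)]
      split_ifs
      · rw [Nat.and_two_pow_sub_one_eq_mod, Nat.mod_eq_of_lt (dg_lt _ _ _)]
      · simp, ← sum_filter, show (range 1152).filter (fun k => k % 48 = 0) =
        (range 24).image (48 * ·) by decide +kernel, sum_image fun a _ b _ h => by omega]

theorem raw_eq {a : ℕ → ℕ → ℕ} {c : ℕ} (ha : ∀ j < 24, ∀ i < 24, a j i ≤ 16) (hc : Dg c) :
    raw (mkP a 24) (mkN a 24) c = pk (sv a c) := by
  show ((conv _ _ c >>> (25 * 23)) &&& MASK) % MD = _
  have h1 : pk (sv a c) < MD := (sum_lt_pow 25 _ 24 fun j hj => by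
    have := sv_le hc (ha j hj); omega).trans (by decide +kernel)
  rw [mask_eq, ← Nat.mod_eq_of_lt h1]
  refine Nat.ModEq.sum fun j hj => ?_
  rw [dg_shift, conv_dg le_rfl ha hc (mem_range.1 hj)]
  refine Nat.ModEq.mul_left _ ?_
  have : 2 ^ (25 * 47) ≡ 1 [MOD MD] := by decide +kernel
  rw [show 25 * (48 * j) = 25 * 47 * j + 25 * j by ring, pow_add, pow_mul]
  simpa using (this.pow j).mul_right (2 ^ (25 * j))

theorem idx_lt (p : GolayPt) : gC.idx p < 24 := gC.idx_lt p

def row (a : ℕ → ℕ → ℕ) (j : ℕ) : V := fun p => (a j (gC.idx p) : ℤ) - 8
def dv (c : ℕ) : V := fun p => (dg 25 c (gC.idx p) : ℤ) - 8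

theorem sum_pt (f : ℕ → ℤ) : ∑ p : GolayPt, f (gC.idx p) = ∑ i ∈ range 24, f i := by
  rw [sum_range]; exact Equiv.sum_comp gC.equiv fun i => f i

theorem Z1_eq : Z1 = pk fun _ => 8 := by decide +kernel
theorem Dg_Z1 : Dg Z1 := Z1_eq ▸ Dg_pk (by simp)

theorem sv_sub {a : ℕ → ℕ → ℕ} {c j : ℕ} (hc : Dg c) :
    (sv a c j : ℤ) = sv a Z1 j + dotInt (row a j) (dv c) := by
  rw [show dotInt (row a j) (dv c) = _ from
    sum_pt (fun i => ((a j i : ℤ) - 8) * ((dg 25 c i : ℤ) - 8)), sv, sv, Nat.cast_sum,
    Nat.cast_sum, ← sum_add_distrib]
  refine sum_congr rfl fun i hi => ?_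
  have h1 := hc.2 i (mem_range.1 hi)
  rw [Z1_eq, dg_pk (by simp) (mem_range.1 hi)]
  rcases le_total (a j i) 8 with h | h
  · rw [Nat.sub_eq_zero_of_le h]; push_cast [h, h1]; ring
  · rw [Nat.sub_eq_zero_of_le h]; push_cast [h, h1]; ring

def code (y : V) : ℕ := pk fun j => (y (gC.pt j) + 8).toNat

theorem code_spec {y : V} (h : sqNorm y ≤ 64) : Dg (code y) ∧ dv (code y) = y := by
  have hb := abs_le8 h
  refine ⟨Dg_pk fun j _ => by have := hb (gC.pt j); omega, funext fun p => ?_⟩
  rw [dv, code, dg_pk (fun j _ => by have := hb (gC.pt j); omega) (gC.idx_lt p), gC.pt_idx]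
  have := hb p; omega

theorem Dg.code_dv {c : ℕ} (h : Dg c) : code (dv c) = c := by
  refine Eq.trans ?_ h.eq.symm
  rw [code, pk, pk]
  exact sum_congr rfl fun j hj => by simp [dv, gC.idx_pt j (mem_range.1 hj)]

theorem dv_inj {c d : ℕ} (hc : Dg c) (hd : Dg d) (e : dv c = dv d) : c = d := by
  rw [← hc.code_dv, e, hd.code_dv]

structure TR where
  P : ℕ
  N : ℕ
  R : ℕ

noncomputable def TR.act (t : TR) (c : ℕ) : ℕ :=
  Nat.shiftRight (Nat.sub (Nat.add (raw t.P t.N c) Z8) t.R) 3

noncomputable def md (M j i : ℕ) : ℕ :=
  Nat.land (Nat.shiftRight M (Nat.mul 5 (Nat.add (Nat.mul 24 j) i))) 31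

noncomputable def prep (M : ℕ) : TR :=
  ⟨mkP (md M) 24, mkN (md M) 24, raw (mkP (md M) 24) (mkN (md M) 24) Z1⟩

theorem act_def (M c : ℕ) : (prep M).act c = (raw (mkP (md M) 24) (mkN (md M) 24) c + Z8 -
    raw (mkP (md M) 24) (mkN (md M) 24) Z1) >>> 3 := by
  rw [prep, TR.act]
  generalize raw _ _ c = a
  generalize raw _ _ Z1 = b
  generalize Z8 = d
  rfl

theorem act_eq {M c : ℕ} (ha : ∀ j < 24, ∀ i < 24, md M j i ≤ 16) (hc : Dg c) {y : V}
    (hy : sqNorm y ≤ 64) (h : ∀ p, 8 * y p = dotInt (row (md M) (gC.idx p)) (dv c)) :
    (prep M).act c = code y := by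
  have e : Z8 = pk fun _ => 64 := by decide +kernel
  have : raw (mkP (md M) 24) (mkN (md M) 24) c + Z8 =
      raw (mkP (md M) 24) (mkN (md M) 24) Z1 + code y * 8 := by
    rw [raw_eq ha hc, raw_eq ha Dg_Z1, e]
    simp only [code, pk, sum_mul, ← sum_add_distrib]
    refine sum_congr rfl fun j hj => ?_
    have h1 := h (gC.pt j)
    rw [gC.idx_pt j (mem_range.1 hj)] at h1
    have h2 := sv_sub (a := md M) (j := j) hc
    have h3 := abs_le8 hy (gC.pt j)
    rw [mul_right_comm, ← add_mul, ← add_mul,
      show sv (md M) c j + 64 = sv (md M) Z1 j + (y (gC.pt j) + 8).toNat * 8 by omega]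
  rw [act_def, this, Nat.add_sub_cancel_left, Nat.shiftRight_eq_div_pow, Nat.mul_div_cancel _ (by norm_num)]

noncomputable def dgf (c i : ℕ) : ℕ := Nat.land (Nat.shiftRight c (Nat.mul 25 i)) 33554431

theorem dgf_eq (c i : ℕ) : dgf c i = dg 25 c i := by
  show (c >>> (25 * i)) &&& (2 ^ 25 - 1) = _
  rw [Nat.and_two_pow_sub_one_eq_mod, Nat.shiftRight_eq_div_pow]; rfl

noncomputable def memb (c : ℕ) : Bool :=
  force (Nat.mod c 2) fun m => band (allLin (fun i => Nat.beq (Nat.mod (dgf c i) 2) m) 0 24)
    (band (Nat.beq (H14.syn (H14.orLt 24 fun i => Nat.shiftLeft (Nat.mod (Nat.div (dgf c i) 2) 2) i)) 0)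
      (Nat.beq (Nat.mod (sumLt 24 (dgf c)) 8) (Nat.mul 4 m)))

theorem memb_sound {c : ℕ} (h : memb c = true) : dv c ∈ L := by
  simp only [memb, force_eq, band_eq, Bool.and_eq_true, Nat.beq_eq] at h
  obtain ⟨h1, h2, h3⟩ := h
  set m := H14.orLt 24 fun i => Nat.shiftLeft (Nat.mod (Nat.div (dgf c i) 2) 2) i with hm
  have hb : ∀ j, m.testBit j = true ↔ j < 24 ∧ dg 25 c j / 2 % 2 = 1 := fun j => by
    rw [hm, H14.testBit_orLt]
    have key : ∀ i, (Nat.shiftLeft (Nat.mod (Nat.div (dgf c i) 2) 2) i).testBit j = true ↔
        i = j ∧ dg 25 c i / 2 % 2 = 1 := fun i => by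
      show ((dgf c i / 2 % 2) <<< i).testBit j = true ↔ _
      rw [dgf_eq]
      rcases Nat.mod_two_eq_zero_or_one (dg 25 c i / 2) with e | e <;> rw [e]
      · simp
      · simp [Nat.one_shiftLeft, Nat.testBit_two_pow]
    simp only [key]
    exact ⟨by rintro ⟨i, a, rfl, b⟩; exact ⟨a, b⟩, fun ⟨a, b⟩ => ⟨j, a, rfl, b⟩⟩
  have hlt : m < 2 ^ 24 := Nat.lt_pow_two_of_testBit _ fun i hi => by
    rw [Bool.eq_false_iff]; intro h; have := ((hb i).1 h).1; omega
  refine mem_iff.2 ⟨(c % 2 : ℕ), gC.set m, (H14.set_mem_gcode hlt).2 h2, fun p => ?_, ?_⟩
  · have a : dgf c (gC.idx p) % 2 = c % 2 := Nat.eq_of_beq_eq_true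
      (allLin_sound h1 (gC.idx p) (Nat.zero_le _) (gC.idx_lt p))
    rw [dgf_eq] at a
    have b := hb (gC.idx p)
    have := gC.idx_lt p
    simp only [ic, dv, gC.mem_set]
    split_ifs with h
    · have := (b.1 h).2; omega
    · have : ¬ dg 25 c (gC.idx p) / 2 % 2 = 1 := fun e => h (b.2 ⟨this, e⟩)
      omega
  · have a : sumLt 24 (dgf c) % 8 = 4 * (c % 2) := h3
    rw [sumLt_eq] at a
    simp only [dgf_eq] at a
    simp only [dv]
    rw [sum_pt fun i => (dg 25 c i : ℤ) - 8, sum_sub_distrib, ← Nat.cast_sum]
    simp only [sum_const, card_range, nsmul_eq_mul]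
    omega

def genL : List ℕ := [nat_lit 0x2800002400001200000900000480000240000120000090000048000024000012000009000004800002400001200000900000480000240000120000090000048000024000012000009,
  nat_lit 0x50000028000010000008000004000002800001400000a000004000002800001000000a00000400000200000100000080000040000020000010000008000004000002000001000000a,
  nat_lit 0x40000028000010000008000005000002000001000000a000005000002800001400000a000004000002000001000000800000400000200000100000080000040000020000014000008,
  nat_lit 0x5000002800001000000a0000040000028000010000008000005000002000001400000a000004000002000001000000800000400000200000100000080000040000028000010000008,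
  nat_lit 0x400000280000140000080000050000028000014000008000004000002000001400000a000004000002000001000000800000400000200000100000080000050000020000010000008,
  nat_lit 0x5000002000001000000a000005000002000001400000a000004000002000001400000a0000040000020000010000008000004000002000001000000a0000040000020000010000008,
  nat_lit 0x5000002000001400000a00000400000280000140000080000040000028000014000008000004000002000001000000800000400000200000140000080000040000020000010000008,
  nat_lit 0x5000002800001400000800000500000280000100000080000050000028000010000008000004000002000001000000800000400000280000100000080000040000020000010000008,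
  nat_lit 0x4000002000001000000a0000050000028000014000008000005000002800001000000a000004000002000001000000800000500000200000100000080000040000020000010000008,
  nat_lit 0x4000002000001400000a000005000002800001000000a0000050000020000014000008000004000002000001000000a00000400000200000100000080000040000020000010000008,
  nat_lit 0x4000002800001400000a000005000002000001400000a0000040000028000010000008000004000002000001400000800000400000200000100000080000040000020000010000008,
  nat_lit 0x5000002000001400000a000004000002000001000000a000005000002800001000000a000004000002800001000000800000400000200000100000080000040000020000010000008,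
  nat_lit 0x50000028000014000008000004000002000001400000a0000050000020000014000008000005000002000001000000800000400000200000100000080000040000020000010000008,
  nat_lit 0x600000200000100000080000040000020000010000008000004000002000001000000800000400000200000100000080000040000020000010000008000004000002000001000000c,
  nat_lit 0x6000002000001000000800000400000200000100000080000040000020000010000008000004000002000001000000800000400000200000100000080000040000020000018000008,
  nat_lit 0x6000002000001000000800000400000200000100000080000040000020000010000008000004000002000001000000800000400000200000100000080000040000030000010000008,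
  nat_lit 0x6000002000001000000800000400000200000100000080000040000020000010000008000004000002000001000000800000400000200000100000080000060000020000010000008,
  nat_lit 0x60000020000010000008000004000002000001000000800000400000200000100000080000040000020000010000008000004000002000001000000c0000040000020000010000008,
  nat_lit 0x6000002000001000000800000400000200000100000080000040000020000010000008000004000002000001000000800000400000200000180000080000040000020000010000008,
  nat_lit 0x6000002000001000000800000400000200000100000080000040000020000010000008000004000002000001000000800000400000300000100000080000040000020000010000008,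
  nat_lit 0x6000002000001000000800000400000200000100000080000040000020000010000008000004000002000001000000800000600000200000100000080000040000020000010000008,
  nat_lit 0x6000002000001000000800000400000200000100000080000040000020000010000008000004000002000001000000c00000400000200000100000080000040000020000010000008,
  nat_lit 0x6000002000001000000800000400000200000100000080000040000020000010000008000004000002000001800000800000400000200000100000080000040000020000010000008,
  nat_lit 0x6000002000001000000800000400000200000100000080000040000020000010000008000004000003000001000000800000400000200000100000080000040000020000010000008,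
  nat_lit 0x6000002000001000000800000400000200000100000080000040000020000010000008000006000002000001000000800000400000200000100000080000040000020000010000008,
  nat_lit 0x600000200000100000080000040000020000010000008000004000002000001000000c000004000002000001000000800000400000200000100000080000040000020000010000008,
  nat_lit 0x6000002000001000000800000400000200000100000080000040000020000018000008000004000002000001000000800000400000200000100000080000040000020000010000008,
  nat_lit 0x6000002000001000000800000400000200000100000080000040000030000010000008000004000002000001000000800000400000200000100000080000040000020000010000008,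
  nat_lit 0x6000002000001000000800000400000200000100000080000060000020000010000008000004000002000001000000800000400000200000100000080000040000020000010000008,
  nat_lit 0x60000020000010000008000004000002000001000000c0000040000020000010000008000004000002000001000000800000400000200000100000080000040000020000010000008,
  nat_lit 0x6000002000001000000800000400000200000180000080000040000020000010000008000004000002000001000000800000400000200000100000080000040000020000010000008,
  nat_lit 0x6000002000001000000800000400000300000100000080000040000020000010000008000004000002000001000000800000400000200000100000080000040000020000010000008,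
  nat_lit 0x6000002000001000000800000600000200000100000080000040000020000010000008000004000002000001000000800000400000200000100000080000040000020000010000008,
  nat_lit 0x6000002000001000000c00000400000200000100000080000040000020000010000008000004000002000001000000800000400000200000100000080000040000020000010000008,
  nat_lit 0x6000002000001800000800000400000200000100000080000040000020000010000008000004000002000001000000800000400000200000100000080000040000020000010000008,
  nat_lit 0x6000003000001000000800000400000200000100000080000040000020000010000008000004000002000001000000800000400000200000100000080000040000020000010000008,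
  nat_lit 0x6000002000001000000800000400000200000100000080000040000020000010000008000004000002000001000000800000400000200000100000080000040000020000010000004]

noncomputable def rowc (M j : ℕ) : ℕ := sumLt 24 fun i => Nat.shiftLeft (md M j i) (25 * i)

theorem rowc_eq (M j : ℕ) : rowc M j = pk (md M j) := by
  rw [rowc, sumLt_eq]; exact sum_congr rfl fun i _ => Nat.shiftLeft_eq _ _

noncomputable def forceT {α : Type} (t : TR) (k : TR → α) : α :=
  force t.P fun a => force t.N fun b => force t.R fun c => k ⟨a, b, c⟩

@[simp] theorem forceT_eq {α : Type} (t : TR) (k : TR → α) : forceT t k = k t := by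
  simp [forceT]

noncomputable def ok (M : ℕ) : Bool :=
  band (allLin (fun j => allLin (fun i => Nat.ble (md M j i) 16) 0 24) 0 24)
    (forceT (prep M) fun t => band (allLin (fun j => force (rowc M j) fun r => band (memb r)
      (Nat.beq (raw t.P t.N r) (Nat.add t.R (Nat.shiftLeft 64 (25 * j))))) 0 24)
      (allL (fun c => force (t.act c) memb) genL))

noncomputable def fM (M : ℕ) (x : V) : V := fun p => dotInt (row (md M) (gC.idx p)) x / 8

theorem ok_spec {M : ℕ} (h : ok M = true) : (∀ j < 24, ∀ i < 24, md M j i ≤ 16) ∧
    ∀ x ∈ L, (∀ p, 8 * fM M x p = dotInt (row (md M) (gC.idx p)) x) ∧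
      sqNorm (fM M x) = sqNorm x ∧ fM M x ∈ L := by
  simp only [ok, band_eq, forceT_eq, force_eq, Bool.and_eq_true] at h
  obtain ⟨h1, h2, h3⟩ := h
  have ha : ∀ j < 24, ∀ i < 24, md M j i ≤ 16 := fun j hj i hi => Nat.le_of_ble_eq_true
    (allLin_sound (allLin_sound h1 j (Nat.zero_le _) (by omega)) i (Nat.zero_le _) (by omega))
  have h4 := fun j (hj : j < 24) => allLin_sound h2 j (Nat.zero_le _) (by omega)
  simp only [Bool.and_eq_true, Nat.beq_eq, rowc_eq] at h4
  have hr : ∀ j < 24, dv (pk (md M j)) = row (md M) j := fun j hj => funext fun p => by
    rw [dv, dg_pk (fun i hi => by have := ha j hj i hi; omega) (gC.idx_lt p)]; rfl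
  have h5 : ∀ x ∈ L, ∀ p, 8 * fM M x p = dotInt (row (md M) (gC.idx p)) x := fun x hx p =>
    Int.mul_ediv_cancel' (eight_dvd (hr _ (gC.idx_lt p) ▸ memb_sound (h4 _ (gC.idx_lt p)).1) hx)
  let A : Matrix GolayPt GolayPt ℤ := fun p => row (md M) (gC.idx p)
  have hA : A * Aᵀ = (64 : ℤ) • 1 := by
    ext p q
    have hd := Dg_pk (ha _ (gC.idx_lt q))
    have e : raw (mkP (md M) 24) (mkN (md M) 24) (pk (md M (gC.idx q))) =
      raw (mkP (md M) 24) (mkN (md M) 24) Z1 + 64 <<< (25 * gC.idx q) := by
      have := (h4 _ (gC.idx_lt q)).2
      simpa only [prep, Nat.add_eq, Nat.shiftLeft_eq'] using this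
    rw [raw_eq ha hd, raw_eq ha Dg_Z1] at e
    have e2 : pk (sv (md M) Z1) + 64 <<< (25 * gC.idx q) =
        pk fun j => sv (md M) Z1 j + if j = gC.idx q then 64 else 0 := by
      simp only [pk, add_mul, sum_add_distrib, ite_mul, zero_mul, Nat.shiftLeft_eq]
      rw [sum_ite_eq', if_pos (mem_range.2 (idx_lt q))]
    have e3 := congrArg (dg 25 · (gC.idx p)) (e.trans e2)
    beta_reduce at e3
    rw [dg_pk (fun j hj => by have := sv_le hd (ha j hj); omega) (gC.idx_lt p),
      dg_pk (fun j hj => by have := sv_le Dg_Z1 (ha j hj); split_ifs <;> omega) (gC.idx_lt p)] at e3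
    have e4 := sv_sub (a := md M) (j := gC.idx p) hd
    rw [hr _ (gC.idx_lt q), e3] at e4
    show dotInt (A p) (A q) = _
    simp only [gC.idx_injective.eq_iff] at e4
    simp only [Matrix.smul_apply, one_apply, smul_eq_mul, A]
    split_ifs at e4 ⊢ <;> omega
  have hB : Aᵀ * A = (64 : ℤ) • 1 := by
    have a : ((64 : ℚ)⁻¹ • A.map (Int.castRingHom ℚ)) * (A.map (Int.castRingHom ℚ))ᵀ = 1 := by
      rw [Matrix.smul_mul, ← transpose_map, ← Matrix.map_mul, hA]
      ext p q
      simp only [Matrix.smul_apply, map_apply, one_apply, smul_eq_mul, eq_intCast]
      split_ifs <;> norm_num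
    rw [mul_eq_one_comm, Matrix.mul_smul, ← transpose_map, ← Matrix.map_mul] at a
    ext p q
    have := congrFun (congrFun a p) q
    simp only [Matrix.smul_apply, map_apply, one_apply, smul_eq_mul, eq_intCast] at this ⊢
    rw [inv_mul_eq_iff_eq_mul₀ (by norm_num)] at this
    exact_mod_cast this
  have h6 : ∀ x ∈ L, sqNorm (fM M x) = sqNorm x := fun x hx => by
    have a : (8 : ℤ) • fM M x = A *ᵥ x := funext (h5 x hx)
    have b : (A *ᵥ x) ⬝ᵥ (A *ᵥ x) = 64 * (x ⬝ᵥ x) := by
      rw [dotProduct_mulVec, vecMul_mulVec, hB]; simp [vecMul_smul, smul_vecMul, mul_comm]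
    have c := sq_zsmul 8 (fM M x)
    rw [a, ← dot_self] at c
    have b' : dotInt (A *ᵥ x) (A *ᵥ x) = 64 * dotInt x x := b
    rw [dot_self x] at b'
    omega
  refine ⟨ha, fun x hx => ⟨h5 x hx, h6 x hx, ?_⟩⟩
  let K : AddSubgroup V :=
    { carrier := {x | x ∈ L ∧ fM M x ∈ L}
      zero_mem' := ⟨L.zero_mem, by
        rw [show fM M 0 = 0 from funext fun p => by simp [fM, dotInt]]; exact L.zero_mem⟩
      add_mem' := fun {x y} hx hy => ⟨L.add_mem hx.1 hy.1, by
        rw [show fM M (x + y) = fM M x + fM M y from funext fun p => by
          have := h5 _ (L.add_mem hx.1 hy.1) p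
          have := h5 _ hx.1 p
          have := h5 _ hy.1 p
          simp only [dot_add, Pi.add_apply] at *; omega]
        exact L.add_mem hx.2 hy.2⟩
      neg_mem' := fun {x} hx => ⟨L.neg_mem hx.1, by
        rw [show fM M (-x) = -fM M x from funext fun p => by
          have := h5 _ (L.neg_mem hx.1) p
          have := h5 _ hx.1 p
          simp only [dot_neg, Pi.neg_apply] at *; omega]
        exact L.neg_mem hx.2⟩ }
  have hg : ∀ k < 37, dv (gd 0 genL k) ∈ K := fun k hk => by
    have a : ∀ k < 37, (gd 0 genL k < 2 ^ 600 ∧ ∀ i < 24, dg 25 (gd 0 genL k) i ≤ 16) ∧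
      memb (gd 0 genL k) = true ∧ sqNorm (dv (gd 0 genL k)) = 32 := by decide +kernel
    obtain ⟨a1, a2, a3⟩ := a k hk
    have hx := memb_sound a2
    have b := memb_sound (allL_sound h3 _ (gd_mem 0 (l := genL) hk))
    have hn : sqNorm (fM M (dv (gd 0 genL k))) ≤ 64 := by rw [h6 _ hx, a3]; norm_num
    rw [act_eq ha a1 hn (h5 _ hx), (code_spec hn).2] at b
    exact ⟨hx, b⟩
  refine (L_le (K := K) ?_ (fun i hi => ?_) (fun i => ?_) ?_ hx).2
  · exact (show dv (gd 0 genL 0) = odd0 by decide +kernel) ▸ hg 0 (by norm_num)
  · exact (show ∀ i < 12, dv (gd 0 genL (i + 1)) = (2 : ℤ) • ic (gC.set (H14.bw i)) by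
      decide +kernel) i hi ▸ hg _ (by omega)
  · exact (show ∀ i : ZMod 23, dv (gd 0 genL (i.val + 13)) = (4 : ℤ) • (e1 none + e1 (some i)) by
      decide +kernel) i ▸ hg _ (by have := i.val_lt; omega)
  · exact (show dv (gd 0 genL 36) = (4 : ℤ) • (e1 none - e1 (some 0)) by decide +kernel) ▸ hg 36 (by norm_num)

open Classical in
noncomputable def el (M : ℕ) : Co0 :=
  if h : ok M = true then mkCo (AddMonoidHom.mk' (fun x => ⟨fM M x.1, ((ok_spec h).2 _ x.2).2.2⟩)
    fun x y => Subtype.ext (funext fun p => by
      have := ((ok_spec h).2 _ (x + y).2).1 p
      have := ((ok_spec h).2 _ x.2).1 p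
      have := ((ok_spec h).2 _ y.2).1 p
      simp only [dot_add, Pi.add_apply, AddSubgroup.coe_add] at *; omega))
    fun x => ((ok_spec h).2 _ x.2).2.1 else 1

open Classical in
noncomputable def pt (c : ℕ) : L := if h : dv c ∈ L then ⟨dv c, h⟩ else 0

def VC (c : ℕ) : Prop := Dg c ∧ dv c ∈ L ∧ sqNorm (dv c) ≤ 64

theorem VC.val {c : ℕ} (h : VC c) : (pt c).1 = dv c := by rw [pt, dif_pos h.2.1]

theorem VC.inj {c d : ℕ} (hc : VC c) (hd : VC d) (e : pt c = pt d) : c = d :=
  dv_inj hc.1 hd.1 (by rw [← hc.val, e, hd.val])

theorem VC_code {x : L} (h : sqNorm x.1 ≤ 64) : VC (code x.1) ∧ pt (code x.1) = x := by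
  obtain ⟨a, b⟩ := code_spec h
  have : VC (code x.1) := ⟨a, b.symm ▸ x.2, b.symm ▸ h⟩
  exact ⟨this, Subtype.ext (this.val.trans b)⟩

theorem el_smul {M c : ℕ} (h : ok M = true) (hc : VC c) :
    VC ((prep M).act c) ∧ el M • pt c = pt ((prep M).act c) := by
  have e : (el M • pt c).1 = fM M (dv c) := by rw [el, dif_pos h, ← hc.val]; rfl
  have hn : sqNorm (el M • pt c).1 ≤ 64 := by rw [g_sq, hc.val]; exact hc.2.2
  rw [act_eq (ok_spec h).1 hc.1 hn (by rw [e]; exact ((ok_spec h).2 _ hc.2.1).1)]
  exact ⟨(VC_code hn).1, (VC_code hn).2.symm⟩

/-! ### dot products -/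

noncomputable def dotB (P N c : ℕ) : ℕ := Nat.land (Nat.shiftRight (conv P N c) 575) 33554431

noncomputable def prepV (u : ℕ) : TR :=
  ⟨mkP (fun _ => dgf u) 1, mkN (fun _ => dgf u) 1,
    dotB (mkP (fun _ => dgf u) 1) (mkN (fun _ => dgf u) 1) Z1⟩

/-- the dot product plus `k` -/
noncomputable def TR.dot (t : TR) (k c : ℕ) : ℕ := Nat.sub (Nat.add (dotB t.P t.N c) k) t.R

theorem dot_eq {u c k : ℕ} (hu : Dg u) (hc : Dg c) (h : -(k : ℤ) ≤ dotInt (dv u) (dv c)) :
    ((prepV u).dot k c : ℤ) = dotInt (dv u) (dv c) + k := by
  have key : ∀ c, Dg c → dotB (mkP (fun _ => dgf u) 1) (mkN (fun _ => dgf u) 1) c =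
      sv (fun _ => dgf u) c 0 := fun c hc => by
    rw [← conv_dg (n := 1) (by norm_num) (fun _ _ i hi => by rw [dgf_eq]; exact hu.2 i hi) hc
      (by norm_num)]
    exact dgf_eq _ 23
  have e := sv_sub (a := fun _ => dgf u) (j := 0) hc
  rw [show row (fun _ => dgf u) 0 = dv u from funext fun p => by simp [row, dv, dgf_eq]] at e
  show ((dotB _ _ c + k - dotB _ _ Z1 : ℕ) : ℤ) = _
  erw [key c hc, key _ Dg_Z1]
  omega

theorem dot_bound (x y : V) (hx : sqNorm x ≤ 64) (hy : sqNorm y ≤ 64) :
    -64 ≤ dotInt x y ∧ dotInt x y ≤ 64 := by
  have := sq_nonneg' (x + y)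
  have := sq_nonneg' (x - y)
  rw [sq_add] at *
  rw [sq_sub] at *
  omega

theorem dot64 {u c : ℕ} (hu : VC u) (hc : VC c) :
    ((prepV u).dot 64 c : ℤ) = dotInt (pt u).1 (pt c).1 + 64 := by
  rw [hu.val, hc.val]
  exact dot_eq hu.1 hc.1 (dot_bound _ _ hu.2.2 hc.2.2).1

noncomputable def vcb (n c : ℕ) : Bool :=
  band (Nat.ble (Nat.succ c) (2 ^ 600)) (band (allLin (fun i => Nat.ble (dgf c i) 16) 0 24)
    (band (memb c) (band (Nat.ble n 64) (Nat.beq ((prepV c).dot 0 c) n))))

theorem vcb_sound {n c : ℕ} (h : vcb n c = true) : VC c ∧ sqNorm (pt c).1 = n := by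
  simp only [vcb, band_eq, Bool.and_eq_true, Nat.ble_eq, Nat.beq_eq] at h
  obtain ⟨h1, h2, h3, h4, h5⟩ := h
  have hd : Dg c := ⟨h1, fun i hi => by
    rw [← dgf_eq]; exact Nat.le_of_ble_eq_true (allLin_sound h2 i (Nat.zero_le _) (by omega))⟩
  have := dot_eq (k := 0) hd hd (by rw [dot_self]; simpa using sq_nonneg' _)
  rw [h5, dot_self] at this
  have hv : VC c := ⟨hd, memb_sound h3, by omega⟩
  exact ⟨hv, by rw [hv.val]; omega⟩

end Cfsg.Agent.H25.Leech
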