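import Mathlib
import Cfsg.Agent.H25.LeechM

/-! Orbit certificates, histograms and permutation tables for lattice vectors. -/

set_option linter.all false
set_option maxRecDepth 100000

namespace Cfsg.Agent.H25.Leech
open Cfsg.Agent.H14 (sumLt sumLt_eq)
open Finset MulAction

noncomputable def prepL (Ms : List ℕ) : (List TR → Bool) → Bool :=
  List.rec (motive := fun _ => (List TR → Bool) → Bool) (fun k => k [])
    (fun M _ ih k => forceT (prep M) fun t => ih fun l => k (t :: l)) Ms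

theorem prepL_eq (Ms : List ℕ) : ∀ k, prepL Ms k = k (Ms.map prep) := by
  induction Ms with
  | nil => intro k; rfl
  | cons M Ms ih =>
    intro k
    have : prepL (M :: Ms) k = forceT (prep M) fun t => prepL Ms fun l => k (t :: l) := rfl
    rw [this, forceT_eq, ih, List.map_cons]

theorem gd_prep {Ms : List ℕ} {a : ℕ} (h : a < Ms.length) :
    gd ⟨0, 0, 0⟩ (Ms.map prep) a = prep (gd 0 Ms a) := by
  rw [gd_eq, gd_eq, List.getD_eq_getElem _ _ h, List.getD_eq_getElem _ _ (by simpa using h),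
    List.getElem_map]

noncomputable def lab (T : PT) (i : ℕ) : ℕ := Nat.shiftRight (T.rcd i 0) 26
noncomputable def dep (r : ℕ) : ℕ := Nat.land (Nat.shiftRight r 21) 31

noncomputable def cov1 (vec : ℕ → ℕ) (T : PT) (roots : List ℕ) (G : ℕ) (ts : List TR) (i : ℕ) : Bool :=
  force (T.rcd i 0) fun r => Bool.rec
    (force (Nat.land r 262143) fun j => force (T.rcd j 0) fun s =>
      force (Nat.land (Nat.shiftRight r 18) 7) fun a =>
      band (Nat.ble (Nat.succ j) T.N) (band (Nat.ble (Nat.succ (dep s)) (dep r))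
        (band (Nat.beq (Nat.shiftRight s 26) (Nat.shiftRight r 26)) (band (Nat.ble (Nat.succ a) G)
          (Nat.beq ((gd ⟨0, 0, 0⟩ ts a).act (vec j)) (vec i))))))
    (band (Nat.ble (Nat.succ (Nat.shiftRight r 26)) roots.length)
      (Nat.beq (gd 0 roots (Nat.shiftRight r 26)) (vec i)))
    (Nat.beq (dep r) 0)

noncomputable def cov (vec : ℕ → ℕ) (T : PT) (roots Ms : List ℕ) (lo hi : ℕ) : Bool :=
  force Ms.length fun G => prepL Ms fun ts => allRange (cov1 vec T roots G ts) lo hi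

theorem cov_rng {vec : ℕ → ℕ} {T : PT} {roots Ms : List ℕ} {lo hi : ℕ}
    (h : cov vec T roots Ms lo hi = true) :
    ∀ i, lo ≤ i → i < hi → cov1 vec T roots Ms.length (Ms.map prep) i = true := by
  rw [cov, force_eq, prepL_eq] at h
  exact allRange_sound h

theorem cov_sound {vec : ℕ → ℕ} {T : PT} {roots Ms : List ℕ} {K : Subgroup Co0}
    (hM : ∀ M ∈ Ms, ok M = true ∧ el M ∈ K) (hr : ∀ r ∈ roots, VC r)
    (h : ∀ i < T.N, cov1 vec T roots Ms.length (Ms.map prep) i = true) : ∀ i < T.N,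
      lab T i < roots.length ∧ VC (vec i) ∧ ∃ k ∈ K, k • pt (gd 0 roots (lab T i)) = pt (vec i) := by
  intro i
  induction hd : dep (T.rcd i 0) using Nat.strong_induction_on generalizing i with
  | _ n ih =>
    intro hi
    have h1 := h i hi
    simp only [cov1, force_eq] at h1
    cases hb : Nat.beq (dep (T.rcd i 0)) 0 with
    | true =>
      simp only [hb, band_eq, Bool.and_eq_true, Nat.ble_eq, Nat.beq_eq] at h1
      refine ⟨h1.1, h1.2 ▸ hr _ (gd_mem 0 h1.1), 1, K.one_mem, ?_⟩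
      rw [one_smul, ← h1.2]; rfl
    | false =>
      simp only [hb, band_eq, Bool.and_eq_true, Nat.ble_eq, Nat.beq_eq] at h1
      obtain ⟨a1, a2, a3, a4, a5⟩ := h1
      obtain ⟨b1, b2, k, b3, b4⟩ := ih _ (hd ▸ a2) _ rfl a1
      rw [gd_prep a4] at a5
      obtain ⟨c1, c2⟩ := hM _ (gd_mem 0 a4)
      obtain ⟨d1, d2⟩ := el_smul c1 b2
      rw [a5] at d1 d2
      have e : lab T i = lab T _ := a3.symm
      exact ⟨e ▸ b1, d1, _, K.mul_mem c2 b3, by rw [e, mul_smul, b4, d2]⟩

/-- all matrices are valid and fix the listed vectors -/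
noncomputable def fixes (cs Ms : List ℕ) : Bool :=
  allL (fun M => band (ok M) (forceT (prep M) fun t => allL (fun c => Nat.beq (t.act c) c) cs)) Ms

theorem fixes_sound {cs Ms : List ℕ} (h : fixes cs Ms = true) (hc : ∀ c ∈ cs, VC c) :
    ∀ M ∈ Ms, ok M = true ∧ ∀ c ∈ cs, el M • pt c = pt c := fun M hM => by
  have := allL_sound h M hM
  simp only [band_eq, forceT_eq, Bool.and_eq_true] at this
  exact ⟨this.1, fun c h' => by
    rw [(el_smul this.1 (hc c h')).2, Nat.eq_of_beq_eq_true (allL_sound this.2 c h')]⟩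

theorem el_map {M c d : ℕ} (h : ok M = true) (hc : VC c) (e : Nat.beq ((prep M).act c) d = true) :
    el M • pt c = pt d := by rw [(el_smul h hc).2, Nat.eq_of_beq_eq_true e]

/-! ### monotone keys -/

noncomputable def mono (f : ℕ → ℕ) (lo hi : ℕ) : Bool :=
  allRange (fun i => force (Nat.succ i) fun j => Nat.ble (Nat.succ (f i)) (f j)) lo hi

theorem mono_rng {f : ℕ → ℕ} {lo hi : ℕ} (h : mono f lo hi = true) :
    ∀ i, lo ≤ i → i < hi → f i < f (i + 1) := fun i a b => by
  have := allRange_sound h i a b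
  rw [force_eq] at this
  exact Nat.le_of_ble_eq_true this

theorem inj_of_mono {f : ℕ → ℕ} {n : ℕ} (h : ∀ i < n, f i < f (i + 1)) :
    ∀ i ≤ n, ∀ j ≤ n, f i = f j → i = j := by
  have key : ∀ j ≤ n, ∀ i < j, f i < f j := by
    intro j
    induction j with
    | zero => intro _ i hi; omega
    | succ j ih =>
      intro hj i hi
      have := h j (by omega)
      rcases Nat.lt_succ_iff_lt_or_eq.1 hi with h1 | rfl
      · exact (ih (by omega) i h1).trans this
      · exact this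
  intro i hi j hj e
  rcases lt_trichotomy i j with h1 | h1 | h1
  · have := key j hj i h1; omega
  · exact h1
  · have := key i hi j h1; omega

/-! ### histograms -/

noncomputable def hist (f : ℕ → ℕ) (lo a : ℕ) : ℕ :=
  sumLt a fun q => force (Nat.add lo (Nat.mul q 56)) fun s =>
    sumLt 56 fun i => force (Nat.add s i) fun j => Nat.shiftLeft 1 (Nat.mul 20 (f j))

theorem hist_step {f : ℕ → ℕ} {lo a x : ℕ} (h : ∑ i ∈ range lo, 1 * 2 ^ (20 * f i) = x) :
    ∑ i ∈ range (lo + a * 56), 1 * 2 ^ (20 * f i) = x + hist f lo a := by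
  rw [hist, sumLt_eq]
  induction a with
  | zero => simpa using h
  | succ a ih =>
    rw [Nat.succ_mul, ← add_assoc, sum_range_add, ih, sum_range_succ _ a, add_assoc, force_eq, sumLt_eq]
    simp only [force_eq, Nat.shiftLeft_eq', Nat.shiftLeft_eq]
    rfl

theorem hist_join {f : ℕ → ℕ} {lo a hi x y z : ℕ} (h : ∑ i ∈ range lo, 1 * 2 ^ (20 * f i) = x)
    (h2 : Nat.beq (hist f lo a) y = true) (h3 : (Nat.beq hi (lo + a * 56) && Nat.beq z (x + y)) = true) :
    ∑ i ∈ range hi, 1 * 2 ^ (20 * f i) = z := by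
  simp only [Bool.and_eq_true, Nat.beq_eq] at h2 h3
  rw [h3.1, h3.2, ← h2]; exact hist_step h

theorem hist_count {f : ℕ → ℕ} {n H B : ℕ} (h : ∑ i ∈ range n, 1 * 2 ^ (20 * f i) = H)
    (hn : n < 2 ^ 20) (hB : ∀ i < n, f i < B) (Q : ℕ → Prop) [DecidablePred Q] :
    ((range n).filter fun i => Q (f i)).card = ∑ j ∈ range B, if Q j then dg 20 H j else 0 := by
  have e : ∀ j, (if Q j then dg 20 H j else 0) = ∑ i ∈ range n, if Q j ∧ f i = j then 1 else 0 :=
    fun j => by
      rw [← h, dg_sum _ _ _ (by simpa using hn)]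
      by_cases hq : Q j <;> simp [hq]
  simp only [e]
  rw [card_eq_sum_ones, sum_filter, sum_comm]
  refine sum_congr rfl fun i hi => ?_
  rw [sum_eq_single (f i)]
  · simp
  · intro j _ hj; rw [if_neg fun h => hj h.2.symm]
  · intro h; exact absurd (mem_range.2 (hB i (mem_range.1 hi))) h

theorem ncard_of_enum {α : Type*} {S : Set α} {n : ℕ} {v : ℕ → α}
    (hi : ∀ i < n, ∀ j < n, v i = v j → i = j) (hs : ∀ x, x ∈ S ↔ ∃ i < n, v i = x)
    (P : α → Prop) (q : ℕ → Prop) [DecidablePred q] (hq : ∀ i < n, q i ↔ P (v i)) :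
    {x | x ∈ S ∧ P x}.ncard = ((range n).filter q).card := by
  rw [← Set.ncard_coe_finset]
  symm
  refine Set.ncard_congr (fun i _ => v i) (fun i h => ?_) (fun i j a b e => ?_) ?_
  · simp only [coe_filter, mem_range, Set.mem_setOf_eq] at h
    exact ⟨(hs _).2 ⟨i, h.1, rfl⟩, (hq i h.1).1 h.2⟩
  · simp only [coe_filter, mem_range, Set.mem_setOf_eq] at a b
    exact hi i a.1 j b.1 e
  · rintro x ⟨a, b⟩
    obtain ⟨i, h, rfl⟩ := (hs x).1 a
    exact ⟨i, by simpa using ⟨h, (hq i h).2 b⟩, rfl⟩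

theorem enum_of_ncard {α : Type*} {S : Set α} {n : ℕ} {v : ℕ → α} (hn : 0 < n) (hS : S.ncard = n)
    (hi : ∀ i < n, ∀ j < n, v i = v j → i = j) (hs : ∀ i < n, v i ∈ S) (x : α) :
    x ∈ S ↔ ∃ i < n, v i = x := by
  have : v '' (range n : Set ℕ) = S := Set.eq_of_subset_of_ncard_le
    (by rintro _ ⟨i, h, rfl⟩; exact hs i (by simpa using h))
    (by rw [Set.ncard_image_of_injOn fun i a j b => hi i (by simpa using a) j (by simpa using b),
      Set.ncard_coe_finset, card_range, hS]) (Set.finite_of_ncard_ne_zero (by omega))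
  rw [← this]; simp

/-! ### permutation tables -/

noncomputable def amc (vec : ℕ → ℕ) (T : PT) (Ms : List ℕ) (lo hi : ℕ) : Bool :=
  prepL Ms fun ts => allRange (fun i => allLin (fun a =>
    force (T.tgt i a) fun t => band (Nat.ble (Nat.succ t) T.N)
      (Nat.beq ((gd ⟨0, 0, 0⟩ ts a).act (vec i)) (vec t))) 0 T.G) lo hi

theorem amc_rng {vec : ℕ → ℕ} {T : PT} {Ms : List ℕ} {lo hi : ℕ} (h : amc vec T Ms lo hi = true) :
    ∀ i, lo ≤ i → i < hi → ∀ a < T.G, T.tgt i a < T.N ∧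
      (gd ⟨0, 0, 0⟩ (Ms.map prep) a).act (vec i) = vec (T.tgt i a) := fun i h1 h2 a ha => by
  rw [amc, prepL_eq] at h
  have := allRange_sound h i h1 h2
  have := allLin_sound this a (Nat.zero_le _) (by omega)
  simp only [force_eq, band_eq, Bool.and_eq_true, Nat.ble_eq, Nat.beq_eq] at this
  exact this

open Classical in
/-- letters of a subgroup of `Co0` -/
noncomputable def lk (K : Subgroup (Equiv.Perm L)) (Ms : List ℕ) (a : ℕ) : K :=
  if h : a < Ms.length ∧ (el (gd 0 Ms a)).1 ∈ K then (⟨_, h.2⟩ : K)⁻¹ else 1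

theorem lk_ge {K : Subgroup (Equiv.Perm L)} {Ms : List ℕ} (a : ℕ) (h : Ms.length ≤ a) :
    lk K Ms a = 1 := dif_neg fun h' => by omega

theorem am_lk {K : Subgroup (Equiv.Perm L)} {vec : ℕ → ℕ} {T : PT} {Ms : List ℕ}
    (hG : T.G = Ms.length) (hM : ∀ M ∈ Ms, ok M = true ∧ (el M).1 ∈ K) (hv : ∀ i < T.N, VC (vec i))
    (h : ∀ i < T.N, ∀ a < T.G, T.tgt i a < T.N ∧
      (gd ⟨0, 0, 0⟩ (Ms.map prep) a).act (vec i) = vec (T.tgt i a)) :
    AM T (lk K Ms) fun i => pt (vec i) := fun i hi a ha => by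
  obtain ⟨h1, h2⟩ := h i hi a ha
  obtain ⟨h3, h4⟩ := hM _ (gd_mem 0 (hG ▸ ha))
  rw [gd_prep (hG ▸ ha)] at h2
  refine ⟨h1, ?_⟩
  rw [lk, dif_pos ⟨hG ▸ ha, h4⟩, inv_inv]
  show _ = pt (vec _)
  rw [← h2]
  exact (el_smul h3 (hv i hi)).2

end Cfsg.Agent.H25.Leech
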