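import Mathlib
import Cfsg.Agent.H6.Frobenius
import Cfsg.Agent.H14.Orbit

/-! Simplicity from a simple maximal subgroup. -/

set_option linter.all false

namespace Cfsg.Agent.H25
open MulAction

variable {G : Type*} [Group G] [Finite G]

theorem normal_meet {M N : Subgroup G} (hM : IsCoatom M) (hs : IsSimpleGroup M) (hn : ¬ M.Normal)
    (hN : N.Normal) (h0 : N ≠ ⊥) : N = ⊤ ∨ (N ⊓ M = ⊥ ∧ Nat.card N = M.index) := by
  rcases hs.eq_bot_or_eq_top_of_normal (N.subgroupOf M) inferInstance with h | h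
  · have h1 : N ⊓ M = ⊥ := disjoint_iff.1 (Subgroup.subgroupOf_eq_bot.1 h)
    have h2 : M ⊔ N = ⊤ := hM.2 _ (left_lt_sup.2 fun h3 => h0 (by rw [← h1, inf_eq_left.2 h3]))
    refine Or.inr ⟨h1, ?_⟩
    have h4 : Subgroup.IsComplement' N M :=
      Subgroup.isComplement'_of_disjoint_and_mul_eq_univ (disjoint_iff.2 h1) (by
        rw [← Subgroup.normal_mul, sup_comm, h2]; rfl)
    exact h4.index_eq_card.symm
  · have h1 : M ≤ N := Subgroup.subgroupOf_eq_top.1 h
    rcases h1.eq_or_lt with h2 | h2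
    · exact absurd (h2 ▸ hN) hn
    · exact Or.inl (hM.2 _ h2)

theorem nontrivial_of_coatom {M : Subgroup G} (hM : IsCoatom M) : Nontrivial G := by
  by_contra h
  rw [not_nontrivial_iff_subsingleton] at h
  exact hM.1 (Subsingleton.elim _ _)

theorem simple_two_primes {M : Subgroup G} (hM : IsCoatom M) (hs : IsSimpleGroup M)
    (hn : ¬ M.Normal) {p q a b : ℕ} (hp : p.Prime) (hq : q.Prime) (hpq : p ≠ q)
    (hi : M.index = p ^ (a + 1) * q ^ (b + 1)) : IsSimpleGroup G := by
  have := nontrivial_of_coatom hM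
  refine ⟨fun N hN => ?_⟩
  by_contra hc
  push Not at hc
  obtain ⟨-, h2⟩ := (normal_meet hM hs hn hN hc.1).resolve_left hc.2
  have hmin : ∀ A : Subgroup G, A.Normal → A ≠ ⊥ → A ≤ N → A = N := fun A hA h0 hle => by
    rcases normal_meet hM hs hn hA h0 with h | h
    · exact le_antisymm hle (h ▸ le_top)
    · exact Subgroup.eq_of_le_of_card_ge hle (by omega)
  have hsol : Group.IsSolvable N := H6.isSolvable_of_two_primes hp hq fun r hr hd => by
    rw [h2, hi] at hd
    rcases (Nat.Prime.dvd_mul hr).1 hd with h | h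
    · exact Or.inl ((Nat.prime_dvd_prime_iff_eq hr hp).1 (hr.dvd_of_dvd_pow h))
    · exact Or.inr ((Nat.prime_dvd_prime_iff_eq hr hq).1 (hr.dvd_of_dvd_pow h))
  have hab : ⁅N, N⁆ = ⊥ := by
    by_contra h
    have e := hmin _ inferInstance h (Subgroup.commutator_le_left N N)
    have : Nontrivial N := (Subgroup.nontrivial_iff_ne_bot N).2 hc.1
    have h3 := Group.IsSolvable.commutator_lt_top_of_nontrivial N
    apply h3.ne
    apply Subgroup.map_injective N.subtype_injective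
    rw [commutator_def, Subgroup.map_commutator, ← MonoidHom.range_eq_map, N.range_subtype, e]
  have hcomm : ∀ x ∈ N, ∀ y ∈ N, Commute x y := fun x hx y hy =>
    commutatorElement_eq_one_iff_commute.1 (Subgroup.mem_bot.1
      (hab ▸ Subgroup.commutator_mem_commutator hx hy))
  have key : ∀ r : ℕ, r.Prime → r ∣ Nat.card N → ∀ x ∈ N, x ^ r = 1 := fun r hr hd => by
    have := Fact.mk hr
    let A : Subgroup G :=
      { carrier := {x | x ∈ N ∧ x ^ r = 1}
        one_mem' := ⟨N.one_mem, one_pow _⟩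
        mul_mem' := fun {x y} hx hy => ⟨N.mul_mem hx.1 hy.1, by
          rw [(hcomm x hx.1 y hy.1).mul_pow, hx.2, hy.2, one_mul]⟩
        inv_mem' := fun {x} hx => ⟨N.inv_mem hx.1, by rw [inv_pow, hx.2, inv_one]⟩ }
    obtain ⟨y, hy⟩ := exists_prime_orderOf_dvd_card' r hd
    have e := hmin A ⟨fun x hx g => ⟨hN.conj_mem x hx.1 g, by rw [conj_pow, hx.2]; simp⟩⟩ (fun h => by
      have h1 : (y : G) ∈ A := ⟨y.2, by rw [← hy, ← Subgroup.coe_pow, pow_orderOf_eq_one]; rfl⟩
      rw [h, Subgroup.mem_bot] at h1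
      rw [show y = 1 from Subtype.ext h1, orderOf_one] at hy
      exact hr.one_lt.ne hy) fun x hx => hx.1
    intro x hx
    exact (e.ge hx).2
  apply hc.1
  rw [eq_bot_iff]
  intro x hx
  have a1 := key p hp (by rw [h2, hi]; exact (dvd_pow_self p (by omega)).mul_right _) x hx
  have a2 := key q hq (by rw [h2, hi]; exact (dvd_pow_self q (by omega)).mul_left _) x hx
  exact orderOf_eq_one_iff.1 (Nat.eq_one_of_dvd_coprimes ((Nat.coprime_primes hp hq).2 hpq)
    (orderOf_dvd_of_pow_eq_one a1) (orderOf_dvd_of_pow_eq_one a2))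

theorem simple_pair {M : Subgroup G} (hM : IsCoatom M) (hs : IsSimpleGroup M)
    (hn : ¬ M.Normal) {q : ℕ} (hq : (Nat.card M).Coprime q) {x y : G} (hx : x ^ q = 1) (hy : y ^ q = 1)
    (h1 : x * y ∈ M) (h2 : x * y ≠ 1) : IsSimpleGroup G := by
  have := nontrivial_of_coatom hM
  refine ⟨fun N hN => ?_⟩
  by_contra hc
  push Not at hc
  obtain ⟨a1, a2⟩ := (normal_meet hM hs hn hN hc.1).resolve_left hc.2
  have hi : N.index = Nat.card M := by
    have := N.card_mul_index
    rw [← M.card_mul_index, a2, mul_comm] at this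
    exact Nat.eq_of_mul_eq_mul_right (Nat.pos_of_ne_zero M.index_ne_zero_of_finite) this
  have key : ∀ z : G, z ^ q = 1 → z ∈ N := fun z hz => by
    rw [← QuotientGroup.eq_one_iff, ← orderOf_eq_one_iff]
    refine Nat.eq_one_of_dvd_coprimes hq (hi ▸ orderOf_dvd_natCard _)
      (orderOf_dvd_of_pow_eq_one ?_)
    rw [← QuotientGroup.mk_pow, hz]; rfl
  exact h2 (Subgroup.mem_bot.1 (a1 ▸ ⟨N.mul_mem (key x hx) (key y hy), h1⟩))

variable {X : Type*} [MulAction G X]

theorem orbit_dvd {H K : Subgroup G} {x : X} (h1 : K ⊓ stabilizer G x ≤ H) (h2 : H ≤ K) :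
    (orbit H x).ncard ∣ (orbit K x).ncard ∧
      Nat.card H = (orbit H x).ncard * Nat.card ↥(K ⊓ stabilizer G x) := by
  have e : H ⊓ stabilizer G x = K ⊓ stabilizer G x :=
    le_antisymm (inf_le_inf_right _ h2) (le_inf h1 inf_le_right)
  have a := H14.card_eq_orbit_mul_inf H x
  rw [e] at a
  have c := Subgroup.card_dvd_of_le h2
  rw [a, H14.card_eq_orbit_mul_inf K x] at c
  exact ⟨Nat.dvd_of_mul_dvd_mul_right Nat.card_pos c, a⟩

theorem coatom_of_count {K : Subgroup G} {x : X} (hne : (orbit K x).ncard ≠ 1)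
    (h : ∀ H : Subgroup G, K ⊓ stabilizer G x ≤ H → H ≤ K → (orbit H x).ncard ∣ (orbit K x).ncard →
      (orbit H x).ncard = 1 ∨ (orbit H x).ncard = (orbit K x).ncard) :
    IsCoatom ((K ⊓ stabilizer G x).subgroupOf K) := by
  have hK := H14.card_eq_orbit_mul_inf K x
  have hpos : 0 < Nat.card ↥(K ⊓ stabilizer G x) := Nat.card_pos
  refine ⟨fun e => hne ?_, fun H hH => ?_⟩
  · rw [le_antisymm inf_le_left (Subgroup.subgroupOf_eq_top.1 e)] at hK hpos
    exact Nat.eq_of_mul_eq_mul_right hpos (by omega)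
  · have h1 : K ⊓ stabilizer G x ≤ H.map K.subtype := fun b hb => ⟨⟨b, hb.1⟩, hH.le hb, rfl⟩
    obtain ⟨a, b⟩ := orbit_dvd h1 (Subgroup.map_subtype_le H)
    rw [Subgroup.card_subtype] at b
    rcases h _ h1 (Subgroup.map_subtype_le H) a with e | e
    · exfalso
      apply hH.ne
      refine Subgroup.eq_of_le_of_card_ge hH.le ?_
      rw [b, e, one_mul, Nat.card_congr (Subgroup.subgroupOfEquivOfLe inf_le_left).toEquiv]
    · exact Subgroup.eq_top_of_le_card _ (by rw [b, e, ← hK])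

theorem not_normal_stab {K : Subgroup G} {x : X} {m k : G} (hm : m ∈ K ⊓ stabilizer G x) (hk : k ∈ K)
    (h : m • k • x ≠ k • x) : ¬ ((K ⊓ stabilizer G x).subgroupOf K).Normal := fun hn => by
  have : (k⁻¹ * m * k⁻¹⁻¹) • x = x := (hn.conj_mem ⟨m, hm.1⟩ hm ⟨k, hk⟩⁻¹).2
  rw [inv_inv, mul_smul, mul_smul, inv_smul_eq_iff] at this
  exact h this

theorem simple_subgroupOf {K M : Subgroup G} (h : M ≤ K) (hs : IsSimpleGroup M) :
    IsSimpleGroup (M.subgroupOf K) := (Subgroup.subgroupOfEquivOfLe h).isSimpleGroup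

theorem index_stab (K : Subgroup G) (x : X) :
    ((K ⊓ stabilizer G x).subgroupOf K).index = (orbit K x).ncard := by
  have a := ((K ⊓ stabilizer G x).subgroupOf K).card_mul_index
  rw [Nat.card_congr (Subgroup.subgroupOfEquivOfLe inf_le_left).toEquiv,
    H14.card_eq_orbit_mul_inf K x, mul_comm] at a
  exact Nat.eq_of_mul_eq_mul_right Nat.card_pos a

/-- conjugate subgroups -/
noncomputable def conjEquiv {A B : Subgroup G} (g : G) (h : ∀ k, k ∈ A ↔ g * k * g⁻¹ ∈ B) : A ≃* B :=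
  ((MulAut.conj g).subgroupMap A).trans (MulEquiv.subgroupCongr (by
    ext y
    exact ⟨by rintro ⟨k, hk, rfl⟩; exact (h k).1 hk,
      fun hy => ⟨g⁻¹ * y * g, (h _).2 (by simpa [mul_assoc] using hy), by simp [mul_assoc]⟩⟩))

theorem conj_stab (g k : G) (x : X) : g * k * g⁻¹ ∈ stabilizer G (g • x) ↔ k ∈ stabilizer G x := by
  simp [mul_smul]

end Cfsg.Agent.H25
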