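import Mathlib
import Cfsg.Agent.H25.LeechC
import Cfsg.Agent.H25.Prim

/-! Orbit decompositions of sets of lattice vectors; words in matrices. -/

set_option linter.all false
set_option maxRecDepth 100000

namespace Cfsg.Agent.H25.Leech
open Finset MulAction

noncomputable def foldW (f : ℕ → ℕ → ℕ) (w : List ℕ) : ℕ → ℕ :=
  List.rec (motive := fun _ => ℕ → ℕ) (fun c => c) (fun a _ ih c => ih (f a c)) w

theorem foldW_cons (f : ℕ → ℕ → ℕ) (a : ℕ) (w : List ℕ) (c : ℕ) :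
    foldW f (a :: w) c = foldW f w (f a c) := rfl

/-- action of a word (letters applied from left to right) -/
noncomputable def actW (ts : List TR) (w : List ℕ) : ℕ → ℕ :=
  foldW (fun a c => (gd ⟨0, 0, 0⟩ ts a).act c) w

theorem actW_nil (ts : List TR) (c : ℕ) : actW ts [] c = c := rfl
theorem actW_cons (ts : List TR) (a : ℕ) (w : List ℕ) (c : ℕ) :
    actW ts (a :: w) c = actW ts w ((gd ⟨0, 0, 0⟩ ts a).act c) := by
  rw [actW, foldW_cons, actW]

noncomputable def smallW (n : ℕ) (w : List ℕ) : Bool := allL (fun a => Nat.ble (Nat.succ a) n) w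

/-- letters -/
noncomputable def l0 (Ms : List ℕ) (a : ℕ) : Co0 := if a < Ms.length then (el (gd 0 Ms a))⁻¹ else 1

theorem actW_spec {Ms : List ℕ} (hM : ∀ M ∈ Ms, ok M = true) {w : List ℕ}
    (hw : smallW Ms.length w = true) : ∀ {c}, VC c → VC (actW (Ms.map prep) w c) ∧
      (ev (l0 Ms) w)⁻¹ • pt c = pt (actW (Ms.map prep) w c) := by
  have hw' : ∀ a ∈ w, a < Ms.length := fun a ha => Nat.le_of_ble_eq_true (allL_sound hw a ha)
  clear hw
  induction w with
  | nil => intro c hc; rw [actW_nil, ev_nil, inv_one, one_smul]; exact ⟨hc, rfl⟩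
  | cons a w ih =>
    intro c hc
    have ha := hw' a (by simp)
    obtain ⟨h1, h2⟩ := el_smul (hM _ (gd_mem 0 ha)) hc
    obtain ⟨h3, h4⟩ := ih (fun b hb => hw' b (by simp [hb])) h1
    rw [actW_cons, gd_prep ha]
    exact ⟨h3, by rw [ev_cons, mul_inv_rev, mul_smul, l0, if_pos ha, inv_inv, h2, h4]⟩

theorem ev_l0_mem {Ms : List ℕ} {K : Subgroup Co0} (hM : ∀ M ∈ Ms, el M ∈ K) (w : List ℕ) :
    ev (l0 Ms) w ∈ K := ev_mem fun a _ => by
  rw [l0]; split_ifs with h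
  · exact K.inv_mem (hM _ (gd_mem 0 h))
  · exact K.one_mem

noncomputable def c8 (i : ℕ) : ℕ := Nat.add Z1 (Nat.shiftLeft 8 (Nat.mul 25 i))

theorem c8_spec (i : GolayPt) : VC (c8 (H14.gC.idx i)) ∧ pt (c8 (H14.gC.idx i)) = e8 i := by
  have : ∀ i, c8 (H14.gC.idx i) = code (e8 i).1 := by decide +kernel
  rw [this]; exact VC_code (sq_e8 i).le

/-- two words act in the same way -/
noncomputable def eqW (ts : List TR) (n : ℕ) (u v : List ℕ) : Bool :=
  band (smallW n u) (band (smallW n v)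
    (allLin (fun i => force i fun i => Nat.beq (actW ts u (c8 i)) (actW ts v (c8 i))) 0 24))

theorem eqW_sound {Ms : List ℕ} (hM : ∀ M ∈ Ms, ok M = true) {u v : List ℕ}
    (h : eqW (Ms.map prep) Ms.length u v = true) : ev (l0 Ms) u = ev (l0 Ms) v := by
  simp only [eqW, band_eq, Bool.and_eq_true, force_eq] at h
  refine inv_injective (co_ext8 fun i => ?_)
  obtain ⟨a, b⟩ := c8_spec i
  rw [← b, (actW_spec hM h.1 a).2, (actW_spec hM h.2.1 a).2,
    Nat.eq_of_beq_eq_true (allLin_sound h.2.2 _ (Nat.zero_le _) (by simpa using idx_lt i))]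

open Classical in
/-- a set is the union of the orbits of numbered roots, with the given multiplicities -/
structure OrbDec (K : Subgroup Co0) (S : Set L) (roots : List ℕ) (H : ℕ) : Prop where
  vc : ∀ j < roots.length, VC (gd 0 roots j) ∧ pt (gd 0 roots j) ∈ S
  cover : ∀ x ∈ S, ∃ j < roots.length, ∃ k ∈ K, k • pt (gd 0 roots j) = x
  count : ∀ Q : L → Prop, (∀ k ∈ K, ∀ x, Q (k • x) ↔ Q x) → {x | x ∈ S ∧ Q x}.ncard =
    ∑ j ∈ range roots.length, if Q (pt (gd 0 roots j)) then dg 20 H j else 0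

theorem orbDec_of_cov {vec : ℕ → ℕ} {T : PT} {roots Ms : List ℕ} {K : Subgroup Co0} {S : Set L} {H : ℕ}
    (hM : ∀ M ∈ Ms, ok M = true ∧ el M ∈ K) (hr : ∀ r ∈ roots, VC r ∧ pt r ∈ S)
    (hS : ∀ k ∈ K, ∀ x ∈ S, k • x ∈ S)
    (h : ∀ i < T.N, cov1 vec T roots Ms.length (Ms.map prep) i = true)
    (hi : ∀ i < T.N, ∀ j < T.N, vec i = vec j → i = j) (hn : S.ncard = T.N)
    (h0 : 0 < T.N ∧ T.N < 2 ^ 20) (hH : ∑ i ∈ range T.N, 1 * 2 ^ (20 * lab T i) = H) :
    OrbDec K S roots H ∧ (∀ i < T.N, VC (vec i)) ∧ ∀ x, x ∈ S ↔ ∃ i < T.N, pt (vec i) = x := by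
  have h1 := cov_sound hM (fun r a => (hr r a).1) h
  have hi' : ∀ i < T.N, ∀ j < T.N, pt (vec i) = pt (vec j) → i = j := fun i a j b e =>
    hi i a j b ((h1 i a).2.1.inj (h1 j b).2.1 e)
  have h2 := enum_of_ncard h0.1 hn hi' fun i a => by
    obtain ⟨b, -, k, hk, e⟩ := h1 i a
    exact e ▸ hS k hk _ (hr _ (gd_mem 0 b)).2
  refine ⟨⟨fun j hj => hr _ (gd_mem 0 hj), fun x hx => ?_, fun Q hQ => ?_⟩, fun i a => (h1 i a).2.1, h2⟩
  · obtain ⟨i, a, rfl⟩ := (h2 x).1 hx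
    exact ⟨_, (h1 i a).1, (h1 i a).2.2⟩
  · classical
    rw [ncard_of_enum hi' h2 Q (fun i => Q (pt (gd 0 roots (lab T i)))) fun i a => by
      obtain ⟨-, -, k, hk, e⟩ := h1 i a
      rw [← e, hQ k hk]]
    convert hist_count hH h0.2 (fun i a => (h1 i a).1) (fun j => Q (pt (gd 0 roots j)))

/-- fusion of roots: root `j` is the image of root `rep j` under a word -/
noncomputable def fusOK (roots Ms rep : List ℕ) (ws : List (List ℕ)) : Bool :=
  force Ms.length fun n => force roots.length fun r => prepL Ms fun ts =>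
    allLin (fun j => force j fun j => force (gd 0 rep j) fun i => band (Nat.ble (Nat.succ i) r)
      (band (smallW n (gd [] ws j))
        (Nat.beq (actW ts (gd [] ws j) (gd 0 roots i)) (gd 0 roots j)))) 0 r

def Fus (K : Subgroup Co0) (roots rep : List ℕ) : Prop :=
  ∀ j < roots.length, gd 0 rep j < roots.length ∧
    ∃ k ∈ K, k • pt (gd 0 roots (gd 0 rep j)) = pt (gd 0 roots j)

theorem fus_sound {roots Ms rep : List ℕ} {ws : List (List ℕ)} {K : Subgroup Co0}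
    (hM : ∀ M ∈ Ms, ok M = true ∧ el M ∈ K) (hr : ∀ j < roots.length, VC (gd 0 roots j))
    (h : fusOK roots Ms rep ws = true) : Fus K roots rep := fun j hj => by
  rw [fusOK, force_eq, force_eq, prepL_eq] at h
  have := allLin_sound h j (Nat.zero_le _) (by omega)
  simp only [force_eq, band_eq, Bool.and_eq_true, Nat.ble_eq, Nat.beq_eq] at this
  obtain ⟨a, b, c⟩ := this
  exact ⟨a, _, K.inv_mem (ev_l0_mem (fun M h => (hM M h).2) _), by
    rw [(actW_spec (fun M h => (hM M h).1) b (hr _ a)).2, c]⟩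

theorem Fus.mono {K K' : Subgroup Co0} {roots rep : List ℕ} (h : Fus K roots rep) (hK : K ≤ K') :
    Fus K' roots rep := fun j hj => by
  obtain ⟨a, k, b, c⟩ := h j hj
  exact ⟨a, k, hK b, c⟩

theorem fus_id (K : Subgroup Co0) (roots : List ℕ) : Fus K roots (List.range roots.length) :=
  fun j hj => by
    have : gd 0 (List.range roots.length) j = j := by
      rw [gd_eq, List.getD_eq_getElem _ _ (by simpa using hj), List.getElem_range]
    rw [this]; exact ⟨hj, 1, K.one_mem, one_smul _ _⟩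

variable {K K' : Subgroup Co0} {S : Set L} {roots rep : List ℕ} {H : ℕ}

/-- transitivity on an invariant class -/
theorem OrbDec.trans (h : OrbDec K S roots H) (hK : K ≤ K') (hf : Fus K' roots rep) (Q : L → Prop)
    (hQ : ∀ k ∈ K, ∀ x, Q (k • x) → Q x) (r : ℕ)
    (hr : ∀ j < roots.length, Q (pt (gd 0 roots j)) → gd 0 rep j = r) :
    ∀ x ∈ S, Q x → ∀ y ∈ S, Q y → ∃ k ∈ K', k • x = y := by
  have key : ∀ x ∈ S, Q x → ∃ k ∈ K', k • pt (gd 0 roots r) = x := fun x hx hq => by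
    obtain ⟨j, hj, k, hk, rfl⟩ := h.cover x hx
    obtain ⟨-, k', a, b⟩ := hf j hj
    rw [hr j hj (hQ k hk _ hq)] at b
    exact ⟨k * k', K'.mul_mem (hK hk) a, by rw [mul_smul, b]⟩
  intro x hx a y hy b
  obtain ⟨k, hk, rfl⟩ := key x hx a
  obtain ⟨k', hk', rfl⟩ := key y hy b
  exact ⟨k' * k⁻¹, K'.mul_mem hk' (K'.inv_mem hk), by rw [mul_smul, inv_smul_smul]⟩

theorem exists_mask (p : ℕ → Prop) (n : ℕ) : ∃ m < 2 ^ n, ∀ i < n, (m.testBit i = true ↔ p i) := by
  classical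
  induction n with
  | zero => exact ⟨0, by simp, by simp⟩
  | succ n ih =>
    obtain ⟨m, a, b⟩ := ih
    refine ⟨2 ^ n * (if p n then 1 else 0) + m, by split_ifs <;> omega, fun i hi => ?_⟩
    rw [Nat.testBit_two_pow_mul_add _ a]
    by_cases h1 : i < n
    · rw [if_pos h1]; exact b i h1
    · rw [if_neg h1, show i = n by omega]
      by_cases h2 : p n <;> simp [h2]

/-- size of an orbit as a sum over fusion classes -/
theorem OrbDec.orb (h : OrbDec K S roots H) (hK : K ≤ K') (hf : Fus K' roots rep) {x : L}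
    (hS : orbit K' x ⊆ S) (q : ℕ → Prop) (hq : ∀ j < roots.length, pt (gd 0 roots j) ∈ orbit K' x → q j)
    (cs c : List ℕ) (hc : ∀ j < roots.length,
      (gd 0 c j < cs.length ∧ gd 0 rep j = gd 0 cs (gd 0 c j)) ∨ (cs.length ≤ gd 0 c j ∧ ¬ q j)) :
    ∃ m < 2 ^ cs.length, (∀ i < cs.length, (m.testBit i = true ↔ pt (gd 0 roots (gd 0 cs i)) ∈ orbit K' x)) ∧
      (orbit K' x).ncard = ∑ j ∈ range roots.length, if m.testBit (gd 0 c j) then dg 20 H j else 0 := by
  obtain ⟨m, a, b⟩ := exists_mask (fun i => pt (gd 0 roots (gd 0 cs i)) ∈ orbit K' x) cs.length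
  have inv : ∀ k ∈ K', ∀ y, k • y ∈ orbit K' x ↔ y ∈ orbit K' x := fun k hk y =>
    ⟨fun ⟨g, e⟩ => ⟨(⟨k, hk⟩ : K')⁻¹ * g, by
      show _ • x = y
      rw [mul_smul, show g • x = k • y from e]; exact inv_smul_smul k y⟩,
    fun ⟨g, e⟩ => ⟨⟨k, hk⟩ * g, by
      show _ • x = _
      rw [mul_smul, show g • x = y from e]; rfl⟩⟩
  refine ⟨m, a, b, ?_⟩
  rw [show orbit K' x = {y | y ∈ S ∧ y ∈ orbit K' x} from Set.ext fun y => ⟨fun e => ⟨hS e, e⟩, fun e => e.2⟩,
    h.count _ fun k hk => inv k (hK hk)]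
  refine sum_congr rfl fun j hj => ?_
  have hj := mem_range.1 hj
  rcases hc j hj with ⟨e1, e2⟩ | ⟨e1, e2⟩
  · obtain ⟨-, k, hk, e⟩ := hf j hj
    rw [← e, e2]
    simp only [inv k hk, ← b _ e1]
  · rw [if_neg fun e => e2 (hq j hj e), if_neg]
    rw [Nat.testBit_lt_two_pow (a.trans_le (Nat.pow_le_pow_right (by norm_num) e1))]; simp

theorem ncard_tr (g : Co0) {Q Q' : L → Prop} (h : ∀ x, Q' (g • x) ↔ Q x) :
    {x | Q' x}.ncard = {x | Q x}.ncard :=
  (Set.ncard_congr (fun x _ => g • x) (fun x hx => (h x).2 hx) (fun _ _ _ _ e => MulAction.injective g e)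
    fun y hy => ⟨g⁻¹ • y, (h _).1 (by rwa [smul_inv_smul]), smul_inv_smul g y⟩).symm

theorem orbit_eq {K : Subgroup Co0} {x : L} {S : Set L} (h1 : ∀ k ∈ K, k • x ∈ S)
    (h2 : ∀ y ∈ S, ∃ k ∈ K, k • x = y) : orbit K x = S := Set.ext fun y =>
  ⟨by rintro ⟨k, rfl⟩; exact h1 k k.2, fun h => by obtain ⟨k, a, b⟩ := h2 y h; exact ⟨⟨k, a⟩, b⟩⟩

end Cfsg.Agent.H25.Leech
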