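import Mathlib
import Cfsg.Agent.H25.CoB
import Cfsg.Agent.H25.LeechW

/-! Data for the Conway groups: generators, fusion of `M22`-orbits on minimal vectors. -/

set_option linter.all false
set_option maxRecDepth 100000

namespace Cfsg.Agent.H25.Leech

def C0s : List ℕ := [nat_lit 0x821084210842108421084210842108422084210842108421084210842108421104210842108421084210842108421088210842108421084210842108421084410842108421084210842108421084220842108421084210842108421084211042108421084210842108421084210882108421084210842108421084210844108421084210842108421084210842208421084210842108421084210842110421084210842108421084210842108821084210842108421084210842108441084210842108421084210842108422084210842108421084210842108421104210842108421084210842108421088210842108421084210842108421084410842108421084210842108421084220842108421084210842108421084211042108421084210842108421084210882108421084210842108421084210844108421084210842108421084210842208421084210842108421084210842110441084210842108421084210842108,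
  nat_lit 0x821084210842108421084210842108421084210842108821084210842108441084210842108421084210842108421084210842108441084210842108422084210842108421084210842108421084210842108422084210842108421104210842108421084210842108421084210842108421104210842108421088210842108421084210842108421084210842108421088210842108421084410842108421084210842108421084210842108421084410842108421084220842108421084210842108421084210842108421084220842108421084211042108421084210842108421084210842108421084211042108421084210882108421084210842108421084210842108421084210882108421084210844108421084210842108421084210842108421084210844108421084210842208421084210842108421084210842108421084210842208421084210842110421084210842108421084210842108421084210842110,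
  nat_lit 0x421084210842108421084210842110421084210842108421084210842208421084210842110421084210842108421084210842108421104210842108421084210842108421084410842108421084210844108421084210842108421084210842108421084211042108421084210842108441084210842108421084210842108421084210882108421084410842108421084210842108421084210842108421088210842108422084210842108421084210842108421084210842108421084210844108421084211042108421084210842108421084210842108421084220842108421104210842108421084210842108421084210842208421084210842108421088210842108421084210842108421084210842108422084210842108421084220842108421084210842108421084210882108421084210842108421084210842108821084210842108441084210842108421084210842108821084210842108421084210842108,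
  nat_lit 0x821084210842108421084210842108421088210842108421084210842108421084210842108421084220842108422084210842108421084210842108421084210842108821084210842108421084210842108421084210842208421084210844108421084210842108421084210842108421104210842108421084210882108421084210842108441084210842108421084210842108421084211042108421084210842108421084210842108422084210842108421084220842108421084210842108421104210842108421084210842108421084210842208421084210842108421084210842110421084210842108421084210842108441084210842108421084210842108421084210844108421084210842108421088210842108421084410842108421084210842108421084210842108421084210882108421084210842108421084211042108421084210842108421084410842108421084210842108421084210842110,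
  nat_lit 0x21084210842108421084210842108401084210842108421084210842108422084210842108421084210842108421104210842108421084210842108421088210842108421084210842108421084010842108421084210842108421084200842108421084210842108421084210042108421084210842108421084210882108421084210842108421084210840108421084210842108421084210842208421084210842108421084210842100421084210842108421084210842108821084210842108421084210842108441084210842108421084210842108422084210842108421084210842108421104210842108421084210842108421088210842108421084210842108421084410842108421084210842108421084220842108421084210842108421084211042108421084210842108421084210882108421084210842108421084210844108421084210842108421084210842208421084210842108421084210842100,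
  nat_lit 0x6210842088411084210842088421084310842108421082208841108421084218441108420884210842108421084208c4110842088421084210842108421086210422108421044210842108420844310842088421084210842108221084218841108421084208842108421082210c2210842104421084210842108221046210842104421084210822108420884310842108420884210842084411084218842108421084210842108421084210c4110822104421084110842108421086208841108421084210842108421044310822104421084110842108421082218841108421084210822104221084210c4210842108421084210842104411086210442108411084210842108220884310842108221084208841108421084218842108421084210842104411082210c4210842108421084210842108421082318c42108421084210842108421086118c42108421084210842108421086308c421084210842108421084210863184]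
def C0rep : List ℕ := [nat_lit 0, nat_lit 0, nat_lit 0, nat_lit 0, nat_lit 0, nat_lit 0, nat_lit 0, nat_lit 0, nat_lit 0, nat_lit 0, nat_lit 0, nat_lit 0, nat_lit 0, nat_lit 0, nat_lit 0, nat_lit 0, nat_lit 0, nat_lit 0, nat_lit 0, nat_lit 0, nat_lit 0, nat_lit 0, nat_lit 0, nat_lit 0, nat_lit 0, nat_lit 0, nat_lit 0, nat_lit 0, nat_lit 0, nat_lit 0, nat_lit 0, nat_lit 0, nat_lit 0, nat_lit 0, nat_lit 0, nat_lit 0, nat_lit 0, nat_lit 0, nat_lit 0, nat_lit 0, nat_lit 0, nat_lit 0, nat_lit 0, nat_lit 0, nat_lit 0, nat_lit 0, nat_lit 0, nat_lit 0, nat_lit 0, nat_lit 0, nat_lit 0, nat_lit 0, nat_lit 0, nat_lit 0, nat_lit 0, nat_lit 0, nat_lit 0, nat_lit 0, nat_lit 0, nat_lit 0, nat_lit 0, nat_lit 0, nat_lit 0, nat_lit 0, nat_lit 0, nat_lit 0, nat_lit 0, nat_lit 0, nat_lit 0, nat_lit 0, nat_lit 0, nat_lit 0, nat_lit 0, nat_lit 0, nat_lit 0, nat_lit 0, nat_lit 0, nat_lit 0, nat_lit 0, nat_lit 0, nat_lit 0, nat_lit 0, nat_lit 0, nat_lit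 0, nat_lit 0, nat_lit 0, nat_lit 0, nat_lit 0, nat_lit 0, nat_lit 0, nat_lit 0, nat_lit 0, nat_lit 0, nat_lit 0, nat_lit 0, nat_lit 0, nat_lit 0, nat_lit 0, nat_lit 0, nat_lit 0, nat_lit 0, nat_lit 0, nat_lit 0, nat_lit 0, nat_lit 0]
def C0w : List (List ℕ) := [[],
  [nat_lit 4],
  [nat_lit 4, nat_lit 5],
  [nat_lit 2, nat_lit 4, nat_lit 2],
  [nat_lit 0],
  [nat_lit 4, nat_lit 0],
  [nat_lit 2, nat_lit 4, nat_lit 2, nat_lit 0],
  [nat_lit 2, nat_lit 0],
  [nat_lit 4, nat_lit 2, nat_lit 0, nat_lit 2],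
  [nat_lit 4, nat_lit 2, nat_lit 0],
  [nat_lit 2, nat_lit 0, nat_lit 4],
  [nat_lit 2, nat_lit 0, nat_lit 0],
  [nat_lit 2, nat_lit 0, nat_lit 4, nat_lit 0, nat_lit 4],
  [nat_lit 2, nat_lit 0, nat_lit 0, nat_lit 4],
  [nat_lit 2, nat_lit 0, nat_lit 4, nat_lit 0],
  [nat_lit 5, nat_lit 1, nat_lit 5, nat_lit 3, nat_lit 5, nat_lit 1, nat_lit 1],
  [nat_lit 5, nat_lit 1, nat_lit 2, nat_lit 5, nat_lit 3, nat_lit 0, nat_lit 4],
  [nat_lit 0, nat_lit 2, nat_lit 3, nat_lit 1, nat_lit 5, nat_lit 3, nat_lit 4, nat_lit 0],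
  [nat_lit 5, nat_lit 3, nat_lit 5, nat_lit 0, nat_lit 2, nat_lit 0, nat_lit 4],
  [nat_lit 5, nat_lit 1, nat_lit 2, nat_lit 4, nat_lit 5, nat_lit 3, nat_lit 0],
  [nat_lit 0, nat_lit 2, nat_lit 4, nat_lit 0, nat_lit 5, nat_lit 2, nat_lit 0],
  [nat_lit 1, nat_lit 2, nat_lit 3, nat_lit 5, nat_lit 3, nat_lit 0],
  [nat_lit 1, nat_lit 2, nat_lit 3, nat_lit 5, nat_lit 3, nat_lit 0, nat_lit 4],
  [nat_lit 2, nat_lit 4, nat_lit 5, nat_lit 3, nat_lit 3, nat_lit 1, nat_lit 0],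
  [nat_lit 4, nat_lit 2, nat_lit 5, nat_lit 1, nat_lit 0, nat_lit 3, nat_lit 3],
  [nat_lit 1, nat_lit 3, nat_lit 0, nat_lit 5, nat_lit 2, nat_lit 0, nat_lit 4],
  [nat_lit 1, nat_lit 1, nat_lit 4, nat_lit 5, nat_lit 4, nat_lit 2, nat_lit 0],
  [nat_lit 2, nat_lit 5, nat_lit 0, nat_lit 2, nat_lit 3, nat_lit 0, nat_lit 2],
  [nat_lit 0, nat_lit 2, nat_lit 4, nat_lit 0, nat_lit 5, nat_lit 4, nat_lit 2, nat_lit 0],
  [nat_lit 1, nat_lit 0, nat_lit 2, nat_lit 5, nat_lit 1, nat_lit 5, nat_lit 4, nat_lit 1],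
  [nat_lit 2, nat_lit 5, nat_lit 2, nat_lit 0, nat_lit 2, nat_lit 5, nat_lit 3],
  [nat_lit 1, nat_lit 1, nat_lit 0, nat_lit 1, nat_lit 2, nat_lit 4, nat_lit 5, nat_lit 3],
  [nat_lit 4, nat_lit 0, nat_lit 0, nat_lit 5, nat_lit 2, nat_lit 5, nat_lit 4, nat_lit 3],
  [nat_lit 0, nat_lit 1, nat_lit 2, nat_lit 3, nat_lit 5, nat_lit 3],
  [nat_lit 2, nat_lit 5, nat_lit 1, nat_lit 4, nat_lit 5, nat_lit 4, nat_lit 0, nat_lit 0],
  [nat_lit 0, nat_lit 2, nat_lit 1, nat_lit 0, nat_lit 5, nat_lit 1, nat_lit 4, nat_lit 2, nat_lit 0],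
  [nat_lit 1, nat_lit 2, nat_lit 0, nat_lit 4, nat_lit 5, nat_lit 0, nat_lit 4, nat_lit 3, nat_lit 3],
  [nat_lit 0, nat_lit 1, nat_lit 2, nat_lit 4, nat_lit 5, nat_lit 3, nat_lit 0],
  [nat_lit 2, nat_lit 5, nat_lit 4, nat_lit 3, nat_lit 0, nat_lit 4],
  [nat_lit 0, nat_lit 1, nat_lit 3, nat_lit 5, nat_lit 1, nat_lit 2, nat_lit 4, nat_lit 0],
  [nat_lit 2, nat_lit 5, nat_lit 2, nat_lit 0, nat_lit 3, nat_lit 5, nat_lit 2, nat_lit 0],
  [nat_lit 1, nat_lit 2, nat_lit 5, nat_lit 0, nat_lit 0, nat_lit 2, nat_lit 0, nat_lit 2],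
  [nat_lit 5, nat_lit 3, nat_lit 5, nat_lit 1, nat_lit 2, nat_lit 0, nat_lit 4],
  [nat_lit 1, nat_lit 0, nat_lit 2, nat_lit 5, nat_lit 1, nat_lit 5, nat_lit 4, nat_lit 1, nat_lit 0],
  [nat_lit 2, nat_lit 0, nat_lit 5, nat_lit 3, nat_lit 4, nat_lit 5, nat_lit 2, nat_lit 1, nat_lit 3],
  [nat_lit 2, nat_lit 5, nat_lit 2, nat_lit 0, nat_lit 2, nat_lit 3, nat_lit 0, nat_lit 4],
  [nat_lit 0, nat_lit 1, nat_lit 1, nat_lit 1, nat_lit 2, nat_lit 5, nat_lit 1, nat_lit 5],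
  [nat_lit 1, nat_lit 1, nat_lit 0, nat_lit 1, nat_lit 2, nat_lit 4, nat_lit 5, nat_lit 3, nat_lit 0],
  [nat_lit 3, nat_lit 0, nat_lit 0, nat_lit 2, nat_lit 5, nat_lit 3, nat_lit 0],
  [nat_lit 0, nat_lit 1, nat_lit 2, nat_lit 3, nat_lit 5, nat_lit 3, nat_lit 0],
  [nat_lit 1, nat_lit 1, nat_lit 0, nat_lit 5, nat_lit 1, nat_lit 0, nat_lit 4, nat_lit 3, nat_lit 5],
  [nat_lit 1, nat_lit 2, nat_lit 3, nat_lit 5, nat_lit 3, nat_lit 0, nat_lit 5, nat_lit 4, nat_lit 2],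
  [nat_lit 1, nat_lit 2, nat_lit 3, nat_lit 5, nat_lit 3, nat_lit 0, nat_lit 5, nat_lit 4, nat_lit 2, nat_lit 0],
  [nat_lit 1, nat_lit 2, nat_lit 3, nat_lit 5, nat_lit 3, nat_lit 0, nat_lit 5, nat_lit 4],
  [nat_lit 1, nat_lit 3, nat_lit 5, nat_lit 0, nat_lit 3, nat_lit 0, nat_lit 3, nat_lit 5],
  [nat_lit 2, nat_lit 4, nat_lit 5, nat_lit 1, nat_lit 2, nat_lit 5, nat_lit 1, nat_lit 5, nat_lit 0],
  [nat_lit 3, nat_lit 1, nat_lit 4, nat_lit 5, nat_lit 2, nat_lit 0, nat_lit 0, nat_lit 2, nat_lit 5],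
  [nat_lit 1, nat_lit 2, nat_lit 3, nat_lit 5, nat_lit 3, nat_lit 0, nat_lit 5],
  [nat_lit 4, nat_lit 3, nat_lit 5, nat_lit 1, nat_lit 5, nat_lit 1, nat_lit 3, nat_lit 3],
  [nat_lit 3, nat_lit 5, nat_lit 3, nat_lit 5, nat_lit 1, nat_lit 1, nat_lit 5, nat_lit 3, nat_lit 3],
  [nat_lit 3, nat_lit 5, nat_lit 2, nat_lit 1, nat_lit 5, nat_lit 2, nat_lit 5, nat_lit 2],
  [nat_lit 1, nat_lit 2, nat_lit 3, nat_lit 5, nat_lit 3, nat_lit 0, nat_lit 5, nat_lit 0, nat_lit 4],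
  [nat_lit 1, nat_lit 0, nat_lit 3, nat_lit 5, nat_lit 0, nat_lit 5, nat_lit 3, nat_lit 4],
  [nat_lit 1, nat_lit 1, nat_lit 0, nat_lit 5, nat_lit 3, nat_lit 0, nat_lit 5, nat_lit 1],
  [nat_lit 3, nat_lit 0, nat_lit 3, nat_lit 5, nat_lit 0, nat_lit 5, nat_lit 3, nat_lit 4],
  [nat_lit 1, nat_lit 2, nat_lit 0, nat_lit 5, nat_lit 2, nat_lit 0, nat_lit 5, nat_lit 1],
  [nat_lit 1, nat_lit 0, nat_lit 3, nat_lit 5, nat_lit 0, nat_lit 5, nat_lit 3],
  [nat_lit 1, nat_lit 1, nat_lit 0, nat_lit 5, nat_lit 3, nat_lit 0, nat_lit 5, nat_lit 1, nat_lit 4],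
  [nat_lit 3, nat_lit 0, nat_lit 3, nat_lit 5, nat_lit 0, nat_lit 5, nat_lit 3],
  [nat_lit 1, nat_lit 2, nat_lit 0, nat_lit 5, nat_lit 2, nat_lit 0, nat_lit 5, nat_lit 1, nat_lit 4],
  [nat_lit 3, nat_lit 5, nat_lit 0, nat_lit 5, nat_lit 2, nat_lit 0, nat_lit 1, nat_lit 3],
  [nat_lit 2, nat_lit 0, nat_lit 5, nat_lit 3, nat_lit 4, nat_lit 0, nat_lit 5, nat_lit 1, nat_lit 4],
  [nat_lit 1, nat_lit 2, nat_lit 5, nat_lit 4, nat_lit 2, nat_lit 5, nat_lit 3, nat_lit 0, nat_lit 1],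
  [nat_lit 2, nat_lit 5, nat_lit 3, nat_lit 3, nat_lit 3, nat_lit 4, nat_lit 5, nat_lit 3, nat_lit 5],
  [nat_lit 1, nat_lit 2, nat_lit 5, nat_lit 3, nat_lit 5, nat_lit 4, nat_lit 5, nat_lit 2],
  [nat_lit 0, nat_lit 3, nat_lit 3, nat_lit 5, nat_lit 3, nat_lit 0, nat_lit 3, nat_lit 5],
  [nat_lit 2, nat_lit 1, nat_lit 5, nat_lit 0, nat_lit 3, nat_lit 5, nat_lit 0, nat_lit 3, nat_lit 4],
  [nat_lit 1, nat_lit 1, nat_lit 4, nat_lit 5, nat_lit 2, nat_lit 0, nat_lit 5],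
  [nat_lit 0, nat_lit 3, nat_lit 3, nat_lit 3, nat_lit 5, nat_lit 0, nat_lit 0, nat_lit 5],
  [nat_lit 1, nat_lit 2, nat_lit 5, nat_lit 3, nat_lit 5, nat_lit 4, nat_lit 2, nat_lit 0, nat_lit 4],
  [nat_lit 3, nat_lit 5, nat_lit 0, nat_lit 0, nat_lit 2, nat_lit 4, nat_lit 2, nat_lit 5],
  [nat_lit 2, nat_lit 1, nat_lit 3, nat_lit 5, nat_lit 0, nat_lit 3, nat_lit 5],
  [nat_lit 0, nat_lit 1, nat_lit 1, nat_lit 5, nat_lit 1, nat_lit 1, nat_lit 5, nat_lit 2, nat_lit 4],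
  [nat_lit 3, nat_lit 4, nat_lit 5, nat_lit 1, nat_lit 5, nat_lit 4, nat_lit 3, nat_lit 3],
  [nat_lit 2, nat_lit 5, nat_lit 1, nat_lit 1, nat_lit 4, nat_lit 0, nat_lit 2, nat_lit 5, nat_lit 0],
  [nat_lit 1, nat_lit 2, nat_lit 5, nat_lit 1, nat_lit 5, nat_lit 4, nat_lit 0, nat_lit 5],
  [nat_lit 2, nat_lit 5, nat_lit 0, nat_lit 1, nat_lit 1, nat_lit 0, nat_lit 3, nat_lit 5, nat_lit 4],
  [nat_lit 2, nat_lit 0, nat_lit 0, nat_lit 5, nat_lit 0, nat_lit 3, nat_lit 5, nat_lit 4],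
  [nat_lit 2, nat_lit 5, nat_lit 3, nat_lit 0, nat_lit 0, nat_lit 2, nat_lit 4, nat_lit 5, nat_lit 4],
  [nat_lit 3, nat_lit 5, nat_lit 4, nat_lit 0, nat_lit 4, nat_lit 0, nat_lit 0, nat_lit 5, nat_lit 2],
  [nat_lit 0, nat_lit 1, nat_lit 5, nat_lit 4, nat_lit 3, nat_lit 5, nat_lit 4],
  [nat_lit 0, nat_lit 2, nat_lit 1, nat_lit 4, nat_lit 2, nat_lit 5, nat_lit 3, nat_lit 5, nat_lit 4],
  [nat_lit 0, nat_lit 1, nat_lit 2, nat_lit 4, nat_lit 5, nat_lit 2, nat_lit 5, nat_lit 4, nat_lit 0],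
  [nat_lit 1, nat_lit 2, nat_lit 5, nat_lit 3, nat_lit 4, nat_lit 5, nat_lit 3, nat_lit 4],
  [nat_lit 3, nat_lit 1, nat_lit 5, nat_lit 4, nat_lit 0, nat_lit 5, nat_lit 4, nat_lit 5, nat_lit 3],
  [nat_lit 2, nat_lit 5, nat_lit 0, nat_lit 1, nat_lit 1, nat_lit 1, nat_lit 5, nat_lit 0, nat_lit 5],
  [nat_lit 1, nat_lit 3, nat_lit 5, nat_lit 2, nat_lit 0, nat_lit 3, nat_lit 4, nat_lit 5],
  [nat_lit 2, nat_lit 4, nat_lit 5, nat_lit 0, nat_lit 0, nat_lit 0, nat_lit 5, nat_lit 1, nat_lit 1],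
  [nat_lit 1, nat_lit 1, nat_lit 5, nat_lit 3, nat_lit 5, nat_lit 4, nat_lit 0, nat_lit 2, nat_lit 0],
  [nat_lit 0, nat_lit 2, nat_lit 0, nat_lit 5, nat_lit 3, nat_lit 1, nat_lit 5, nat_lit 1],
  [nat_lit 1, nat_lit 2, nat_lit 4, nat_lit 5, nat_lit 0, nat_lit 5, nat_lit 4, nat_lit 0, nat_lit 1],
  [nat_lit 2, nat_lit 4, nat_lit 5, nat_lit 0, nat_lit 3, nat_lit 1, nat_lit 3, nat_lit 5, nat_lit 1],
  [nat_lit 0, nat_lit 1, nat_lit 0, nat_lit 5, nat_lit 0, nat_lit 5, nat_lit 2, nat_lit 5, nat_lit 2],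
  [nat_lit 2, nat_lit 5, nat_lit 1, nat_lit 2, nat_lit 5, nat_lit 1, nat_lit 5, nat_lit 0, nat_lit 4],
  [nat_lit 0, nat_lit 1, nat_lit 0, nat_lit 5, nat_lit 0, nat_lit 5, nat_lit 2, nat_lit 5]]
theorem C0fus : fusOK roots C0s C0rep C0w = true := by decide +kernel

def C2s : List ℕ := [nat_lit 0x62108321064210a32108419064194c421085218a4210a521884190642948411083210a4218a321084190a428c8528c6428c83194842946320c83210631946418c8318c84294a520c83210a318ca42948318c8428c6320c85210a42088521064210a3210862906428c8421085210a421063110841886418c84210c521064210a521084190a218c83294a428c83194841946521485210a4210831106421065210441906428c8431083210a4208a321084190a428c8421085210661106321084190a42948420883210a42106521086190a41948318c6428c8528c841946321483210a5194642948318c8418c65214832106421085210623106321084190a42948518ca418c8318c84194a32148521065194a428c8528c842946520c85210642108321064210a511084288a429484210c3210a421063210842906229484210833106421065210c41906428c8421085208a4210a520884190642948621085210a42106521084290a428cc,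
  nat_lit 0x59d294a52759d294a4e94a52939d2d39ca92a52739d29294e54a52939d29494eb59ce54a4e739d2759ce74a4e739d29294a739ca94a4e94a52939ca93ad294a5273aca9494e94a4a939d2939d254a4a739d252a4e94a4a939d294a4eb3ace9494e739d2b39ce72a4e74a56739d69494e739ca759ce74a4e7494e73ace94a4e759ca739ceb4a4e739d292a52739d294a569494a959d294a4e739d654a4e73ad2739ceb2a4e74a4e73ace94a4eb3ad275ace74a4e72a4e739ce96a4e739d2739ce74a4eb3ad294a4a739d294a4e5495293ad294a4e739ce5494e759d273ace74a5673aca94a52739d254a4e94a52959ca94a4e739ce94a4e739d2b59d6b4a56739d254a52739d29495694a5293aca94a5673ace54a4e739d2739d67494e739d294a52739ca92a4e92a5295ad2939ca54a52739ca94a4e94952539d294a4e759ce9494eb39d2739ceb494e739d294a52b39ca54a5654a52939d296a4e739ce92a4e739d2739ce74a4eb]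
def C2rep : List ℕ := [nat_lit 0, nat_lit 1, nat_lit 0, nat_lit 1, nat_lit 4, nat_lit 4, nat_lit 4, nat_lit 7, nat_lit 4, nat_lit 4, nat_lit 10, nat_lit 0, nat_lit 0, nat_lit 1, nat_lit 1, nat_lit 0, nat_lit 4, nat_lit 0, nat_lit 4, nat_lit 0, nat_lit 4, nat_lit 0, nat_lit 1, nat_lit 4, nat_lit 1, nat_lit 4, nat_lit 1, nat_lit 4, nat_lit 1, nat_lit 4, nat_lit 4, nat_lit 4, nat_lit 4, nat_lit 4, nat_lit 4, nat_lit 35, nat_lit 35, nat_lit 35, nat_lit 35, nat_lit 39, nat_lit 39, nat_lit 39, nat_lit 39, nat_lit 35, nat_lit 39, nat_lit 35, nat_lit 39, nat_lit 35, nat_lit 39, nat_lit 35, nat_lit 39, nat_lit 39, nat_lit 35, nat_lit 39, nat_lit 35, nat_lit 39, nat_lit 39, nat_lit 35, nat_lit 39, nat_lit 35, nat_lit 35, nat_lit 39, nat_lit 1, nat_lit 4, nat_lit 4, nat_lit 0, nat_lit 0, nat_lit 4, nat_lit 4, nat_lit 1, nat_lit 0, nat_lit 4, nat_lit 4, nat_lit 1, nat_lit 1, nat_lit 4, nat_lit 4, nat_lit 0, nat_lit 35, nat_lit 39, nat_lit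 39, nat_lit 35, nat_lit 39, nat_lit 35, nat_lit 35, nat_lit 39, nat_lit 35, nat_lit 39, nat_lit 39, nat_lit 35, nat_lit 1, nat_lit 4, nat_lit 4, nat_lit 0, nat_lit 0, nat_lit 4, nat_lit 4, nat_lit 1, nat_lit 39, nat_lit 35, nat_lit 35, nat_lit 39, nat_lit 35, nat_lit 39, nat_lit 35]
def C2w : List (List ℕ) := [[],
  [],
  [nat_lit 0, nat_lit 0, nat_lit 0, nat_lit 1, nat_lit 0, nat_lit 1, nat_lit 0, nat_lit 0, nat_lit 1, nat_lit 0, nat_lit 0, nat_lit 1, nat_lit 0, nat_lit 1],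
  [nat_lit 0, nat_lit 1, nat_lit 1, nat_lit 0, nat_lit 0, nat_lit 0, nat_lit 0, nat_lit 0, nat_lit 1, nat_lit 0, nat_lit 0, nat_lit 1],
  [],
  [nat_lit 1, nat_lit 0, nat_lit 0, nat_lit 1, nat_lit 0, nat_lit 1, nat_lit 1, nat_lit 1, nat_lit 1, nat_lit 0, nat_lit 0, nat_lit 1, nat_lit 1, nat_lit 1],
  [nat_lit 1, nat_lit 1, nat_lit 1, nat_lit 1, nat_lit 0, nat_lit 1, nat_lit 0, nat_lit 1, nat_lit 0, nat_lit 0, nat_lit 0, nat_lit 1, nat_lit 0, nat_lit 1, nat_lit 0],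
  [],
  [nat_lit 1, nat_lit 0, nat_lit 1, nat_lit 0, nat_lit 1, nat_lit 1, nat_lit 0, nat_lit 0, nat_lit 0, nat_lit 1],
  [nat_lit 0, nat_lit 1, nat_lit 0, nat_lit 0, nat_lit 0, nat_lit 0, nat_lit 0, nat_lit 1, nat_lit 1, nat_lit 0, nat_lit 1, nat_lit 0, nat_lit 0, nat_lit 0, nat_lit 1],
  [],
  [nat_lit 0, nat_lit 0, nat_lit 0, nat_lit 1, nat_lit 0, nat_lit 0, nat_lit 1, nat_lit 1, nat_lit 1],
  [nat_lit 0, nat_lit 1, nat_lit 1, nat_lit 1, nat_lit 1, nat_lit 0, nat_lit 1],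
  [nat_lit 0, nat_lit 0, nat_lit 1, nat_lit 1, nat_lit 0, nat_lit 1, nat_lit 0, nat_lit 1, nat_lit 0, nat_lit 1, nat_lit 1, nat_lit 0, nat_lit 1, nat_lit 1],
  [nat_lit 1, nat_lit 1, nat_lit 0, nat_lit 1, nat_lit 1, nat_lit 1, nat_lit 0, nat_lit 0, nat_lit 1, nat_lit 0],
  [nat_lit 0, nat_lit 0, nat_lit 1, nat_lit 1, nat_lit 0, nat_lit 0, nat_lit 0, nat_lit 1, nat_lit 0],
  [nat_lit 0, nat_lit 0, nat_lit 1, nat_lit 0, nat_lit 0, nat_lit 1, nat_lit 0, nat_lit 1, nat_lit 1, nat_lit 0, nat_lit 0, nat_lit 1, nat_lit 1, nat_lit 0, nat_lit 0, nat_lit 1],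
  [nat_lit 0, nat_lit 0, nat_lit 1, nat_lit 0, nat_lit 1, nat_lit 0, nat_lit 0, nat_lit 1, nat_lit 0, nat_lit 1, nat_lit 0, nat_lit 1],
  [nat_lit 0, nat_lit 0, nat_lit 0, nat_lit 0, nat_lit 1, nat_lit 0, nat_lit 0, nat_lit 1, nat_lit 1, nat_lit 1, nat_lit 0, nat_lit 0, nat_lit 0, nat_lit 0, nat_lit 1, nat_lit 0],
  [nat_lit 0, nat_lit 0, nat_lit 1, nat_lit 0, nat_lit 1, nat_lit 0, nat_lit 1, nat_lit 0, nat_lit 0, nat_lit 0, nat_lit 0, nat_lit 1, nat_lit 1],
  [nat_lit 0, nat_lit 1, nat_lit 0, nat_lit 0, nat_lit 0, nat_lit 1, nat_lit 1, nat_lit 1, nat_lit 1, nat_lit 0, nat_lit 1, nat_lit 0, nat_lit 1, nat_lit 0, nat_lit 1, nat_lit 1, nat_lit 0],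
  [nat_lit 0, nat_lit 0, nat_lit 0, nat_lit 0, nat_lit 1, nat_lit 0, nat_lit 1, nat_lit 1, nat_lit 0, nat_lit 0, nat_lit 1, nat_lit 0],
  [nat_lit 0, nat_lit 0, nat_lit 0, nat_lit 1, nat_lit 1, nat_lit 1, nat_lit 0, nat_lit 0, nat_lit 1],
  [nat_lit 0, nat_lit 0, nat_lit 1, nat_lit 0, nat_lit 0, nat_lit 0, nat_lit 1, nat_lit 1, nat_lit 1, nat_lit 0, nat_lit 0, nat_lit 1, nat_lit 1, nat_lit 1, nat_lit 1, nat_lit 0],
  [nat_lit 0, nat_lit 1, nat_lit 0, nat_lit 1, nat_lit 0, nat_lit 0, nat_lit 1, nat_lit 1, nat_lit 0, nat_lit 0, nat_lit 0],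
  [nat_lit 0, nat_lit 1, nat_lit 0, nat_lit 1, nat_lit 0, nat_lit 0, nat_lit 1, nat_lit 1, nat_lit 1, nat_lit 0, nat_lit 0, nat_lit 0, nat_lit 0],
  [nat_lit 0, nat_lit 0, nat_lit 0, nat_lit 1, nat_lit 0, nat_lit 1, nat_lit 1, nat_lit 0, nat_lit 0, nat_lit 0],
  [nat_lit 1, nat_lit 1, nat_lit 1, nat_lit 0, nat_lit 0, nat_lit 0, nat_lit 1, nat_lit 1, nat_lit 1, nat_lit 0, nat_lit 0, nat_lit 1, nat_lit 1, nat_lit 1, nat_lit 0],
  [nat_lit 0, nat_lit 0, nat_lit 0, nat_lit 1, nat_lit 0, nat_lit 0, nat_lit 1, nat_lit 1, nat_lit 0, nat_lit 1, nat_lit 1],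
  [nat_lit 1, nat_lit 1, nat_lit 0, nat_lit 0, nat_lit 0, nat_lit 1, nat_lit 1, nat_lit 1, nat_lit 1, nat_lit 1, nat_lit 0, nat_lit 0, nat_lit 0],
  [nat_lit 0, nat_lit 0, nat_lit 1, nat_lit 1, nat_lit 0, nat_lit 1, nat_lit 0, nat_lit 0, nat_lit 1, nat_lit 1, nat_lit 0, nat_lit 0, nat_lit 1, nat_lit 0, nat_lit 1, nat_lit 0],
  [nat_lit 1, nat_lit 1, nat_lit 1, nat_lit 0, nat_lit 1, nat_lit 0, nat_lit 1, nat_lit 0, nat_lit 0, nat_lit 1, nat_lit 0, nat_lit 1, nat_lit 1, nat_lit 0, nat_lit 0],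
  [nat_lit 1, nat_lit 0, nat_lit 1, nat_lit 0, nat_lit 1, nat_lit 1, nat_lit 0, nat_lit 0, nat_lit 0, nat_lit 1, nat_lit 1, nat_lit 0, nat_lit 1, nat_lit 0, nat_lit 0],
  [nat_lit 0, nat_lit 0, nat_lit 0, nat_lit 1, nat_lit 1, nat_lit 1, nat_lit 0, nat_lit 0, nat_lit 1, nat_lit 1, nat_lit 0, nat_lit 0, nat_lit 1, nat_lit 0, nat_lit 0, nat_lit 1],
  [nat_lit 1, nat_lit 1, nat_lit 1, nat_lit 0, nat_lit 0, nat_lit 0, nat_lit 0, nat_lit 0, nat_lit 0, nat_lit 1, nat_lit 0, nat_lit 0],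
  [],
  [nat_lit 1, nat_lit 0, nat_lit 0, nat_lit 0, nat_lit 0, nat_lit 1, nat_lit 1, nat_lit 0, nat_lit 0, nat_lit 1, nat_lit 0, nat_lit 1, nat_lit 1],
  [nat_lit 1, nat_lit 0, nat_lit 1, nat_lit 0, nat_lit 1, nat_lit 1, nat_lit 1, nat_lit 1, nat_lit 0, nat_lit 1, nat_lit 1, nat_lit 0, nat_lit 1, nat_lit 0, nat_lit 0, nat_lit 1],
  [nat_lit 0, nat_lit 0, nat_lit 0, nat_lit 0, nat_lit 0, nat_lit 0, nat_lit 1, nat_lit 1, nat_lit 0, nat_lit 1, nat_lit 1],
  [],
  [nat_lit 0, nat_lit 0, nat_lit 0, nat_lit 0, nat_lit 1, nat_lit 1, nat_lit 0, nat_lit 1, nat_lit 0, nat_lit 1, nat_lit 0],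
  [nat_lit 0, nat_lit 1, nat_lit 1, nat_lit 1, nat_lit 0, nat_lit 0, nat_lit 1],
  [nat_lit 0, nat_lit 1, nat_lit 0, nat_lit 1, nat_lit 1, nat_lit 0, nat_lit 0, nat_lit 1, nat_lit 0, nat_lit 0, nat_lit 0, nat_lit 1, nat_lit 1, nat_lit 0],
  [nat_lit 1, nat_lit 1, nat_lit 0, nat_lit 0, nat_lit 0, nat_lit 1, nat_lit 0, nat_lit 1, nat_lit 0, nat_lit 0, nat_lit 1, nat_lit 1, nat_lit 0, nat_lit 1],
  [nat_lit 0, nat_lit 0, nat_lit 1, nat_lit 0, nat_lit 0, nat_lit 1, nat_lit 1, nat_lit 1, nat_lit 0, nat_lit 0, nat_lit 1, nat_lit 1, nat_lit 1, nat_lit 1],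
  [nat_lit 0, nat_lit 0, nat_lit 1, nat_lit 1, nat_lit 1, nat_lit 1, nat_lit 1, nat_lit 1, nat_lit 1, nat_lit 1, nat_lit 0, nat_lit 0, nat_lit 0],
  [nat_lit 0, nat_lit 1, nat_lit 0, nat_lit 0, nat_lit 1, nat_lit 1, nat_lit 0, nat_lit 1, nat_lit 1, nat_lit 0, nat_lit 0, nat_lit 0, nat_lit 1],
  [nat_lit 1, nat_lit 1, nat_lit 0, nat_lit 0, nat_lit 0, nat_lit 1, nat_lit 1, nat_lit 1, nat_lit 0, nat_lit 1, nat_lit 0, nat_lit 1],
  [nat_lit 0, nat_lit 0, nat_lit 0, nat_lit 1, nat_lit 0, nat_lit 0, nat_lit 0, nat_lit 0, nat_lit 0, nat_lit 1, nat_lit 0, nat_lit 0],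
  [nat_lit 0, nat_lit 1, nat_lit 0, nat_lit 1, nat_lit 1, nat_lit 1, nat_lit 0, nat_lit 0, nat_lit 0, nat_lit 0, nat_lit 1, nat_lit 1, nat_lit 1, nat_lit 1, nat_lit 0, nat_lit 1],
  [nat_lit 1, nat_lit 1, nat_lit 1, nat_lit 1, nat_lit 0, nat_lit 1, nat_lit 0, nat_lit 1, nat_lit 0, nat_lit 1, nat_lit 0, nat_lit 1, nat_lit 1, nat_lit 0],
  [nat_lit 0, nat_lit 1, nat_lit 1, nat_lit 0, nat_lit 0, nat_lit 1, nat_lit 1, nat_lit 1, nat_lit 0, nat_lit 0, nat_lit 1, nat_lit 1, nat_lit 1, nat_lit 0, nat_lit 0, nat_lit 1],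
  [nat_lit 0, nat_lit 0, nat_lit 1, nat_lit 1, nat_lit 0, nat_lit 1, nat_lit 1, nat_lit 0, nat_lit 1, nat_lit 0, nat_lit 0, nat_lit 1, nat_lit 1, nat_lit 1, nat_lit 0, nat_lit 1],
  [nat_lit 0, nat_lit 0, nat_lit 0, nat_lit 0, nat_lit 1, nat_lit 0, nat_lit 1, nat_lit 1, nat_lit 0, nat_lit 0, nat_lit 0, nat_lit 0, nat_lit 1, nat_lit 0, nat_lit 1, nat_lit 1],
  [nat_lit 0, nat_lit 0, nat_lit 1, nat_lit 0, nat_lit 0, nat_lit 0, nat_lit 0, nat_lit 0, nat_lit 1, nat_lit 0, nat_lit 0, nat_lit 0, nat_lit 1, nat_lit 1, nat_lit 0, nat_lit 0, nat_lit 1],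
  [nat_lit 1, nat_lit 1, nat_lit 0, nat_lit 0, nat_lit 0, nat_lit 0, nat_lit 1, nat_lit 0, nat_lit 1, nat_lit 1, nat_lit 1, nat_lit 1, nat_lit 0, nat_lit 0, nat_lit 0, nat_lit 0],
  [nat_lit 1, nat_lit 1, nat_lit 0, nat_lit 0, nat_lit 0, nat_lit 0, nat_lit 1, nat_lit 1, nat_lit 0, nat_lit 1, nat_lit 1, nat_lit 0],
  [nat_lit 0, nat_lit 1, nat_lit 0, nat_lit 0, nat_lit 1, nat_lit 1, nat_lit 0, nat_lit 0, nat_lit 0, nat_lit 0, nat_lit 1, nat_lit 0, nat_lit 1, nat_lit 0, nat_lit 0],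
  [nat_lit 0, nat_lit 1, nat_lit 0, nat_lit 0, nat_lit 1, nat_lit 0, nat_lit 0, nat_lit 1, nat_lit 0, nat_lit 1, nat_lit 1, nat_lit 0, nat_lit 1, nat_lit 0, nat_lit 0],
  [nat_lit 0, nat_lit 0, nat_lit 0, nat_lit 0, nat_lit 0, nat_lit 1, nat_lit 1, nat_lit 0, nat_lit 0, nat_lit 0, nat_lit 0, nat_lit 0, nat_lit 0, nat_lit 1, nat_lit 1],
  [nat_lit 0, nat_lit 0, nat_lit 1, nat_lit 0, nat_lit 1, nat_lit 1, nat_lit 0, nat_lit 1, nat_lit 0, nat_lit 0, nat_lit 0, nat_lit 0, nat_lit 1, nat_lit 1, nat_lit 1, nat_lit 1],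
  [nat_lit 0, nat_lit 0, nat_lit 0, nat_lit 0, nat_lit 0, nat_lit 0, nat_lit 0, nat_lit 1, nat_lit 0, nat_lit 0, nat_lit 0, nat_lit 0, nat_lit 1, nat_lit 1, nat_lit 1],
  [nat_lit 0, nat_lit 1, nat_lit 0, nat_lit 1, nat_lit 0, nat_lit 0, nat_lit 1, nat_lit 1],
  [nat_lit 1, nat_lit 0, nat_lit 0, nat_lit 1, nat_lit 1, nat_lit 0, nat_lit 1, nat_lit 0, nat_lit 0, nat_lit 0, nat_lit 0, nat_lit 1, nat_lit 1, nat_lit 1, nat_lit 1, nat_lit 1, nat_lit 0, nat_lit 0],
  [nat_lit 1, nat_lit 1, nat_lit 1, nat_lit 1, nat_lit 0, nat_lit 0, nat_lit 0, nat_lit 1, nat_lit 0, nat_lit 1, nat_lit 1, nat_lit 1, nat_lit 0, nat_lit 0, nat_lit 1, nat_lit 1],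
  [nat_lit 0, nat_lit 0, nat_lit 0, nat_lit 1, nat_lit 0, nat_lit 1, nat_lit 0, nat_lit 1, nat_lit 1, nat_lit 0, nat_lit 1, nat_lit 1, nat_lit 1],
  [nat_lit 0, nat_lit 1, nat_lit 1, nat_lit 0, nat_lit 0, nat_lit 0, nat_lit 0, nat_lit 1, nat_lit 1, nat_lit 0, nat_lit 1, nat_lit 1, nat_lit 1, nat_lit 1],
  [nat_lit 0, nat_lit 1, nat_lit 1, nat_lit 1, nat_lit 0, nat_lit 1, nat_lit 1, nat_lit 1, nat_lit 0, nat_lit 0, nat_lit 0, nat_lit 1, nat_lit 1, nat_lit 0, nat_lit 0],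
  [nat_lit 0, nat_lit 1, nat_lit 1, nat_lit 0, nat_lit 0, nat_lit 1, nat_lit 1, nat_lit 1, nat_lit 0, nat_lit 1, nat_lit 0, nat_lit 0, nat_lit 0, nat_lit 0, nat_lit 0],
  [nat_lit 0, nat_lit 0, nat_lit 1, nat_lit 1, nat_lit 1, nat_lit 0, nat_lit 0, nat_lit 0, nat_lit 0, nat_lit 1],
  [nat_lit 0, nat_lit 0, nat_lit 0, nat_lit 1, nat_lit 1, nat_lit 0, nat_lit 0, nat_lit 1, nat_lit 0, nat_lit 1, nat_lit 1, nat_lit 0],
  [nat_lit 1, nat_lit 0, nat_lit 0, nat_lit 0, nat_lit 1, nat_lit 0, nat_lit 1, nat_lit 1, nat_lit 1, nat_lit 1],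
  [nat_lit 0, nat_lit 0, nat_lit 0, nat_lit 0, nat_lit 0, nat_lit 0, nat_lit 1, nat_lit 1, nat_lit 1, nat_lit 0, nat_lit 0, nat_lit 0, nat_lit 0, nat_lit 1, nat_lit 1, nat_lit 1],
  [nat_lit 0, nat_lit 0, nat_lit 0, nat_lit 0, nat_lit 0, nat_lit 1, nat_lit 0, nat_lit 0, nat_lit 0, nat_lit 1],
  [nat_lit 0, nat_lit 0, nat_lit 1, nat_lit 1, nat_lit 1, nat_lit 0, nat_lit 0, nat_lit 0, nat_lit 1, nat_lit 0],
  [nat_lit 0, nat_lit 0, nat_lit 1, nat_lit 1, nat_lit 1, nat_lit 0, nat_lit 0, nat_lit 0, nat_lit 0, nat_lit 0, nat_lit 0, nat_lit 1, nat_lit 0, nat_lit 0, nat_lit 0],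
  [nat_lit 1, nat_lit 1, nat_lit 0, nat_lit 1, nat_lit 1, nat_lit 1, nat_lit 0, nat_lit 1, nat_lit 1, nat_lit 0, nat_lit 0, nat_lit 1, nat_lit 0, nat_lit 1, nat_lit 1, nat_lit 1, nat_lit 0],
  [nat_lit 0, nat_lit 0, nat_lit 1, nat_lit 0, nat_lit 0, nat_lit 1, nat_lit 0, nat_lit 1, nat_lit 1, nat_lit 1, nat_lit 1, nat_lit 0, nat_lit 0, nat_lit 1, nat_lit 0],
  [nat_lit 1, nat_lit 0, nat_lit 0, nat_lit 1, nat_lit 1, nat_lit 1, nat_lit 1, nat_lit 1, nat_lit 1, nat_lit 0, nat_lit 0, nat_lit 1, nat_lit 1, nat_lit 1, nat_lit 1, nat_lit 0],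
  [nat_lit 0, nat_lit 1, nat_lit 1, nat_lit 0, nat_lit 1, nat_lit 1, nat_lit 0, nat_lit 0, nat_lit 1, nat_lit 0, nat_lit 1, nat_lit 0, nat_lit 1, nat_lit 0, nat_lit 1, nat_lit 1],
  [nat_lit 0, nat_lit 1, nat_lit 1, nat_lit 1, nat_lit 0, nat_lit 0, nat_lit 0, nat_lit 1, nat_lit 0, nat_lit 0, nat_lit 1],
  [nat_lit 1, nat_lit 1, nat_lit 1, nat_lit 0, nat_lit 0, nat_lit 0, nat_lit 1, nat_lit 1, nat_lit 0, nat_lit 0, nat_lit 0, nat_lit 0, nat_lit 1, nat_lit 1, nat_lit 0, nat_lit 1],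
  [nat_lit 0, nat_lit 0, nat_lit 1, nat_lit 1, nat_lit 0, nat_lit 1, nat_lit 0, nat_lit 1, nat_lit 1, nat_lit 1, nat_lit 1, nat_lit 1],
  [nat_lit 0, nat_lit 1, nat_lit 1, nat_lit 0, nat_lit 1, nat_lit 1, nat_lit 0, nat_lit 0, nat_lit 1, nat_lit 1, nat_lit 1, nat_lit 1, nat_lit 0, nat_lit 0, nat_lit 0],
  [nat_lit 1, nat_lit 0, nat_lit 0, nat_lit 1, nat_lit 1, nat_lit 0, nat_lit 0, nat_lit 0, nat_lit 0],
  [nat_lit 0, nat_lit 1, nat_lit 1, nat_lit 1, nat_lit 1, nat_lit 1, nat_lit 0, nat_lit 1, nat_lit 0, nat_lit 0, nat_lit 1, nat_lit 0, nat_lit 0, nat_lit 1, nat_lit 1],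
  [nat_lit 0, nat_lit 1, nat_lit 0, nat_lit 0, nat_lit 1, nat_lit 1, nat_lit 1, nat_lit 0, nat_lit 1, nat_lit 1, nat_lit 1, nat_lit 0, nat_lit 1, nat_lit 0, nat_lit 1],
  [nat_lit 1, nat_lit 1, nat_lit 0, nat_lit 1, nat_lit 1, nat_lit 1, nat_lit 1, nat_lit 0, nat_lit 1, nat_lit 0, nat_lit 0, nat_lit 0],
  [nat_lit 0, nat_lit 1, nat_lit 1, nat_lit 1, nat_lit 0, nat_lit 0, nat_lit 0, nat_lit 1, nat_lit 1, nat_lit 0, nat_lit 1, nat_lit 0, nat_lit 1, nat_lit 1],
  [nat_lit 1, nat_lit 0, nat_lit 0, nat_lit 1, nat_lit 1, nat_lit 1, nat_lit 0, nat_lit 1, nat_lit 0, nat_lit 0, nat_lit 0, nat_lit 0, nat_lit 0, nat_lit 1],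
  [nat_lit 0, nat_lit 1, nat_lit 1, nat_lit 0, nat_lit 1, nat_lit 0, nat_lit 1, nat_lit 1, nat_lit 1, nat_lit 1, nat_lit 1, nat_lit 1, nat_lit 1],
  [nat_lit 0, nat_lit 0, nat_lit 1, nat_lit 1, nat_lit 0, nat_lit 1, nat_lit 0, nat_lit 1, nat_lit 0, nat_lit 0, nat_lit 1, nat_lit 0, nat_lit 0, nat_lit 1, nat_lit 0, nat_lit 1, nat_lit 0],
  [nat_lit 0, nat_lit 1, nat_lit 1, nat_lit 0, nat_lit 0, nat_lit 1, nat_lit 1, nat_lit 1, nat_lit 0, nat_lit 0, nat_lit 0, nat_lit 0, nat_lit 1, nat_lit 0, nat_lit 0, nat_lit 1],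
  [nat_lit 0, nat_lit 0, nat_lit 0, nat_lit 0, nat_lit 0, nat_lit 0, nat_lit 1, nat_lit 1, nat_lit 1, nat_lit 0, nat_lit 0, nat_lit 1, nat_lit 1, nat_lit 1],
  [nat_lit 0, nat_lit 1, nat_lit 1, nat_lit 0, nat_lit 1, nat_lit 0, nat_lit 1, nat_lit 0, nat_lit 1, nat_lit 1, nat_lit 0, nat_lit 1],
  [nat_lit 1, nat_lit 1, nat_lit 1, nat_lit 0, nat_lit 1, nat_lit 0, nat_lit 1, nat_lit 0, nat_lit 1, nat_lit 1, nat_lit 0, nat_lit 1],
  [nat_lit 0, nat_lit 1, nat_lit 0, nat_lit 0, nat_lit 1, nat_lit 1, nat_lit 0, nat_lit 1, nat_lit 1, nat_lit 0, nat_lit 0, nat_lit 0, nat_lit 1, nat_lit 1],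
  [nat_lit 0, nat_lit 0, nat_lit 1, nat_lit 1, nat_lit 1, nat_lit 0, nat_lit 1, nat_lit 1, nat_lit 0],
  [nat_lit 0, nat_lit 1, nat_lit 1, nat_lit 0, nat_lit 1, nat_lit 1, nat_lit 1, nat_lit 0, nat_lit 1, nat_lit 1, nat_lit 0, nat_lit 0, nat_lit 0, nat_lit 0],
  [nat_lit 1, nat_lit 0, nat_lit 1, nat_lit 0, nat_lit 1, nat_lit 1, nat_lit 0, nat_lit 1, nat_lit 1, nat_lit 0, nat_lit 0, nat_lit 1, nat_lit 0, nat_lit 0],
  [nat_lit 1, nat_lit 0, nat_lit 1, nat_lit 1, nat_lit 1, nat_lit 1, nat_lit 1, nat_lit 1, nat_lit 1, nat_lit 0, nat_lit 0, nat_lit 1, nat_lit 1],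
  [nat_lit 1, nat_lit 1, nat_lit 0, nat_lit 1, nat_lit 1, nat_lit 0, nat_lit 0, nat_lit 1, nat_lit 0, nat_lit 1, nat_lit 1, nat_lit 1, nat_lit 1, nat_lit 0, nat_lit 1],
  [nat_lit 0, nat_lit 0, nat_lit 1, nat_lit 0, nat_lit 0, nat_lit 0, nat_lit 0, nat_lit 1, nat_lit 1, nat_lit 0, nat_lit 0, nat_lit 1, nat_lit 1, nat_lit 1],
  [nat_lit 0, nat_lit 1, nat_lit 1, nat_lit 0, nat_lit 0, nat_lit 1, nat_lit 0, nat_lit 0, nat_lit 1, nat_lit 1, nat_lit 0, nat_lit 1, nat_lit 0],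
  [nat_lit 0, nat_lit 0, nat_lit 0, nat_lit 0, nat_lit 0, nat_lit 0, nat_lit 0, nat_lit 1, nat_lit 0, nat_lit 0, nat_lit 0, nat_lit 0, nat_lit 1, nat_lit 0]]
theorem C2fus : fusOK roots C2s C2rep C2w = true := by decide +kernel

def C3s : List ℕ := [nat_lit 0x72108421084214842906429085214a5210842108420c84190a43908320c65210842108420c84190a41908720c64294a328c63190a52148520ca42908428ca528ca5290a32148320ca41908428ca518ca3290652148521464290842946519465290652148320ca4290841946318ca5290a321485214a429085210842108420c84190a41908321c642946528ca51906520c85214a4190842946529463290a3214852146419085210842108421c84190a41908320c6428ca519465190a320c85214a42908428c63294a5190a521483214642908418c65294a3290a520c8520ca429084194a5294a31906321483214a429084294a3294a52906320c8520c642908418ca3294652906521485214a419084194a5194a5190a52148520c6419084294a3194a3290a520c83214a419085210842108420c84390a41908320c64194a528c65290a520c832146429083210842108421484290e429085214a5210842108420c84190a41908320ce,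
  nat_lit 0x6290a421084210a5210a429484290c520c8528ca528c84294832106320c652148318ca51948428c8521063214641986421084310a3210a429484190842906621084218a52106428c841908520c85194a328c8418c85210a3214642906421084210a321866194842908419064210842106531064294c429084190a421886210a5210641948419084290a4310842106321064294841988429064210c421065210a41948619084290642188621063210a428c8429084190a42108421065218a628c8419085214851946318c84294832106521464290a421084210a3310a418cc419084190a4210c4210a32106428c862908521483294a31948419483210a320c6520c83294632948428c852106520c64298a421084310652106418c84290841906431084210a5210a418c84298852148528c6518c8418c85210a520c64190a62108421863210a4194842908520c8318c652948419483210a5214661906421084210632106418c84190c,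
  nat_lit 0x821084210842108421084210842108422084210842108421084210842108421104210842108421084210842108421088210842108421084210842108421084410842108421084210842108421084220842108421084210842108421084211042108421084210842108421084210882108421084210842108421084210844108421084210842108421084210842208421084210842108421084210842110421084210842108421084210842108821084210842108421084210842108441084210842108421084210842108422084210842108421084210842108421104210842108421084210842108421088210842108421084210842108421084410842108421084210842108421084220842108421084210842108421084211042108421084210842108421084210882108421084210842108421084210844108421084210842108421084210842208421084210842108421084210842110441084210842108421084210842108,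
  nat_lit 0x821084210842108421084210842108421088210842108421084210842108421084210842108421084220842108422084210842108421084210842108421084210842108821084210842108421084210842108421084210842208421084210844108421084210842108421084210842108421104210842108421084210882108421084210842108441084210842108421084210842108421084211042108421084210842108421084210842108422084210842108421084220842108421084210842108421104210842108421084210842108421084210842208421084210842108421084210842110421084210842108421084210842108441084210842108421084210842108421084210844108421084210842108421088210842108421084410842108421084210842108421084210842108421084210882108421084210842108421084211042108421084210842108421084410842108421084210842108421084210842110]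
def C3rep : List ℕ := [nat_lit 0, nat_lit 1, nat_lit 1, nat_lit 3, nat_lit 0, nat_lit 1, nat_lit 3, nat_lit 7, nat_lit 8, nat_lit 9, nat_lit 10, nat_lit 7, nat_lit 8, nat_lit 9, nat_lit 10, nat_lit 7, nat_lit 8, nat_lit 8, nat_lit 0, nat_lit 0, nat_lit 1, nat_lit 1, nat_lit 1, nat_lit 1, nat_lit 3, nat_lit 3, nat_lit 9, nat_lit 9, nat_lit 10, nat_lit 8, nat_lit 0, nat_lit 1, nat_lit 1, nat_lit 3, nat_lit 9, nat_lit 7, nat_lit 8, nat_lit 0, nat_lit 1, nat_lit 1, nat_lit 3, nat_lit 9, nat_lit 10, nat_lit 8, nat_lit 0, nat_lit 0, nat_lit 1, nat_lit 1, nat_lit 3, nat_lit 3, nat_lit 9, nat_lit 7, nat_lit 7, nat_lit 0, nat_lit 0, nat_lit 1, nat_lit 0, nat_lit 7, nat_lit 0, nat_lit 8, nat_lit 0, nat_lit 3, nat_lit 1, nat_lit 1, nat_lit 0, nat_lit 7, nat_lit 8, nat_lit 0, nat_lit 8, nat_lit 3, nat_lit 0, nat_lit 1, nat_lit 0, nat_lit 9, nat_lit 3, nat_lit 1, nat_lit 3, nat_lit 8, nat_lit 1, nat_lit 3, nat_lit 1, nat_lit 8, nat_lit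 1, nat_lit 0, nat_lit 1, nat_lit 9, nat_lit 3, nat_lit 3, nat_lit 9, nat_lit 0, nat_lit 9, nat_lit 9, nat_lit 3, nat_lit 0, nat_lit 1, nat_lit 1, nat_lit 3, nat_lit 10, nat_lit 3, nat_lit 1, nat_lit 3, nat_lit 10, nat_lit 10, nat_lit 10, nat_lit 3]
def C3w : List (List ℕ) := [[],
  [],
  [nat_lit 2, nat_lit 2, nat_lit 3, nat_lit 0, nat_lit 2, nat_lit 2],
  [],
  [nat_lit 2],
  [nat_lit 2],
  [nat_lit 2],
  [],
  [],
  [],
  [],
  [nat_lit 2],
  [nat_lit 2],
  [nat_lit 2],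
  [nat_lit 2],
  [nat_lit 2, nat_lit 0, nat_lit 2, nat_lit 1, nat_lit 2, nat_lit 3],
  [nat_lit 1, nat_lit 3, nat_lit 3, nat_lit 2, nat_lit 0, nat_lit 1, nat_lit 1],
  [nat_lit 2, nat_lit 3, nat_lit 1, nat_lit 0, nat_lit 2, nat_lit 0, nat_lit 2],
  [nat_lit 0, nat_lit 2, nat_lit 3, nat_lit 1, nat_lit 3, nat_lit 0, nat_lit 2, nat_lit 1],
  [nat_lit 1, nat_lit 3, nat_lit 3, nat_lit 0, nat_lit 2, nat_lit 3],
  [nat_lit 1, nat_lit 0, nat_lit 2, nat_lit 1, nat_lit 0, nat_lit 2, nat_lit 1, nat_lit 3],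
  [nat_lit 2, nat_lit 2, nat_lit 0, nat_lit 2, nat_lit 2, nat_lit 1, nat_lit 1],
  [nat_lit 1, nat_lit 1, nat_lit 0, nat_lit 0, nat_lit 3],
  [nat_lit 1, nat_lit 1, nat_lit 2, nat_lit 1, nat_lit 0, nat_lit 2, nat_lit 0, nat_lit 1, nat_lit 1],
  [nat_lit 2, nat_lit 1, nat_lit 2, nat_lit 2, nat_lit 1, nat_lit 1, nat_lit 2],
  [nat_lit 3, nat_lit 1, nat_lit 0, nat_lit 2, nat_lit 0, nat_lit 2],
  [nat_lit 2, nat_lit 2, nat_lit 3, nat_lit 1, nat_lit 1],
  [nat_lit 1, nat_lit 3, nat_lit 1, nat_lit 2, nat_lit 2, nat_lit 3, nat_lit 0],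
  [nat_lit 2, nat_lit 0, nat_lit 2, nat_lit 1, nat_lit 2, nat_lit 3],
  [nat_lit 0, nat_lit 0, nat_lit 1, nat_lit 0, nat_lit 3, nat_lit 0, nat_lit 0],
  [nat_lit 0, nat_lit 2, nat_lit 1, nat_lit 1, nat_lit 1, nat_lit 3, nat_lit 1],
  [nat_lit 1, nat_lit 2, nat_lit 0, nat_lit 0, nat_lit 0, nat_lit 0, nat_lit 3, nat_lit 2],
  [nat_lit 3, nat_lit 3, nat_lit 2, nat_lit 2, nat_lit 2, nat_lit 0, nat_lit 0, nat_lit 1],
  [nat_lit 2, nat_lit 1, nat_lit 0, nat_lit 2, nat_lit 1, nat_lit 0, nat_lit 3, nat_lit 0],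
  [nat_lit 0, nat_lit 0, nat_lit 1, nat_lit 0, nat_lit 3, nat_lit 0, nat_lit 0],
  [nat_lit 2, nat_lit 0, nat_lit 1, nat_lit 3, nat_lit 2, nat_lit 3],
  [nat_lit 0, nat_lit 2, nat_lit 2, nat_lit 1, nat_lit 2, nat_lit 3],
  [nat_lit 2, nat_lit 0, nat_lit 3, nat_lit 0, nat_lit 2, nat_lit 0, nat_lit 3, nat_lit 3],
  [nat_lit 1, nat_lit 2, nat_lit 1, nat_lit 2, nat_lit 3, nat_lit 0, nat_lit 2, nat_lit 2, nat_lit 3],
  [nat_lit 0, nat_lit 1, nat_lit 3, nat_lit 3, nat_lit 0, nat_lit 1, nat_lit 2, nat_lit 2],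
  [nat_lit 3, nat_lit 0, nat_lit 0, nat_lit 2, nat_lit 1, nat_lit 1, nat_lit 3],
  [nat_lit 2, nat_lit 2, nat_lit 2, nat_lit 0, nat_lit 3, nat_lit 2, nat_lit 3],
  [nat_lit 2, nat_lit 0, nat_lit 1, nat_lit 3, nat_lit 2, nat_lit 3],
  [nat_lit 0, nat_lit 0, nat_lit 1, nat_lit 0, nat_lit 3, nat_lit 0, nat_lit 0, nat_lit 2],
  [nat_lit 2, nat_lit 1, nat_lit 2, nat_lit 1, nat_lit 0, nat_lit 1, nat_lit 1, nat_lit 2],
  [nat_lit 0, nat_lit 2, nat_lit 1, nat_lit 1, nat_lit 1, nat_lit 3, nat_lit 1, nat_lit 2],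
  [nat_lit 1, nat_lit 0, nat_lit 1, nat_lit 2, nat_lit 0, nat_lit 0, nat_lit 1, nat_lit 0],
  [nat_lit 1, nat_lit 2, nat_lit 0, nat_lit 0, nat_lit 0, nat_lit 0, nat_lit 3, nat_lit 2, nat_lit 2],
  [nat_lit 1, nat_lit 2, nat_lit 2, nat_lit 0, nat_lit 1, nat_lit 3, nat_lit 1, nat_lit 1],
  [nat_lit 2, nat_lit 1, nat_lit 0, nat_lit 2, nat_lit 1, nat_lit 0, nat_lit 3, nat_lit 0, nat_lit 2],
  [nat_lit 0, nat_lit 0, nat_lit 1, nat_lit 0, nat_lit 3, nat_lit 0, nat_lit 0, nat_lit 2],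
  [nat_lit 2, nat_lit 1, nat_lit 0, nat_lit 2, nat_lit 1, nat_lit 3, nat_lit 2],
  [nat_lit 2, nat_lit 0, nat_lit 1, nat_lit 3, nat_lit 2, nat_lit 1, nat_lit 3],
  [nat_lit 1, nat_lit 0, nat_lit 1, nat_lit 0, nat_lit 3, nat_lit 2, nat_lit 1, nat_lit 0, nat_lit 2, nat_lit 1],
  [nat_lit 0, nat_lit 1, nat_lit 2, nat_lit 0, nat_lit 2, nat_lit 3, nat_lit 1, nat_lit 3, nat_lit 2],
  [nat_lit 3, nat_lit 0, nat_lit 0, nat_lit 3, nat_lit 0, nat_lit 1, nat_lit 2],
  [nat_lit 0, nat_lit 2, nat_lit 1, nat_lit 3, nat_lit 2, nat_lit 1, nat_lit 3, nat_lit 3, nat_lit 1, nat_lit 1],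
  [nat_lit 2, nat_lit 1, nat_lit 0, nat_lit 2, nat_lit 3, nat_lit 3],
  [nat_lit 0, nat_lit 1, nat_lit 2, nat_lit 3, nat_lit 3, nat_lit 1, nat_lit 2, nat_lit 2, nat_lit 0],
  [nat_lit 0, nat_lit 0, nat_lit 2, nat_lit 2, nat_lit 3, nat_lit 3, nat_lit 0, nat_lit 2],
  [nat_lit 0, nat_lit 2, nat_lit 2, nat_lit 1, nat_lit 0, nat_lit 2, nat_lit 0, nat_lit 0],
  [nat_lit 1, nat_lit 1, nat_lit 0, nat_lit 1, nat_lit 1, nat_lit 0, nat_lit 2],
  [nat_lit 0, nat_lit 1, nat_lit 3, nat_lit 3, nat_lit 0],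
  [nat_lit 0, nat_lit 1, nat_lit 1, nat_lit 0, nat_lit 1, nat_lit 3, nat_lit 2],
  [nat_lit 2, nat_lit 0, nat_lit 3, nat_lit 1, nat_lit 0, nat_lit 3, nat_lit 0, nat_lit 3],
  [nat_lit 2, nat_lit 0, nat_lit 1, nat_lit 3, nat_lit 3, nat_lit 0],
  [nat_lit 2, nat_lit 3, nat_lit 3, nat_lit 2, nat_lit 1],
  [nat_lit 0, nat_lit 2, nat_lit 1, nat_lit 2, nat_lit 0, nat_lit 0, nat_lit 1, nat_lit 2, nat_lit 3],
  [nat_lit 0, nat_lit 0, nat_lit 0, nat_lit 2, nat_lit 3, nat_lit 3, nat_lit 0],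
  [nat_lit 0, nat_lit 3, nat_lit 3, nat_lit 0, nat_lit 1, nat_lit 3, nat_lit 3],
  [nat_lit 1, nat_lit 1, nat_lit 0, nat_lit 3, nat_lit 3, nat_lit 0, nat_lit 3],
  [nat_lit 2, nat_lit 0, nat_lit 1],
  [nat_lit 3, nat_lit 3, nat_lit 2, nat_lit 0, nat_lit 1, nat_lit 3, nat_lit 0, nat_lit 2, nat_lit 1],
  [nat_lit 2, nat_lit 1, nat_lit 2, nat_lit 0, nat_lit 0, nat_lit 1],
  [nat_lit 1, nat_lit 1, nat_lit 1, nat_lit 3, nat_lit 1, nat_lit 3, nat_lit 1],
  [nat_lit 2, nat_lit 3, nat_lit 2, nat_lit 0, nat_lit 3, nat_lit 1, nat_lit 3, nat_lit 3],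
  [nat_lit 0, nat_lit 3, nat_lit 1, nat_lit 3, nat_lit 0, nat_lit 2, nat_lit 3, nat_lit 3],
  [nat_lit 0, nat_lit 2, nat_lit 2, nat_lit 0, nat_lit 0, nat_lit 2, nat_lit 3],
  [nat_lit 1, nat_lit 0, nat_lit 0, nat_lit 3, nat_lit 1, nat_lit 2, nat_lit 1, nat_lit 2, nat_lit 1],
  [nat_lit 3, nat_lit 0, nat_lit 0, nat_lit 1, nat_lit 2, nat_lit 1],
  [nat_lit 1, nat_lit 0, nat_lit 2, nat_lit 0, nat_lit 0, nat_lit 3, nat_lit 3, nat_lit 3],
  [nat_lit 0, nat_lit 0, nat_lit 1, nat_lit 0, nat_lit 2, nat_lit 3, nat_lit 2, nat_lit 0],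
  [nat_lit 3, nat_lit 0, nat_lit 0, nat_lit 2, nat_lit 1, nat_lit 2, nat_lit 2],
  [nat_lit 0, nat_lit 0, nat_lit 0, nat_lit 0, nat_lit 0, nat_lit 3, nat_lit 3, nat_lit 1, nat_lit 2],
  [nat_lit 2, nat_lit 0, nat_lit 3, nat_lit 1, nat_lit 3, nat_lit 2, nat_lit 0, nat_lit 0, nat_lit 1],
  [nat_lit 2, nat_lit 3, nat_lit 1, nat_lit 0, nat_lit 2, nat_lit 3],
  [nat_lit 2, nat_lit 2, nat_lit 0, nat_lit 1, nat_lit 3, nat_lit 2, nat_lit 1, nat_lit 0],
  [nat_lit 1, nat_lit 2, nat_lit 2, nat_lit 3, nat_lit 2, nat_lit 1, nat_lit 3, nat_lit 2, nat_lit 2],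
  [nat_lit 1, nat_lit 3, nat_lit 2, nat_lit 2, nat_lit 2, nat_lit 3, nat_lit 1, nat_lit 1],
  [nat_lit 1, nat_lit 1, nat_lit 1, nat_lit 2, nat_lit 2, nat_lit 3, nat_lit 0, nat_lit 3],
  [nat_lit 0, nat_lit 2, nat_lit 3, nat_lit 3, nat_lit 1, nat_lit 3, nat_lit 3, nat_lit 1],
  [nat_lit 0, nat_lit 0, nat_lit 3, nat_lit 1, nat_lit 3, nat_lit 0, nat_lit 1],
  [nat_lit 1, nat_lit 2, nat_lit 0, nat_lit 3, nat_lit 0, nat_lit 1],
  [nat_lit 0, nat_lit 0, nat_lit 3, nat_lit 3, nat_lit 0, nat_lit 1, nat_lit 1, nat_lit 2],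
  [nat_lit 2, nat_lit 3, nat_lit 0, nat_lit 2, nat_lit 0],
  [nat_lit 0, nat_lit 0, nat_lit 1, nat_lit 3, nat_lit 2, nat_lit 3, nat_lit 0, nat_lit 2, nat_lit 0],
  [nat_lit 3, nat_lit 2, nat_lit 3, nat_lit 0, nat_lit 2, nat_lit 0],
  [nat_lit 2, nat_lit 2, nat_lit 1, nat_lit 0, nat_lit 0],
  [nat_lit 1, nat_lit 1, nat_lit 3, nat_lit 2, nat_lit 0, nat_lit 1, nat_lit 2],
  [nat_lit 2, nat_lit 3, nat_lit 0, nat_lit 2, nat_lit 0, nat_lit 2],
  [nat_lit 3, nat_lit 2, nat_lit 3, nat_lit 0, nat_lit 2, nat_lit 0, nat_lit 2],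
  [nat_lit 2, nat_lit 2, nat_lit 1, nat_lit 0, nat_lit 0, nat_lit 2],
  [nat_lit 2, nat_lit 1, nat_lit 0, nat_lit 2, nat_lit 1, nat_lit 3, nat_lit 2],
  [nat_lit 2, nat_lit 0, nat_lit 1, nat_lit 3, nat_lit 2, nat_lit 1, nat_lit 3],
  [nat_lit 1, nat_lit 0, nat_lit 1, nat_lit 0, nat_lit 3, nat_lit 2, nat_lit 1, nat_lit 0, nat_lit 2, nat_lit 1]]
theorem C3fus : fusOK roots C3s C3rep C3w = true := by decide +kernel

def Mcs : List ℕ := [nat_lit 0x72108421084214842906429085214a5210842108420c84190a43908320c65210842108420c84190a41908720c64294a328c63190a52148520ca42908428ca528ca5290a32148320ca41908428ca518ca3290652148521464290842946519465290652148320ca4290841946318ca5290a321485214a429085210842108420c84190a41908321c642946528ca51906520c85214a4190842946529463290a3214852146419085210842108421c84190a41908320c6428ca519465190a320c85214a42908428c63294a5190a521483214642908418c65294a3290a520c8520ca429084194a5294a31906321483214a429084294a3294a52906320c8520c642908418ca3294652906521485214a419084194a5194a5190a52148520c6419084294a3194a3290a520c83214a419085210842108420c84390a41908320c64194a528c65290a520c832146429083210842108421484290e429085214a5210842108420c84190a41908320ce,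
  nat_lit 0x6290a421084210a5210a429484290c520c8528ca528c84294832106320c652148318ca51948428c8521063214641986421084310a3210a429484190842906621084218a52106428c841908520c85194a328c8418c85210a3214642906421084210a321866194842908419064210842106531064294c429084190a421886210a5210641948419084290a4310842106321064294841988429064210c421065210a41948619084290642188621063210a428c8429084190a42108421065218a628c8419085214851946318c84294832106521464290a421084210a3310a418cc419084190a4210c4210a32106428c862908521483294a31948419483210a320c6520c83294632948428c852106520c64298a421084310652106418c84290841906431084210a5210a418c84298852148528c6518c8418c85210a520c64190a62108421863210a4194842908520c8318c652948419483210a5214661906421084210632106418c84190c]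
def Mcrep : List ℕ := [nat_lit 0, nat_lit 1, nat_lit 2, nat_lit 3, nat_lit 4, nat_lit 5, nat_lit 6, nat_lit 7, nat_lit 8, nat_lit 9, nat_lit 10, nat_lit 11, nat_lit 12, nat_lit 13, nat_lit 14, nat_lit 11, nat_lit 8, nat_lit 12, nat_lit 4, nat_lit 0, nat_lit 5, nat_lit 2, nat_lit 1, nat_lit 5, nat_lit 3, nat_lit 6, nat_lit 13, nat_lit 9, nat_lit 14, nat_lit 8, nat_lit 4, nat_lit 5, nat_lit 5, nat_lit 6, nat_lit 9, nat_lit 35, nat_lit 36, nat_lit 37, nat_lit 38, nat_lit 39, nat_lit 40, nat_lit 41, nat_lit 42, nat_lit 36, nat_lit 44, nat_lit 37, nat_lit 39, nat_lit 38, nat_lit 40, nat_lit 49, nat_lit 41, nat_lit 51, nat_lit 35, nat_lit 44, nat_lit 37, nat_lit 39, nat_lit 44, nat_lit 35, nat_lit 44, nat_lit 36, nat_lit 37, nat_lit 40, nat_lit 1, nat_lit 5, nat_lit 4, nat_lit 11, nat_lit 12, nat_lit 4, nat_lit 8, nat_lit 3, nat_lit 0, nat_lit 5, nat_lit 4, nat_lit 13, nat_lit 3, nat_lit 5, nat_lit 6, nat_lit 12, nat_lit 38, nat_lit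 40, nat_lit 39, nat_lit 36, nat_lit 39, nat_lit 37, nat_lit 38, nat_lit 41, nat_lit 49, nat_lit 40, nat_lit 41, nat_lit 37, nat_lit 13, nat_lit 9, nat_lit 6, nat_lit 0, nat_lit 2, nat_lit 5, nat_lit 6, nat_lit 14, nat_lit 40, nat_lit 38, nat_lit 49, nat_lit 42, nat_lit 102, nat_lit 42, nat_lit 49]
def Mcw : List (List ℕ) := [[],
  [],
  [],
  [],
  [],
  [],
  [],
  [],
  [],
  [],
  [],
  [],
  [],
  [],
  [],
  [nat_lit 1, nat_lit 1, nat_lit 0, nat_lit 0, nat_lit 1, nat_lit 1, nat_lit 1],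
  [nat_lit 0, nat_lit 0, nat_lit 1, nat_lit 1, nat_lit 0, nat_lit 1, nat_lit 1, nat_lit 0, nat_lit 1],
  [nat_lit 0, nat_lit 0, nat_lit 1, nat_lit 0, nat_lit 1, nat_lit 0, nat_lit 0, nat_lit 0, nat_lit 0, nat_lit 1, nat_lit 1],
  [nat_lit 0, nat_lit 0, nat_lit 1, nat_lit 0, nat_lit 0, nat_lit 1, nat_lit 0, nat_lit 1, nat_lit 1, nat_lit 0, nat_lit 0, nat_lit 1],
  [nat_lit 0, nat_lit 0, nat_lit 0, nat_lit 0, nat_lit 1, nat_lit 1, nat_lit 1],
  [nat_lit 0, nat_lit 0, nat_lit 0, nat_lit 0, nat_lit 0, nat_lit 1, nat_lit 1, nat_lit 0, nat_lit 0, nat_lit 0, nat_lit 0, nat_lit 1, nat_lit 0, nat_lit 0],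
  [nat_lit 1, nat_lit 1, nat_lit 0, nat_lit 0, nat_lit 1, nat_lit 1, nat_lit 1],
  [nat_lit 1, nat_lit 1, nat_lit 0, nat_lit 0, nat_lit 1, nat_lit 1, nat_lit 1],
  [nat_lit 0, nat_lit 1, nat_lit 1, nat_lit 1, nat_lit 0, nat_lit 0, nat_lit 1, nat_lit 0, nat_lit 0, nat_lit 0, nat_lit 1, nat_lit 1, nat_lit 1],
  [nat_lit 0, nat_lit 0, nat_lit 1, nat_lit 0, nat_lit 1, nat_lit 0, nat_lit 0, nat_lit 0, nat_lit 0, nat_lit 1, nat_lit 1],
  [nat_lit 0, nat_lit 0, nat_lit 1, nat_lit 1, nat_lit 1, nat_lit 1, nat_lit 0, nat_lit 0, nat_lit 0, nat_lit 1, nat_lit 1, nat_lit 0, nat_lit 1, nat_lit 0],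
  [nat_lit 0, nat_lit 0, nat_lit 0, nat_lit 0, nat_lit 1, nat_lit 1, nat_lit 1],
  [nat_lit 0, nat_lit 0, nat_lit 0, nat_lit 0, nat_lit 0, nat_lit 1, nat_lit 1, nat_lit 1],
  [nat_lit 1, nat_lit 1, nat_lit 0, nat_lit 0, nat_lit 1, nat_lit 1, nat_lit 1],
  [nat_lit 0, nat_lit 0, nat_lit 1, nat_lit 0, nat_lit 0, nat_lit 1, nat_lit 0, nat_lit 0, nat_lit 0, nat_lit 1],
  [nat_lit 0, nat_lit 0, nat_lit 1, nat_lit 1, nat_lit 0, nat_lit 0, nat_lit 0, nat_lit 1, nat_lit 1, nat_lit 1, nat_lit 0, nat_lit 0, nat_lit 0, nat_lit 0, nat_lit 1],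
  [nat_lit 1, nat_lit 1, nat_lit 1, nat_lit 0, nat_lit 0, nat_lit 1, nat_lit 1, nat_lit 1, nat_lit 1, nat_lit 0, nat_lit 1, nat_lit 0, nat_lit 1],
  [nat_lit 1, nat_lit 0, nat_lit 1, nat_lit 1, nat_lit 1, nat_lit 1, nat_lit 1, nat_lit 0, nat_lit 0, nat_lit 0, nat_lit 0],
  [nat_lit 0, nat_lit 0, nat_lit 0, nat_lit 0, nat_lit 0, nat_lit 0, nat_lit 0, nat_lit 1, nat_lit 1, nat_lit 0, nat_lit 1, nat_lit 0, nat_lit 1],
  [nat_lit 0, nat_lit 0, nat_lit 1, nat_lit 0, nat_lit 0, nat_lit 1, nat_lit 0, nat_lit 0, nat_lit 0, nat_lit 1],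
  [],
  [],
  [],
  [],
  [],
  [],
  [],
  [],
  [nat_lit 1, nat_lit 1, nat_lit 0, nat_lit 0, nat_lit 1, nat_lit 1, nat_lit 0, nat_lit 1, nat_lit 1, nat_lit 0, nat_lit 1, nat_lit 1],
  [],
  [nat_lit 0, nat_lit 1, nat_lit 0, nat_lit 0, nat_lit 1, nat_lit 1, nat_lit 1, nat_lit 0, nat_lit 1, nat_lit 0, nat_lit 0, nat_lit 0, nat_lit 1, nat_lit 0, nat_lit 0],
  [nat_lit 0, nat_lit 1, nat_lit 0, nat_lit 1, nat_lit 1, nat_lit 1, nat_lit 1, nat_lit 0, nat_lit 1, nat_lit 1, nat_lit 0, nat_lit 1, nat_lit 1],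
  [nat_lit 0, nat_lit 0, nat_lit 0, nat_lit 0, nat_lit 0, nat_lit 0, nat_lit 0, nat_lit 0, nat_lit 1, nat_lit 0, nat_lit 1, nat_lit 1, nat_lit 1],
  [nat_lit 0, nat_lit 1, nat_lit 1, nat_lit 0, nat_lit 1, nat_lit 0, nat_lit 0, nat_lit 0, nat_lit 1, nat_lit 0, nat_lit 1, nat_lit 1, nat_lit 1],
  [],
  [nat_lit 1, nat_lit 0, nat_lit 1, nat_lit 0, nat_lit 1, nat_lit 0, nat_lit 0, nat_lit 1, nat_lit 1, nat_lit 1, nat_lit 0, nat_lit 1, nat_lit 0],
  [],
  [nat_lit 1, nat_lit 1, nat_lit 0, nat_lit 0, nat_lit 1, nat_lit 0, nat_lit 0, nat_lit 0],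
  [nat_lit 0, nat_lit 1, nat_lit 0, nat_lit 1, nat_lit 1, nat_lit 0, nat_lit 0, nat_lit 1],
  [nat_lit 0, nat_lit 0, nat_lit 0, nat_lit 0, nat_lit 1, nat_lit 1, nat_lit 1, nat_lit 1, nat_lit 1, nat_lit 1, nat_lit 0, nat_lit 0, nat_lit 0, nat_lit 0, nat_lit 0],
  [nat_lit 0, nat_lit 1, nat_lit 0, nat_lit 1, nat_lit 1, nat_lit 1, nat_lit 1, nat_lit 0, nat_lit 0, nat_lit 1, nat_lit 0, nat_lit 1, nat_lit 0, nat_lit 0],
  [nat_lit 1, nat_lit 1, nat_lit 0, nat_lit 1, nat_lit 1, nat_lit 1],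
  [nat_lit 1, nat_lit 1, nat_lit 0],
  [nat_lit 0, nat_lit 1, nat_lit 0, nat_lit 1, nat_lit 0],
  [nat_lit 0, nat_lit 1, nat_lit 1, nat_lit 1, nat_lit 1, nat_lit 0, nat_lit 0, nat_lit 1, nat_lit 1, nat_lit 0, nat_lit 0, nat_lit 1],
  [nat_lit 0, nat_lit 1, nat_lit 1, nat_lit 1, nat_lit 0, nat_lit 0, nat_lit 1, nat_lit 1, nat_lit 1, nat_lit 1, nat_lit 1, nat_lit 0],
  [nat_lit 0, nat_lit 0, nat_lit 0, nat_lit 0, nat_lit 0, nat_lit 1, nat_lit 1, nat_lit 0, nat_lit 0, nat_lit 0, nat_lit 0, nat_lit 1, nat_lit 1, nat_lit 1],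
  [nat_lit 0, nat_lit 1, nat_lit 1, nat_lit 0, nat_lit 0, nat_lit 0, nat_lit 0],
  [nat_lit 1, nat_lit 1, nat_lit 0, nat_lit 1, nat_lit 0, nat_lit 1, nat_lit 0, nat_lit 0, nat_lit 1, nat_lit 0, nat_lit 1, nat_lit 1, nat_lit 0, nat_lit 1],
  [nat_lit 0, nat_lit 1, nat_lit 1, nat_lit 1, nat_lit 0, nat_lit 0, nat_lit 1, nat_lit 0, nat_lit 1, nat_lit 1, nat_lit 1, nat_lit 1, nat_lit 0, nat_lit 1, nat_lit 0],
  [nat_lit 0, nat_lit 1, nat_lit 1, nat_lit 0, nat_lit 0, nat_lit 0, nat_lit 0],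
  [nat_lit 1, nat_lit 1, nat_lit 1, nat_lit 0, nat_lit 1, nat_lit 0, nat_lit 1],
  [nat_lit 1, nat_lit 0, nat_lit 0, nat_lit 1, nat_lit 1, nat_lit 1, nat_lit 1, nat_lit 1, nat_lit 1, nat_lit 1, nat_lit 0, nat_lit 0],
  [nat_lit 1, nat_lit 1, nat_lit 0, nat_lit 0, nat_lit 1, nat_lit 0, nat_lit 0],
  [nat_lit 1, nat_lit 1, nat_lit 1, nat_lit 0, nat_lit 1, nat_lit 0, nat_lit 1],
  [nat_lit 0, nat_lit 1, nat_lit 0, nat_lit 0, nat_lit 0, nat_lit 0, nat_lit 0, nat_lit 0, nat_lit 0, nat_lit 0, nat_lit 1],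
  [nat_lit 0, nat_lit 1],
  [nat_lit 0, nat_lit 0, nat_lit 0, nat_lit 1, nat_lit 0, nat_lit 0, nat_lit 1, nat_lit 0, nat_lit 0],
  [nat_lit 0, nat_lit 1, nat_lit 0, nat_lit 0, nat_lit 0, nat_lit 0, nat_lit 0, nat_lit 0, nat_lit 0, nat_lit 0, nat_lit 1],
  [nat_lit 1, nat_lit 1, nat_lit 0, nat_lit 0, nat_lit 0, nat_lit 1, nat_lit 1, nat_lit 0, nat_lit 0],
  [nat_lit 1, nat_lit 0, nat_lit 0, nat_lit 0, nat_lit 1, nat_lit 0, nat_lit 1, nat_lit 1, nat_lit 0, nat_lit 1, nat_lit 1, nat_lit 1, nat_lit 1, nat_lit 0, nat_lit 1, nat_lit 0],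
  [nat_lit 0, nat_lit 1, nat_lit 1, nat_lit 0, nat_lit 0, nat_lit 0, nat_lit 1, nat_lit 0, nat_lit 0, nat_lit 0, nat_lit 1, nat_lit 0, nat_lit 1, nat_lit 1],
  [nat_lit 1, nat_lit 1, nat_lit 0, nat_lit 0, nat_lit 0, nat_lit 1, nat_lit 1, nat_lit 0, nat_lit 0],
  [nat_lit 1, nat_lit 1, nat_lit 1, nat_lit 0, nat_lit 0, nat_lit 1, nat_lit 1, nat_lit 0, nat_lit 0, nat_lit 0, nat_lit 0, nat_lit 0],
  [nat_lit 0, nat_lit 1, nat_lit 0, nat_lit 1, nat_lit 0, nat_lit 0, nat_lit 1, nat_lit 1, nat_lit 0, nat_lit 1, nat_lit 1, nat_lit 1, nat_lit 0, nat_lit 0, nat_lit 1, nat_lit 1],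
  [nat_lit 0, nat_lit 1, nat_lit 0, nat_lit 1, nat_lit 1, nat_lit 0, nat_lit 1, nat_lit 0, nat_lit 0, nat_lit 0, nat_lit 1, nat_lit 0, nat_lit 1, nat_lit 1],
  [nat_lit 0, nat_lit 1, nat_lit 1, nat_lit 1, nat_lit 0, nat_lit 1, nat_lit 0, nat_lit 1, nat_lit 1, nat_lit 1, nat_lit 1, nat_lit 1],
  [nat_lit 1, nat_lit 0, nat_lit 1, nat_lit 0, nat_lit 0, nat_lit 0, nat_lit 1, nat_lit 0, nat_lit 1, nat_lit 0, nat_lit 0],
  [nat_lit 1, nat_lit 0, nat_lit 1, nat_lit 0, nat_lit 0, nat_lit 0, nat_lit 0, nat_lit 1, nat_lit 0, nat_lit 1, nat_lit 1, nat_lit 0, nat_lit 0, nat_lit 0, nat_lit 0, nat_lit 1],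
  [nat_lit 1, nat_lit 1, nat_lit 1, nat_lit 0, nat_lit 0, nat_lit 0, nat_lit 0, nat_lit 1, nat_lit 0, nat_lit 0, nat_lit 1, nat_lit 0, nat_lit 1, nat_lit 1],
  [nat_lit 0, nat_lit 1, nat_lit 0, nat_lit 0, nat_lit 0, nat_lit 0, nat_lit 1, nat_lit 1, nat_lit 0, nat_lit 1, nat_lit 0, nat_lit 1, nat_lit 0, nat_lit 0],
  [nat_lit 0, nat_lit 1, nat_lit 1, nat_lit 0, nat_lit 0, nat_lit 0, nat_lit 0, nat_lit 0, nat_lit 1],
  [nat_lit 0, nat_lit 0, nat_lit 0, nat_lit 1, nat_lit 0, nat_lit 0, nat_lit 0, nat_lit 1],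
  [nat_lit 1, nat_lit 0, nat_lit 1, nat_lit 0, nat_lit 1, nat_lit 1, nat_lit 0, nat_lit 0, nat_lit 1, nat_lit 0, nat_lit 0],
  [nat_lit 0, nat_lit 1, nat_lit 0, nat_lit 0, nat_lit 1, nat_lit 1, nat_lit 1, nat_lit 1, nat_lit 1, nat_lit 1, nat_lit 0, nat_lit 1, nat_lit 0, nat_lit 0, nat_lit 0],
  [nat_lit 0, nat_lit 1, nat_lit 1, nat_lit 0, nat_lit 1, nat_lit 1, nat_lit 1, nat_lit 0],
  [nat_lit 1, nat_lit 1, nat_lit 1, nat_lit 0, nat_lit 0, nat_lit 0, nat_lit 1, nat_lit 1, nat_lit 1, nat_lit 0],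
  [nat_lit 1, nat_lit 0, nat_lit 0, nat_lit 0, nat_lit 0, nat_lit 0, nat_lit 1, nat_lit 0, nat_lit 0, nat_lit 0, nat_lit 1, nat_lit 1, nat_lit 1, nat_lit 1, nat_lit 1],
  [nat_lit 0, nat_lit 1, nat_lit 1, nat_lit 0, nat_lit 1, nat_lit 1, nat_lit 1, nat_lit 0],
  [nat_lit 1, nat_lit 1, nat_lit 1, nat_lit 1, nat_lit 1],
  [nat_lit 1, nat_lit 1, nat_lit 0, nat_lit 1, nat_lit 0, nat_lit 1, nat_lit 1, nat_lit 0, nat_lit 0, nat_lit 0, nat_lit 0, nat_lit 1, nat_lit 1, nat_lit 1, nat_lit 1, nat_lit 0],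
  [nat_lit 0, nat_lit 0, nat_lit 1, nat_lit 0, nat_lit 0, nat_lit 0, nat_lit 1, nat_lit 0, nat_lit 1, nat_lit 0, nat_lit 0, nat_lit 0, nat_lit 0, nat_lit 1, nat_lit 1, nat_lit 1],
  [nat_lit 1, nat_lit 1, nat_lit 1, nat_lit 1, nat_lit 1],
  [nat_lit 1, nat_lit 0, nat_lit 0, nat_lit 1, nat_lit 1, nat_lit 0, nat_lit 0, nat_lit 1, nat_lit 1, nat_lit 1, nat_lit 0],
  [nat_lit 1, nat_lit 1, nat_lit 1, nat_lit 1, nat_lit 1, nat_lit 0, nat_lit 0, nat_lit 1, nat_lit 1],
  [nat_lit 1, nat_lit 0, nat_lit 1, nat_lit 1, nat_lit 0, nat_lit 1, nat_lit 1, nat_lit 1],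
  [nat_lit 1, nat_lit 0, nat_lit 1, nat_lit 0, nat_lit 1],
  [],
  [nat_lit 1, nat_lit 1, nat_lit 0, nat_lit 0, nat_lit 1, nat_lit 0, nat_lit 0, nat_lit 0],
  [nat_lit 0, nat_lit 0, nat_lit 1, nat_lit 1, nat_lit 1, nat_lit 1, nat_lit 1, nat_lit 0, nat_lit 1, nat_lit 1]]
theorem Mcfus : fusOK roots Mcs Mcrep Mcw = true := by decide +kernel

def Hss : List ℕ := [nat_lit 0x729484210a421084294842908421064210a51948528c65210a520c6329484210a32948319465210a521465194842106519483194a521065214a329484210a528c8518ca3210652146529484210a319485194a3210a320ca5294842106329485294a3210a52146328c8518c84210642108418c8439084210a42106528c8329463210a520ca52948538c84210642108418c8419084210a4210a52948328ca3210a3214a319484210652948518c65210a3214a528c84210632948528ca52106520ca51948518c84210642108419c8419084210a4210a528c85194a5210a520ca318c8518c84210e42108418c8419084210a519c84210642108418c8419084210a4210a318c8328ca5210a5214a528c842106518c85294a5210a32146519484210a529483294a52106320c6528c84210a328c852946521063214a32948518c84210642108438c8419084210a4210a5194852946321065214a518c8329484210a4210842948429084210e,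
  nat_lit 0x821084210842108421084210842108421084210842208421084210842108421084210842108421084211042108421084210842108821084210842108421084410842108421084210842108441084210842108421084210842108421084210842108421084210882108421104210842108421084210842108421084210842108441084210842108421084220842108421084210842108421084210842108421084210844108421084210842108422084210842108421084210844108421084210842108422084210842108421084210842108421084210882108421084210842108421084210842108421084210842208421084211042108421084210842108421084210842108421084410842108421084210842110421084210842108421084210842108421084220842108421084210842108421088210842108421084210842108421104210842108421088210842108421084210842108421084210842108421084210842110]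
def Hsrep : List ℕ := [nat_lit 0, nat_lit 1, nat_lit 2, nat_lit 3, nat_lit 4, nat_lit 5, nat_lit 6, nat_lit 7, nat_lit 8, nat_lit 9, nat_lit 10, nat_lit 11, nat_lit 12, nat_lit 13, nat_lit 14, nat_lit 7, nat_lit 12, nat_lit 17, nat_lit 18, nat_lit 4, nat_lit 1, nat_lit 5, nat_lit 5, nat_lit 2, nat_lit 6, nat_lit 25, nat_lit 26, nat_lit 13, nat_lit 10, nat_lit 17, nat_lit 4, nat_lit 5, nat_lit 32, nat_lit 6, nat_lit 26, nat_lit 35, nat_lit 36, nat_lit 37, nat_lit 38, nat_lit 39, nat_lit 40, nat_lit 41, nat_lit 42, nat_lit 43, nat_lit 37, nat_lit 45, nat_lit 38, nat_lit 39, nat_lit 48, nat_lit 40, nat_lit 50, nat_lit 11, nat_lit 7, nat_lit 0, nat_lit 0, nat_lit 5, nat_lit 4, nat_lit 11, nat_lit 18, nat_lit 17, nat_lit 4, nat_lit 25, nat_lit 38, nat_lit 39, nat_lit 45, nat_lit 35, nat_lit 43, nat_lit 37, nat_lit 36, nat_lit 40, nat_lit 45, nat_lit 38, nat_lit 37, nat_lit 41, nat_lit 48, nat_lit 39, nat_lit 40, nat_lit 36, nat_lit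 2, nat_lit 6, nat_lit 32, nat_lit 12, nat_lit 1, nat_lit 4, nat_lit 32, nat_lit 13, nat_lit 25, nat_lit 6, nat_lit 26, nat_lit 18, nat_lit 50, nat_lit 41, nat_lit 40, nat_lit 37, nat_lit 39, nat_lit 38, nat_lit 48, nat_lit 42, nat_lit 3, nat_lit 5, nat_lit 6, nat_lit 14, nat_lit 14, nat_lit 10, nat_lit 3]
def Hsw : List (List ℕ) := [[],
  [],
  [],
  [],
  [],
  [],
  [],
  [],
  [],
  [],
  [],
  [],
  [],
  [],
  [],
  [nat_lit 0, nat_lit 0, nat_lit 0],
  [nat_lit 1, nat_lit 1, nat_lit 1, nat_lit 1, nat_lit 0, nat_lit 1, nat_lit 1, nat_lit 0, nat_lit 0, nat_lit 1, nat_lit 1],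
  [],
  [],
  [nat_lit 0, nat_lit 1, nat_lit 0, nat_lit 1, nat_lit 1, nat_lit 1, nat_lit 0, nat_lit 0, nat_lit 0, nat_lit 0, nat_lit 0, nat_lit 1, nat_lit 1, nat_lit 0, nat_lit 0, nat_lit 0],
  [nat_lit 0, nat_lit 0, nat_lit 1, nat_lit 1, nat_lit 0, nat_lit 0, nat_lit 1, nat_lit 0],
  [nat_lit 0, nat_lit 1, nat_lit 1, nat_lit 1, nat_lit 1, nat_lit 0, nat_lit 1, nat_lit 1, nat_lit 1, nat_lit 1, nat_lit 1, nat_lit 1],
  [nat_lit 1, nat_lit 1, nat_lit 1, nat_lit 1, nat_lit 1, nat_lit 0, nat_lit 1, nat_lit 1, nat_lit 1, nat_lit 1, nat_lit 0],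
  [nat_lit 1, nat_lit 1, nat_lit 1, nat_lit 1, nat_lit 0, nat_lit 1, nat_lit 1, nat_lit 0, nat_lit 0, nat_lit 1, nat_lit 1],
  [nat_lit 1, nat_lit 1, nat_lit 0, nat_lit 1, nat_lit 1, nat_lit 0, nat_lit 0, nat_lit 1, nat_lit 1],
  [],
  [],
  [nat_lit 0, nat_lit 0, nat_lit 1, nat_lit 1, nat_lit 0, nat_lit 0, nat_lit 1, nat_lit 0],
  [nat_lit 0, nat_lit 0, nat_lit 0],
  [nat_lit 0, nat_lit 0, nat_lit 1, nat_lit 0, nat_lit 0, nat_lit 0, nat_lit 1, nat_lit 1, nat_lit 0, nat_lit 0, nat_lit 1, nat_lit 0, nat_lit 1, nat_lit 1],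
  [nat_lit 1, nat_lit 1, nat_lit 1, nat_lit 1, nat_lit 0, nat_lit 0, nat_lit 0, nat_lit 1, nat_lit 0, nat_lit 1, nat_lit 0, nat_lit 0, nat_lit 1],
  [nat_lit 0, nat_lit 1, nat_lit 0, nat_lit 1, nat_lit 1, nat_lit 1, nat_lit 0, nat_lit 1, nat_lit 0, nat_lit 0, nat_lit 0, nat_lit 1, nat_lit 1],
  [],
  [nat_lit 1, nat_lit 1, nat_lit 1, nat_lit 0, nat_lit 1, nat_lit 1, nat_lit 0, nat_lit 1, nat_lit 0, nat_lit 0, nat_lit 1, nat_lit 1],
  [nat_lit 0, nat_lit 0, nat_lit 1, nat_lit 1, nat_lit 1, nat_lit 1, nat_lit 0, nat_lit 1, nat_lit 1, nat_lit 1, nat_lit 0],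
  [],
  [],
  [],
  [],
  [],
  [],
  [],
  [],
  [],
  [nat_lit 0, nat_lit 1, nat_lit 0, nat_lit 0, nat_lit 1, nat_lit 1, nat_lit 0, nat_lit 1, nat_lit 0, nat_lit 0, nat_lit 1, nat_lit 0, nat_lit 1, nat_lit 0, nat_lit 1],
  [],
  [nat_lit 1, nat_lit 1, nat_lit 0, nat_lit 0, nat_lit 0, nat_lit 0, nat_lit 0, nat_lit 1, nat_lit 0, nat_lit 0, nat_lit 1],
  [nat_lit 1, nat_lit 1, nat_lit 0, nat_lit 0, nat_lit 1, nat_lit 1, nat_lit 1, nat_lit 0, nat_lit 1, nat_lit 1, nat_lit 1, nat_lit 0, nat_lit 0],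
  [],
  [nat_lit 0, nat_lit 0, nat_lit 0, nat_lit 0, nat_lit 0, nat_lit 1, nat_lit 0, nat_lit 0, nat_lit 0, nat_lit 1, nat_lit 0, nat_lit 0, nat_lit 1, nat_lit 1],
  [],
  [nat_lit 0, nat_lit 1, nat_lit 1, nat_lit 1, nat_lit 1, nat_lit 0],
  [nat_lit 0, nat_lit 0, nat_lit 0, nat_lit 0, nat_lit 0, nat_lit 1],
  [nat_lit 0, nat_lit 1, nat_lit 1, nat_lit 1, nat_lit 1, nat_lit 0],
  [nat_lit 1, nat_lit 0, nat_lit 1, nat_lit 1, nat_lit 0, nat_lit 0],
  [nat_lit 1, nat_lit 0, nat_lit 0, nat_lit 1, nat_lit 1, nat_lit 0, nat_lit 1, nat_lit 1, nat_lit 0],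
  [nat_lit 1, nat_lit 1, nat_lit 0, nat_lit 0, nat_lit 0, nat_lit 0, nat_lit 0, nat_lit 0, nat_lit 1, nat_lit 0, nat_lit 0, nat_lit 1, nat_lit 1, nat_lit 0],
  [nat_lit 1, nat_lit 0, nat_lit 1, nat_lit 1, nat_lit 0, nat_lit 0],
  [nat_lit 0, nat_lit 0, nat_lit 1, nat_lit 1, nat_lit 0, nat_lit 1, nat_lit 1, nat_lit 0, nat_lit 1, nat_lit 0],
  [nat_lit 0, nat_lit 1, nat_lit 1, nat_lit 1, nat_lit 0, nat_lit 0, nat_lit 1, nat_lit 1, nat_lit 1, nat_lit 1, nat_lit 1],
  [nat_lit 1, nat_lit 1, nat_lit 1, nat_lit 0, nat_lit 1, nat_lit 0, nat_lit 1, nat_lit 0, nat_lit 0, nat_lit 1, nat_lit 1, nat_lit 0],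
  [nat_lit 0, nat_lit 0, nat_lit 1, nat_lit 1, nat_lit 0, nat_lit 1, nat_lit 1, nat_lit 0, nat_lit 1, nat_lit 0],
  [nat_lit 1, nat_lit 1, nat_lit 0, nat_lit 1, nat_lit 1, nat_lit 1, nat_lit 0, nat_lit 0, nat_lit 1, nat_lit 1, nat_lit 1, nat_lit 1, nat_lit 1, nat_lit 1],
  [nat_lit 0, nat_lit 1, nat_lit 1, nat_lit 1, nat_lit 0, nat_lit 1, nat_lit 1, nat_lit 1, nat_lit 0, nat_lit 1, nat_lit 1, nat_lit 1],
  [nat_lit 1, nat_lit 0, nat_lit 1, nat_lit 1, nat_lit 0, nat_lit 0, nat_lit 0, nat_lit 1, nat_lit 0, nat_lit 1, nat_lit 1, nat_lit 1, nat_lit 0],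
  [nat_lit 0, nat_lit 1, nat_lit 1, nat_lit 0, nat_lit 0, nat_lit 1],
  [nat_lit 0, nat_lit 0, nat_lit 0, nat_lit 1, nat_lit 0, nat_lit 0, nat_lit 0],
  [nat_lit 0, nat_lit 0, nat_lit 0, nat_lit 0, nat_lit 1, nat_lit 1, nat_lit 0, nat_lit 1, nat_lit 0, nat_lit 0, nat_lit 1, nat_lit 0, nat_lit 1, nat_lit 1, nat_lit 0],
  [nat_lit 1, nat_lit 0, nat_lit 1, nat_lit 1, nat_lit 1, nat_lit 0, nat_lit 0, nat_lit 1, nat_lit 1, nat_lit 1, nat_lit 1, nat_lit 1],
  [nat_lit 1, nat_lit 0, nat_lit 0, nat_lit 0, nat_lit 1, nat_lit 0, nat_lit 1, nat_lit 0, nat_lit 1, nat_lit 1, nat_lit 1, nat_lit 1],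
  [nat_lit 0, nat_lit 1, nat_lit 0, nat_lit 1, nat_lit 1, nat_lit 0, nat_lit 0, nat_lit 1, nat_lit 1, nat_lit 1, nat_lit 1, nat_lit 1, nat_lit 0],
  [nat_lit 0, nat_lit 1, nat_lit 0, nat_lit 0, nat_lit 0, nat_lit 1, nat_lit 0, nat_lit 1, nat_lit 0, nat_lit 0, nat_lit 0],
  [nat_lit 1, nat_lit 0, nat_lit 1, nat_lit 0, nat_lit 1, nat_lit 1, nat_lit 0, nat_lit 1, nat_lit 1, nat_lit 1, nat_lit 1, nat_lit 1],
  [nat_lit 1, nat_lit 1, nat_lit 1, nat_lit 0, nat_lit 1, nat_lit 0, nat_lit 1, nat_lit 0, nat_lit 1, nat_lit 0, nat_lit 0, nat_lit 1],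
  [nat_lit 0, nat_lit 1, nat_lit 1, nat_lit 0, nat_lit 0, nat_lit 0, nat_lit 0, nat_lit 0, nat_lit 0],
  [nat_lit 1, nat_lit 1, nat_lit 0, nat_lit 1, nat_lit 1, nat_lit 1, nat_lit 1, nat_lit 0, nat_lit 0, nat_lit 1, nat_lit 0, nat_lit 0, nat_lit 0],
  [nat_lit 1, nat_lit 1, nat_lit 0, nat_lit 1, nat_lit 1, nat_lit 0, nat_lit 1, nat_lit 1, nat_lit 0, nat_lit 0, nat_lit 1, nat_lit 1],
  [nat_lit 1, nat_lit 1, nat_lit 1, nat_lit 1, nat_lit 0, nat_lit 0, nat_lit 1, nat_lit 1, nat_lit 1, nat_lit 1, nat_lit 0],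
  [nat_lit 0, nat_lit 1, nat_lit 1, nat_lit 1, nat_lit 0, nat_lit 1, nat_lit 0, nat_lit 1, nat_lit 0, nat_lit 0],
  [nat_lit 0, nat_lit 1, nat_lit 0, nat_lit 0, nat_lit 0, nat_lit 0, nat_lit 0, nat_lit 1, nat_lit 1, nat_lit 1, nat_lit 0, nat_lit 0, nat_lit 0, nat_lit 0, nat_lit 1, nat_lit 1],
  [nat_lit 0, nat_lit 1, nat_lit 1, nat_lit 0, nat_lit 1, nat_lit 1, nat_lit 0, nat_lit 0, nat_lit 0, nat_lit 1],
  [nat_lit 0, nat_lit 1, nat_lit 1, nat_lit 1, nat_lit 0, nat_lit 1, nat_lit 0, nat_lit 1, nat_lit 0, nat_lit 0],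
  [nat_lit 0, nat_lit 0, nat_lit 1, nat_lit 0, nat_lit 1, nat_lit 1, nat_lit 0, nat_lit 0],
  [nat_lit 1, nat_lit 1, nat_lit 0, nat_lit 1, nat_lit 1, nat_lit 0, nat_lit 1, nat_lit 1, nat_lit 0, nat_lit 1],
  [nat_lit 0, nat_lit 0, nat_lit 1, nat_lit 0, nat_lit 0, nat_lit 1, nat_lit 0, nat_lit 0, nat_lit 1, nat_lit 1, nat_lit 0, nat_lit 1, nat_lit 1],
  [nat_lit 0, nat_lit 0, nat_lit 1, nat_lit 0, nat_lit 1, nat_lit 1, nat_lit 0, nat_lit 0],
  [nat_lit 0, nat_lit 1, nat_lit 1, nat_lit 1, nat_lit 0, nat_lit 0, nat_lit 0, nat_lit 1, nat_lit 1],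
  [nat_lit 1, nat_lit 1, nat_lit 0, nat_lit 1, nat_lit 1, nat_lit 0, nat_lit 1, nat_lit 1, nat_lit 1, nat_lit 1, nat_lit 1, nat_lit 0],
  [nat_lit 0, nat_lit 0, nat_lit 1, nat_lit 1, nat_lit 0, nat_lit 0, nat_lit 0, nat_lit 1, nat_lit 0, nat_lit 1, nat_lit 1],
  [nat_lit 0, nat_lit 1, nat_lit 1, nat_lit 1, nat_lit 0, nat_lit 0, nat_lit 0, nat_lit 1, nat_lit 1],
  [nat_lit 1, nat_lit 0, nat_lit 1, nat_lit 0, nat_lit 1],
  [nat_lit 0, nat_lit 0, nat_lit 1, nat_lit 0, nat_lit 0, nat_lit 1, nat_lit 0, nat_lit 0, nat_lit 0, nat_lit 0, nat_lit 1, nat_lit 1],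
  [nat_lit 0, nat_lit 0, nat_lit 1, nat_lit 0, nat_lit 0, nat_lit 0, nat_lit 0, nat_lit 1, nat_lit 0, nat_lit 1, nat_lit 0, nat_lit 0, nat_lit 0, nat_lit 0],
  [nat_lit 1, nat_lit 1, nat_lit 1, nat_lit 1, nat_lit 1, nat_lit 1, nat_lit 0, nat_lit 1, nat_lit 0, nat_lit 0, nat_lit 0],
  [nat_lit 0, nat_lit 1, nat_lit 1, nat_lit 1, nat_lit 0, nat_lit 0, nat_lit 0, nat_lit 0, nat_lit 1, nat_lit 1, nat_lit 0, nat_lit 1, nat_lit 0],
  [nat_lit 1, nat_lit 1, nat_lit 1, nat_lit 1, nat_lit 1, nat_lit 0, nat_lit 0, nat_lit 1, nat_lit 0, nat_lit 0],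
  [nat_lit 1, nat_lit 0, nat_lit 0, nat_lit 1, nat_lit 0, nat_lit 0, nat_lit 1, nat_lit 0, nat_lit 0, nat_lit 0, nat_lit 1],
  [nat_lit 0, nat_lit 1, nat_lit 1, nat_lit 0, nat_lit 0],
  [nat_lit 1, nat_lit 0, nat_lit 1, nat_lit 0, nat_lit 0, nat_lit 1],
  [nat_lit 1, nat_lit 0, nat_lit 0, nat_lit 0, nat_lit 0, nat_lit 0, nat_lit 1, nat_lit 1, nat_lit 0, nat_lit 1],
  [nat_lit 1, nat_lit 0, nat_lit 0, nat_lit 0, nat_lit 1, nat_lit 1, nat_lit 1, nat_lit 0, nat_lit 1, nat_lit 0, nat_lit 0, nat_lit 0, nat_lit 1],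
  [nat_lit 1, nat_lit 0, nat_lit 1, nat_lit 0, nat_lit 0, nat_lit 1],
  [nat_lit 0, nat_lit 1, nat_lit 1, nat_lit 1, nat_lit 1, nat_lit 0],
  [nat_lit 0, nat_lit 0, nat_lit 0, nat_lit 0, nat_lit 0, nat_lit 1],
  [nat_lit 0, nat_lit 1, nat_lit 1, nat_lit 1, nat_lit 1, nat_lit 0]]
theorem Hsfus : fusOK roots Hss Hsrep Hsw = true := by decide +kernel

def U6s : List ℕ := [nat_lit 0x62106421064210a31908420ca32104421064218a6210a32908420c6521084210a4310a4208a52908420ca321084210a4218662106519084214a3210831948328c851948421465190842946411064210a4210a5190c4214a521084208a421064210a329086214a521085294832948319484214a529084194a328c8328c852948420ca3290841946421066210a42106329084214a321884210a4210a4310a3198842146321083294831948328c8420ca51908429464210a4110a4218a52908420ca32108328c852948319484214a31908428c642106421064310652988420ca52108319485294832948420c652908418c632948518c8518c84214a52908418c6431064210a4210a519044214a521084210a4210a4210631908430ca5310852948528c852948420ca51908428ca4218a421064210a329082214a521084210a621064210a51908420c65218842106421064210a52908431463310822106421064210a31908420ca3210c,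
  nat_lit 0x628c6420c84210832108420c8520c44194a420c84310852108420c8530c842946420c842188520884214852148321085190a528ca428ca3290641906428c64214843108321084214833148428ca620c84210852108420cc3214842946431484210852108430c8320c832108529065294a419465190641906521085290a5194a4294a319064290a418c6421484210853108620c852148521083190a5294a4194a5290a4190a32108319065194a429463290a42906321085190a319464194a5290642906419466214842108321084214c520c84294a42144421083210c420c8521484294a4214c4210832104420c852148321083290a329464294a3190a41906321083290a518ca418ca5190a42906418ca430c84210832108431485214842946420c842088521884214852148428ca42148621045210842148520c8428ca421482210c5210842148520c84294a420c8421083310862148320c8228c6420c84210832108420c8520cc]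
def U6rep : List ℕ := [nat_lit 0, nat_lit 1, nat_lit 2, nat_lit 3, nat_lit 4, nat_lit 5, nat_lit 6, nat_lit 6, nat_lit 8, nat_lit 9, nat_lit 4, nat_lit 3, nat_lit 12, nat_lit 13, nat_lit 0, nat_lit 4, nat_lit 1, nat_lit 5, nat_lit 3, nat_lit 6, nat_lit 12, nat_lit 21, nat_lit 22, nat_lit 13, nat_lit 4, nat_lit 0, nat_lit 5, nat_lit 2, nat_lit 6, nat_lit 22, nat_lit 4, nat_lit 5, nat_lit 5, nat_lit 6, nat_lit 21, nat_lit 35, nat_lit 36, nat_lit 37, nat_lit 38, nat_lit 39, nat_lit 40, nat_lit 41, nat_lit 42, nat_lit 39, nat_lit 35, nat_lit 40, nat_lit 36, nat_lit 41, nat_lit 37, nat_lit 42, nat_lit 38, nat_lit 51, nat_lit 22, nat_lit 53, nat_lit 13, nat_lit 4, nat_lit 22, nat_lit 1, nat_lit 1, nat_lit 4, nat_lit 5, nat_lit 13, nat_lit 35, nat_lit 40, nat_lit 39, nat_lit 36, nat_lit 40, nat_lit 36, nat_lit 35, nat_lit 39, nat_lit 41, nat_lit 37, nat_lit 36, nat_lit 40, nat_lit 36, nat_lit 40, nat_lit 41, nat_lit 37, nat_lit 0,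 nat_lit 5, nat_lit 4, nat_lit 3, nat_lit 3, nat_lit 5, nat_lit 6, nat_lit 0, nat_lit 2, nat_lit 5, nat_lit 6, nat_lit 12, nat_lit 37, nat_lit 42, nat_lit 41, nat_lit 38, nat_lit 42, nat_lit 37, nat_lit 38, nat_lit 41, nat_lit 12, nat_lit 6, nat_lit 21, nat_lit 2, nat_lit 102, nat_lit 21, nat_lit 104]
def U6w : List (List ℕ) := [[],
  [],
  [],
  [],
  [],
  [],
  [],
  [nat_lit 1, nat_lit 1, nat_lit 0, nat_lit 0, nat_lit 0, nat_lit 0, nat_lit 1, nat_lit 0, nat_lit 0, nat_lit 0, nat_lit 1, nat_lit 0, nat_lit 0, nat_lit 0],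
  [],
  [],
  [nat_lit 1, nat_lit 1, nat_lit 0, nat_lit 0, nat_lit 0, nat_lit 0, nat_lit 1, nat_lit 0, nat_lit 0, nat_lit 0, nat_lit 1, nat_lit 0, nat_lit 0, nat_lit 0],
  [nat_lit 1, nat_lit 0, nat_lit 1, nat_lit 1, nat_lit 0, nat_lit 0, nat_lit 0, nat_lit 0],
  [],
  [],
  [nat_lit 1, nat_lit 0, nat_lit 1, nat_lit 1, nat_lit 0, nat_lit 0, nat_lit 0, nat_lit 0],
  [nat_lit 1, nat_lit 0, nat_lit 0, nat_lit 1, nat_lit 1, nat_lit 1, nat_lit 1, nat_lit 1, nat_lit 1, nat_lit 0, nat_lit 1, nat_lit 1, nat_lit 0, nat_lit 1],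
  [nat_lit 1, nat_lit 0, nat_lit 1, nat_lit 1, nat_lit 1, nat_lit 0, nat_lit 0, nat_lit 1],
  [nat_lit 0, nat_lit 0, nat_lit 1, nat_lit 1, nat_lit 1, nat_lit 0, nat_lit 1, nat_lit 0, nat_lit 1, nat_lit 1, nat_lit 0, nat_lit 0, nat_lit 0, nat_lit 1, nat_lit 1],
  [nat_lit 1, nat_lit 0, nat_lit 1, nat_lit 1, nat_lit 0, nat_lit 0, nat_lit 1, nat_lit 1],
  [nat_lit 0, nat_lit 0, nat_lit 1, nat_lit 1, nat_lit 0, nat_lit 0, nat_lit 0, nat_lit 0, nat_lit 0, nat_lit 0, nat_lit 0, nat_lit 0, nat_lit 0],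
  [nat_lit 0, nat_lit 1, nat_lit 0, nat_lit 1, nat_lit 1, nat_lit 1, nat_lit 1],
  [],
  [],
  [nat_lit 1, nat_lit 0, nat_lit 1, nat_lit 1, nat_lit 1, nat_lit 0, nat_lit 0, nat_lit 1],
  [nat_lit 0, nat_lit 0, nat_lit 1, nat_lit 0, nat_lit 0, nat_lit 0, nat_lit 0, nat_lit 0, nat_lit 1, nat_lit 0, nat_lit 0, nat_lit 0, nat_lit 1, nat_lit 0],
  [nat_lit 1, nat_lit 1, nat_lit 0, nat_lit 0, nat_lit 0, nat_lit 0, nat_lit 1],
  [nat_lit 1, nat_lit 0, nat_lit 0, nat_lit 1, nat_lit 1, nat_lit 0, nat_lit 0, nat_lit 1, nat_lit 1, nat_lit 0, nat_lit 0, nat_lit 0, nat_lit 1, nat_lit 0, nat_lit 0, nat_lit 0],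
  [nat_lit 0, nat_lit 1, nat_lit 0, nat_lit 1, nat_lit 1, nat_lit 1, nat_lit 1],
  [nat_lit 1, nat_lit 0, nat_lit 0, nat_lit 1, nat_lit 1, nat_lit 1, nat_lit 1, nat_lit 1, nat_lit 1, nat_lit 0, nat_lit 1, nat_lit 1, nat_lit 0, nat_lit 1],
  [nat_lit 0, nat_lit 1, nat_lit 0, nat_lit 1, nat_lit 1, nat_lit 1, nat_lit 1, nat_lit 1],
  [nat_lit 1, nat_lit 0, nat_lit 1, nat_lit 0, nat_lit 0, nat_lit 1, nat_lit 0, nat_lit 0, nat_lit 1, nat_lit 0, nat_lit 1],
  [nat_lit 1, nat_lit 1, nat_lit 0, nat_lit 0, nat_lit 1, nat_lit 0, nat_lit 1, nat_lit 1, nat_lit 1, nat_lit 1],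
  [nat_lit 1, nat_lit 0, nat_lit 1, nat_lit 0, nat_lit 1, nat_lit 0, nat_lit 1, nat_lit 0, nat_lit 0, nat_lit 0, nat_lit 0, nat_lit 0, nat_lit 1, nat_lit 1],
  [nat_lit 0, nat_lit 1, nat_lit 0, nat_lit 0, nat_lit 1, nat_lit 0, nat_lit 0, nat_lit 0, nat_lit 0, nat_lit 1, nat_lit 0, nat_lit 1, nat_lit 1],
  [nat_lit 0, nat_lit 1, nat_lit 0, nat_lit 1, nat_lit 1, nat_lit 1, nat_lit 1, nat_lit 1],
  [],
  [],
  [],
  [],
  [],
  [],
  [],
  [],
  [nat_lit 0, nat_lit 1, nat_lit 1, nat_lit 1, nat_lit 0, nat_lit 1, nat_lit 1, nat_lit 0, nat_lit 0, nat_lit 1],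
  [nat_lit 1, nat_lit 1, nat_lit 0, nat_lit 1, nat_lit 1, nat_lit 1, nat_lit 1, nat_lit 0, nat_lit 1, nat_lit 1, nat_lit 1],
  [nat_lit 1, nat_lit 0, nat_lit 0, nat_lit 1, nat_lit 1, nat_lit 0, nat_lit 0, nat_lit 0, nat_lit 0, nat_lit 0, nat_lit 1, nat_lit 0, nat_lit 1, nat_lit 0, nat_lit 1],
  [nat_lit 1, nat_lit 1, nat_lit 1, nat_lit 0, nat_lit 1, nat_lit 0, nat_lit 1, nat_lit 1, nat_lit 1, nat_lit 1, nat_lit 1],
  [nat_lit 1, nat_lit 0, nat_lit 1, nat_lit 0, nat_lit 1, nat_lit 1, nat_lit 0, nat_lit 1, nat_lit 1, nat_lit 0, nat_lit 1, nat_lit 0, nat_lit 0, nat_lit 1, nat_lit 1],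
  [nat_lit 0, nat_lit 1, nat_lit 0, nat_lit 1, nat_lit 0, nat_lit 0, nat_lit 1, nat_lit 1, nat_lit 1, nat_lit 1, nat_lit 1, nat_lit 0, nat_lit 1, nat_lit 0, nat_lit 0],
  [nat_lit 0, nat_lit 1, nat_lit 0, nat_lit 0, nat_lit 0, nat_lit 0, nat_lit 1, nat_lit 1, nat_lit 1, nat_lit 1, nat_lit 1, nat_lit 1],
  [nat_lit 0, nat_lit 0, nat_lit 1, nat_lit 1, nat_lit 0, nat_lit 1, nat_lit 0, nat_lit 0, nat_lit 1, nat_lit 1, nat_lit 1],
  [],
  [nat_lit 0, nat_lit 0, nat_lit 1, nat_lit 0, nat_lit 1, nat_lit 1, nat_lit 0, nat_lit 1],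
  [],
  [nat_lit 0, nat_lit 0, nat_lit 0, nat_lit 1, nat_lit 1, nat_lit 1, nat_lit 0, nat_lit 1, nat_lit 1],
  [nat_lit 0, nat_lit 0, nat_lit 0, nat_lit 0, nat_lit 1, nat_lit 1, nat_lit 0, nat_lit 0, nat_lit 1, nat_lit 0, nat_lit 0, nat_lit 1, nat_lit 0],
  [nat_lit 0, nat_lit 1, nat_lit 1, nat_lit 1, nat_lit 1, nat_lit 0, nat_lit 1, nat_lit 1, nat_lit 1],
  [nat_lit 0, nat_lit 0, nat_lit 0, nat_lit 1, nat_lit 1, nat_lit 1, nat_lit 0, nat_lit 1, nat_lit 1],
  [nat_lit 0, nat_lit 1, nat_lit 0, nat_lit 0, nat_lit 0, nat_lit 1, nat_lit 1, nat_lit 0],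
  [nat_lit 1, nat_lit 0, nat_lit 1, nat_lit 1, nat_lit 1, nat_lit 1, nat_lit 1, nat_lit 1, nat_lit 0, nat_lit 1, nat_lit 0, nat_lit 0, nat_lit 0, nat_lit 0],
  [nat_lit 0, nat_lit 0, nat_lit 0, nat_lit 1, nat_lit 1, nat_lit 0, nat_lit 0, nat_lit 0, nat_lit 1, nat_lit 1, nat_lit 0, nat_lit 1, nat_lit 0, nat_lit 1, nat_lit 0, nat_lit 0],
  [nat_lit 0, nat_lit 1, nat_lit 0, nat_lit 0, nat_lit 0, nat_lit 1, nat_lit 1, nat_lit 0],
  [nat_lit 0, nat_lit 0, nat_lit 1, nat_lit 1, nat_lit 0, nat_lit 1, nat_lit 0, nat_lit 0, nat_lit 0, nat_lit 0],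
  [nat_lit 0, nat_lit 1, nat_lit 1, nat_lit 0, nat_lit 1, nat_lit 0, nat_lit 0, nat_lit 1, nat_lit 1, nat_lit 0, nat_lit 0],
  [nat_lit 0, nat_lit 1, nat_lit 0, nat_lit 0, nat_lit 0, nat_lit 0, nat_lit 0, nat_lit 0, nat_lit 1, nat_lit 0, nat_lit 0, nat_lit 1],
  [nat_lit 1, nat_lit 0, nat_lit 1, nat_lit 0, nat_lit 1, nat_lit 1, nat_lit 1, nat_lit 0, nat_lit 1, nat_lit 0, nat_lit 1, nat_lit 0, nat_lit 0],
  [nat_lit 0, nat_lit 1, nat_lit 1, nat_lit 0, nat_lit 0, nat_lit 1, nat_lit 0, nat_lit 1, nat_lit 1, nat_lit 0, nat_lit 0, nat_lit 1, nat_lit 1],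
  [nat_lit 0, nat_lit 1, nat_lit 0, nat_lit 0, nat_lit 1, nat_lit 1, nat_lit 0, nat_lit 1, nat_lit 1, nat_lit 0, nat_lit 0, nat_lit 0, nat_lit 0],
  [nat_lit 0, nat_lit 0, nat_lit 1, nat_lit 1],
  [nat_lit 0, nat_lit 1, nat_lit 1, nat_lit 0, nat_lit 1, nat_lit 1, nat_lit 1, nat_lit 0, nat_lit 0],
  [nat_lit 0, nat_lit 0, nat_lit 1, nat_lit 0, nat_lit 0, nat_lit 1, nat_lit 0, nat_lit 1, nat_lit 1, nat_lit 0, nat_lit 1, nat_lit 0, nat_lit 1, nat_lit 0, nat_lit 0, nat_lit 0],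
  [nat_lit 1, nat_lit 1, nat_lit 0, nat_lit 0, nat_lit 0, nat_lit 1, nat_lit 0, nat_lit 0, nat_lit 0, nat_lit 1],
  [nat_lit 0, nat_lit 0, nat_lit 1, nat_lit 1, nat_lit 1, nat_lit 1, nat_lit 0, nat_lit 1, nat_lit 1, nat_lit 1, nat_lit 0, nat_lit 1, nat_lit 1, nat_lit 1, nat_lit 0],
  [nat_lit 0, nat_lit 0, nat_lit 0, nat_lit 1, nat_lit 0, nat_lit 1, nat_lit 0, nat_lit 1, nat_lit 0, nat_lit 0, nat_lit 1, nat_lit 1, nat_lit 0, nat_lit 0, nat_lit 0, nat_lit 1],
  [nat_lit 0, nat_lit 1, nat_lit 0, nat_lit 0, nat_lit 1, nat_lit 1],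
  [nat_lit 1, nat_lit 0, nat_lit 1, nat_lit 0, nat_lit 1, nat_lit 1, nat_lit 0, nat_lit 1, nat_lit 0, nat_lit 0, nat_lit 1, nat_lit 0, nat_lit 1],
  [nat_lit 0, nat_lit 0, nat_lit 0, nat_lit 1, nat_lit 0, nat_lit 0, nat_lit 0, nat_lit 0, nat_lit 1, nat_lit 0, nat_lit 0, nat_lit 1],
  [nat_lit 1, nat_lit 0, nat_lit 0, nat_lit 1, nat_lit 1, nat_lit 0, nat_lit 0, nat_lit 1, nat_lit 0, nat_lit 0, nat_lit 1, nat_lit 0, nat_lit 1, nat_lit 1, nat_lit 0, nat_lit 1],
  [nat_lit 1, nat_lit 0, nat_lit 0, nat_lit 1, nat_lit 0, nat_lit 1, nat_lit 1, nat_lit 0, nat_lit 0, nat_lit 0, nat_lit 0],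
  [nat_lit 0, nat_lit 1, nat_lit 1, nat_lit 0, nat_lit 1, nat_lit 0, nat_lit 1, nat_lit 0, nat_lit 0, nat_lit 0, nat_lit 1],
  [nat_lit 0, nat_lit 1, nat_lit 1, nat_lit 0, nat_lit 0, nat_lit 0, nat_lit 1, nat_lit 1, nat_lit 1, nat_lit 1, nat_lit 1, nat_lit 0, nat_lit 1, nat_lit 0, nat_lit 1],
  [nat_lit 0, nat_lit 1, nat_lit 0, nat_lit 1, nat_lit 1, nat_lit 0, nat_lit 1, nat_lit 0, nat_lit 0, nat_lit 1],
  [nat_lit 0, nat_lit 1, nat_lit 1, nat_lit 0, nat_lit 1, nat_lit 1, nat_lit 1, nat_lit 1, nat_lit 0, nat_lit 0, nat_lit 1, nat_lit 1],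
  [nat_lit 0, nat_lit 0, nat_lit 0, nat_lit 0, nat_lit 1, nat_lit 0, nat_lit 0, nat_lit 1, nat_lit 0, nat_lit 1, nat_lit 1, nat_lit 1, nat_lit 1, nat_lit 0, nat_lit 1, nat_lit 1],
  [nat_lit 1, nat_lit 1, nat_lit 1, nat_lit 1, nat_lit 0, nat_lit 0, nat_lit 1, nat_lit 1, nat_lit 0, nat_lit 0, nat_lit 0, nat_lit 0, nat_lit 1, nat_lit 1, nat_lit 1],
  [nat_lit 1, nat_lit 1, nat_lit 1, nat_lit 0, nat_lit 1, nat_lit 0, nat_lit 1, nat_lit 1],
  [nat_lit 0, nat_lit 0, nat_lit 0, nat_lit 0, nat_lit 0, nat_lit 1, nat_lit 1],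
  [nat_lit 0, nat_lit 0, nat_lit 0, nat_lit 1, nat_lit 0, nat_lit 1, nat_lit 0, nat_lit 1, nat_lit 0, nat_lit 0, nat_lit 1, nat_lit 1, nat_lit 0, nat_lit 1, nat_lit 1, nat_lit 0],
  [nat_lit 0, nat_lit 0, nat_lit 1, nat_lit 1, nat_lit 1, nat_lit 0, nat_lit 1, nat_lit 1, nat_lit 1, nat_lit 0, nat_lit 1, nat_lit 1, nat_lit 1, nat_lit 1, nat_lit 1],
  [nat_lit 0, nat_lit 0, nat_lit 0, nat_lit 0, nat_lit 0, nat_lit 1, nat_lit 1],
  [nat_lit 0, nat_lit 1, nat_lit 0, nat_lit 1, nat_lit 0, nat_lit 1, nat_lit 1, nat_lit 0, nat_lit 0, nat_lit 0, nat_lit 0, nat_lit 1, nat_lit 0],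
  [nat_lit 0, nat_lit 0, nat_lit 0, nat_lit 1, nat_lit 1, nat_lit 0, nat_lit 0, nat_lit 1, nat_lit 0, nat_lit 0, nat_lit 0, nat_lit 1],
  [nat_lit 1, nat_lit 0, nat_lit 1, nat_lit 0, nat_lit 0, nat_lit 0, nat_lit 1, nat_lit 1, nat_lit 1, nat_lit 1, nat_lit 1, nat_lit 0, nat_lit 1, nat_lit 1],
  [nat_lit 1, nat_lit 1, nat_lit 0, nat_lit 1, nat_lit 1, nat_lit 1, nat_lit 1, nat_lit 1, nat_lit 1, nat_lit 1, nat_lit 0],
  [nat_lit 0, nat_lit 1, nat_lit 1, nat_lit 0, nat_lit 0, nat_lit 0, nat_lit 1],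
  [nat_lit 0, nat_lit 0, nat_lit 0, nat_lit 1, nat_lit 0, nat_lit 0, nat_lit 0, nat_lit 0, nat_lit 1, nat_lit 1, nat_lit 0, nat_lit 1, nat_lit 1, nat_lit 0, nat_lit 0],
  [nat_lit 0, nat_lit 1, nat_lit 1, nat_lit 0, nat_lit 1, nat_lit 0, nat_lit 1],
  [nat_lit 1, nat_lit 0, nat_lit 0, nat_lit 1, nat_lit 1, nat_lit 0, nat_lit 0, nat_lit 1, nat_lit 1, nat_lit 0, nat_lit 0, nat_lit 1, nat_lit 1, nat_lit 1],
  [nat_lit 0, nat_lit 0, nat_lit 0, nat_lit 0, nat_lit 1, nat_lit 0, nat_lit 0, nat_lit 0, nat_lit 1],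
  [nat_lit 1, nat_lit 0, nat_lit 0, nat_lit 1, nat_lit 1, nat_lit 1, nat_lit 1, nat_lit 0, nat_lit 1, nat_lit 1, nat_lit 0, nat_lit 1, nat_lit 1, nat_lit 1],
  [nat_lit 0, nat_lit 0, nat_lit 0, nat_lit 0, nat_lit 1, nat_lit 0, nat_lit 1, nat_lit 1],
  [nat_lit 0, nat_lit 0, nat_lit 0, nat_lit 0, nat_lit 1, nat_lit 0, nat_lit 0, nat_lit 0, nat_lit 1],
  [],
  [nat_lit 0, nat_lit 0, nat_lit 1, nat_lit 0, nat_lit 1, nat_lit 1, nat_lit 0, nat_lit 1],
  []]
theorem U6fus : fusOK roots U6s U6rep U6w = true := by decide +kernel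

def NUs : List ℕ := [nat_lit 0x421084210842108421084210842110421084210842108421084200842108421080210842108421084210842108421084210842108421084211042108421084410842108421084210842108421084210042108421084210842108421084210842108421080210842108421084210842008421084210842108421084210842108421084210882108421084200842108421084210842108421084210842108421084210842008421084210842108421084010842108401084210842108421084210842108421084210842108421084210844108421084210842108421004210842108421084210842108441084210842108421084210842110421084210842108421104210842108421084210842108421084210840108421084210842108421084210842108821084210842108421084210882108421084210842108422084210842108421084210842108421084210842108420084210842108821084210842108421084210842108,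
  nat_lit 0x821084210842108421084210842108421084210842108421084210842208421084210842108421084210802108421084210844108421084210842108421084210842108421084410842108421084210842108421084211042108421084210842008421084210842108421084210042108421084210842108421084210882108421084210842108421084210842108421084210840108421004210842108421084210842108401084210842108421084210842108421084210842108421084220842108421084210842108422084210842108421084210842108421088210842108421080210842108421084210842108421084210842108021084210842108421084410842108421084210842108421084210842108441084210842108421084210842108421104210842108421084210842110421084210842108421084220842108421084210842108422084210842108421084210842108421084210842108421084210842110]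
def NUrep : List ℕ := [nat_lit 0, nat_lit 1, nat_lit 0, nat_lit 1, nat_lit 4, nat_lit 4, nat_lit 4, nat_lit 7, nat_lit 8, nat_lit 8, nat_lit 10, nat_lit 0, nat_lit 0, nat_lit 1, nat_lit 1, nat_lit 15, nat_lit 16, nat_lit 15, nat_lit 16, nat_lit 15, nat_lit 16, nat_lit 15, nat_lit 22, nat_lit 16, nat_lit 22, nat_lit 16, nat_lit 22, nat_lit 16, nat_lit 22, nat_lit 29, nat_lit 29, nat_lit 29, nat_lit 29, nat_lit 29, nat_lit 29, nat_lit 35, nat_lit 35, nat_lit 35, nat_lit 35, nat_lit 39, nat_lit 39, nat_lit 39, nat_lit 39, nat_lit 35, nat_lit 39, nat_lit 35, nat_lit 39, nat_lit 35, nat_lit 39, nat_lit 35, nat_lit 39, nat_lit 51, nat_lit 52, nat_lit 51, nat_lit 54, nat_lit 55, nat_lit 55, nat_lit 54, nat_lit 51, nat_lit 52, nat_lit 52, nat_lit 51, nat_lit 62, nat_lit 63, nat_lit 63, nat_lit 65, nat_lit 65, nat_lit 63, nat_lit 63, nat_lit 62, nat_lit 65, nat_lit 63, nat_lit 63, nat_lit 62, nat_lit 62, nat_lit 63, nat_lit 63, nat_lit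 65, nat_lit 54, nat_lit 55, nat_lit 55, nat_lit 54, nat_lit 51, nat_lit 52, nat_lit 52, nat_lit 51, nat_lit 54, nat_lit 55, nat_lit 55, nat_lit 54, nat_lit 62, nat_lit 63, nat_lit 63, nat_lit 65, nat_lit 65, nat_lit 63, nat_lit 63, nat_lit 62, nat_lit 51, nat_lit 52, nat_lit 52, nat_lit 51, nat_lit 54, nat_lit 55, nat_lit 54]
def NUw : List (List ℕ) := [[],
  [],
  [nat_lit 1, nat_lit 0, nat_lit 1, nat_lit 1, nat_lit 0],
  [nat_lit 1, nat_lit 0, nat_lit 1, nat_lit 1, nat_lit 0],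
  [],
  [nat_lit 0, nat_lit 0, nat_lit 1, nat_lit 1, nat_lit 1, nat_lit 0, nat_lit 0, nat_lit 0, nat_lit 1],
  [nat_lit 0, nat_lit 1, nat_lit 0, nat_lit 1, nat_lit 1, nat_lit 1, nat_lit 1],
  [],
  [],
  [nat_lit 0],
  [],
  [nat_lit 0, nat_lit 0, nat_lit 0, nat_lit 0, nat_lit 0, nat_lit 1],
  [nat_lit 0, nat_lit 0, nat_lit 1, nat_lit 0, nat_lit 0, nat_lit 0, nat_lit 1],
  [nat_lit 0, nat_lit 0, nat_lit 0, nat_lit 0, nat_lit 0, nat_lit 1],
  [nat_lit 0, nat_lit 0, nat_lit 1, nat_lit 0, nat_lit 0, nat_lit 0, nat_lit 1],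
  [],
  [],
  [nat_lit 0, nat_lit 1, nat_lit 1, nat_lit 1, nat_lit 0, nat_lit 0, nat_lit 0, nat_lit 1],
  [nat_lit 0, nat_lit 0, nat_lit 1, nat_lit 0, nat_lit 0, nat_lit 1, nat_lit 1],
  [nat_lit 1, nat_lit 0, nat_lit 1, nat_lit 1, nat_lit 1, nat_lit 1, nat_lit 0, nat_lit 1, nat_lit 1, nat_lit 0, nat_lit 0, nat_lit 0],
  [nat_lit 1, nat_lit 1, nat_lit 1, nat_lit 1, nat_lit 1],
  [nat_lit 0, nat_lit 1, nat_lit 0, nat_lit 0, nat_lit 1, nat_lit 1, nat_lit 1, nat_lit 1, nat_lit 1, nat_lit 0, nat_lit 0],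
  [],
  [nat_lit 0, nat_lit 0, nat_lit 0, nat_lit 0, nat_lit 0, nat_lit 1, nat_lit 0, nat_lit 0, nat_lit 1, nat_lit 1, nat_lit 0, nat_lit 0, nat_lit 1],
  [nat_lit 0, nat_lit 1, nat_lit 1, nat_lit 1, nat_lit 0, nat_lit 0, nat_lit 0, nat_lit 1],
  [nat_lit 1, nat_lit 1, nat_lit 0, nat_lit 0, nat_lit 1, nat_lit 0, nat_lit 0, nat_lit 1, nat_lit 1, nat_lit 1, nat_lit 1, nat_lit 0, nat_lit 1],
  [nat_lit 1, nat_lit 0, nat_lit 1, nat_lit 1, nat_lit 1, nat_lit 1, nat_lit 0, nat_lit 1, nat_lit 1, nat_lit 0, nat_lit 0, nat_lit 0],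
  [nat_lit 0, nat_lit 1, nat_lit 1, nat_lit 1, nat_lit 1, nat_lit 0, nat_lit 0, nat_lit 0, nat_lit 0, nat_lit 0, nat_lit 0],
  [nat_lit 0, nat_lit 1, nat_lit 0, nat_lit 0, nat_lit 1, nat_lit 1, nat_lit 1, nat_lit 1, nat_lit 1, nat_lit 0, nat_lit 0],
  [],
  [nat_lit 0, nat_lit 0, nat_lit 1, nat_lit 1, nat_lit 1, nat_lit 0, nat_lit 0, nat_lit 1, nat_lit 1, nat_lit 1, nat_lit 0, nat_lit 0, nat_lit 1, nat_lit 1],
  [nat_lit 0, nat_lit 0, nat_lit 1, nat_lit 0, nat_lit 0, nat_lit 0, nat_lit 0, nat_lit 1, nat_lit 1, nat_lit 1, nat_lit 0, nat_lit 1, nat_lit 1],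
  [nat_lit 0, nat_lit 0, nat_lit 1, nat_lit 0, nat_lit 0, nat_lit 0, nat_lit 0, nat_lit 1, nat_lit 0, nat_lit 0, nat_lit 0, nat_lit 0, nat_lit 0, nat_lit 1, nat_lit 0, nat_lit 1],
  [nat_lit 0, nat_lit 0, nat_lit 1, nat_lit 0, nat_lit 1, nat_lit 1, nat_lit 0, nat_lit 0, nat_lit 1, nat_lit 0, nat_lit 0, nat_lit 1, nat_lit 1, nat_lit 0, nat_lit 1],
  [nat_lit 1, nat_lit 0, nat_lit 0, nat_lit 1, nat_lit 0, nat_lit 0, nat_lit 0, nat_lit 0, nat_lit 0, nat_lit 0, nat_lit 0, nat_lit 1, nat_lit 1],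
  [],
  [nat_lit 1, nat_lit 0, nat_lit 0, nat_lit 1, nat_lit 0, nat_lit 1, nat_lit 0, nat_lit 1, nat_lit 0, nat_lit 0, nat_lit 1],
  [nat_lit 0, nat_lit 1, nat_lit 0, nat_lit 0, nat_lit 1, nat_lit 1, nat_lit 1, nat_lit 1, nat_lit 0, nat_lit 0, nat_lit 1, nat_lit 0, nat_lit 1],
  [nat_lit 1, nat_lit 1, nat_lit 0, nat_lit 1, nat_lit 1, nat_lit 0, nat_lit 0, nat_lit 1, nat_lit 0, nat_lit 0, nat_lit 0, nat_lit 1, nat_lit 1, nat_lit 1],
  [],
  [nat_lit 0, nat_lit 0, nat_lit 1, nat_lit 0, nat_lit 0, nat_lit 1, nat_lit 1, nat_lit 1, nat_lit 0, nat_lit 0, nat_lit 1, nat_lit 0, nat_lit 0, nat_lit 1, nat_lit 1],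
  [nat_lit 0, nat_lit 1, nat_lit 1, nat_lit 0, nat_lit 1, nat_lit 0, nat_lit 0, nat_lit 0, nat_lit 1, nat_lit 0, nat_lit 1, nat_lit 0, nat_lit 0, nat_lit 0, nat_lit 0],
  [nat_lit 1, nat_lit 1, nat_lit 0, nat_lit 1, nat_lit 1, nat_lit 0, nat_lit 1, nat_lit 0, nat_lit 1, nat_lit 0, nat_lit 0, nat_lit 1, nat_lit 1, nat_lit 1, nat_lit 0],
  [nat_lit 0, nat_lit 1, nat_lit 1, nat_lit 1, nat_lit 1, nat_lit 0, nat_lit 1, nat_lit 0, nat_lit 0, nat_lit 0, nat_lit 1],
  [nat_lit 0, nat_lit 1, nat_lit 1, nat_lit 0, nat_lit 1, nat_lit 1, nat_lit 1, nat_lit 0, nat_lit 1, nat_lit 1, nat_lit 1, nat_lit 0, nat_lit 0],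
  [nat_lit 0, nat_lit 1, nat_lit 0, nat_lit 1, nat_lit 1, nat_lit 0, nat_lit 1, nat_lit 0, nat_lit 0, nat_lit 1, nat_lit 1, nat_lit 1, nat_lit 1],
  [nat_lit 0, nat_lit 1, nat_lit 0, nat_lit 1, nat_lit 1, nat_lit 1, nat_lit 1, nat_lit 0],
  [nat_lit 0, nat_lit 0, nat_lit 1, nat_lit 0, nat_lit 1, nat_lit 0, nat_lit 0, nat_lit 1, nat_lit 1, nat_lit 1, nat_lit 1, nat_lit 1, nat_lit 1, nat_lit 1, nat_lit 0, nat_lit 0],
  [nat_lit 0, nat_lit 1, nat_lit 0, nat_lit 1, nat_lit 1, nat_lit 0, nat_lit 1, nat_lit 1, nat_lit 1, nat_lit 1, nat_lit 1, nat_lit 1, nat_lit 0, nat_lit 0, nat_lit 1],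
  [nat_lit 0, nat_lit 0, nat_lit 1, nat_lit 0, nat_lit 1, nat_lit 1, nat_lit 0, nat_lit 0, nat_lit 0, nat_lit 0, nat_lit 0, nat_lit 0],
  [nat_lit 0, nat_lit 0, nat_lit 1, nat_lit 0, nat_lit 1, nat_lit 1, nat_lit 0, nat_lit 0, nat_lit 0, nat_lit 0, nat_lit 0, nat_lit 0],
  [],
  [],
  [nat_lit 0, nat_lit 1, nat_lit 1, nat_lit 1, nat_lit 0, nat_lit 1, nat_lit 1, nat_lit 0],
  [],
  [],
  [nat_lit 0, nat_lit 0, nat_lit 0, nat_lit 0, nat_lit 1, nat_lit 0, nat_lit 0, nat_lit 1, nat_lit 1, nat_lit 0, nat_lit 1, nat_lit 0, nat_lit 1, nat_lit 1],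
  [nat_lit 1, nat_lit 0, nat_lit 0, nat_lit 1, nat_lit 1, nat_lit 1, nat_lit 1, nat_lit 1, nat_lit 1, nat_lit 0],
  [nat_lit 1, nat_lit 0, nat_lit 1, nat_lit 0, nat_lit 0, nat_lit 1, nat_lit 0, nat_lit 0, nat_lit 1, nat_lit 1, nat_lit 0],
  [nat_lit 1, nat_lit 0, nat_lit 0, nat_lit 1, nat_lit 0, nat_lit 0, nat_lit 1, nat_lit 0, nat_lit 0, nat_lit 0, nat_lit 1, nat_lit 0, nat_lit 1, nat_lit 1, nat_lit 1],
  [nat_lit 1, nat_lit 0, nat_lit 1, nat_lit 0, nat_lit 0, nat_lit 1, nat_lit 0, nat_lit 0, nat_lit 1, nat_lit 1, nat_lit 0],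
  [nat_lit 0, nat_lit 0, nat_lit 1, nat_lit 1, nat_lit 0, nat_lit 0, nat_lit 1, nat_lit 1, nat_lit 0],
  [],
  [],
  [nat_lit 0, nat_lit 1, nat_lit 0, nat_lit 0, nat_lit 1, nat_lit 1, nat_lit 0, nat_lit 0, nat_lit 0, nat_lit 0, nat_lit 1, nat_lit 1, nat_lit 1, nat_lit 0],
  [],
  [nat_lit 1, nat_lit 1, nat_lit 0, nat_lit 1, nat_lit 1, nat_lit 0, nat_lit 1, nat_lit 0],
  [nat_lit 0, nat_lit 0, nat_lit 1, nat_lit 1, nat_lit 1, nat_lit 0, nat_lit 0, nat_lit 0, nat_lit 1, nat_lit 1, nat_lit 0, nat_lit 1, nat_lit 1, nat_lit 0],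
  [nat_lit 0, nat_lit 0, nat_lit 0, nat_lit 1, nat_lit 0, nat_lit 1, nat_lit 0, nat_lit 1, nat_lit 1, nat_lit 0, nat_lit 0, nat_lit 0, nat_lit 1, nat_lit 0],
  [nat_lit 1, nat_lit 1, nat_lit 0, nat_lit 1, nat_lit 1, nat_lit 0, nat_lit 1, nat_lit 0],
  [nat_lit 1, nat_lit 1, nat_lit 1, nat_lit 1, nat_lit 0, nat_lit 1, nat_lit 1],
  [nat_lit 0, nat_lit 0, nat_lit 0, nat_lit 1, nat_lit 1, nat_lit 1, nat_lit 0, nat_lit 1, nat_lit 1, nat_lit 0, nat_lit 1, nat_lit 0, nat_lit 1, nat_lit 0],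
  [nat_lit 0, nat_lit 0, nat_lit 1, nat_lit 1, nat_lit 0, nat_lit 1, nat_lit 0, nat_lit 1, nat_lit 0, nat_lit 0, nat_lit 1, nat_lit 0],
  [nat_lit 1, nat_lit 1, nat_lit 1, nat_lit 1, nat_lit 0, nat_lit 1, nat_lit 1],
  [nat_lit 1, nat_lit 0, nat_lit 1, nat_lit 1, nat_lit 0],
  [nat_lit 1, nat_lit 0, nat_lit 1, nat_lit 1, nat_lit 0],
  [nat_lit 1, nat_lit 0, nat_lit 0, nat_lit 0, nat_lit 1, nat_lit 0, nat_lit 1, nat_lit 0, nat_lit 1, nat_lit 0, nat_lit 0, nat_lit 1, nat_lit 1, nat_lit 0, nat_lit 1],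
  [nat_lit 1, nat_lit 0, nat_lit 1, nat_lit 1, nat_lit 0],
  [nat_lit 0, nat_lit 1, nat_lit 0, nat_lit 1, nat_lit 1, nat_lit 1, nat_lit 1, nat_lit 0, nat_lit 0, nat_lit 1],
  [nat_lit 1, nat_lit 0, nat_lit 1, nat_lit 1, nat_lit 0, nat_lit 1, nat_lit 0, nat_lit 0, nat_lit 1, nat_lit 1, nat_lit 0, nat_lit 1, nat_lit 1, nat_lit 1],
  [nat_lit 1, nat_lit 0, nat_lit 1, nat_lit 0, nat_lit 0, nat_lit 1, nat_lit 1, nat_lit 0, nat_lit 1, nat_lit 0, nat_lit 1, nat_lit 1, nat_lit 0, nat_lit 0],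
  [nat_lit 0, nat_lit 1, nat_lit 0, nat_lit 1, nat_lit 0, nat_lit 1, nat_lit 1],
  [nat_lit 1, nat_lit 0, nat_lit 0, nat_lit 0, nat_lit 0, nat_lit 1, nat_lit 1, nat_lit 1, nat_lit 1, nat_lit 0, nat_lit 1, nat_lit 0],
  [nat_lit 1, nat_lit 0, nat_lit 1, nat_lit 0, nat_lit 0, nat_lit 0, nat_lit 1, nat_lit 0, nat_lit 0, nat_lit 0, nat_lit 0, nat_lit 1, nat_lit 1, nat_lit 1],
  [nat_lit 0, nat_lit 1, nat_lit 0, nat_lit 0, nat_lit 1, nat_lit 0, nat_lit 0, nat_lit 1, nat_lit 0, nat_lit 1, nat_lit 1, nat_lit 0, nat_lit 0, nat_lit 1, nat_lit 1],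
  [nat_lit 0, nat_lit 0, nat_lit 0, nat_lit 0, nat_lit 1, nat_lit 0, nat_lit 1, nat_lit 0, nat_lit 0, nat_lit 0, nat_lit 0, nat_lit 1],
  [nat_lit 0, nat_lit 1, nat_lit 1, nat_lit 1, nat_lit 1, nat_lit 1, nat_lit 1, nat_lit 0, nat_lit 0, nat_lit 0, nat_lit 1, nat_lit 1],
  [nat_lit 0, nat_lit 0, nat_lit 0, nat_lit 1, nat_lit 1, nat_lit 1, nat_lit 1, nat_lit 0, nat_lit 1, nat_lit 0, nat_lit 1, nat_lit 0, nat_lit 0, nat_lit 0, nat_lit 1],
  [nat_lit 0, nat_lit 1, nat_lit 0, nat_lit 1, nat_lit 1, nat_lit 0, nat_lit 0, nat_lit 0, nat_lit 0, nat_lit 0, nat_lit 0, nat_lit 1, nat_lit 0, nat_lit 0, nat_lit 1],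
  [nat_lit 0, nat_lit 1, nat_lit 1, nat_lit 0, nat_lit 0, nat_lit 1, nat_lit 1, nat_lit 0, nat_lit 1, nat_lit 0],
  [nat_lit 1, nat_lit 1, nat_lit 1, nat_lit 0, nat_lit 0, nat_lit 0, nat_lit 0, nat_lit 0, nat_lit 0, nat_lit 1, nat_lit 0, nat_lit 0],
  [nat_lit 1, nat_lit 1, nat_lit 1, nat_lit 1, nat_lit 1, nat_lit 1, nat_lit 0, nat_lit 1, nat_lit 1, nat_lit 1, nat_lit 0, nat_lit 0, nat_lit 0],
  [nat_lit 1, nat_lit 1, nat_lit 1, nat_lit 0, nat_lit 0, nat_lit 1, nat_lit 1, nat_lit 0, nat_lit 0, nat_lit 1, nat_lit 0, nat_lit 0, nat_lit 0, nat_lit 0],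
  [nat_lit 1, nat_lit 1, nat_lit 1, nat_lit 0, nat_lit 0, nat_lit 0, nat_lit 0, nat_lit 0, nat_lit 0, nat_lit 1, nat_lit 0, nat_lit 0],
  [nat_lit 1, nat_lit 1, nat_lit 0, nat_lit 1, nat_lit 0, nat_lit 0, nat_lit 0, nat_lit 1, nat_lit 0, nat_lit 0, nat_lit 1, nat_lit 0],
  [nat_lit 1, nat_lit 0, nat_lit 1, nat_lit 1, nat_lit 0, nat_lit 1, nat_lit 0, nat_lit 0, nat_lit 0, nat_lit 0, nat_lit 1, nat_lit 0, nat_lit 1],
  [nat_lit 0, nat_lit 1, nat_lit 1, nat_lit 1, nat_lit 1, nat_lit 1, nat_lit 1, nat_lit 0, nat_lit 0, nat_lit 0, nat_lit 1, nat_lit 1, nat_lit 1, nat_lit 0],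
  [nat_lit 1, nat_lit 1, nat_lit 0, nat_lit 1, nat_lit 0, nat_lit 0, nat_lit 0, nat_lit 1, nat_lit 0, nat_lit 0, nat_lit 1, nat_lit 0],
  [nat_lit 0, nat_lit 1, nat_lit 0, nat_lit 1],
  [nat_lit 0, nat_lit 0, nat_lit 0, nat_lit 0, nat_lit 0, nat_lit 0, nat_lit 0, nat_lit 1, nat_lit 0, nat_lit 1, nat_lit 0, nat_lit 1, nat_lit 0],
  [nat_lit 1, nat_lit 0, nat_lit 0, nat_lit 1, nat_lit 1, nat_lit 0, nat_lit 0, nat_lit 0, nat_lit 1, nat_lit 0, nat_lit 0, nat_lit 1, nat_lit 0, nat_lit 0, nat_lit 0, nat_lit 1],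
  [nat_lit 1, nat_lit 1, nat_lit 1, nat_lit 0, nat_lit 0, nat_lit 0, nat_lit 1, nat_lit 1, nat_lit 1, nat_lit 1, nat_lit 1],
  [nat_lit 1, nat_lit 1, nat_lit 1, nat_lit 1, nat_lit 1, nat_lit 1, nat_lit 0, nat_lit 1, nat_lit 0],
  [nat_lit 0, nat_lit 1, nat_lit 0, nat_lit 0, nat_lit 1, nat_lit 0, nat_lit 1, nat_lit 1, nat_lit 1, nat_lit 0, nat_lit 0, nat_lit 0, nat_lit 0, nat_lit 0, nat_lit 0],
  [nat_lit 1, nat_lit 1, nat_lit 1, nat_lit 1, nat_lit 0, nat_lit 1, nat_lit 0, nat_lit 1, nat_lit 0, nat_lit 1, nat_lit 0, nat_lit 0]]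
theorem NUfus : fusOK roots NUs NUrep NUw = true := by decide +kernel

def NNs : List ℕ := [nat_lit 0x821084210842108421084210842108422084210842108421084210842108421104210842108421084210842108421088210842108421084210842108421084410842108421084210842108421084220842108421084210842108421084211042108421084210842108421084210882108421084210842108421084210844108421084210842108421084210842208421084210842108421084210842110421084210842108421084210842108821084210842108421084210842108441084210842108421084210842108422084210842108421084210842108421104210842108421084210842108421088210842108421084210842108421084410842108421084210842108421084220842108421084210842108421084211042108421084210842108421084210882108421084210842108421084210844108421084210842108421084210842208421084210842108421084210842110441084210842108421084210842108,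
  nat_lit 0x821084210842108421084210842108421084210842108821084210842108441084210842108421084210842108421084210842108441084210842108422084210842108421084210842108421084210842108422084210842108421104210842108421084210842108421084210842108421104210842108421088210842108421084210842108421084210842108421088210842108421084410842108421084210842108421084210842108421084410842108421084220842108421084210842108421084210842108421084220842108421084211042108421084210842108421084210842108421084211042108421084210882108421084210842108421084210842108421084210882108421084210844108421084210842108421084210842108421084210844108421084210842208421084210842108421084210842108421084210842208421084210842110421084210842108421084210842108421084210842110,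
  nat_lit 0x421084210842108421084210842110421084210842108421084210842208421084210842110421084210842108421084210842108421104210842108421084210842108421084410842108421084210844108421084210842108421084210842108421084211042108421084210842108441084210842108421084210842108421084210882108421084410842108421084210842108421084210842108421088210842108422084210842108421084210842108421084210842108421084210844108421084211042108421084210842108421084210842108421084220842108421104210842108421084210842108421084210842208421084210842108421088210842108421084210842108421084210842108422084210842108421084220842108421084210842108421084210882108421084210842108421084210842108821084210842108441084210842108421084210842108821084210842108421084210842108,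
  nat_lit 0x821084210842108421084210842108421088210842108421084210842108421084210842108421084220842108422084210842108421084210842108421084210842108821084210842108421084210842108421084210842208421084210844108421084210842108421084210842108421104210842108421084210882108421084210842108441084210842108421084210842108421084211042108421084210842108421084210842108422084210842108421084220842108421084210842108421104210842108421084210842108421084210842208421084210842108421084210842110421084210842108421084210842108441084210842108421084210842108421084210844108421084210842108421088210842108421084410842108421084210842108421084210842108421084210882108421084210842108421084211042108421084210842108421084410842108421084210842108421084210842110,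
  nat_lit 0x21084210842108421084210842108401084210842108421084210842108422084210842108421084210842108421104210842108421084210842108421088210842108421084210842108421084010842108421084210842108421084200842108421084210842108421084210042108421084210842108421084210882108421084210842108421084210840108421084210842108421084210842208421084210842108421084210842100421084210842108421084210842108821084210842108421084210842108441084210842108421084210842108422084210842108421084210842108421104210842108421084210842108421088210842108421084210842108421084410842108421084210842108421084220842108421084210842108421084211042108421084210842108421084210882108421084210842108421084210844108421084210842108421084210842208421084210842108421084210842100]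
def NNrep : List ℕ := [nat_lit 0, nat_lit 0, nat_lit 0, nat_lit 0, nat_lit 0, nat_lit 0, nat_lit 0, nat_lit 0, nat_lit 0, nat_lit 0, nat_lit 0, nat_lit 0, nat_lit 0, nat_lit 0, nat_lit 0, nat_lit 15, nat_lit 15, nat_lit 15, nat_lit 15, nat_lit 15, nat_lit 15, nat_lit 15, nat_lit 15, nat_lit 15, nat_lit 15, nat_lit 15, nat_lit 15, nat_lit 15, nat_lit 15, nat_lit 15, nat_lit 15, nat_lit 15, nat_lit 15, nat_lit 15, nat_lit 15, nat_lit 15, nat_lit 15, nat_lit 15, nat_lit 15, nat_lit 15, nat_lit 15, nat_lit 15, nat_lit 15, nat_lit 15, nat_lit 15, nat_lit 15, nat_lit 15, nat_lit 15, nat_lit 15, nat_lit 15, nat_lit 15, nat_lit 51, nat_lit 51, nat_lit 51, nat_lit 51, nat_lit 51, nat_lit 51, nat_lit 51, nat_lit 51, nat_lit 51, nat_lit 51, nat_lit 51, nat_lit 51, nat_lit 51, nat_lit 51, nat_lit 51, nat_lit 51, nat_lit 51, nat_lit 51, nat_lit 51, nat_lit 51, nat_lit 51, nat_lit 51, nat_lit 51, nat_lit 51, nat_lit 51, nat_lit 51, nat_lit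 51, nat_lit 51, nat_lit 51, nat_lit 51, nat_lit 51, nat_lit 51, nat_lit 51, nat_lit 51, nat_lit 51, nat_lit 51, nat_lit 51, nat_lit 51, nat_lit 51, nat_lit 51, nat_lit 51, nat_lit 51, nat_lit 51, nat_lit 51, nat_lit 51, nat_lit 51, nat_lit 51, nat_lit 51, nat_lit 51, nat_lit 51, nat_lit 51, nat_lit 51, nat_lit 51, nat_lit 51]
def NNw : List (List ℕ) := [[],
  [nat_lit 4],
  [nat_lit 2, nat_lit 4, nat_lit 2, nat_lit 4],
  [nat_lit 2, nat_lit 4, nat_lit 2],
  [nat_lit 0],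
  [nat_lit 4, nat_lit 0],
  [nat_lit 2, nat_lit 4, nat_lit 2, nat_lit 0],
  [nat_lit 2, nat_lit 0],
  [nat_lit 4, nat_lit 2, nat_lit 0, nat_lit 2],
  [nat_lit 4, nat_lit 2, nat_lit 0],
  [nat_lit 2, nat_lit 0, nat_lit 4],
  [nat_lit 2, nat_lit 0, nat_lit 0],
  [nat_lit 2, nat_lit 0, nat_lit 4, nat_lit 0, nat_lit 4],
  [nat_lit 2, nat_lit 0, nat_lit 0, nat_lit 4],
  [nat_lit 2, nat_lit 0, nat_lit 4, nat_lit 0],
  [],
  [nat_lit 2, nat_lit 0, nat_lit 4, nat_lit 2, nat_lit 0, nat_lit 2, nat_lit 0],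
  [nat_lit 3, nat_lit 4, nat_lit 3, nat_lit 4, nat_lit 3, nat_lit 3, nat_lit 3],
  [nat_lit 0, nat_lit 4, nat_lit 2, nat_lit 0, nat_lit 2, nat_lit 1, nat_lit 1, nat_lit 3, nat_lit 3],
  [nat_lit 0, nat_lit 3, nat_lit 1, nat_lit 4, nat_lit 0, nat_lit 3, nat_lit 4],
  [nat_lit 2, nat_lit 0, nat_lit 2, nat_lit 0, nat_lit 4, nat_lit 2, nat_lit 0, nat_lit 4],
  [nat_lit 1, nat_lit 4, nat_lit 2, nat_lit 1, nat_lit 2, nat_lit 4],
  [nat_lit 1, nat_lit 4, nat_lit 2, nat_lit 1, nat_lit 2],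
  [nat_lit 0, nat_lit 4, nat_lit 3, nat_lit 4, nat_lit 1, nat_lit 0, nat_lit 4, nat_lit 3],
  [nat_lit 0, nat_lit 3, nat_lit 3, nat_lit 4, nat_lit 2, nat_lit 1, nat_lit 3, nat_lit 3],
  [nat_lit 1, nat_lit 3, nat_lit 4, nat_lit 3, nat_lit 0, nat_lit 2, nat_lit 1, nat_lit 2],
  [nat_lit 2, nat_lit 1, nat_lit 1, nat_lit 4, nat_lit 1, nat_lit 4, nat_lit 1, nat_lit 4],
  [nat_lit 0, nat_lit 2, nat_lit 0, nat_lit 4, nat_lit 2, nat_lit 0, nat_lit 2, nat_lit 4],
  [nat_lit 4],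
  [nat_lit 0, nat_lit 2, nat_lit 1, nat_lit 0, nat_lit 1, nat_lit 2, nat_lit 0],
  [nat_lit 1, nat_lit 4, nat_lit 2, nat_lit 3, nat_lit 0, nat_lit 1, nat_lit 2, nat_lit 0],
  [nat_lit 1, nat_lit 3, nat_lit 4, nat_lit 2, nat_lit 0, nat_lit 1, nat_lit 2, nat_lit 0],
  [nat_lit 0, nat_lit 3, nat_lit 0, nat_lit 4, nat_lit 0, nat_lit 4, nat_lit 0, nat_lit 2, nat_lit 4, nat_lit 0],
  [nat_lit 0, nat_lit 4, nat_lit 2, nat_lit 4, nat_lit 1, nat_lit 4, nat_lit 0, nat_lit 1, nat_lit 2, nat_lit 0],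
  [nat_lit 4, nat_lit 0, nat_lit 2, nat_lit 1, nat_lit 0, nat_lit 1, nat_lit 2, nat_lit 0],
  [nat_lit 0, nat_lit 3, nat_lit 0, nat_lit 0, nat_lit 3, nat_lit 1],
  [nat_lit 0, nat_lit 0, nat_lit 0, nat_lit 4, nat_lit 3, nat_lit 1, nat_lit 4, nat_lit 1, nat_lit 0],
  [nat_lit 1, nat_lit 1, nat_lit 2, nat_lit 4, nat_lit 0, nat_lit 4, nat_lit 3, nat_lit 3, nat_lit 3],
  [nat_lit 4, nat_lit 0, nat_lit 3, nat_lit 0, nat_lit 0, nat_lit 4, nat_lit 3, nat_lit 1],
  [nat_lit 0, nat_lit 2, nat_lit 0, nat_lit 4, nat_lit 1, nat_lit 2, nat_lit 0, nat_lit 0],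
  [nat_lit 0, nat_lit 2, nat_lit 1, nat_lit 4, nat_lit 1, nat_lit 0, nat_lit 3, nat_lit 1],
  [nat_lit 2, nat_lit 0, nat_lit 2, nat_lit 4, nat_lit 1, nat_lit 4, nat_lit 2, nat_lit 0, nat_lit 4],
  [nat_lit 4, nat_lit 0, nat_lit 3, nat_lit 0, nat_lit 0, nat_lit 3, nat_lit 1],
  [nat_lit 0, nat_lit 0, nat_lit 1, nat_lit 1, nat_lit 2],
  [nat_lit 0, nat_lit 0, nat_lit 1, nat_lit 4, nat_lit 1, nat_lit 2],
  [nat_lit 3, nat_lit 3, nat_lit 4, nat_lit 0, nat_lit 2, nat_lit 4, nat_lit 3],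
  [nat_lit 3, nat_lit 4, nat_lit 2, nat_lit 1, nat_lit 3, nat_lit 0, nat_lit 2, nat_lit 3],
  [nat_lit 0, nat_lit 1, nat_lit 0, nat_lit 4, nat_lit 0, nat_lit 1, nat_lit 4, nat_lit 2],
  [nat_lit 0, nat_lit 4, nat_lit 0, nat_lit 1, nat_lit 4, nat_lit 1, nat_lit 2, nat_lit 4],
  [nat_lit 0, nat_lit 1, nat_lit 0, nat_lit 4, nat_lit 0, nat_lit 1, nat_lit 2, nat_lit 4],
  [nat_lit 4, nat_lit 0, nat_lit 0, nat_lit 1, nat_lit 1, nat_lit 2],
  [],
  [nat_lit 0],
  [nat_lit 2],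
  [nat_lit 4],
  [nat_lit 0, nat_lit 4],
  [nat_lit 0, nat_lit 0, nat_lit 2, nat_lit 0, nat_lit 4],
  [nat_lit 2, nat_lit 4],
  [nat_lit 0, nat_lit 2, nat_lit 4, nat_lit 0, nat_lit 4],
  [nat_lit 4, nat_lit 0, nat_lit 4],
  [nat_lit 0, nat_lit 4, nat_lit 0, nat_lit 4],
  [nat_lit 2, nat_lit 4, nat_lit 0, nat_lit 4],
  [nat_lit 4, nat_lit 1, nat_lit 0, nat_lit 2, nat_lit 4, nat_lit 0],
  [nat_lit 0, nat_lit 2, nat_lit 4, nat_lit 0, nat_lit 4, nat_lit 0, nat_lit 4],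
  [nat_lit 4, nat_lit 0, nat_lit 4, nat_lit 0, nat_lit 4],
  [nat_lit 2, nat_lit 4, nat_lit 0, nat_lit 4, nat_lit 0, nat_lit 4],
  [nat_lit 0, nat_lit 2, nat_lit 1, nat_lit 4, nat_lit 0, nat_lit 4, nat_lit 0],
  [nat_lit 0, nat_lit 2, nat_lit 4, nat_lit 0, nat_lit 4, nat_lit 0],
  [nat_lit 4, nat_lit 0, nat_lit 4, nat_lit 0],
  [nat_lit 2, nat_lit 4, nat_lit 0, nat_lit 4, nat_lit 0],
  [nat_lit 0, nat_lit 2, nat_lit 1, nat_lit 3, nat_lit 4, nat_lit 0, nat_lit 0, nat_lit 0, nat_lit 4],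
  [nat_lit 0, nat_lit 2, nat_lit 1, nat_lit 4, nat_lit 0, nat_lit 0, nat_lit 0, nat_lit 4],
  [nat_lit 4, nat_lit 1, nat_lit 3, nat_lit 0, nat_lit 1, nat_lit 4],
  [nat_lit 2, nat_lit 4, nat_lit 0, nat_lit 0, nat_lit 0, nat_lit 4],
  [nat_lit 0, nat_lit 4, nat_lit 3, nat_lit 4, nat_lit 0, nat_lit 3, nat_lit 0, nat_lit 1, nat_lit 4],
  [nat_lit 4, nat_lit 1, nat_lit 0, nat_lit 2, nat_lit 0, nat_lit 0, nat_lit 4],
  [nat_lit 0, nat_lit 4, nat_lit 0, nat_lit 0, nat_lit 4, nat_lit 0, nat_lit 4],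
  [nat_lit 2, nat_lit 4, nat_lit 0, nat_lit 0, nat_lit 4, nat_lit 0, nat_lit 4],
  [nat_lit 4, nat_lit 3, nat_lit 4, nat_lit 3, nat_lit 1, nat_lit 3, nat_lit 4],
  [nat_lit 4, nat_lit 3, nat_lit 4, nat_lit 2, nat_lit 0, nat_lit 2, nat_lit 0, nat_lit 4],
  [nat_lit 4, nat_lit 1, nat_lit 0, nat_lit 2, nat_lit 0, nat_lit 0, nat_lit 4, nat_lit 0],
  [nat_lit 2, nat_lit 4, nat_lit 0, nat_lit 0, nat_lit 4, nat_lit 0, nat_lit 4, nat_lit 0],
  [nat_lit 0, nat_lit 0, nat_lit 2, nat_lit 0, nat_lit 4, nat_lit 2, nat_lit 0, nat_lit 4, nat_lit 0],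
  [nat_lit 0, nat_lit 4, nat_lit 2, nat_lit 0, nat_lit 4, nat_lit 0],
  [nat_lit 0, nat_lit 0, nat_lit 2, nat_lit 4, nat_lit 2, nat_lit 0, nat_lit 4, nat_lit 0],
  [nat_lit 4, nat_lit 2, nat_lit 0, nat_lit 4, nat_lit 0],
  [nat_lit 4, nat_lit 1, nat_lit 4, nat_lit 2, nat_lit 1, nat_lit 4, nat_lit 3, nat_lit 0, nat_lit 2],
  [nat_lit 2, nat_lit 4, nat_lit 1, nat_lit 4, nat_lit 0, nat_lit 2, nat_lit 3, nat_lit 4, nat_lit 0, nat_lit 4],
  [nat_lit 4, nat_lit 2, nat_lit 1, nat_lit 4, nat_lit 2, nat_lit 0, nat_lit 4, nat_lit 3, nat_lit 1, nat_lit 2],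
  [nat_lit 2, nat_lit 4, nat_lit 0, nat_lit 1, nat_lit 4, nat_lit 1, nat_lit 4, nat_lit 1, nat_lit 1],
  [nat_lit 4, nat_lit 1, nat_lit 4, nat_lit 2, nat_lit 0, nat_lit 4, nat_lit 3, nat_lit 4, nat_lit 2],
  [nat_lit 0, nat_lit 4, nat_lit 0, nat_lit 4, nat_lit 1, nat_lit 1, nat_lit 0, nat_lit 4, nat_lit 2, nat_lit 0, nat_lit 3],
  [nat_lit 4, nat_lit 3, nat_lit 1, nat_lit 2, nat_lit 4, nat_lit 2, nat_lit 1, nat_lit 4, nat_lit 0, nat_lit 1],
  [nat_lit 4, nat_lit 1, nat_lit 4, nat_lit 3, nat_lit 1, nat_lit 2, nat_lit 0, nat_lit 3, nat_lit 4],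
  [nat_lit 2, nat_lit 4, nat_lit 1, nat_lit 3, nat_lit 0, nat_lit 4, nat_lit 1, nat_lit 4, nat_lit 2, nat_lit 3],
  [nat_lit 2, nat_lit 4, nat_lit 1, nat_lit 4, nat_lit 1, nat_lit 4, nat_lit 0, nat_lit 2, nat_lit 3, nat_lit 0],
  [nat_lit 2, nat_lit 4, nat_lit 1, nat_lit 4, nat_lit 0, nat_lit 2, nat_lit 3, nat_lit 0, nat_lit 0, nat_lit 4],
  [nat_lit 4, nat_lit 3, nat_lit 1, nat_lit 2, nat_lit 4, nat_lit 0, nat_lit 4, nat_lit 1, nat_lit 4],
  [nat_lit 2, nat_lit 4, nat_lit 1, nat_lit 4, nat_lit 1, nat_lit 4, nat_lit 2, nat_lit 3, nat_lit 4],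
  [nat_lit 0, nat_lit 2, nat_lit 4, nat_lit 1, nat_lit 4, nat_lit 1, nat_lit 4, nat_lit 2, nat_lit 3, nat_lit 4],
  [nat_lit 0, nat_lit 0, nat_lit 4, nat_lit 1, nat_lit 4, nat_lit 1, nat_lit 4, nat_lit 1, nat_lit 3, nat_lit 1, nat_lit 4],
  [nat_lit 4, nat_lit 1, nat_lit 4, nat_lit 1, nat_lit 4, nat_lit 2, nat_lit 3, nat_lit 4],
  [nat_lit 4, nat_lit 1, nat_lit 4, nat_lit 1, nat_lit 1, nat_lit 4, nat_lit 1, nat_lit 4, nat_lit 3, nat_lit 1, nat_lit 4],
  [nat_lit 4, nat_lit 0, nat_lit 1, nat_lit 4, nat_lit 2, nat_lit 4, nat_lit 3, nat_lit 4, nat_lit 2, nat_lit 4, nat_lit 3],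
  [nat_lit 2, nat_lit 4, nat_lit 0, nat_lit 1, nat_lit 4, nat_lit 2, nat_lit 4, nat_lit 3, nat_lit 4, nat_lit 2, nat_lit 4]]
theorem NNfus : fusOK roots NNs NNrep NNw = true := by decide +kernel

def DA : List ℕ := [nat_lit 80, nat_lit 48, nat_lit 80, nat_lit 48, nat_lit 64, nat_lit 64, nat_lit 64, nat_lit 96, nat_lit 64, nat_lit 64, nat_lit 32, nat_lit 80, nat_lit 80, nat_lit 48, nat_lit 48, nat_lit 80, nat_lit 64, nat_lit 80, nat_lit 64, nat_lit 80, nat_lit 64, nat_lit 80, nat_lit 48, nat_lit 64, nat_lit 48, nat_lit 64, nat_lit 48, nat_lit 64, nat_lit 48, nat_lit 64, nat_lit 64, nat_lit 64, nat_lit 64, nat_lit 64, nat_lit 64, nat_lit 72, nat_lit 72, nat_lit 72, nat_lit 72, nat_lit 56, nat_lit 56, nat_lit 56, nat_lit 56, nat_lit 72, nat_lit 56, nat_lit 72, nat_lit 56, nat_lit 72, nat_lit 56, nat_lit 72, nat_lit 56, nat_lit 56, nat_lit 72, nat_lit 56, nat_lit 72, nat_lit 56, nat_lit 56, nat_lit 72, nat_lit 56, nat_lit 72, nat_lit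 72, nat_lit 56, nat_lit 48, nat_lit 64, nat_lit 64, nat_lit 80, nat_lit 80, nat_lit 64, nat_lit 64, nat_lit 48, nat_lit 80, nat_lit 64, nat_lit 64, nat_lit 48, nat_lit 48, nat_lit 64, nat_lit 64, nat_lit 80, nat_lit 72, nat_lit 56, nat_lit 56, nat_lit 72, nat_lit 56, nat_lit 72, nat_lit 72, nat_lit 56, nat_lit 72, nat_lit 56, nat_lit 56, nat_lit 72, nat_lit 48, nat_lit 64, nat_lit 64, nat_lit 80, nat_lit 80, nat_lit 64, nat_lit 64, nat_lit 48, nat_lit 56, nat_lit 72, nat_lit 72, nat_lit 56, nat_lit 72, nat_lit 56, nat_lit 72]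
def DB : List ℕ := [nat_lit 48, nat_lit 80, nat_lit 48, nat_lit 80, nat_lit 64, nat_lit 64, nat_lit 64, nat_lit 64, nat_lit 96, nat_lit 32, nat_lit 64, nat_lit 80, nat_lit 80, nat_lit 48, nat_lit 48, nat_lit 64, nat_lit 80, nat_lit 64, nat_lit 80, nat_lit 64, nat_lit 80, nat_lit 64, nat_lit 64, nat_lit 48, nat_lit 64, nat_lit 48, nat_lit 64, nat_lit 48, nat_lit 64, nat_lit 64, nat_lit 64, nat_lit 64, nat_lit 64, nat_lit 64, nat_lit 64, nat_lit 72, nat_lit 72, nat_lit 72, nat_lit 72, nat_lit 56, nat_lit 56, nat_lit 56, nat_lit 56, nat_lit 56, nat_lit 72, nat_lit 56, nat_lit 72, nat_lit 56, nat_lit 72, nat_lit 56, nat_lit 72, nat_lit 80, nat_lit 64, nat_lit 48, nat_lit 48, nat_lit 64, nat_lit 64, nat_lit 80, nat_lit 80, nat_lit 64, nat_lit 64, nat_lit 48, nat_lit 72, nat_lit 56, nat_lit 56, nat_lit 72, nat_lit 56, nat_lit 72, nat_lit 72, nat_lit 56, nat_lit 56, nat_lit 72, nat_lit 72, nat_lit 56, nat_lit 72, nat_lit 56, nat_lit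 56, nat_lit 72, nat_lit 48, nat_lit 64, nat_lit 64, nat_lit 80, nat_lit 80, nat_lit 64, nat_lit 64, nat_lit 48, nat_lit 48, nat_lit 64, nat_lit 64, nat_lit 80, nat_lit 72, nat_lit 56, nat_lit 56, nat_lit 72, nat_lit 56, nat_lit 72, nat_lit 72, nat_lit 56, nat_lit 80, nat_lit 64, nat_lit 64, nat_lit 48, nat_lit 48, nat_lit 64, nat_lit 80]
def DC : List ℕ := [nat_lit 56, nat_lit 64, nat_lit 64, nat_lit 72, nat_lit 56, nat_lit 64, nat_lit 72, nat_lit 40, nat_lit 48, nat_lit 80, nat_lit 88, nat_lit 40, nat_lit 48, nat_lit 80, nat_lit 88, nat_lit 40, nat_lit 48, nat_lit 48, nat_lit 56, nat_lit 56, nat_lit 64, nat_lit 64, nat_lit 64, nat_lit 64, nat_lit 72, nat_lit 72, nat_lit 80, nat_lit 80, nat_lit 88, nat_lit 48, nat_lit 56, nat_lit 64, nat_lit 64, nat_lit 72, nat_lit 80, nat_lit 40, nat_lit 48, nat_lit 56, nat_lit 64, nat_lit 64, nat_lit 72, nat_lit 80, nat_lit 88, nat_lit 48, nat_lit 56, nat_lit 56, nat_lit 64, nat_lit 64, nat_lit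 72, nat_lit 72, nat_lit 80, nat_lit 40, nat_lit 40, nat_lit 56, nat_lit 56, nat_lit 64, nat_lit 56, nat_lit 40, nat_lit 56, nat_lit 48, nat_lit 56, nat_lit 72, nat_lit 64, nat_lit 64, nat_lit 56, nat_lit 40, nat_lit 48, nat_lit 56, nat_lit 48, nat_lit 72, nat_lit 56, nat_lit 64, nat_lit 56, nat_lit 80, nat_lit 72, nat_lit 64, nat_lit 72, nat_lit 48, nat_lit 64, nat_lit 72, nat_lit 64, nat_lit 48, nat_lit 64, nat_lit 56, nat_lit 64, nat_lit 80, nat_lit 72, nat_lit 72, nat_lit 80, nat_lit 56, nat_lit 80, nat_lit 80, nat_lit 72, nat_lit 56, nat_lit 64, nat_lit 64, nat_lit 72, nat_lit 88, nat_lit 72, nat_lit 64, nat_lit 72, nat_lit 88, nat_lit 88, nat_lit 88, nat_lit 72]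
def cU : ℕ := nat_lit 0x600000200000100000080000040000020000010000008000004000002000001000000800000400000200000100000080000040000020000010000008000004000002000001000000c
def cU1 : ℕ := nat_lit 0x6000002000001000000800000400000200000100000080000040000020000010000008000004000002000001000000800000400000200000100000080000040000020000010000004
def cV : ℕ := nat_lit 0x1800001c00000e000007000003800001c00000e000007000003800001c00000e000007000003800001c00000e000007000003800001c00000e000007000003800001c00000e000007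
def cA : ℕ := nat_lit 0x4800002400001200000900000480000240000120000090000048000024000012000009000004800002400001200000900000480000240000120000090000048000024000012000005
def crossL : List ℕ := [nat_lit 0x4000002000001000000800000400000200000100000080000040000020000010000008000004000002000001000000800000400000200000100000080000040000020000010000010, nat_lit 0x4000002000001000000800000400000200000100000080000040000020000010000008000004000002000001000000800000400000200000100000080000040000020000010000000, nat_lit 0x4000002000001000000800000400000200000100000080000040000020000010000008000004000002000001000000800000400000200000100000080000040000020000020000008, nat_lit 0x4000002000001000000800000400000200000100000080000040000020000010000008000004000002000001000000800000400000200000100000080000040000020000000000008, nat_lit 0x4000002000001000000800000400000200000100000080000040000020000010000008000004000002000001000000800000400000200000100000080000040000040000010000008,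 nat_lit 0x4000002000001000000800000400000200000100000080000040000020000010000008000004000002000001000000800000400000200000100000080000040000000000010000008, nat_lit 0x4000002000001000000800000400000200000100000080000040000020000010000008000004000002000001000000800000400000200000100000080000080000020000010000008, nat_lit 0x4000002000001000000800000400000200000100000080000040000020000010000008000004000002000001000000800000400000200000100000080000000000020000010000008, nat_lit 0x4000002000001000000800000400000200000100000080000040000020000010000008000004000002000001000000800000400000200000100000100000040000020000010000008, nat_lit 0x4000002000001000000800000400000200000100000080000040000020000010000008000004000002000001000000800000400000200000100000000000040000020000010000008, nat_lit 0x4000002000001000000800000400000200000100000080000040000020000010000008000004000002000001000000800000400000200000200000080000040000020000010000008,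 nat_lit 0x4000002000001000000800000400000200000100000080000040000020000010000008000004000002000001000000800000400000200000000000080000040000020000010000008, nat_lit 0x4000002000001000000800000400000200000100000080000040000020000010000008000004000002000001000000800000400000400000100000080000040000020000010000008, nat_lit 0x4000002000001000000800000400000200000100000080000040000020000010000008000004000002000001000000800000400000000000100000080000040000020000010000008, nat_lit 0x4000002000001000000800000400000200000100000080000040000020000010000008000004000002000001000000800000800000200000100000080000040000020000010000008, nat_lit 0x4000002000001000000800000400000200000100000080000040000020000010000008000004000002000001000000800000000000200000100000080000040000020000010000008, nat_lit 0x4000002000001000000800000400000200000100000080000040000020000010000008000004000002000001000001000000400000200000100000080000040000020000010000008,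 nat_lit 0x4000002000001000000800000400000200000100000080000040000020000010000008000004000002000001000000000000400000200000100000080000040000020000010000008, nat_lit 0x4000002000001000000800000400000200000100000080000040000020000010000008000004000002000002000000800000400000200000100000080000040000020000010000008, nat_lit 0x4000002000001000000800000400000200000100000080000040000020000010000008000004000002000000000000800000400000200000100000080000040000020000010000008, nat_lit 0x4000002000001000000800000400000200000100000080000040000020000010000008000004000004000001000000800000400000200000100000080000040000020000010000008, nat_lit 0x4000002000001000000800000400000200000100000080000040000020000010000008000004000000000001000000800000400000200000100000080000040000020000010000008, nat_lit 0x4000002000001000000800000400000200000100000080000040000020000010000008000008000002000001000000800000400000200000100000080000040000020000010000008,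 nat_lit 0x4000002000001000000800000400000200000100000080000040000020000010000008000000000002000001000000800000400000200000100000080000040000020000010000008, nat_lit 0x4000002000001000000800000400000200000100000080000040000020000010000010000004000002000001000000800000400000200000100000080000040000020000010000008, nat_lit 0x4000002000001000000800000400000200000100000080000040000020000010000000000004000002000001000000800000400000200000100000080000040000020000010000008, nat_lit 0x4000002000001000000800000400000200000100000080000040000020000020000008000004000002000001000000800000400000200000100000080000040000020000010000008, nat_lit 0x4000002000001000000800000400000200000100000080000040000020000000000008000004000002000001000000800000400000200000100000080000040000020000010000008, nat_lit 0x4000002000001000000800000400000200000100000080000040000040000010000008000004000002000001000000800000400000200000100000080000040000020000010000008,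 nat_lit 0x4000002000001000000800000400000200000100000080000040000000000010000008000004000002000001000000800000400000200000100000080000040000020000010000008, nat_lit 0x4000002000001000000800000400000200000100000080000080000020000010000008000004000002000001000000800000400000200000100000080000040000020000010000008, nat_lit 0x4000002000001000000800000400000200000100000080000000000020000010000008000004000002000001000000800000400000200000100000080000040000020000010000008, nat_lit 0x4000002000001000000800000400000200000100000100000040000020000010000008000004000002000001000000800000400000200000100000080000040000020000010000008, nat_lit 0x4000002000001000000800000400000200000100000000000040000020000010000008000004000002000001000000800000400000200000100000080000040000020000010000008, nat_lit 0x4000002000001000000800000400000200000200000080000040000020000010000008000004000002000001000000800000400000200000100000080000040000020000010000008,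 nat_lit 0x4000002000001000000800000400000200000000000080000040000020000010000008000004000002000001000000800000400000200000100000080000040000020000010000008, nat_lit 0x4000002000001000000800000400000400000100000080000040000020000010000008000004000002000001000000800000400000200000100000080000040000020000010000008, nat_lit 0x4000002000001000000800000400000000000100000080000040000020000010000008000004000002000001000000800000400000200000100000080000040000020000010000008, nat_lit 0x4000002000001000000800000800000200000100000080000040000020000010000008000004000002000001000000800000400000200000100000080000040000020000010000008, nat_lit 0x4000002000001000000800000000000200000100000080000040000020000010000008000004000002000001000000800000400000200000100000080000040000020000010000008, nat_lit 0x4000002000001000001000000400000200000100000080000040000020000010000008000004000002000001000000800000400000200000100000080000040000020000010000008,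 nat_lit 0x4000002000001000000000000400000200000100000080000040000020000010000008000004000002000001000000800000400000200000100000080000040000020000010000008, nat_lit 0x4000002000002000000800000400000200000100000080000040000020000010000008000004000002000001000000800000400000200000100000080000040000020000010000008, nat_lit 0x4000002000000000000800000400000200000100000080000040000020000010000008000004000002000001000000800000400000200000100000080000040000020000010000008, nat_lit 0x4000004000001000000800000400000200000100000080000040000020000010000008000004000002000001000000800000400000200000100000080000040000020000010000008, nat_lit 0x4000000000001000000800000400000200000100000080000040000020000010000008000004000002000001000000800000400000200000100000080000040000020000010000008, nat_lit 0x8000002000001000000800000400000200000100000080000040000020000010000008000004000002000001000000800000400000200000100000080000040000020000010000008,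 nat_lit 0x2000001000000800000400000200000100000080000040000020000010000008000004000002000001000000800000400000200000100000080000040000020000010000008]
def hscs : List ℕ := [nat_lit 7, nat_lit 15, nat_lit 52]
def hsc : List ℕ := [nat_lit 3, nat_lit 3, nat_lit 3, nat_lit 3, nat_lit 3, nat_lit 3, nat_lit 3, nat_lit 0, nat_lit 3, nat_lit 3, nat_lit 3, nat_lit 3, nat_lit 3, nat_lit 3, nat_lit 3, nat_lit 1, nat_lit 3, nat_lit 3, nat_lit 3, nat_lit 3, nat_lit 3, nat_lit 3, nat_lit 3, nat_lit 3, nat_lit 3, nat_lit 3, nat_lit 3, nat_lit 3, nat_lit 3, nat_lit 3, nat_lit 3, nat_lit 3, nat_lit 3, nat_lit 3, nat_lit 3, nat_lit 3, nat_lit 3, nat_lit 3, nat_lit 3, nat_lit 3, nat_lit 3, nat_lit 3, nat_lit 3, nat_lit 3, nat_lit 3, nat_lit 3, nat_lit 3, nat_lit 3, nat_lit 3, nat_lit 3, nat_lit 3, nat_lit 3, nat_lit 2, nat_lit 3, nat_lit 3, nat_lit 3, nat_lit 3, nat_lit 3, nat_lit 3, nat_lit 3, nat_lit 3, nat_lit 3, nat_lit 3, nat_lit 3, nat_lit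 3, nat_lit 3, nat_lit 3, nat_lit 3, nat_lit 3, nat_lit 3, nat_lit 3, nat_lit 3, nat_lit 3, nat_lit 3, nat_lit 3, nat_lit 3, nat_lit 3, nat_lit 3, nat_lit 3, nat_lit 3, nat_lit 3, nat_lit 3, nat_lit 3, nat_lit 3, nat_lit 3, nat_lit 3, nat_lit 3, nat_lit 3, nat_lit 3, nat_lit 3, nat_lit 3, nat_lit 3, nat_lit 3, nat_lit 3, nat_lit 3, nat_lit 3, nat_lit 3, nat_lit 3, nat_lit 3, nat_lit 3, nat_lit 3, nat_lit 3, nat_lit 3, nat_lit 3, nat_lit 3]
def mccs : List ℕ := [nat_lit 8, nat_lit 16, nat_lit 29, nat_lit 68]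
def mcc : List ℕ := [nat_lit 4, nat_lit 4, nat_lit 4, nat_lit 4, nat_lit 4, nat_lit 4, nat_lit 4, nat_lit 4, nat_lit 0, nat_lit 4, nat_lit 4, nat_lit 4, nat_lit 4, nat_lit 4, nat_lit 4, nat_lit 4, nat_lit 1, nat_lit 4, nat_lit 4, nat_lit 4, nat_lit 4, nat_lit 4, nat_lit 4, nat_lit 4, nat_lit 4, nat_lit 4, nat_lit 4, nat_lit 4, nat_lit 4, nat_lit 2, nat_lit 4, nat_lit 4, nat_lit 4, nat_lit 4, nat_lit 4, nat_lit 4, nat_lit 4, nat_lit 4, nat_lit 4, nat_lit 4, nat_lit 4, nat_lit 4, nat_lit 4, nat_lit 4, nat_lit 4, nat_lit 4, nat_lit 4, nat_lit 4, nat_lit 4, nat_lit 4, nat_lit 4, nat_lit 4, nat_lit 4, nat_lit 4, nat_lit 4, nat_lit 4, nat_lit 4, nat_lit 4, nat_lit 4, nat_lit 4, nat_lit 4, nat_lit 4, nat_lit 4, nat_lit 4, nat_lit 4, nat_lit 4, nat_lit 4, nat_lit 4, nat_lit 3, nat_lit 4, nat_lit 4, nat_lit 4, nat_lit 4, nat_lit 4, nat_lit 4, nat_lit 4, nat_lit 4, nat_lit 4, nat_lit 4, nat_lit 4, nat_lit 4, nat_lit 4, nat_lit 4, nat_lit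 4, nat_lit 4, nat_lit 4, nat_lit 4, nat_lit 4, nat_lit 4, nat_lit 4, nat_lit 4, nat_lit 4, nat_lit 4, nat_lit 4, nat_lit 4, nat_lit 4, nat_lit 4, nat_lit 4, nat_lit 4, nat_lit 4, nat_lit 4, nat_lit 4, nat_lit 4, nat_lit 4, nat_lit 4]
def c3cs : List ℕ := [nat_lit 8, nat_lit 12, nat_lit 17, nat_lit 36, nat_lit 43]
def c3c : List ℕ := [nat_lit 5, nat_lit 5, nat_lit 5, nat_lit 5, nat_lit 5, nat_lit 5, nat_lit 5, nat_lit 5, nat_lit 0, nat_lit 5, nat_lit 5, nat_lit 5, nat_lit 1, nat_lit 5, nat_lit 5, nat_lit 5, nat_lit 1, nat_lit 2, nat_lit 5, nat_lit 5, nat_lit 5, nat_lit 5, nat_lit 5, nat_lit 5, nat_lit 5, nat_lit 5, nat_lit 5, nat_lit 5, nat_lit 5, nat_lit 2, nat_lit 5, nat_lit 5, nat_lit 5, nat_lit 5, nat_lit 5, nat_lit 5, nat_lit 3, nat_lit 5, nat_lit 5, nat_lit 5, nat_lit 5, nat_lit 5, nat_lit 5, nat_lit 4, nat_lit 5, nat_lit 5, nat_lit 5, nat_lit 5, nat_lit 5, nat_lit 5, nat_lit 5, nat_lit 5, nat_lit 5, nat_lit 5, nat_lit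 5, nat_lit 5, nat_lit 5, nat_lit 5, nat_lit 5, nat_lit 2, nat_lit 5, nat_lit 5, nat_lit 5, nat_lit 5, nat_lit 5, nat_lit 5, nat_lit 4, nat_lit 5, nat_lit 3, nat_lit 5, nat_lit 5, nat_lit 5, nat_lit 5, nat_lit 5, nat_lit 5, nat_lit 5, nat_lit 5, nat_lit 3, nat_lit 5, nat_lit 5, nat_lit 5, nat_lit 1, nat_lit 5, nat_lit 5, nat_lit 5, nat_lit 5, nat_lit 5, nat_lit 5, nat_lit 5, nat_lit 5, nat_lit 5, nat_lit 5, nat_lit 5, nat_lit 5, nat_lit 5, nat_lit 5, nat_lit 5, nat_lit 5, nat_lit 5, nat_lit 5, nat_lit 5, nat_lit 5, nat_lit 5, nat_lit 5, nat_lit 5]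
def c2cs : List ℕ := [nat_lit 51, nat_lit 39, nat_lit 40, nat_lit 41, nat_lit 42, nat_lit 44]
def c2c : List ℕ := [nat_lit 6, nat_lit 6, nat_lit 6, nat_lit 6, nat_lit 6, nat_lit 6, nat_lit 6, nat_lit 6, nat_lit 6, nat_lit 6, nat_lit 6, nat_lit 6, nat_lit 6, nat_lit 6, nat_lit 6, nat_lit 6, nat_lit 6, nat_lit 6, nat_lit 6, nat_lit 6, nat_lit 6, nat_lit 6, nat_lit 6, nat_lit 6, nat_lit 6, nat_lit 6, nat_lit 6, nat_lit 6, nat_lit 6, nat_lit 6, nat_lit 6, nat_lit 6, nat_lit 6, nat_lit 6, nat_lit 6, nat_lit 6, nat_lit 6, nat_lit 6, nat_lit 6, nat_lit 1, nat_lit 2, nat_lit 3, nat_lit 4, nat_lit 6, nat_lit 5, nat_lit 6, nat_lit 1, nat_lit 6, nat_lit 2, nat_lit 6, nat_lit 3, nat_lit 0, nat_lit 6, nat_lit 5, nat_lit 6, nat_lit 1, nat_lit 5, nat_lit 6, nat_lit 5, nat_lit 6, nat_lit 6, nat_lit 2, nat_lit 6, nat_lit 6, nat_lit 6, nat_lit 6, nat_lit 6, nat_lit 6, nat_lit 6, nat_lit 6, nat_lit 6, nat_lit 6, nat_lit 6, nat_lit 6, nat_lit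 6, nat_lit 6, nat_lit 6, nat_lit 6, nat_lit 6, nat_lit 2, nat_lit 1, nat_lit 6, nat_lit 1, nat_lit 6, nat_lit 6, nat_lit 3, nat_lit 6, nat_lit 2, nat_lit 3, nat_lit 6, nat_lit 6, nat_lit 6, nat_lit 6, nat_lit 6, nat_lit 6, nat_lit 6, nat_lit 6, nat_lit 6, nat_lit 2, nat_lit 6, nat_lit 6, nat_lit 4, nat_lit 6, nat_lit 4, nat_lit 6]
def c0cs : List ℕ := [nat_lit 7, nat_lit 0, nat_lit 1, nat_lit 4, nat_lit 10, nat_lit 35, nat_lit 39]
def c0c : List ℕ := [nat_lit 1, nat_lit 2, nat_lit 1, nat_lit 2, nat_lit 3, nat_lit 3, nat_lit 3, nat_lit 0, nat_lit 3, nat_lit 3, nat_lit 4, nat_lit 1, nat_lit 1, nat_lit 2, nat_lit 2, nat_lit 1, nat_lit 3, nat_lit 1, nat_lit 3, nat_lit 1, nat_lit 3, nat_lit 1, nat_lit 2, nat_lit 3, nat_lit 2, nat_lit 3, nat_lit 2, nat_lit 3, nat_lit 2, nat_lit 3, nat_lit 3, nat_lit 3, nat_lit 3, nat_lit 3, nat_lit 3, nat_lit 5, nat_lit 5, nat_lit 5, nat_lit 5, nat_lit 6, nat_lit 6, nat_lit 6, nat_lit 6, nat_lit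 5, nat_lit 6, nat_lit 5, nat_lit 6, nat_lit 5, nat_lit 6, nat_lit 5, nat_lit 6, nat_lit 6, nat_lit 5, nat_lit 6, nat_lit 5, nat_lit 6, nat_lit 6, nat_lit 5, nat_lit 6, nat_lit 5, nat_lit 5, nat_lit 6, nat_lit 2, nat_lit 3, nat_lit 3, nat_lit 1, nat_lit 1, nat_lit 3, nat_lit 3, nat_lit 2, nat_lit 1, nat_lit 3, nat_lit 3, nat_lit 2, nat_lit 2, nat_lit 3, nat_lit 3, nat_lit 1, nat_lit 5, nat_lit 6, nat_lit 6, nat_lit 5, nat_lit 6, nat_lit 5, nat_lit 5, nat_lit 6, nat_lit 5, nat_lit 6, nat_lit 6, nat_lit 5, nat_lit 2, nat_lit 3, nat_lit 3, nat_lit 1, nat_lit 1, nat_lit 3, nat_lit 3, nat_lit 2, nat_lit 6, nat_lit 5, nat_lit 5, nat_lit 6, nat_lit 5, nat_lit 6, nat_lit 5]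
def u6cs : List ℕ := [nat_lit 7, nat_lit 6, nat_lit 19, nat_lit 28, nat_lit 33, nat_lit 84, nat_lit 88, nat_lit 99]
def u6c : List ℕ := [nat_lit 8, nat_lit 8, nat_lit 8, nat_lit 8, nat_lit 8, nat_lit 8, nat_lit 1, nat_lit 0, nat_lit 8, nat_lit 8, nat_lit 8, nat_lit 8, nat_lit 8, nat_lit 8, nat_lit 8, nat_lit 8, nat_lit 8, nat_lit 8, nat_lit 8, nat_lit 2, nat_lit 8, nat_lit 8, nat_lit 8, nat_lit 8, nat_lit 8, nat_lit 8, nat_lit 8, nat_lit 8, nat_lit 3, nat_lit 8, nat_lit 8, nat_lit 8, nat_lit 8, nat_lit 4, nat_lit 8, nat_lit 8, nat_lit 8, nat_lit 8, nat_lit 8, nat_lit 8, nat_lit 8, nat_lit 8, nat_lit 8, nat_lit 8, nat_lit 8, nat_lit 8, nat_lit 8, nat_lit 8, nat_lit 8, nat_lit 8, nat_lit 8, nat_lit 8, nat_lit 8, nat_lit 8, nat_lit 8, nat_lit 8, nat_lit 8, nat_lit 8, nat_lit 8, nat_lit 8, nat_lit 8, nat_lit 8, nat_lit 8, nat_lit 8, nat_lit 8, nat_lit 8, nat_lit 8, nat_lit 8, nat_lit 8, nat_lit 8, nat_lit 8, nat_lit 8, nat_lit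 8, nat_lit 8, nat_lit 8, nat_lit 8, nat_lit 8, nat_lit 8, nat_lit 8, nat_lit 8, nat_lit 8, nat_lit 8, nat_lit 8, nat_lit 8, nat_lit 5, nat_lit 8, nat_lit 8, nat_lit 8, nat_lit 6, nat_lit 8, nat_lit 8, nat_lit 8, nat_lit 8, nat_lit 8, nat_lit 8, nat_lit 8, nat_lit 8, nat_lit 8, nat_lit 8, nat_lit 7, nat_lit 8, nat_lit 8, nat_lit 8, nat_lit 8, nat_lit 8]
def nucs : List ℕ := [nat_lit 8, nat_lit 4, nat_lit 16, nat_lit 29, nat_lit 63]
def nuc : List ℕ := [nat_lit 5, nat_lit 5, nat_lit 5, nat_lit 5, nat_lit 1, nat_lit 1, nat_lit 1, nat_lit 5, nat_lit 0, nat_lit 0, nat_lit 5, nat_lit 5, nat_lit 5, nat_lit 5, nat_lit 5, nat_lit 5, nat_lit 2, nat_lit 5, nat_lit 2, nat_lit 5, nat_lit 2, nat_lit 5, nat_lit 5, nat_lit 2, nat_lit 5, nat_lit 2, nat_lit 5, nat_lit 2, nat_lit 5, nat_lit 3, nat_lit 3, nat_lit 3, nat_lit 3, nat_lit 3, nat_lit 3, nat_lit 5, nat_lit 5, nat_lit 5, nat_lit 5, nat_lit 5, nat_lit 5, nat_lit 5, nat_lit 5, nat_lit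 5, nat_lit 5, nat_lit 5, nat_lit 5, nat_lit 5, nat_lit 5, nat_lit 5, nat_lit 5, nat_lit 5, nat_lit 5, nat_lit 5, nat_lit 5, nat_lit 5, nat_lit 5, nat_lit 5, nat_lit 5, nat_lit 5, nat_lit 5, nat_lit 5, nat_lit 5, nat_lit 4, nat_lit 4, nat_lit 5, nat_lit 5, nat_lit 4, nat_lit 4, nat_lit 5, nat_lit 5, nat_lit 4, nat_lit 4, nat_lit 5, nat_lit 5, nat_lit 4, nat_lit 4, nat_lit 5, nat_lit 5, nat_lit 5, nat_lit 5, nat_lit 5, nat_lit 5, nat_lit 5, nat_lit 5, nat_lit 5, nat_lit 5, nat_lit 5, nat_lit 5, nat_lit 5, nat_lit 5, nat_lit 4, nat_lit 4, nat_lit 5, nat_lit 5, nat_lit 4, nat_lit 4, nat_lit 5, nat_lit 5, nat_lit 5, nat_lit 5, nat_lit 5, nat_lit 5, nat_lit 5, nat_lit 5]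
def nncs : List ℕ := [nat_lit 0, nat_lit 15, nat_lit 51]
def nnc : List ℕ := [nat_lit 0, nat_lit 0, nat_lit 0, nat_lit 0, nat_lit 0, nat_lit 0, nat_lit 0, nat_lit 0, nat_lit 0, nat_lit 0, nat_lit 0, nat_lit 0, nat_lit 0, nat_lit 0, nat_lit 0, nat_lit 1, nat_lit 1, nat_lit 1, nat_lit 1, nat_lit 1, nat_lit 1, nat_lit 1, nat_lit 1, nat_lit 1, nat_lit 1, nat_lit 1, nat_lit 1, nat_lit 1, nat_lit 1, nat_lit 1, nat_lit 1, nat_lit 1, nat_lit 1, nat_lit 1, nat_lit 1, nat_lit 1, nat_lit 1, nat_lit 1, nat_lit 1, nat_lit 1, nat_lit 1, nat_lit 1, nat_lit 1, nat_lit 1, nat_lit 1, nat_lit 1, nat_lit 1, nat_lit 1, nat_lit 1, nat_lit 1, nat_lit 1, nat_lit 2, nat_lit 2, nat_lit 2, nat_lit 2, nat_lit 2, nat_lit 2, nat_lit 2, nat_lit 2, nat_lit 2, nat_lit 2, nat_lit 2, nat_lit 2, nat_lit 2, nat_lit 2, nat_lit 2, nat_lit 2, nat_lit 2, nat_lit 2, nat_lit 2, nat_lit 2, nat_lit 2, nat_lit 2, nat_lit 2, nat_lit 2, nat_lit 2, nat_lit 2, nat_lit 2, nat_lit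 2, nat_lit 2, nat_lit 2, nat_lit 2, nat_lit 2, nat_lit 2, nat_lit 2, nat_lit 2, nat_lit 2, nat_lit 2, nat_lit 2, nat_lit 2, nat_lit 2, nat_lit 2, nat_lit 2, nat_lit 2, nat_lit 2, nat_lit 2, nat_lit 2, nat_lit 2, nat_lit 2, nat_lit 2, nat_lit 2, nat_lit 2, nat_lit 2, nat_lit 2, nat_lit 2]
def Q0s : List ℕ := [nat_lit 0x4214642146528c852946418c851906420ca4214651948518ca418c85190a32908519086210a421083218a420c8519085190c421064210831106420c83290831888421064210832106621484214a420c6318c8518c64194831906420c6420c651948328c6418c8329064214642146318c8328ca419485290a3290831988421064210832106221484214a4214a518c8318c6428c85290631908319084310a4208852106420c8420c64214a31948528c64294851906319045190842106411085210a421483290852908421062210852106410c851908319084210a221083210a4114831988529084218a4210832106421485190851904421064210833106420c8519083290862106421085218642148529883190842186421085210a420c852908519084210a4210c521064214452904329084210a4110832106420c852908519084210a42104521064214c31908319084110a4218852106420c8420ca4214632948319464194852906,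
  nat_lit 0x420ca32108320c8319465294a528c852908218ca6290a42108421084210a32908419464190a4210c421884210a319084194a4290641088421084210a52988419464290642108431084210652908618ca2290a42108421084210a4214a32108320c8528ca518ca328c832908418ca41906421084210c4110631904418c64290a4210862108421064214632108321483194a318ca5294851908418c64188642108421084218a420c63210832148528c63294a3294851908428ca429064210c42188421064214632108320c85194631946318c852908428c64190a41088421084210632908428c64290622108421082210a4214652108520c8328c63194a528c851908418c64198642108421084208a420c652108520c85194a328ca328c8420c632108320c8328ca328c6518c83190c418c64290a421082210842106519084194a4190a22108421082210631988428ca4190a42108431084210a32908418ca41906421084210443106,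
  nat_lit 0x821084210842108421084210842108421084220842108421084210842108421084210842208421084210842108421084210842108421084210844108421084210882108421084210842108421084210842108421084210882108421088210842108421084210842108421084210842108421104210842108421084210842108421084410842108421084210842110421084210842108421084210842108422084210842108421084210842108421088210842108422084210842108421084210842108421084210842108421084211042108421084210842108821084210842108421104210842108421084210842108441084210842108421084210842108421084210844108421084210842108421084210842108421084210842208421084410842108421084210842108421084211042108421084210842108421084210842108441084210842108421084210842108421084220842108421084210842108421084210842110]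
def Q3s : List ℕ := [nat_lit 0x620c85290a521085294a52108521485190a42148418c642088429464290a421483190a521085294652188320c8421483290a3210831946521085214c421483290632108528ca5210c520c8421485290a5210c518c632108520c8421485290632108529463310832148431483290a52108328ca321083214851906421484194a221084294a419065290a421484194642104418ca42906421485190653108328c652108521485190a42148428ca42108418ca2190a4214831986521085194a32108521485290a420c44194a42108419464190a421485190a32188518ca521083214852906421484294642108428c64188a5290642148228ca4210841946429065190a220c84294a42108428c6429063288a421484294a421084294a4290a51906420c842946421082194a4290a4214852906521083194a52108330c85290a420c8428c6411084294a419064214c5190a321083294a32108520c852906410c8418ca42108428ca4290a,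
  nat_lit 0x62908421085290a4290a528ca4290a42908421085290a6190a51946419064190842108529064298a3294a41906429084210832906419065294a6190a52146328ca42148520c822108520c8520ca528c642144520c84210832148520c63294642148321484110852148520c6518ca410c85214842108521484290842188519064190a329464290a41908431085190a42906529464190a5114a31946420c8520c842108521485214a518c6421483214842104520c83214a5294a4214852148420885214841908621085290a419063194a4290a5214652946220c85214842108320c842908421083290a429063294642986419084210c329064290a519464290a41908421083198a4190a5294a42906520ca3194a421485214442108320c8520ca5294a420c8320c842108520c45214a328ca420c8311484210832148521465194a42148320c84210831148429884210851906429065194a429064290c421083190a4290a3194a4190a,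
  nat_lit 0x821084210842108421084210842108421084220842108421084210842108421084210842208421084210842108421084210842108421084210844108421084210882108421084210842108421084210842108421084210882108421088210842108421084210842108421084210842108421104210842108421084210842108421084410842108421084210842110421084210842108421084210842108422084210842108421084210842108421088210842108422084210842108421084210842108421084210842108421084211042108421084210842108821084210842108421104210842108421084210842108441084210842108421084210842108421084210844108421084210842108421084210842108421084210842208421084410842108421084210842108421084211042108421084210842108421084210842108441084210842108421084210842108421084220842108421084210842108421084210842110]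
theorem C0s_fix : fixes [] C0s = true := by decide +kernel
theorem C2s_fix : fixes [cU] C2s = true := by decide +kernel
theorem C3s_fix : fixes [cV] C3s = true := by decide +kernel
theorem Mcs_fix : fixes [cU, cV] Mcs = true := by decide +kernel
theorem Hss_fix : fixes [cU1, cV] Hss = true := by decide +kernel
theorem U6s_fix : fixes [cU1, cA] U6s = true := by decide +kernel
theorem NUs_fix : fixes [cU] NUs = true := by decide +kernel
theorem NNs_fix : fixes [] NNs = true := by decide +kernel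
theorem M22s_fix : fixes [cU, cU1, cV] M22s = true := by decide +kernel
theorem Q0s_fix : fixes [] Q0s = true := by decide +kernel
theorem Q3s_fix : fixes [cV] Q3s = true := by decide +kernel

noncomputable def memL (c : ℕ) (l : List ℕ) : Bool :=
  List.rec (motive := fun _ => Bool) false (fun d _ ih => Bool.rec ih true (Nat.beq c d)) l

theorem memL_sound {c : ℕ} {l : List ℕ} : memL c l = true → c ∈ l := by
  induction l with
  | nil => intro h; cases h
  | cons d l ih =>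
    intro h
    have h' : (Bool.rec (memL c l) true (Nat.beq c d) : Bool) = true := h
    cases e : Nat.beq c d with
    | true => simp [Nat.eq_of_beq_eq_true e]
    | false => rw [e] at h'; exact List.mem_cons_of_mem _ (ih h')

noncomputable def inNN (Ms : List ℕ) : Bool :=
  allL (fun M => forceT (prep M) fun t => allLin (fun i => force i fun i =>
    memL (t.act (c8 i)) crossL) 0 24) Ms

theorem NUs_NN : inNN NUs = true := by decide +kernel
theorem NNs_NN : inNN NNs = true := by decide +kernel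

theorem roots_ok : allL (vcb 32) roots = true := by decide +kernel

theorem roots_dot : forceT (prepV cU) (fun a => forceT (prepV cU1) fun b => forceT (prepV cV) fun c =>
    allLin (fun j => force j fun j => band (Nat.beq (a.dot 64 (gd 0 roots j)) (gd 0 DA j))
      (band (Nat.beq (b.dot 64 (gd 0 roots j)) (gd 0 DB j))
        (Nat.beq (c.dot 64 (gd 0 roots j)) (gd 0 DC j)))) 0 105) = true := by decide +kernel

theorem Q0_ok : prepL Q0s (fun ts => band (eqW ts 3 (List.replicate 13 0) [])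
    (band (eqW ts 3 (List.replicate 13 1) []) (eqW ts 3 [0, 1] [2]))) = true := by decide +kernel

theorem Q3_ok : prepL Q3s (fun ts => band (eqW ts 3 (List.replicate 23 0) [])
    (band (eqW ts 3 (List.replicate 23 1) []) (eqW ts 3 [0, 1] [2]))) = true := by decide +kernel

end Cfsg.Agent.H25.Leech
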