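import Mathlib
import Cfsg.Agent.H25.CoF
import Cfsg.Agent.H14.M24f
import Cfsg.Prelude.Def_Sporadic

/-! The Conway groups: orbits on short vectors, orders, simplicity. -/

set_option linter.all false
set_option maxRecDepth 100000

namespace Cfsg.Agent.H25.Leech
open Finset MulAction Cfsg.Spor

attribute [-simp] Fintype.sum_option Fintype.prod_option

abbrev U : L := leechU
abbrev U' : L := leechU'
abbrev W : L := leechV
def A : L := -(U + W)
/-- dot product of lattice vectors -/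
abbrev dt (x y : L) : ℤ := dotInt x.1 y.1

theorem sqU : sqNorm U.1 = 32 := by decide +kernel
theorem sqU' : sqNorm U'.1 = 32 := by decide +kernel
theorem sqW : sqNorm W.1 = 48 := by decide +kernel
theorem sqA : sqNorm A.1 = 32 := by decide +kernel
theorem dUU' : dt U U' = 0 := by decide +kernel
theorem dUW : dt U W = -24 := by decide +kernel
theorem dU'W : dt U' W = -16 := by decide +kernel
theorem dtA (x : L) : dt A x = -dt U x - dt W x := by
  show dotInt (-(U.1 + W.1)) x.1 = _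
  rw [neg_dot, add_dot]; ring

theorem pt_of {c : ℕ} {x : L} (h : sqNorm x.1 ≤ 64) (e : c = code x.1) : VC c ∧ pt c = x := e ▸ VC_code h
theorem ptU : VC cU ∧ pt cU = U := pt_of (by rw [sqU]; norm_num) (by decide +kernel)
theorem ptU' : VC cU1 ∧ pt cU1 = U' := pt_of (by rw [sqU']; norm_num) (by decide +kernel)
theorem ptW : VC cV ∧ pt cV = W := pt_of (by rw [sqW]; norm_num) (by decide +kernel)
theorem ptA : VC cA ∧ pt cA = A := pt_of (by rw [sqA]; norm_num) (by decide +kernel)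

abbrev St (x : L) : Subgroup Co0 := stabilizer Co0 x
abbrev C2 := St U
abbrev C3 := St W
abbrev Mc := St U ⊓ St W
abbrev Hs := St U' ⊓ St W
abbrev U6 := St U' ⊓ St A
abbrev K1 := St U ⊓ St U' ⊓ St W

theorem smul_A {g : Co0} (h : g • U = U) : g • A = A ↔ g • W = W := by
  rw [A, g_neg, g_add, h, neg_inj, add_right_inj]

theorem fix0 {Ms : List ℕ} (h : fixes [] Ms = true) : ∀ M ∈ Ms, ok M = true ∧ el M ∈ (⊤ : Subgroup Co0) :=
  fun M hM => ⟨(fixes_sound h (by simp) M hM).1, trivial⟩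
theorem fix1 {Ms : List ℕ} {c : ℕ} {x : L} (h : fixes [c] Ms = true) (hc : VC c ∧ pt c = x) :
    ∀ M ∈ Ms, ok M = true ∧ el M ∈ St x := fun M hM => by
  have := fixes_sound h (by simpa using hc.1) M hM
  exact ⟨this.1, hc.2 ▸ this.2 c (by simp)⟩
theorem fix2 {Ms : List ℕ} {c d : ℕ} {x y : L} (h : fixes [c, d] Ms = true) (hc : VC c ∧ pt c = x)
    (hd : VC d ∧ pt d = y) : ∀ M ∈ Ms, ok M = true ∧ el M ∈ St x ⊓ St y := fun M hM => by
  have := fixes_sound h (by simpa using ⟨hc.1, hd.1⟩) M hM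
  exact ⟨this.1, hc.2 ▸ this.2 c (by simp), hd.2 ▸ this.2 d (by simp)⟩
theorem fix3 {Ms : List ℕ} {c d e : ℕ} {x y z : L} (h : fixes [c, d, e] Ms = true) (hc : VC c ∧ pt c = x)
    (hd : VC d ∧ pt d = y) (he : VC e ∧ pt e = z) :
    ∀ M ∈ Ms, ok M = true ∧ el M ∈ St x ⊓ St y ⊓ St z := fun M hM => by
  have := fixes_sound h (by simpa using ⟨hc.1, hd.1, he.1⟩) M hM
  exact ⟨this.1, ⟨hc.2 ▸ this.2 c (by simp), hd.2 ▸ this.2 d (by simp)⟩, he.2 ▸ this.2 e (by simp)⟩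

theorem cross_key : ∀ i : GolayPt, gd 0 crossL (2 * H14.gC.idx i) = code (e8 i).1 ∧
    gd 0 crossL (2 * H14.gC.idx i + 1) = code (-e8 i).1 := by decide +kernel

theorem cross_len : crossL.length = 48 := rfl

theorem cross_of_mem {c : ℕ} (h : c ∈ crossL) : (pt c).1 ∈ stdCross := by
  obtain ⟨k, hk, e⟩ := exists_gd 0 h
  rw [cross_len] at hk
  have := cross_key (H14.gC.pt (k / 2))
  rw [H14.gC.idx_pt _ (show k / 2 < 24 by omega)] at this
  generalize H14.gC.pt (k / 2) = j at this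
  have n : sqNorm (-e8 j).1 = 64 := (sq_neg (e8 j).1).trans (sq_e8 j)
  rcases Nat.mod_two_eq_zero_or_one k with a | a
  · have b : k = 2 * (k / 2) := by omega
    have := (pt_of (x := e8 j) (sq_e8 j).le (e.symm.trans ((congrArg _ b).trans this.1))).2
    exact this ▸ e8_cross j
  · have b : k = 2 * (k / 2) + 1 := by omega
    have := (pt_of (x := -e8 j) n.le (e.symm.trans ((congrArg _ b).trans this.2))).2
    exact mem_cross.2 ⟨j, -1, by simp, by simp [this]⟩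

theorem inNN_sound {Ms : List ℕ} (h : inNN Ms = true) (hM : ∀ M ∈ Ms, ok M = true) :
    ∀ M ∈ Ms, el M ∈ NN := fun M hm => mem_NN_of fun i => by
  have h1 := allL_sound h M hm
  simp only [forceT_eq] at h1
  have h2 := allLin_sound h1 _ (Nat.zero_le _) (show H14.gC.idx i < 0 + 24 by simpa using idx_lt i)
  simp only [force_eq] at h2
  obtain ⟨a, b⟩ := c8_spec i
  obtain ⟨a1, b1⟩ := el_smul (hM M hm) a
  rw [← b, b1]
  exact cross_of_mem (memL_sound h2)

theorem SL_smul (g : Co0) {n : ℕ} {x : L} (h : x ∈ SL n) : g • x ∈ SL n := (g_sq g x).trans h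

theorem od' : OrbDec K1 (SL 32) roots HH ∧ (∀ i < 196560, VC (mv i)) ∧
    ∀ x, x ∈ SL 32 ↔ ∃ i < 196560, pt (mv i) = x :=
  orbDec_of_cov (T := CT) (fix3 M22s_fix ptU ptU' ptW) (fun r hr => vcb_sound (allL_sound roots_ok r hr))
    (fun k _ x => SL_smul k) cov_all (fun i a j b e => inj_of_mono mono_all i (Nat.le_of_lt_succ a) j
      (Nat.le_of_lt_succ b) (by rw [kv, kv, e])) ((ncard_SL 32).trans ncard_Sh32)
    (by decide +kernel) hist_all

theorem mv_inj : ∀ i < 196560, ∀ j < 196560, mv i = mv j → i = j := fun i a j b e =>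
  inj_of_mono mono_all i (Nat.le_of_lt_succ a) j (Nat.le_of_lt_succ b) (by rw [kv, kv, e])

theorem od : OrbDec K1 (SL 32) roots HH := od'.1

noncomputable abbrev R (j : ℕ) : L := pt (gd 0 roots j)
noncomputable def da (j : ℕ) : ℤ := (gd 0 DA j : ℕ) - 64
noncomputable def db (j : ℕ) : ℤ := (gd 0 DB j : ℕ) - 64
noncomputable def dc (j : ℕ) : ℤ := (gd 0 DC j : ℕ) - 64

theorem rlen : roots.length = 105 := rfl

theorem root_dot {j : ℕ} (hj : j < roots.length) : dt U (R j) = da j ∧ dt U' (R j) = db j ∧ dt W (R j) = dc j := by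
  have h := roots_dot
  simp only [forceT_eq] at h
  have := allLin_sound h j (Nat.zero_le _) (by simpa [rlen] using hj)
  simp only [force_eq, band_eq, Bool.and_eq_true, Nat.beq_eq] at this
  have hv := (od.vc j hj).1
  have a := dot64 ptU.1 hv
  have b := dot64 ptU'.1 hv
  have c := dot64 ptW.1 hv
  rw [this.1, ptU.2] at a
  rw [this.2.1, ptU'.2] at b
  rw [this.2.2, ptW.2] at c
  simp only [da, db, dc, dt, R]
  omega

theorem dt_fix {g : Co0} {u : L} (h : g • u = u) (x : L) : dt u (g • x) = dt u x := by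
  conv_lhs => rw [← h]
  exact g_dot g u x

theorem K1_dot {k : Co0} (hk : k ∈ K1) (x : L) :
    dt U (k • x) = dt U x ∧ dt U' (k • x) = dt U' x ∧ dt W (k • x) = dt W x :=
  ⟨dt_fix hk.1.1 x, dt_fix hk.1.2 x, dt_fix hk.2 x⟩

/-- the class of minimal vectors with a property of the three dot products -/
def Cl (P : ℤ → ℤ → ℤ → Prop) : Set L := {x | sqNorm x.1 = 32 ∧ P (dt U x) (dt U' x) (dt W x)}

theorem cnt (P : ℤ → ℤ → ℤ → Prop) [∀ a b c, Decidable (P a b c)] {n : ℕ}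
    (h : ∑ j ∈ range 105, (if P (da j) (db j) (dc j) then dg 20 HH j else 0) = n) : (Cl P).ncard = n := by
  rw [← h]
  refine (od.count (fun x => P (dt U x) (dt U' x) (dt W x)) fun k hk x => by
    obtain ⟨a, b, c⟩ := K1_dot hk x
    rw [a, b, c]).trans (sum_congr rfl fun j hj => ?_)
  obtain ⟨a, b, c⟩ := root_dot (mem_range.1 hj)
  simp only [a, b, c]

theorem trn {K : Subgroup Co0} {rep : List ℕ} (hK : K1 ≤ K) (hf : Fus K roots rep)
    (P : ℤ → ℤ → ℤ → Prop) (r : ℕ) (h : ∀ j < 105, P (da j) (db j) (dc j) → gd 0 rep j = r) :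
    ∀ x ∈ Cl P, ∀ y ∈ Cl P, ∃ k ∈ K, k • x = y := fun x hx y hy =>
  od.trans hK hf (fun x => P (dt U x) (dt U' x) (dt W x)) (fun k hk x => by
    obtain ⟨a, b, c⟩ := K1_dot hk x
    rw [a, b, c]; exact id) r (fun j hj => by
      obtain ⟨a, b, c⟩ := root_dot hj
      simp only [a, b, c]; exact h j hj) x hx.1 hx.2 y hy.1 hy.2

theorem rvc : ∀ j < roots.length, VC (gd 0 roots j) := fun j hj => (od.vc j hj).1
theorem fC0 : Fus ⊤ roots C0rep := fus_sound (fix0 C0s_fix) rvc C0fus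
theorem fC2 : Fus C2 roots C2rep := fus_sound (fix1 C2s_fix ptU) rvc C2fus
theorem fC3 : Fus C3 roots C3rep := fus_sound (fix1 C3s_fix ptW) rvc C3fus
theorem fMc : Fus Mc roots Mcrep := fus_sound (fix2 Mcs_fix ptU ptW) rvc Mcfus
theorem fHs : Fus Hs roots Hsrep := fus_sound (fix2 Hss_fix ptU' ptW) rvc Hsfus
theorem fU6 : Fus U6 roots U6rep := fus_sound (fix2 U6s_fix ptU' ptA) rvc U6fus
theorem fNU : Fus (NN ⊓ C2) roots NUrep := fus_sound (fun M h =>
  ⟨(fix1 NUs_fix ptU M h).1, inNN_sound NUs_NN (fun M h => (fix1 NUs_fix ptU M h).1) M h,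
    (fix1 NUs_fix ptU M h).2⟩) rvc NUfus
theorem fNN : Fus NN roots NNrep := fus_sound (fun M h =>
  ⟨(fix0 NNs_fix M h).1, inNN_sound NNs_NN (fun M h => (fix0 NNs_fix M h).1) M h⟩) rvc NNfus

theorem K1_C2 : K1 ≤ C2 := fun _ h => h.1.1
theorem K1_C3 : K1 ≤ C3 := fun _ h => h.2
theorem K1_Mc : K1 ≤ Mc := fun _ h => ⟨h.1.1, h.2⟩
theorem K1_Hs : K1 ≤ Hs := fun _ h => ⟨h.1.2, h.2⟩
theorem K1_U6 : K1 ≤ U6 := fun _ h => ⟨h.1.2, (smul_A h.1.1).2 h.2⟩

theorem orbit_Cl {K : Subgroup Co0} {rep : List ℕ} (hK : K1 ≤ K) (hf : Fus K roots rep)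
    (P : ℤ → ℤ → ℤ → Prop) (r : ℕ) (h : ∀ j < 105, P (da j) (db j) (dc j) → gd 0 rep j = r) {x : L}
    (hx : x ∈ Cl P) (hP : ∀ k ∈ K, k • x ∈ Cl P) : orbit K x = Cl P :=
  orbit_eq hP fun y hy => trn hK hf P r h x hx y hy

theorem dUA : dt U A = -8 := by decide +kernel
theorem dU'A : dt U' A = 16 := by decide +kernel
theorem dUU : dt U U = 32 := by decide +kernel
theorem dU'U' : dt U' U' = 32 := by decide +kernel
theorem dU'U : dt U' U = 0 := by decide +kernel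
theorem dWU : dt W U = -24 := by decide +kernel
theorem dWU' : dt W U' = -16 := by decide +kernel

theorem orb_C0 : orbit (⊤ : Subgroup Co0) U = Cl fun _ _ _ => True :=
  orbit_Cl le_top fC0 _ 0 (by decide +kernel) ⟨sqU, trivial⟩ fun k _ => ⟨(g_sq k _).trans sqU, trivial⟩
theorem orb_C2 : orbit C2 U' = Cl fun a _ _ => a = 0 :=
  orbit_Cl K1_C2 fC2 _ 4 (by decide +kernel) ⟨sqU', dUU'⟩ fun k h =>
    ⟨(g_sq k _).trans sqU', (dt_fix h _).trans dUU'⟩
theorem orb_C2A : orbit C2 A = Cl fun a _ _ => a = -8 :=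
  orbit_Cl K1_C2 fC2 _ 39 (by decide +kernel) ⟨sqA, dUA⟩ fun k h =>
    ⟨(g_sq k _).trans sqA, (dt_fix h _).trans dUA⟩
theorem orb_C3 : orbit C3 U = Cl fun _ _ c => c = -24 :=
  orbit_Cl K1_C3 fC3 _ 7 (by decide +kernel) ⟨sqU, dWU⟩ fun k h =>
    ⟨(g_sq k _).trans sqU, (dt_fix h _).trans dWU⟩
theorem orb_C3' : orbit C3 U' = Cl fun _ _ c => c = -16 :=
  orbit_Cl K1_C3 fC3 _ 8 (by decide +kernel) ⟨sqU', dWU'⟩ fun k h =>
    ⟨(g_sq k _).trans sqU', (dt_fix h _).trans dWU'⟩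
theorem orb_Mc : orbit Mc U' = Cl fun a _ c => a = 0 ∧ c = -16 :=
  orbit_Cl K1_Mc fMc _ 8 (by decide +kernel) ⟨sqU', dUU', dWU'⟩ fun k h =>
    ⟨(g_sq k _).trans sqU', (dt_fix h.1 _).trans dUU', (dt_fix h.2 _).trans dWU'⟩
theorem orb_Hs : orbit Hs U = Cl fun _ b c => b = 0 ∧ c = -24 :=
  orbit_Cl K1_Hs fHs _ 7 (by decide +kernel) ⟨sqU, dU'U, dWU⟩ fun k h =>
    ⟨(g_sq k _).trans sqU, (dt_fix h.1 _).trans dU'U, (dt_fix h.2 _).trans dWU⟩
theorem orb_U6 : orbit U6 U = Cl fun a b c => b = 0 ∧ a + c = 8 :=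
  orbit_Cl K1_U6 fU6 _ 6 (by decide +kernel) ⟨sqU, dU'U, by rw [dUU, dWU]; rfl⟩ fun k h =>
    ⟨(g_sq k _).trans sqU, (dt_fix h.1 _).trans dU'U, by
      have := dt_fix h.2 U
      rw [dtA, dtA, dUU, dWU] at this
      show dt U _ + dt W _ = 8
      omega⟩

theorem n_C0 : (orbit (⊤ : Subgroup Co0) U).ncard = 196560 := orb_C0 ▸ cnt _ (by decide +kernel)
theorem n_C2 : (orbit C2 U').ncard = 93150 := orb_C2 ▸ cnt _ (by decide +kernel)
theorem n_C2A : (orbit C2 A).ncard = 47104 := orb_C2A ▸ cnt _ (by decide +kernel)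
theorem n_C3 : (orbit C3 U).ncard = 552 := orb_C3 ▸ cnt _ (by decide +kernel)
theorem n_C3' : (orbit C3 U').ncard = 11178 := orb_C3' ▸ cnt _ (by decide +kernel)
theorem n_Mc : (orbit Mc U').ncard = 2025 := orb_Mc ▸ cnt _ (by decide +kernel)
theorem n_Hs : (orbit Hs U).ncard = 100 := orb_Hs ▸ cnt _ (by decide +kernel)
theorem n_U6 : (orbit U6 U).ncard = 20736 := orb_U6 ▸ cnt _ (by decide +kernel)

theorem fixUU' : C2 ⊓ St U' = St (e8 none) ⊓ St (e8 (some 0)) := by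
  ext g
  simp only [Subgroup.mem_inf, mem_stabilizer_iff, ← UU'.1, ← UU'.2, g_add, g_sub]
  refine ⟨fun h => by rw [h.1, h.2]; exact ⟨rfl, rfl⟩, fun h => ?_⟩
  have a := congrArg Subtype.val h.1
  have b := congrArg Subtype.val h.2
  have c : ∀ i, (g • U).1 i = U.1 i ∧ (g • U').1 i = U'.1 i := fun i => by
    have a' : (g • U).1 i + (g • U').1 i = U.1 i + U'.1 i := congrFun a i
    have b' : (g • U).1 i - (g • U').1 i = U.1 i - U'.1 i := congrFun b i
    omega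
  exact ⟨Subtype.ext (funext fun i => (c i).1), Subtype.ext (funext fun i => (c i).2)⟩

theorem e_C2A : C2 ⊓ St A = Mc := Subgroup.ext fun g =>
  ⟨fun h => ⟨h.1, (smul_A h.1).1 h.2⟩, fun h => ⟨h.1, (smul_A h.1).2 h.2⟩⟩
theorem e_C3 : C3 ⊓ St U = Mc := inf_comm _ _
theorem e_C3' : C3 ⊓ St U' = Hs := inf_comm _ _
theorem e_Mc : Mc ⊓ St U' = K1 := inf_right_comm _ _ _
theorem e_Hs : Hs ⊓ St U = K1 := by rw [inf_comm, ← inf_assoc]
theorem e_U6 : U6 ⊓ St U = K1 := Subgroup.ext fun g =>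
  ⟨fun h => ⟨⟨h.2, h.1.1⟩, (smul_A h.2).1 h.1.2⟩, fun h => ⟨K1_U6 h, h.1.1⟩⟩

theorem card_C2 : Nat.card C2 = 42305421312000 := by
  rw [H14.card_eq_orbit_mul_inf C2 U', n_C2, fixUU', card_fix2]
theorem card_Co0 : Nat.card Co0 = 8315553613086720000 := by
  rw [← Subgroup.card_top, H14.card_eq_orbit_mul_inf ⊤ U, n_C0, top_inf_eq, card_C2]
theorem card_Mc : Nat.card Mc = 898128000 := by
  have := H14.card_eq_orbit_mul_inf C2 A
  rw [n_C2A, e_C2A, card_C2] at this; omega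
theorem card_C3 : Nat.card C3 = 495766656000 := by
  rw [H14.card_eq_orbit_mul_inf C3 U, n_C3, e_C3, card_Mc]
theorem card_Hs : Nat.card Hs = 44352000 := by
  have := H14.card_eq_orbit_mul_inf C3 U'
  rw [n_C3', e_C3', card_C3] at this; omega
theorem card_K1 : Nat.card K1 = 443520 := by
  have := H14.card_eq_orbit_mul_inf Hs U
  rw [n_Hs, e_Hs, card_Hs] at this; omega
theorem card_U6 : Nat.card U6 = 9196830720 := by
  rw [H14.card_eq_orbit_mul_inf U6 U, n_U6, e_U6, card_K1]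

/-- permutation matrices -/
noncomputable def permHom : M24 →* Co0 := MonoidHom.mk' (fun σ => mon σ ⟨∅, H14.empty_mem_gcode⟩)
  fun σ τ => co_ext fun v => Subtype.ext (funext fun i => by
    rw [mul_smul]; simp [mon_val, signedPerm, Equiv.Perm.mul_def])

theorem permHom_apply (σ : M24) (v : L) (i : GolayPt) : (permHom σ • v).1 i = v.1 (σ.1.symm i) := by
  show (mon σ _ • v).1 i = _
  simp [mon_val, signedPerm]

theorem permHom_inj : Function.Injective permHom := fun σ τ h =>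
  congrArg Prod.fst (mon_inj (a₁ := (σ, _)) (a₂ := (τ, _)) h)

theorem map_S22 : H14.S22s.K.map permHom = K1 := by
  refine Subgroup.eq_of_le_of_card_ge ?_ (by
    rw [card_K1, Subgroup.card_map_of_injective permHom_inj]; exact H14.S22s.card_eq.ge)
  rintro _ ⟨σ, h, rfl⟩
  have h1 : σ.1 none = none := h.1
  have h2 : σ.1 (some 0) = some 0 := h.2
  have a : ∀ i, σ.1.symm i = none ↔ i = none := fun i => by rw [Equiv.symm_apply_eq, h1]
  have b : ∀ i, σ.1.symm i = some 0 ↔ i = some 0 := fun i => by rw [Equiv.symm_apply_eq, h2]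
  refine ⟨⟨?_, ?_⟩, ?_⟩ <;> refine Subtype.ext (funext fun i => ?_) <;> rw [permHom_apply]
  · simp only [leechU, vecU, a, b]
  · simp only [leechU', vecU', a, b]
  · simp only [leechV, vecV, a]

noncomputable def equivK1 : K1 ≃* Spor.M22 :=
  ((H14.S22s.K.equivMapOfInjective _ permHom_inj).trans (MulEquiv.subgroupCongr map_S22)).symm.trans
    H14.equivM22

theorem simple_K1 : IsSimpleGroup K1 := haveI := H14.simple_M22; equivK1.isSimpleGroup

/-- maximality of a point stabiliser -/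
theorem coatom_Cl {K : Subgroup Co0} {x : L} {rep : List ℕ} (hK : K1 ≤ K ⊓ St x)
    (hf : Fus (K ⊓ St x) roots rep) {P : ℤ → ℤ → ℤ → Prop} (ho : orbit K x = Cl P) {n : ℕ}
    (hn : (orbit K x).ncard = n) (cs c : List ℕ) (hx : gd 0 roots (gd 0 cs 0) = code x.1)
    (hc : ∀ j < 105, (gd 0 c j < cs.length ∧ gd 0 rep j = gd 0 cs (gd 0 c j)) ∨
      (cs.length ≤ gd 0 c j ∧ ¬ P (da j) (db j) (dc j))) {H : Subgroup Co0} (h1 : K ⊓ St x ≤ H) (h2 : H ≤ K)
    (h0 : 0 < cs.length) : ∃ m < 2 ^ cs.length, m.testBit 0 = true ∧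
      (orbit H x).ncard = ∑ j ∈ range 105, if m.testBit (gd 0 c j) then dg 20 HH j else 0 := by
  have hs : orbit H x ⊆ Cl P := ho ▸ by rintro _ ⟨k, rfl⟩; exact ⟨⟨k, h2 k.2⟩, rfl⟩
  obtain ⟨m, a, b, e⟩ := od.orb (hK.trans h1) (hf.mono h1) (x := x) (fun y hy => (hs hy).1)
    (fun j => P (da j) (db j) (dc j)) (fun j hj h => by
      obtain ⟨a, b, c⟩ := root_dot hj
      have := (hs h).2
      rwa [a, b, c] at this) cs c hc
  refine ⟨m, a, (b 0 h0).2 ?_, e⟩
  rw [hx, (VC_code (by rw [(hs (mem_orbit_self x)).1]; norm_num)).2]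
  exact mem_orbit_self x

theorem coatom_Cl' {K : Subgroup Co0} {x : L} {rep : List ℕ} (hK : K1 ≤ K ⊓ St x)
    (hf : Fus (K ⊓ St x) roots rep) {P : ℤ → ℤ → ℤ → Prop} (ho : orbit K x = Cl P) {n : ℕ}
    (hn : (orbit K x).ncard = n) (cs c : List ℕ) (hx : gd 0 roots (gd 0 cs 0) = code x.1)
    (hc : ∀ j < 105, (gd 0 c j < cs.length ∧ gd 0 rep j = gd 0 cs (gd 0 c j)) ∨
      (cs.length ≤ gd 0 c j ∧ ¬ P (da j) (db j) (dc j)))
    (h : 0 < cs.length ∧ n ≠ 1 ∧ ∀ m < 2 ^ cs.length, m.testBit 0 = true →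
      ∀ s, (∑ j ∈ range 105, if m.testBit (gd 0 c j) then dg 20 HH j else 0) = s → s ∣ n → s = 1 ∨ s = n) :
    IsCoatom ((K ⊓ St x).subgroupOf K) :=
  coatom_of_count (hn ▸ h.2.1) fun H h1 h2 h3 => by
    obtain ⟨m, a, b, e⟩ := coatom_Cl hK hf ho hn cs c hx hc h1 h2 h.1
    rw [hn] at h3 ⊢
    exact h.2.2 m a b _ e.symm h3

theorem m0_spec : ok (gd 0 M22s 0) = true ∧ el (gd 0 M22s 0) ∈ K1 :=
  fix3 M22s_fix ptU ptU' ptW _ (gd_mem 0 (by decide))

theorem moved {j : ℕ} (hj : j < 105) (h : Nat.beq ((prep (gd 0 M22s 0)).act (gd 0 roots j)) (gd 0 roots j) = false) :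
    el (gd 0 M22s 0) • R j ≠ R j := fun e => by
  obtain ⟨a, b⟩ := el_smul m0_spec.1 (rvc j hj)
  rw [a.inj (rvc j hj) (b.symm.trans e), Nat.beq_refl] at h
  cases h

theorem not_normal_Cl {K : Subgroup Co0} {x : L} (hK : K1 ≤ K ⊓ St x) {P : ℤ → ℤ → ℤ → Prop}
    (ho : orbit K x = Cl P) (j : ℕ) (h : j < 105 ∧ P (da j) (db j) (dc j) ∧
      Nat.beq ((prep (gd 0 M22s 0)).act (gd 0 roots j)) (gd 0 roots j) = false) :
    ¬ ((K ⊓ St x).subgroupOf K).Normal := by
  obtain ⟨k, e⟩ : R j ∈ orbit K x := by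
    obtain ⟨a, b, c⟩ := root_dot h.1
    rw [ho]; exact ⟨(od.vc j h.1).2, by rw [a, b, c]; exact h.2.1⟩
  exact not_normal_stab (hK m0_spec.2) k.2 (by
    rw [show (k : Co0) • x = R j from e]; exact moved h.1 h.2.2)

theorem fK1 : Fus K1 roots (List.range 105) := fus_id K1 roots

theorem coatom_Hs : IsCoatom ((Hs ⊓ St U).subgroupOf Hs) :=
  coatom_Cl' e_Hs.ge (e_Hs ▸ fK1) orb_Hs n_Hs hscs hsc (by decide +kernel) (by decide +kernel)
    (by simp only [forall_eq']; decide +kernel)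
theorem coatom_Mc : IsCoatom ((Mc ⊓ St U').subgroupOf Mc) :=
  coatom_Cl' e_Mc.ge (e_Mc ▸ fK1) orb_Mc n_Mc mccs mcc (by decide +kernel) (by decide +kernel)
    (by simp only [forall_eq']; decide +kernel)
theorem coatom_U6 : IsCoatom ((U6 ⊓ St U).subgroupOf U6) :=
  coatom_Cl' e_U6.ge (e_U6 ▸ fK1) orb_U6 n_U6 u6cs u6c (by decide +kernel) (by decide +kernel)
    (by simp only [forall_eq']; decide +kernel)
theorem coatom_C3 : IsCoatom ((C3 ⊓ St U').subgroupOf C3) :=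
  coatom_Cl' (e_C3' ▸ K1_Hs) (e_C3' ▸ fHs) orb_C3' n_C3' c3cs c3c (by decide +kernel) (by decide +kernel)
    (by simp only [forall_eq']; decide +kernel)
theorem coatom_C2 : IsCoatom ((C2 ⊓ St A).subgroupOf C2) :=
  coatom_Cl' (e_C2A ▸ K1_Mc) (e_C2A ▸ fMc) orb_C2A n_C2A c2cs c2c (by decide +kernel) (by decide +kernel)
    (by simp only [forall_eq']; decide +kernel)

theorem simple_Hs : IsSimpleGroup Hs :=
  simple_two_primes (p := 2) (q := 5) (a := 1) (b := 1) coatom_Hs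
    (simple_subgroupOf inf_le_left (e_Hs ▸ simple_K1)) (not_normal_Cl e_Hs.ge orb_Hs 15 (by decide +kernel))
    (by norm_num) (by norm_num) (by norm_num) (by rw [index_stab, n_Hs]; norm_num)
theorem simple_Mc : IsSimpleGroup Mc :=
  simple_two_primes (p := 3) (q := 5) (a := 3) (b := 1) coatom_Mc
    (simple_subgroupOf inf_le_left (e_Mc ▸ simple_K1)) (not_normal_Cl e_Mc.ge orb_Mc 16 (by decide +kernel))
    (by norm_num) (by norm_num) (by norm_num) (by rw [index_stab, n_Mc]; norm_num)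
theorem simple_U6 : IsSimpleGroup U6 :=
  simple_two_primes (p := 2) (q := 3) (a := 7) (b := 3) coatom_U6
    (simple_subgroupOf inf_le_left (e_U6 ▸ simple_K1)) (not_normal_Cl e_U6.ge orb_U6 6 (by decide +kernel))
    (by norm_num) (by norm_num) (by norm_num) (by rw [index_stab, n_U6]; norm_num)
theorem simple_C2 : IsSimpleGroup C2 :=
  simple_two_primes (p := 2) (q := 23) (a := 10) (b := 0) coatom_C2
    (simple_subgroupOf inf_le_left (e_C2A ▸ simple_Mc))
    (not_normal_Cl (e_C2A ▸ K1_Mc) orb_C2A 39 (by decide +kernel))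
    (by norm_num) (by norm_num) (by norm_num) (by rw [index_stab, n_C2A]; norm_num)

theorem pair_spec {Ms : List ℕ} {q : ℕ} (hM : ∀ M ∈ Ms, ok M = true) (hl : Ms.length = 3)
    (h2 : gd 0 Ms 2 = gd 0 M22s 0)
    (h : prepL Ms (fun ts => band (eqW ts 3 (List.replicate q 0) [])
      (band (eqW ts 3 (List.replicate q 1) []) (eqW ts 3 [0, 1] [2]))) = true) :
    l0 Ms 0 ^ q = 1 ∧ l0 Ms 1 ^ q = 1 ∧ l0 Ms 0 * l0 Ms 1 = (el (gd 0 M22s 0))⁻¹ := by
  rw [prepL_eq, ← hl] at h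
  obtain ⟨a, b, c⟩ := b3 h
  have a := eqW_sound hM a
  have b := eqW_sound hM b
  have c := eqW_sound hM c
  simp only [ev, List.map_replicate, List.prod_replicate, List.map_nil, List.prod_nil, List.map_cons,
    List.prod_cons, mul_one] at a b c
  exact ⟨a, b, by rw [c, l0, if_pos (by omega), h2]⟩

theorem m0_ne : (el (gd 0 M22s 0))⁻¹ • R 0 ≠ R 0 ∧ (el (gd 0 M22s 0))⁻¹ • R 0 ≠ -R 0 := by
  have := moved (j := 0) (by norm_num) (by decide +kernel)
  refine ⟨fun e => this (inv_smul_eq_iff.1 e).symm, fun e => ?_⟩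
  have a := (K1_dot (K1.inv_mem m0_spec.2) (R 0)).1
  rw [e, show dt U (-R 0) = -dt U (R 0) from dot_neg _ _, (root_dot (j := 0) (by decide)).1] at a
  revert a; decide +kernel

theorem simple_C3 : IsSimpleGroup C3 := by
  have hM := fix1 Q3s_fix ptW
  obtain ⟨a, b, c⟩ := pair_spec (fun M h => (hM M h).1) rfl rfl Q3_ok
  have m : ∀ i, l0 Q3s i ∈ C3 := fun i => by
    simpa using ev_l0_mem (fun M h => (hM M h).2) [i]
  refine simple_pair (q := 23) coatom_C3 (simple_subgroupOf inf_le_left (e_C3' ▸ simple_Hs))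
    (not_normal_Cl (e_C3' ▸ K1_Hs) orb_C3' 12 (by decide +kernel)) ?_ (x := ⟨_, m 0⟩) (y := ⟨_, m 1⟩)
    (Subtype.ext a) (Subtype.ext b) ?_ fun e => m0_ne.1 ?_
  · rw [Nat.card_congr (Subgroup.subgroupOfEquivOfLe inf_le_left).toEquiv, e_C3', card_Hs]; norm_num
  · show l0 Q3s 0 * l0 Q3s 1 ∈ C3 ⊓ St U'
    rw [c, e_C3']; exact K1_Hs (K1.inv_mem m0_spec.2)
  · rw [← c, show l0 Q3s 0 * l0 Q3s 1 = 1 from congrArg Subtype.val e, one_smul]

theorem n_orb {H : Subgroup Co0} (h : C2 ≤ H) :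
    (orbit H U).ncard = 1 ∨ (orbit H U).ncard = 2 ∨ H = ⊤ := by
  have e : ⊤ ⊓ St U = C2 := top_inf_eq _
  obtain ⟨m, a, b, c⟩ := coatom_Cl (K := ⊤) (e ▸ K1_C2) (e ▸ fC2) orb_C0 n_C0 c0cs c0c (by decide +kernel)
    (by decide +kernel) (e ▸ h) le_top (by decide)
  obtain ⟨d, f⟩ := orbit_dvd (K := ⊤) (e ▸ h) le_top
  rw [n_C0] at d
  have key : ∀ m < 2 ^ c0cs.length, m.testBit 0 = true → ∀ s, (∑ j ∈ range 105,
      if m.testBit (gd 0 c0c j) then dg 20 HH j else 0) = s → s ∣ 196560 → s = 1 ∨ s = 2 ∨ s = 196560 := by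
    simp only [forall_eq']; decide +kernel
  refine (key m a b _ c.symm d).imp_right (Or.imp_right fun g => Subgroup.eq_top_of_le_card _ ?_)
  rw [f, g, e, card_C2, card_Co0]

abbrev mk1 : Co0 →* Co1 := QuotientGroup.mk' (Subgroup.center Co0)

theorem neg_ne_U : -U ≠ U := by decide +kernel

theorem mk1_eq {g h : Co0} : mk1 g = mk1 h ↔ g = h ∨ g = h * neg1 := by
  rw [eq_comm, QuotientGroup.mk'_eq_mk']
  simp only [mem_center]
  exact ⟨by rintro ⟨z, rfl | rfl, rfl⟩ <;> simp, by rintro (rfl | rfl) <;> simp⟩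

theorem mem_map_C2 {g : Co0} : mk1 g ∈ C2.map mk1 ↔ g • U = U ∨ g • U = -U := by
  refine ⟨?_, fun h => h.elim (fun e => ⟨g, e, rfl⟩) fun e => ⟨g * neg1, ?_, mk1_eq.2 (Or.inr rfl)⟩⟩
  · rintro ⟨k, hk, e⟩
    have hk : k • U = U := hk
    rcases mk1_eq.1 e.symm with rfl | rfl
    · exact Or.inl hk
    · exact Or.inr (by rw [mul_smul, neg1_smul, g_neg, hk])
  · show (g * neg1) • U = U
    rw [mul_smul, neg1_smul, g_neg, e, neg_neg]

theorem C2_inj : Function.Injective (mk1.comp C2.subtype) := (injective_iff_map_eq_one _).2 fun k h => by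
  rcases mk1_eq.1 (h.trans (map_one mk1).symm) with e | e
  · exact Subtype.ext e
  · have : k.1 • U = U := k.2
    rw [show k.1 = 1 * neg1 from e, one_mul, neg1_smul] at this
    exact absurd this neg_ne_U

noncomputable def equivC2map : C2 ≃* C2.map mk1 :=
  (MonoidHom.ofInjective C2_inj).trans (MulEquiv.subgroupCongr (by
    rw [MonoidHom.range_comp, Subgroup.range_subtype]))

theorem card_Co1 : Nat.card Co1 = 4157776806543360000 := by
  have := Subgroup.card_eq_card_quotient_mul_card_subgroup (Subgroup.center Co0)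
  rw [card_Co0, card_center] at this
  show Nat.card (Co0 ⧸ Subgroup.center Co0) = _
  omega

theorem coatom_Co1 : IsCoatom (C2.map mk1) := by
  have hc : Nat.card (C2.map mk1) = 42305421312000 := (Nat.card_congr equivC2map.toEquiv).symm.trans card_C2
  refine ⟨fun e => ?_, fun H hH => ?_⟩
  · rw [e, Subgroup.card_top, card_Co1] at hc; omega
  · have h1 : C2 ≤ H.comap mk1 := fun k hk => hH.le ⟨k, hk, rfl⟩
    obtain ⟨y, hy, hy'⟩ := SetLike.exists_of_lt hH
    obtain ⟨g, rfl⟩ := QuotientGroup.mk'_surjective _ y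
    rw [mem_map_C2, not_or] at hy'
    have h3 : 3 ≤ (orbit (H.comap mk1) U).ncard := by
      rw [← show ({g • U, U, -U} : Set L).ncard = 3 from
        Set.ncard_eq_three.2 ⟨_, _, _, hy'.1, hy'.2, neg_ne_U.symm, rfl⟩]
      refine Set.ncard_le_ncard ?_ (Set.finite_range _)
      rintro _ (rfl | rfl | rfl)
      · exact ⟨⟨g, hy⟩, rfl⟩
      · exact mem_orbit_self _
      · exact ⟨⟨neg1, by
          rw [Subgroup.mem_comap, show mk1 neg1 = 1 from (QuotientGroup.eq_one_iff _).2 neg1_central]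
          exact H.one_mem⟩, rfl⟩
    have := ((n_orb h1).resolve_left (by omega)).resolve_left (by omega)
    rw [← Subgroup.map_comap_eq_self_of_surjective (QuotientGroup.mk'_surjective _) H, this,
      Subgroup.map_top_of_surjective _ (QuotientGroup.mk'_surjective _)]

theorem trans32 {x y : L} (hx : sqNorm x.1 = 32) (hy : sqNorm y.1 = 32) : ∃ g : Co0, g • x = y := by
  obtain ⟨g, -, e⟩ := trn le_top fC0 (fun _ _ _ => True) 0 (by decide +kernel) x ⟨hx, trivial⟩ y ⟨hy, trivial⟩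
  exact ⟨g, e⟩

theorem simple_Co1 : IsSimpleGroup Co1 := by
  obtain ⟨a, b, c⟩ := pair_spec (fun M h => (fix0 Q0s_fix M h).1) rfl rfl Q0_ok
  haveI := simple_C2
  refine simple_pair (q := 13) coatom_Co1 equivC2map.symm.isSimpleGroup (fun hn => ?_) ?_
    (x := mk1 (l0 Q0s 0)) (y := mk1 (l0 Q0s 1)) (by rw [← map_pow, a, map_one])
    (by rw [← map_pow, b, map_one]) ?_ fun e => ?_
  · obtain ⟨g, e⟩ := trans32 sqU (od.vc 0 (by decide)).2
    have := hn.conj_mem _ ⟨_, K1_C2 (K1.inv_mem m0_spec.2), rfl⟩ (mk1 g⁻¹)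
    rw [← map_inv, ← map_mul, ← map_mul, mem_map_C2, inv_inv, mul_smul, mul_smul, e, inv_smul_eq_iff,
      inv_smul_eq_iff (g := g), g_neg, e] at this
    exact this.elim m0_ne.1 m0_ne.2
  · rw [← Nat.card_congr equivC2map.toEquiv, card_C2]; norm_num
  · rw [← map_mul, c]; exact ⟨_, K1_C2 (K1.inv_mem m0_spec.2), rfl⟩
  · rw [← map_mul, c, ← map_one mk1, mk1_eq] at e
    rcases e with e | e
    · exact m0_ne.1 (by rw [e, one_smul])
    · exact m0_ne.2 (by rw [e, one_mul, neg1_smul])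

/-! ### the groups of the prelude -/

noncomputable def subEq {K : Subgroup Co0} {K' : Subgroup (Equiv.Perm L)} (h : K' ≤ Co0)
    (e : ∀ g : Co0, g ∈ K ↔ g.1 ∈ K') : K ≃* K' := H14.subEquiv h e

noncomputable def eqC2 : C2 ≃* Spor.Co2 := subEq inf_le_left fun g => ⟨fun h => ⟨g.2, h⟩, fun h => h.2⟩
noncomputable def eqC3 : C3 ≃* Spor.Co3 := subEq inf_le_left fun g => ⟨fun h => ⟨g.2, h⟩, fun h => h.2⟩
noncomputable def eqMc : Mc ≃* Spor.McL := subEq (inf_le_left.trans inf_le_left) fun g =>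
  ⟨fun h => ⟨⟨g.2, h.2⟩, h.1⟩, fun h => ⟨h.2, h.1.2⟩⟩
noncomputable def eqHs : Hs ≃* Spor.HS := subEq (inf_le_left.trans inf_le_left) fun g =>
  ⟨fun h => ⟨⟨g.2, h.2⟩, h.1⟩, fun h => ⟨h.2, h.1.2⟩⟩

theorem card_Co2 : Nat.card Spor.Co2 = 42305421312000 := (Nat.card_congr eqC2.toEquiv).symm.trans card_C2
theorem card_Co3 : Nat.card Spor.Co3 = 495766656000 := (Nat.card_congr eqC3.toEquiv).symm.trans card_C3
theorem card_McL : Nat.card Spor.McL = 898128000 := (Nat.card_congr eqMc.toEquiv).symm.trans card_Mc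
theorem card_HS : Nat.card Spor.HS = 44352000 := (Nat.card_congr eqHs.toEquiv).symm.trans card_Hs
theorem simple_Co2 : IsSimpleGroup Spor.Co2 := haveI := simple_C2; eqC2.symm.isSimpleGroup
theorem simple_Co3 : IsSimpleGroup Spor.Co3 := haveI := simple_C3; eqC3.symm.isSimpleGroup
theorem simple_McL : IsSimpleGroup Spor.McL := haveI := simple_Mc; eqMc.symm.isSimpleGroup
theorem simple_HS : IsSimpleGroup Spor.HS := haveI := simple_Hs; eqHs.symm.isSimpleGroup

end Cfsg.Agent.H25.Leech
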