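import Mathlib
import Cfsg.Agent.H25.Co

/-! More on the Conway groups: transitivity on vectors and pairs, the monomial group. -/

set_option linter.all false
set_option maxRecDepth 100000

namespace Cfsg.Agent.H25.Leech
open Finset MulAction Cfsg.Spor
open Cfsg.Agent.H14 (GCode gC)

attribute [-simp] Fintype.sum_option Fintype.prod_option

theorem mem_NN_of_fix {g : Co0} (h1 : g • e8 none = e8 none) : g ∈ NN := mem_NN_of fun i => by
  have hc : (g • e8 i).1 ∈ cross (e8 none).1 := by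
    have hz : ∃ z : L, e8 none - e8 i = 2 • z := ⟨⟨_, four_e_mem none i (-1) (by simp)⟩, Subtype.ext
      (funext fun j => by simp [e8]; ring)⟩
    obtain ⟨z, hz⟩ := hz
    refine ⟨(g • e8 i).2, by rw [g_sq, sq_e8, sq_e8], (g • z).1, (g • z).2, ?_⟩
    have := congrArg (g • ·) hz
    simp only [g_sub, h1, two_smul, g_add] at this
    rw [two_smul]; exact congrArg Subtype.val this
  have hsub : stdCross ⊆ cross (e8 none).1 := by
    rintro _ ⟨k, s, hs, rfl⟩
    refine ⟨?_, ?_, _, four_e_mem none k (-s / 8) (by omega), funext fun j => ?_⟩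
    · rcases hs with rfl | rfl
      · exact e8_eq k ▸ (e8 k).2
      · have := (-e8 k).2
        rwa [AddSubgroup.coe_neg, e8_eq, ← Pi.single_neg] at this
    · rw [sq_e8, ← dot_self, dot_single]; rcases hs with rfl | rfl <;> simp
    · rcases hs with rfl | rfl <;> simp [e8, e1, Pi.single_apply] <;> split_ifs <;> norm_num
  have hcard : stdCross.ncard = 48 := by
    have : stdCross = Set.range fun p : GolayPt × Bool =>
        (Pi.single p.1 (if p.2 then 8 else -8) : V) := by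
      ext y
      constructor
      · rintro ⟨k, s, rfl | rfl, rfl⟩
        · exact ⟨(k, true), rfl⟩
        · exact ⟨(k, false), rfl⟩
      · rintro ⟨⟨k, _ | _⟩, rfl⟩
        · exact ⟨k, _, Or.inr rfl, rfl⟩
        · exact ⟨k, _, Or.inl rfl, rfl⟩
    rw [this, Set.ncard_range_of_injective, Nat.card_prod, Nat.card_eq_fintype_card, card24]
    · simp
    · rintro ⟨k, a⟩ ⟨l, b⟩ e
      have := congrFun e k
      simp only [Pi.single_apply, if_true] at this
      cases a <;> cases b <;> simp at this ⊢ <;> first | exact this | (split_ifs at this <;> omega)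
  have hn := ncard_cross (e8 none).2 (sq_e8 _)
  rwa [Set.eq_of_subset_of_ncard_le hsub (by omega) (Set.finite_of_ncard_ne_zero (by omega))]

theorem trans_of_card {x : L} {n : ℕ} (hn : n ≤ 64) (hx : x ∈ SL n)
    (h : (Sh n).ncard * Nat.card (St x) ≤ 8315553613086720000) {y z : L} (hy : y ∈ SL n) (hz : z ∈ SL n) :
    ∃ g : Co0, g • y = z := by
  have e : orbit (⊤ : Subgroup Co0) x = SL n := H14.orbit_eq_of_card
    (by rintro _ ⟨k, rfl⟩; exact SL_smul k hx) (SL_finite hn) (by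
      rwa [ncard_SL, top_inf_eq, Subgroup.card_top, card_Co0])
  obtain ⟨a, rfl⟩ := e.ge hy
  obtain ⟨b, rfl⟩ := e.ge hz
  exact ⟨b.1 * a.1⁻¹, by show _ • a.1 • x = b.1 • x; rw [mul_smul, inv_smul_smul]⟩

theorem trans48 {x y : L} (hx : sqNorm x.1 = 48) (hy : sqNorm y.1 = 48) : ∃ g : Co0, g • x = y :=
  trans_of_card (n := 48) (by norm_num) sqW (by rw [ncard_Sh48, card_C3]) hx hy

theorem trans64 {x y : L} (hx : sqNorm x.1 = 64) (hy : sqNorm y.1 = 64) : ∃ g : Co0, g • x = y := by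
  refine trans_of_card (n := 64) le_rfl (sq_e8 none) ?_ hx hy
  have e : St (e8 none) ⊓ St U = C2 ⊓ St U' := Subgroup.ext fun g => by
    simp only [Subgroup.mem_inf, mem_stabilizer_iff, ← UU'.1, g_add]
    exact ⟨fun h => ⟨h.2, by simpa [h.2] using h.1⟩, fun h => ⟨by rw [h.1, h.2], h.1⟩⟩
  have h : (orbit (St (e8 none)) U).ncard ≤ 46 := by
    rw [← cnt (fun a b _ => a + b = 32) (n := 46) (by decide +kernel)]
    refine Set.ncard_le_ncard ?_ ((SL_finite (n := 32) (by norm_num)).subset fun _ h => h.1)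
    rintro _ ⟨k, rfl⟩
    refine ⟨(g_sq k _).trans sqU, ?_⟩
    obtain ⟨k, hk⟩ := k
    have := dt_fix hk U
    rw [← UU'.1] at this
    simp only [dt, AddSubgroup.coe_add, add_dot] at this
    exact this.trans (by decide +kernel)
  rw [ncard_Sh64, H14.card_eq_orbit_mul_inf _ U, e, fixUU', card_fix2]
  exact (Nat.mul_le_mul_left _ (Nat.mul_le_mul_right _ h)).trans (by norm_num)

theorem dt_inv {g : Co0} {x y : L} : dt (g • x) y = dt x (g⁻¹ • y) := by
  conv_lhs => rw [← smul_inv_smul g y]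
  exact g_dot g x _

/-- transport along a chain of stabilisers -/
theorem step {g : Co0} {y0 y : L} {K : Subgroup Co0} (h : ∃ k ∈ K, k • y0 = g⁻¹ • y) :
    ∃ k ∈ K, (g * k) • y0 = y := by
  obtain ⟨k, a, b⟩ := h
  exact ⟨k, a, by rw [mul_smul, b, smul_inv_smul]⟩

theorem trC2 {d : ℤ} (hd : d = 0 ∨ d = 8 ∨ d = -8 ∨ d = 16 ∨ d = -16) :
    ∀ x ∈ Cl fun a _ _ => a = d, ∀ y ∈ Cl fun a _ _ => a = d, ∃ k ∈ C2, k • x = y := by
  rcases hd with rfl | rfl | rfl | rfl | rfl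
  · exact trn K1_C2 fC2 _ 4 (by decide +kernel)
  · exact trn K1_C2 fC2 _ 35 (by decide +kernel)
  · exact trn K1_C2 fC2 _ 39 (by decide +kernel)
  · exact trn K1_C2 fC2 _ 0 (by decide +kernel)
  · exact trn K1_C2 fC2 _ 1 (by decide +kernel)

theorem trC3 {d : ℤ} (hd : d = 24 ∨ d = -24 ∨ d = 16 ∨ d = -16) :
    ∀ x ∈ Cl fun _ _ c => c = d, ∀ y ∈ Cl fun _ _ c => c = d, ∃ k ∈ C3, k • x = y := by
  rcases hd with rfl | rfl | rfl | rfl
  · exact trn K1_C3 fC3 _ 10 (by decide +kernel)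
  · exact trn K1_C3 fC3 _ 7 (by decide +kernel)
  · exact trn K1_C3 fC3 _ 9 (by decide +kernel)
  · exact trn K1_C3 fC3 _ 8 (by decide +kernel)

theorem pair32 {v w v' w' : L} (hv : sqNorm v.1 = 32) (hw : sqNorm w.1 = 32) (hv' : sqNorm v'.1 = 32)
    (hw' : sqNorm w'.1 = 32) {d : ℤ} (hd : d = 0 ∨ d = 8 ∨ d = -8 ∨ d = 16 ∨ d = -16) (h : dt v w = d)
    (h' : dt v' w' = d) : ∃ g : Co0, g • v = v' ∧ g • w = w' := by
  obtain ⟨a, rfl⟩ := trans32 sqU hv
  obtain ⟨b, rfl⟩ := trans32 sqU hv'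
  obtain ⟨k, hk, e⟩ := trC2 hd (a⁻¹ • w) ⟨(g_sq _ _).trans hw, dt_inv.symm.trans h⟩ (b⁻¹ • w')
    ⟨(g_sq _ _).trans hw', dt_inv.symm.trans h'⟩
  exact ⟨b * k * a⁻¹, by rw [mul_smul, mul_smul, inv_smul_smul, show k • U = U from hk],
    by rw [mul_smul, mul_smul, e, smul_inv_smul]⟩

theorem pair48 {v w v' w' : L} (hv : sqNorm v.1 = 48) (hw : sqNorm w.1 = 32) (hv' : sqNorm v'.1 = 48)
    (hw' : sqNorm w'.1 = 32) {d : ℤ} (hd : d = 24 ∨ d = -24 ∨ d = 16 ∨ d = -16) (h : dt v w = d)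
    (h' : dt v' w' = d) : ∃ g : Co0, g • v = v' ∧ g • w = w' := by
  obtain ⟨a, rfl⟩ := trans48 sqW hv
  obtain ⟨b, rfl⟩ := trans48 sqW hv'
  obtain ⟨k, hk, e⟩ := trC3 hd (a⁻¹ • w) ⟨(g_sq _ _).trans hw, dt_inv.symm.trans h⟩ (b⁻¹ • w')
    ⟨(g_sq _ _).trans hw', dt_inv.symm.trans h'⟩
  exact ⟨b * k * a⁻¹, by rw [mul_smul, mul_smul, inv_smul_smul, show k • W = W from hk],
    by rw [mul_smul, mul_smul, e, smul_inv_smul]⟩

/-- the second vector of the Higman–Sims configuration -/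
def W' : L := -(W + U')

theorem sqW' : sqNorm W'.1 = 48 := by decide +kernel
theorem dtW' (x : L) : dt W' x = -dt W x - dt U' x := by
  show dotInt (-(W.1 + U'.1)) x.1 = _
  rw [neg_dot, add_dot]; ring
theorem smul_W' {g : Co0} (h : g • W = W) : g • W' = W' ↔ g • U' = U' := by
  rw [W', g_neg, g_add, h, neg_inj, add_right_inj]

theorem pairHS {v w : L} (hv : sqNorm v.1 = 48) (hw : sqNorm w.1 = 48) (h : dt v w = -32) :
    ∃ g : Co0, g • W = v ∧ g • W' = w := by
  have a : sqNorm (-(v + w)).1 = 32 := by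
    rw [AddSubgroup.coe_neg, sq_neg, AddSubgroup.coe_add, sq_add, hv, hw, show dotInt v.1 w.1 = _ from h]; rfl
  obtain ⟨g, e1, e2⟩ := pair48 sqW sqU' hv a (d := -16) (by simp) dWU' (by
    show dotInt v.1 (-(v.1 + w.1)) = _
    rw [dot_neg, dot_add, dot_self, hv, show dotInt v.1 w.1 = _ from h]; rfl)
  exact ⟨g, e1, by rw [W', g_neg, g_add, e1, e2]; abel⟩

theorem pairMc {u v : L} (hu : sqNorm u.1 = 48) (hv : sqNorm v.1 = 32 ∧ sqNorm (u.1 - v.1) = 32) :
    ∃ g : Co0, g • (-W) = u ∧ g • U = v := by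
  have := hv.2
  rw [sq_sub, hu, hv.1] at this
  exact pair48 ((sq_neg W.1).trans sqW) sqU hu hv.1 (d := 24) (by simp) (by decide +kernel) (by
    show dotInt _ _ = _; omega)

theorem sq_sub_iff {u x : L} (hu : sqNorm u.1 = 48) (hx : sqNorm x.1 = 32) :
    sqNorm (u.1 - x.1) = 32 ↔ dt u x = 24 := by
  rw [sq_sub, hu, hx]; show _ ↔ dotInt _ _ = _; omega

theorem dt_neg (u x : L) : dt (-u) x = -dt u x := neg_dot _ _

noncomputable def stEq1 (g : Co0) (x : L) : St x ≃* St (g • x) := conjEquiv g fun k => (conj_stab g k x).symm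
noncomputable def stEq2 (g : Co0) (x y : L) : ↥(St x ⊓ St y) ≃* ↥(St (g • x) ⊓ St (g • y)) :=
  conjEquiv g fun k => by simp only [Subgroup.mem_inf, conj_stab]
noncomputable def stEq3 (g : Co0) (x y z : L) :
    ↥(St x ⊓ St y ⊓ St z) ≃* ↥(St (g • x) ⊓ St (g • y) ⊓ St (g • z)) :=
  conjEquiv g fun k => by simp only [Subgroup.mem_inf, conj_stab]

theorem orbit_conj (g : Co0) {K K' : Subgroup Co0} (h : ∀ k, k ∈ K ↔ g * k * g⁻¹ ∈ K') (y z : L) :
    g • z ∈ orbit K' (g • y) ↔ z ∈ orbit K y :=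
  ⟨fun ⟨k, e⟩ => ⟨⟨g⁻¹ * k * g, (h _).2 (by simpa [mul_assoc] using k.2)⟩, by
      show (g⁻¹ * k * g) • y = z
      rw [mul_smul, mul_smul, show k.1 • g • y = g • z from e, inv_smul_smul]⟩,
    fun ⟨k, e⟩ => ⟨⟨_, (h k).1 k.2⟩, by
      show (g * k * g⁻¹) • g • y = g • z
      rw [mul_smul, mul_smul, inv_smul_smul, show k.1 • y = z from e]⟩⟩

theorem coatom_NN : IsCoatom NN := by
  have hf : C2 ⊓ St U' ≤ NN := fun g h => mem_NN_of_fix (fixUU'.le h).1
  have hK : K1 ≤ NN := inf_le_left.trans hf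
  refine ⟨fun e => ?_, fun H hH => ?_⟩
  · have := card_NN
    rw [e, Subgroup.card_top, card_Co0] at this; omega
  obtain ⟨d1, d2⟩ := orbit_dvd (K := C2) (H := H ⊓ C2) (x := U') (le_inf (hf.trans hH.le) inf_le_left)
    inf_le_right
  obtain ⟨m, a, -, e⟩ := od.orb (K' := H ⊓ C2) (le_inf (hK.trans hH.le) K1_C2)
    (fNU.mono (inf_le_inf_right _ hH.le)) (x := U') (by rintro _ ⟨k, rfl⟩; exact SL_smul k sqU')
    (fun j => da j = 0) (fun j hj ⟨k, e⟩ => by
      rw [← (root_dot hj).1, ← show k.1 • U' = R j from e, dt_fix k.2.2, dUU']) nucs nuc (by decide +kernel)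
  obtain ⟨m', a', -, e'⟩ := od.orb (hK.trans hH.le) (fNN.mono hH.le) (x := U)
    (by rintro _ ⟨k, rfl⟩; exact SL_smul k sqU) (fun j => True) (fun _ _ _ => trivial) nncs nnc
    (by decide +kernel)
  have k1 : ∀ m < 2 ^ nucs.length, ∀ s, (∑ j ∈ range roots.length,
      if m.testBit (gd 0 nuc j) then dg 20 HH j else 0) = s → s ∣ 93150 → s = 2 ∨ s = 93150 := by
    simp only [forall_eq']; decide +kernel
  have k2 : ∀ m < 2 ^ nncs.length, ∀ s, (∑ j ∈ range roots.length,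
      if m.testBit (gd 0 nnc j) then dg 20 HH j else 0) = s → s ≠ 1 ∧ s ≠ 2 ∧
      (4096 * 244823040 ∣ s * (2 * (443520 * 1024)) → s * (2 * (443520 * 1024)) ∣ 8315553613086720000 →
        s = 1104) := by
    simp only [forall_eq']; decide +kernel
  obtain ⟨b1, b2, b3⟩ := k2 m' a' _ e'.symm
  have c := H14.card_eq_orbit_mul_inf H U
  rw [n_C2] at d1
  rw [fixUU', card_fix2] at d2
  rcases k1 m a _ e.symm d1 with s | s
  · exfalso
    rw [d2, s] at c
    have := b3 (by rw [← c, ← card_NN]; exact Subgroup.card_dvd_of_le hH.le)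
      (by rw [← c, ← card_Co0]; exact H.card_subgroup_dvd_card)
    exact hH.ne (Subgroup.eq_of_le_of_card_ge hH.le (by rw [c, this, card_NN]))
  · have : H ⊓ C2 = C2 := Subgroup.eq_of_le_of_card_ge inf_le_right (by rw [d2, s, card_C2])
    exact ((n_orb (inf_eq_right.1 this)).resolve_left b1).resolve_left b2

theorem short_cases (x : L) : ∃ y z : L, x = y + (z + z) ∧
    (y = 0 ∨ sqNorm y.1 = 32 ∨ sqNorm y.1 = 48 ∨ sqNorm y.1 = 64) := by
  obtain ⟨y, hy, h, z, hz, e⟩ := exists_short x.2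
  refine ⟨⟨y, hy⟩, ⟨z, hz⟩, Subtype.ext (by
    show x.1 = y + (z + z); rw [← two_smul ℕ, ← e]; abel), ?_⟩
  by_cases h0 : y = 0
  · exact Or.inl (Subtype.ext h0)
  · have := min_norm hy h0
    have := sixteen_dvd hy
    right; show sqNorm y = 32 ∨ sqNorm y = 48 ∨ sqNorm y = 64; omega

theorem sqR {j : ℕ} (hj : j < 105) : sqNorm (R j).1 = 32 := (od.vc j hj).2
theorem sq_add' (x y : L) : sqNorm (x + y).1 = sqNorm x.1 + sqNorm y.1 + 2 * dt x y := sq_add _ _
theorem dt_add (x y z : L) : dt x (y + z) = dt x y + dt x z := dot_add _ _ _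
theorem add_dt (x y z : L) : dt (x + y) z = dt x z + dt y z := add_dot _ _ _

end Cfsg.Agent.H25.Leech
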