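import Mathlib
import Cfsg.Agent.H25.Util

set_option maxRecDepth 100000
set_option linter.style.longLine false

namespace Cfsg.Agent.H25.A6
open Cfsg.Agent.H25

noncomputable def a6l0_tbl : NT :=
(.leaf (nat_lit 0) (nat_lit 0x1a0294014ac0a55050a0365013820ac8056482a9c150002b208dd0465412000244049184458110001b80a9a02240100001220a50852000800008002000100008))

noncomputable def a6l0_par : NT :=
(.leaf (nat_lit 0) (nat_lit 0x26f59c60))

noncomputable def a6l0_rt : RT :=
(.node (nat_lit 4)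
(.node (nat_lit 1)
(.node (nat_lit 0)
(.leaf (nat_lit 0) [nat_lit 3, nat_lit 3] (nat_lit 1) (nat_lit 1755) (nat_lit 0))
(.leaf (nat_lit 1) [nat_lit 0, nat_lit 3, nat_lit 0, nat_lit 3] (nat_lit 3) (nat_lit 0x618618) (nat_lit 0)))
(.node (nat_lit 2)
(.leaf (nat_lit 2) [nat_lit 1, nat_lit 3, nat_lit 1, nat_lit 3] (nat_lit 3) (nat_lit 0x659659) (nat_lit 0))
(.node (nat_lit 3)
(.leaf (nat_lit 3) [nat_lit 2, nat_lit 3, nat_lit 2, nat_lit 3, nat_lit 2, nat_lit 3] (nat_lit 5) (nat_lit 0x69a69a69a) (nat_lit 0))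
(.leaf (nat_lit 0) [nat_lit 0, nat_lit 4] (nat_lit 1) (nat_lit 2080) (nat_lit 0)))))
(.node (nat_lit 7)
(.node (nat_lit 5)
(.leaf (nat_lit 0) [nat_lit 1, nat_lit 1] (nat_lit 1) (nat_lit 585) (nat_lit 0))
(.node (nat_lit 6)
(.leaf (nat_lit 0) [nat_lit 2, nat_lit 2] (nat_lit 1) (nat_lit 1170) (nat_lit 0))
(.leaf (nat_lit 0) [nat_lit 0, nat_lit 0, nat_lit 0] (nat_lit 2) (nat_lit 0) (nat_lit 0))))
(.node (nat_lit 8)
(.leaf (nat_lit 0) [nat_lit 0, nat_lit 2, nat_lit 0, nat_lit 2] (nat_lit 3) (nat_lit 0x410410) (nat_lit 0))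
(.node (nat_lit 9)
(.leaf (nat_lit 0) [nat_lit 0, nat_lit 1, nat_lit 0, nat_lit 1, nat_lit 0, nat_lit 1] (nat_lit 5) (nat_lit 0x208208208) (nat_lit 0))
(.leaf (nat_lit 0) [nat_lit 1, nat_lit 2, nat_lit 1, nat_lit 2, nat_lit 1, nat_lit 2] (nat_lit 5) (nat_lit 0x451451451) (nat_lit 0))))))

def a6l0_P : List (List ℕ) :=
  [[nat_lit 3, nat_lit 3],
  [nat_lit 0, nat_lit 3, nat_lit 0, nat_lit 3],
  [nat_lit 1, nat_lit 3, nat_lit 1, nat_lit 3],
  [nat_lit 2, nat_lit 3, nat_lit 2, nat_lit 3, nat_lit 2, nat_lit 3]]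

noncomputable def a6l0_C : TC where
  G := nat_lit 5
  N := nat_lit 6
  W := nat_lit 17
  mask := nat_lit 131071
  VM := nat_lit 0
  TV := nat_lit 0
  vb := nat_lit 0
  TM := nat_lit 7
  rb := nat_lit 3
  RM := nat_lit 2047
  BIG := nat_lit 98304
  b := nat_lit 3
  lm := nat_lit 7
  Y := nat_lit 23
  n := nat_lit 1
  K := nat_lit 0
  K0 := nat_lit 0
  QM := nat_lit 0
  k := nat_lit 0
  w := nat_lit 1
  c := nat_lit 0
  cq := nat_lit 0
  Lmax := nat_lit 6
  PW := nat_lit 5
  PM := nat_lit 31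
  tbl := a6l0_tbl
  par := a6l0_par
  rt := a6l0_rt

noncomputable def a6l0 : Lv where
  C := a6l0_C
  df := [[nat_lit 0],
  [nat_lit 1],
  [nat_lit 2],
  [nat_lit 3],
  [nat_lit 0, nat_lit 0]]
  X0 := nat_lit 7
  X := nat_lit 15
  Xl := nat_lit 15
  GG := nat_lit 4
  back := [nat_lit 0, nat_lit 1, nat_lit 2, nat_lit 3]
  P := a6l0_P

theorem a6l0_e0 : a6l0_C.edges (nat_lit 0) (nat_lit 6) = true := by decide +kernel
theorem a6l0_cl : a6l0_C.closed a6l0.Xl (nat_lit 0) (nat_lit 6) = true := by decide +kernel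
theorem a6l0_tab : a6l0.Tab :=
  ⟨rng_all (TC.edges_sound a6l0_e0), rng_all (TC.closed_sound a6l0_cl)⟩

noncomputable def a6l1_tbl : NT :=
(.leaf (nat_lit 0) (nat_lit 0x6c13801390132c1a2c1264147814541400044822301100036c112010000244290008000100080008))

noncomputable def a6l1_par : NT :=
(.leaf (nat_lit 0) (nat_lit 0xb41440))

noncomputable def a6l1_rt : RT :=
(.node (nat_lit 2)
(.node (nat_lit 0)
(.leaf (nat_lit 0) [nat_lit 2, nat_lit 2] (nat_lit 1) (nat_lit 170) (nat_lit 0))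
(.node (nat_lit 1)
(.leaf (nat_lit 1) [nat_lit 0, nat_lit 2, nat_lit 0, nat_lit 2] (nat_lit 3) (nat_lit 34952) (nat_lit 0))
(.leaf (nat_lit 2) [nat_lit 1, nat_lit 2, nat_lit 1, nat_lit 2, nat_lit 1, nat_lit 2] (nat_lit 5) (nat_lit 0x999999) (nat_lit 0))))
(.node (nat_lit 4)
(.node (nat_lit 3)
(.leaf (nat_lit 0) [nat_lit 0, nat_lit 3] (nat_lit 1) (nat_lit 204) (nat_lit 0))
(.leaf (nat_lit 0) [nat_lit 1, nat_lit 1] (nat_lit 1) (nat_lit 85) (nat_lit 0)))
(.node (nat_lit 5)
(.leaf (nat_lit 0) [nat_lit 0, nat_lit 0, nat_lit 0] (nat_lit 2) (nat_lit 0) (nat_lit 0))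
(.leaf (nat_lit 0) [nat_lit 0, nat_lit 1, nat_lit 0, nat_lit 1, nat_lit 0, nat_lit 1] (nat_lit 5) (nat_lit 0x444444) (nat_lit 0)))))

def a6l1_P : List (List ℕ) :=
  [[nat_lit 2, nat_lit 2],
  [nat_lit 0, nat_lit 2, nat_lit 0, nat_lit 2],
  [nat_lit 1, nat_lit 2, nat_lit 1, nat_lit 2, nat_lit 1, nat_lit 2]]

noncomputable def a6l1_C : TC where
  G := nat_lit 4
  N := nat_lit 5
  W := nat_lit 16
  mask := nat_lit 65535
  VM := nat_lit 0
  TV := nat_lit 0
  vb := nat_lit 0
  TM := nat_lit 7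
  rb := nat_lit 3
  RM := nat_lit 1023
  BIG := nat_lit 40960
  b := nat_lit 2
  lm := nat_lit 3
  Y := nat_lit 11
  n := nat_lit 1
  K := nat_lit 0
  K0 := nat_lit 0
  QM := nat_lit 0
  k := nat_lit 0
  w := nat_lit 1
  c := nat_lit 0
  cq := nat_lit 0
  Lmax := nat_lit 6
  PW := nat_lit 5
  PM := nat_lit 31
  tbl := a6l1_tbl
  par := a6l1_par
  rt := a6l1_rt

noncomputable def a6l1 : Lv where
  C := a6l1_C
  df := [[nat_lit 0],
  [nat_lit 1],
  [nat_lit 2],
  [nat_lit 0, nat_lit 0]]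
  X0 := nat_lit 3
  X := nat_lit 7
  Xl := nat_lit 7
  GG := nat_lit 4
  back := [nat_lit 0, nat_lit 1, nat_lit 2, nat_lit 0]
  P := a6l1_P

theorem a6l1_e0 : a6l1_C.edges (nat_lit 0) (nat_lit 5) = true := by decide +kernel
theorem a6l1_cl : a6l1_C.closed a6l1.Xl (nat_lit 0) (nat_lit 5) = true := by decide +kernel
theorem a6l1_tab : a6l1.Tab :=
  ⟨rng_all (TC.edges_sound a6l1_e0), rng_all (TC.closed_sound a6l1_cl)⟩

noncomputable def a6l2_tbl : NT :=
(.leaf (nat_lit 0) (nat_lit 0x6814c028a0694094416982c0019008000400100008004))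

noncomputable def a6l2_par : NT :=
(.leaf (nat_lit 0) (nat_lit 0x5310))

noncomputable def a6l2_rt : RT :=
(.node (nat_lit 1)
(.node (nat_lit 0)
(.leaf (nat_lit 0) [nat_lit 1, nat_lit 1] (nat_lit 1) (nat_lit 85) (nat_lit 0))
(.leaf (nat_lit 1) [nat_lit 0, nat_lit 1, nat_lit 0, nat_lit 1, nat_lit 0, nat_lit 1] (nat_lit 5) (nat_lit 0x444444) (nat_lit 0)))
(.node (nat_lit 2)
(.leaf (nat_lit 0) [nat_lit 0, nat_lit 2] (nat_lit 1) (nat_lit 136) (nat_lit 0))
(.leaf (nat_lit 0) [nat_lit 0, nat_lit 0, nat_lit 0] (nat_lit 2) (nat_lit 0) (nat_lit 0))))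

def a6l2_P : List (List ℕ) :=
  [[nat_lit 1, nat_lit 1],
  [nat_lit 0, nat_lit 1, nat_lit 0, nat_lit 1, nat_lit 0, nat_lit 1]]

noncomputable def a6l2_C : TC where
  G := nat_lit 3
  N := nat_lit 4
  W := nat_lit 15
  mask := nat_lit 32767
  VM := nat_lit 0
  TV := nat_lit 0
  vb := nat_lit 0
  TM := nat_lit 3
  rb := nat_lit 2
  RM := nat_lit 1023
  BIG := nat_lit 16384
  b := nat_lit 2
  lm := nat_lit 3
  Y := nat_lit 5
  n := nat_lit 1
  K := nat_lit 0
  K0 := nat_lit 0
  QM := nat_lit 0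
  k := nat_lit 0
  w := nat_lit 1
  c := nat_lit 0
  cq := nat_lit 0
  Lmax := nat_lit 6
  PW := nat_lit 4
  PM := nat_lit 15
  tbl := a6l2_tbl
  par := a6l2_par
  rt := a6l2_rt

noncomputable def a6l2 : Lv where
  C := a6l2_C
  df := [[nat_lit 0],
  [nat_lit 1],
  [nat_lit 0, nat_lit 0]]
  X0 := nat_lit 1
  X := nat_lit 3
  Xl := nat_lit 3
  GG := nat_lit 4
  back := [nat_lit 0, nat_lit 1, nat_lit 0, nat_lit 0]
  P := a6l2_P

theorem a6l2_e0 : a6l2_C.edges (nat_lit 0) (nat_lit 4) = true := by decide +kernel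
theorem a6l2_cl : a6l2_C.closed a6l2.Xl (nat_lit 0) (nat_lit 4) = true := by decide +kernel
theorem a6l2_tab : a6l2.Tab :=
  ⟨rng_all (TC.edges_sound a6l2_e0), rng_all (TC.closed_sound a6l2_cl)⟩

noncomputable def a6l3_tbl : NT :=
(.leaf (nat_lit 0) (nat_lit 0x602480c202120a0008001))

noncomputable def a6l3_par : NT :=
(.leaf (nat_lit 0) (nat_lit 0x40))

noncomputable def a6l3_rt : RT :=
(.node (nat_lit 0)
(.leaf (nat_lit 0) [nat_lit 0, nat_lit 1] (nat_lit 1) (nat_lit 10) (nat_lit 0))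
(.leaf (nat_lit 0) [nat_lit 0, nat_lit 0, nat_lit 0] (nat_lit 2) (nat_lit 0) (nat_lit 0)))

def a6l3_P : List (List ℕ) :=
  [[nat_lit 0, nat_lit 0, nat_lit 0]]

noncomputable def a6l3_C : TC where
  G := nat_lit 2
  N := nat_lit 3
  W := nat_lit 14
  mask := nat_lit 16383
  VM := nat_lit 0
  TV := nat_lit 0
  vb := nat_lit 0
  TM := nat_lit 3
  rb := nat_lit 2
  RM := nat_lit 511
  BIG := nat_lit 8192
  b := nat_lit 1
  lm := nat_lit 1
  Y := nat_lit 0
  n := nat_lit 1
  K := nat_lit 0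
  K0 := nat_lit 0
  QM := nat_lit 0
  k := nat_lit 0
  w := nat_lit 1
  c := nat_lit 0
  cq := nat_lit 0
  Lmax := nat_lit 3
  PW := nat_lit 3
  PM := nat_lit 7
  tbl := a6l3_tbl
  par := a6l3_par
  rt := a6l3_rt

noncomputable def a6l3 : Lv where
  C := a6l3_C
  df := [[nat_lit 0],
  [nat_lit 0, nat_lit 0]]
  X0 := nat_lit 0
  X := nat_lit 1
  Xl := nat_lit 1
  GG := nat_lit 4
  back := [nat_lit 0, nat_lit 0, nat_lit 0, nat_lit 0]
  P := a6l3_P

theorem a6l3_e0 : a6l3_C.edges (nat_lit 0) (nat_lit 3) = true := by decide +kernel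
theorem a6l3_cl : a6l3_C.closed a6l3.Xl (nat_lit 0) (nat_lit 3) = true := by decide +kernel
theorem a6l3_tab : a6l3.Tab :=
  ⟨rng_all (TC.edges_sound a6l3_e0), rng_all (TC.closed_sound a6l3_cl)⟩

abbrev G0 := alternatingGroup (Fin 6)

noncomputable def gl : List G0 :=
  [(⟨Equiv.swap 0 1 * Equiv.swap 1 2, by simp [Equiv.Perm.mem_alternatingGroup]⟩ : G0)⁻¹,
  (⟨Equiv.swap 0 1 * Equiv.swap 2 3, by simp [Equiv.Perm.mem_alternatingGroup]⟩ : G0)⁻¹,
  (⟨Equiv.swap 0 1 * Equiv.swap 3 4, by simp [Equiv.Perm.mem_alternatingGroup]⟩ : G0)⁻¹,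
  (⟨Equiv.swap 0 1 * Equiv.swap 4 5, by simp [Equiv.Perm.mem_alternatingGroup]⟩ : G0)⁻¹]

noncomputable def g : ℕ → G0 := gd 1 gl

noncomputable def T_tbl : NT :=
(.leaf (nat_lit 0) (nat_lit 0x96dae4713498002249))

noncomputable def T : PT where
  N := nat_lit 6
  G := nat_lit 4
  W := nat_lit 3
  mask := nat_lit 7
  sb := nat_lit 0
  sm := nat_lit 0
  tbl := T_tbl

theorem hAM : AM T g (fun i => Fin.ofNat 6 i) := by unfold AM; decide +kernel
noncomputable def a6ch_0 : OL where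
  b := nat_lit 5
  n := nat_lit 6
  S := [[nat_lit 3],
  [nat_lit 2],
  [nat_lit 1],
  [nat_lit 0]]
  O := ⟨nat_lit 0, nat_lit 4, nat_lit 3, nat_lit 7, nat_lit 0, nat_lit 0,
(.leaf (nat_lit 0) (nat_lit 0x212d849264ba04805))⟩

noncomputable def a6ch_1 : OL where
  b := nat_lit 4
  n := nat_lit 5
  S := [[nat_lit 2],
  [nat_lit 1],
  [nat_lit 0]]
  O := ⟨nat_lit 0, nat_lit 4, nat_lit 3, nat_lit 7, nat_lit 0, nat_lit 0,
(.leaf (nat_lit 0) (nat_lit 0x1929044a803604))⟩

noncomputable def a6ch_2 : OL where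
  b := nat_lit 3
  n := nat_lit 4
  S := [[nat_lit 1],
  [nat_lit 0]]
  O := ⟨nat_lit 0, nat_lit 4, nat_lit 2, nat_lit 3, nat_lit 0, nat_lit 0,
(.leaf (nat_lit 0) (nat_lit 0x954c283))⟩

noncomputable def a6ch_3 : OL where
  b := nat_lit 2
  n := nat_lit 3
  S := [[nat_lit 0]]
  O := ⟨nat_lit 0, nat_lit 4, nat_lit 2, nat_lit 3, nat_lit 0, nat_lit 0,
(.leaf (nat_lit 0) (nat_lit 0x58042))⟩

noncomputable def a6ch : List OL := [a6ch_0, a6ch_1, a6ch_2, a6ch_3]

theorem hcard : Nat.card G0 = 360 := by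
  rw [nat_card_alternatingGroup]; simp [Nat.factorial]
theorem hinj : ∀ i < T.N, ∀ j < T.N, Fin.ofNat 6 i = Fin.ofNat 6 j → i = j := by decide +kernel
theorem htb : Lc (nat_lit 15) g = ⊤ ∧ IsBase G0 T.N (fun i => Fin.ofNat 6 i) [nat_lit 2, nat_lit 3, nat_lit 4, nat_lit 5] :=
  base_of_chain (ls := a6ch) hAM hinj (by decide +kernel) (hcard.trans_le (by decide +kernel))
noncomputable def chk : List ℕ → Bool := T.chk [nat_lit 2, nat_lit 3, nat_lit 4, nat_lit 5]
theorem hchk : ∀ w, chk w = true → ev g w = 1 := hAM.chk htb.2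

theorem a6l0_ok : a6l0.ok chk = true := by decide +kernel
theorem a6l0_hP : allL chk a6l0.P = true := by decide +kernel
theorem a6l0_le : Nat.card (Lc (nat_lit 15) g) ≤ 6 * Nat.card (Lc (nat_lit 7) g) :=
  card_step' hchk a6l0_ok a6l0_tab a6l0_hP ⟨rfl, rfl, rfl⟩

theorem a6l1_ok : a6l1.ok chk = true := by decide +kernel
theorem a6l1_hP : allL chk a6l1.P = true := by decide +kernel
theorem a6l1_le : Nat.card (Lc (nat_lit 7) g) ≤ 5 * Nat.card (Lc (nat_lit 3) g) :=
  card_step' hchk a6l1_ok a6l1_tab a6l1_hP ⟨rfl, rfl, rfl⟩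

theorem a6l2_ok : a6l2.ok chk = true := by decide +kernel
theorem a6l2_hP : allL chk a6l2.P = true := by decide +kernel
theorem a6l2_le : Nat.card (Lc (nat_lit 3) g) ≤ 4 * Nat.card (Lc (nat_lit 1) g) :=
  card_step' hchk a6l2_ok a6l2_tab a6l2_hP ⟨rfl, rfl, rfl⟩

theorem a6l3_ok : a6l3.ok chk = true := by decide +kernel
theorem a6l3_hP : allL chk a6l3.P = true := by decide +kernel
theorem a6l3_le : Nat.card (Lc (nat_lit 1) g) ≤ 3 * Nat.card (Lc (nat_lit 0) g) :=
  card_step' hchk a6l3_ok a6l3_tab a6l3_hP ⟨rfl, rfl, rfl⟩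

theorem up4 : Nat.card (Lc (nat_lit 0) g) ≤ 1 := card_Lc_zero g
theorem up3 : Nat.card (Lc (nat_lit 1) g) ≤ 3 := chain_up (n := 1) a6l3_le up4
theorem up2 : Nat.card (Lc (nat_lit 3) g) ≤ 12 := chain_up (n := 3) a6l2_le up3
theorem up1 : Nat.card (Lc (nat_lit 7) g) ≤ 60 := chain_up (n := 12) a6l1_le up2
theorem up0 : Nat.card (Lc (nat_lit 15) g) ≤ 360 := chain_up (n := 60) a6l0_le up1
theorem lo0 : 360 ≤ Nat.card (Lc (nat_lit 15) g) := by rw [htb.1, Subgroup.card_top, hcard]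
theorem lo1 : 60 ≤ Nat.card (Lc (nat_lit 7) g) := chain_down (N := 6) a6l0_le lo0 (by norm_num)
theorem rel0 : Rel g a6l0_P (nat_lit 7) (nat_lit 15) :=
  rel_step' (N := 6) hchk a6l0_ok a6l0_tab a6l0_hP ⟨rfl, rfl, rfl⟩ rfl (chain_eq up1 lo0)
theorem lo2 : 12 ≤ Nat.card (Lc (nat_lit 3) g) := chain_down (N := 5) a6l1_le lo1 (by norm_num)
theorem rel1 : Rel g a6l1_P (nat_lit 3) (nat_lit 7) :=
  rel_step' (N := 5) hchk a6l1_ok a6l1_tab a6l1_hP ⟨rfl, rfl, rfl⟩ rfl (chain_eq up2 lo1)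
theorem lo3 : 3 ≤ Nat.card (Lc (nat_lit 1) g) := chain_down (N := 4) a6l2_le lo2 (by norm_num)
theorem rel2 : Rel g a6l2_P (nat_lit 1) (nat_lit 3) :=
  rel_step' (N := 4) hchk a6l2_ok a6l2_tab a6l2_hP ⟨rfl, rfl, rfl⟩ rfl (chain_eq up3 lo2)
theorem lo4 : 1 ≤ Nat.card (Lc (nat_lit 0) g) := chain_down (N := 3) a6l3_le lo3 (by norm_num)
theorem rel3 : Rel g a6l3_P (nat_lit 0) (nat_lit 1) :=
  rel_step' (N := 3) hchk a6l3_ok a6l3_tab a6l3_hP ⟨rfl, rfl, rfl⟩ rfl (chain_eq up4 lo3)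

noncomputable def a6t2_tbl : NT :=
(.node (nat_lit 2015)
(.leaf (nat_lit 0) (nat_lit 0xa000000000000000006a09000000000000c2280c40000000000000a00000000000000000000280000000000000a000000000000000005209400000000000434e0940000000000000a00000000000000000200800000040000000000240000000000000a000000000000000004214c00010c0000000a000000000000000000002000000000000002c08000000000010000001c0000000000000501480000000043000000140000000000000a000000000000000000001800000000000002a0800000000000001000100000000000000a000000000000000000000c0000000000000000080000000000000000040000000000000000400000000000000))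
(.node (nat_lit 4031)
(.leaf (nat_lit 2016) (nat_lit 0x6216800010c0000000a00000000000000000200900000040000000a000000000000000008a0ac00c0040000040a00000000000000000a00000000000000000600b430000800010002c08c0000000001000a00000000000000000a00000000000000000a00000000000000000200880000040000000000340000000000000a00000000000000000a00000000000000000a00000000000000000a000000000000000006c0b000000030020012a0880000000000001a00000000000000000a00000000000000000a000000000000000002c0840000000001000000300000000000000a00000000000000000a000000000000000000002c0000000000000))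
(.leaf (nat_lit 4032) (nat_lit 0xa000000000000000004612410000c00030002c0a00000000001000a00000000000000000a00000000000000000a00000000000000000a000000000000000005411c00000010030032a0980000000000001a00000000000000000a00000000000000000a00000000000000000a000000000000000006416800400c00000c1))))

noncomputable def a6t2_par : NT :=
(.leaf (nat_lit 0) (nat_lit 0x151f385c88d161c4850608080))

noncomputable def a6t2_rt : RT :=
(.node (nat_lit 4)
(.node (nat_lit 1)
(.node (nat_lit 0)
(.leaf (nat_lit 5) [nat_lit 3, nat_lit 3] (nat_lit 1) (nat_lit 1755) (nat_lit 0x40000000))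
(.leaf (nat_lit 6) [nat_lit 0, nat_lit 3, nat_lit 0, nat_lit 3] (nat_lit 3) (nat_lit 0x618618) (nat_lit 0x1000000000)))
(.node (nat_lit 2)
(.leaf (nat_lit 7) [nat_lit 1, nat_lit 3, nat_lit 1, nat_lit 3] (nat_lit 3) (nat_lit 0x659659) (nat_lit 0x40000000000))
(.node (nat_lit 3)
(.leaf (nat_lit 8) [nat_lit 2, nat_lit 3, nat_lit 2, nat_lit 3, nat_lit 2, nat_lit 3] (nat_lit 5) (nat_lit 0x69a69a69a) (nat_lit 0x1000000000000))
(.leaf (nat_lit 0) [nat_lit 0, nat_lit 4] (nat_lit 1) (nat_lit 2080) (nat_lit 0)))))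
(.node (nat_lit 7)
(.node (nat_lit 5)
(.leaf (nat_lit 0) [nat_lit 1, nat_lit 1] (nat_lit 1) (nat_lit 585) (nat_lit 1))
(.node (nat_lit 6)
(.leaf (nat_lit 2) [nat_lit 2, nat_lit 2] (nat_lit 1) (nat_lit 1170) (nat_lit 4096))
(.leaf (nat_lit 0) [nat_lit 0, nat_lit 0, nat_lit 0] (nat_lit 2) (nat_lit 0) (nat_lit 0))))
(.node (nat_lit 8)
(.leaf (nat_lit 3) [nat_lit 0, nat_lit 2, nat_lit 0, nat_lit 2] (nat_lit 3) (nat_lit 0x410410) (nat_lit 262144))
(.node (nat_lit 9)
(.leaf (nat_lit 1) [nat_lit 0, nat_lit 1, nat_lit 0, nat_lit 1, nat_lit 0, nat_lit 1] (nat_lit 5) (nat_lit 0x208208208) (nat_lit 64))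
(.leaf (nat_lit 4) [nat_lit 1, nat_lit 2, nat_lit 1, nat_lit 2, nat_lit 1, nat_lit 2] (nat_lit 5) (nat_lit 0x451451451) (nat_lit 0x1000000))))))

noncomputable def a6t2_C : TC where
  G := nat_lit 5
  N := nat_lit 14
  W := nat_lit 72
  mask := nat_lit 0xffffffffffffffffff
  VM := nat_lit 0x30c30c30c30c3
  TV := nat_lit 0x30c30c30c30c3
  vb := nat_lit 54
  TM := nat_lit 15
  rb := nat_lit 58
  RM := nat_lit 2047
  BIG := nat_lit 0xa00000000000000000
  b := nat_lit 3
  lm := nat_lit 7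
  Y := nat_lit 17
  n := nat_lit 4
  K := nat_lit 0x18618618618618
  K0 := nat_lit 0x6186186186186
  QM := nat_lit 0x71c71c71c71c7
  k := nat_lit 9
  w := nat_lit 6
  c := nat_lit 3
  cq := nat_lit 7
  Lmax := nat_lit 6
  PW := nat_lit 7
  PM := nat_lit 127
  tbl := a6t2_tbl
  par := a6t2_par
  rt := a6t2_rt

noncomputable def a6t2 : Tl where
  C := a6t2_C
  df := [[nat_lit 0],
  [nat_lit 1],
  [nat_lit 2],
  [nat_lit 3],
  [nat_lit 0, nat_lit 0]]
  X0 := nat_lit 1
  PW := [[nat_lit 1, nat_lit 1],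
  [nat_lit 0, nat_lit 1, nat_lit 0, nat_lit 1, nat_lit 0, nat_lit 1],
  [nat_lit 2, nat_lit 2],
  [nat_lit 0, nat_lit 2, nat_lit 0, nat_lit 2],
  [nat_lit 1, nat_lit 2, nat_lit 1, nat_lit 2, nat_lit 1, nat_lit 2],
  [nat_lit 3, nat_lit 3],
  [nat_lit 0, nat_lit 3, nat_lit 0, nat_lit 3],
  [nat_lit 1, nat_lit 3, nat_lit 1, nat_lit 3],
  [nat_lit 2, nat_lit 3, nat_lit 2, nat_lit 3, nat_lit 2, nat_lit 3]]
  np := nat_lit 9
  rels := [(nat_lit 2, nat_lit 896, nat_lit 274432),
    (nat_lit 3, nat_lit 896, nat_lit 0x10c0000000),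
    (nat_lit 4, nat_lit 1152, nat_lit 2),
    (nat_lit 11, nat_lit 1152, nat_lit 0xc1000000080),
    (nat_lit 12, nat_lit 1280, nat_lit 0x2001001),
    (nat_lit 13, nat_lit 384, nat_lit 0x2000040001000)]
  U := [nat_lit 274432, nat_lit 0x10c0000000, nat_lit 2, nat_lit 0xc1000000080, nat_lit 0x2001001, nat_lit 0x2000040001000]
  A := [nat_lit 0, nat_lit 64, nat_lit 0x10000c0, nat_lit 0x1000003000040]
  β := [(nat_lit 129, nat_lit 2, [(nat_lit 2, nat_lit 1)])]
  co := [[(nat_lit 6, nat_lit 1)],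
    [],
    [(nat_lit 4, nat_lit 1), (nat_lit 6, nat_lit 3)],
    [(nat_lit 0, nat_lit 1), (nat_lit 4, nat_lit 1), (nat_lit 6, nat_lit 3)],
    [],
    [(nat_lit 4, nat_lit 3), (nat_lit 5, nat_lit 1), (nat_lit 6, nat_lit 1)],
    [(nat_lit 1, nat_lit 1), (nat_lit 4, nat_lit 3), (nat_lit 5, nat_lit 1), (nat_lit 6, nat_lit 1)],
    [(nat_lit 1, nat_lit 1), (nat_lit 3, nat_lit 3), (nat_lit 4, nat_lit 3), (nat_lit 5, nat_lit 1), (nat_lit 6, nat_lit 1)],
    []]

theorem a6t2_e0 : a6t2_C.edges (nat_lit 0) (nat_lit 14) = true := by decide +kernel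
theorem a6t2_E : ∀ i < a6t2.C.N, ∀ a < a6t2.C.G, a6t2.C.edge i a = true :=
  rng_all (TC.edges_sound a6t2_e0)
theorem a6t2_R : a6t2.relsOK = true := by decide +kernel

theorem a6t2_cb : CB 4 (Lc (nat_lit 15) g) 2 :=
  cb_step' (V := a6t2) (m0 := 1) hchk (by decide +kernel) a6t2_E a6t2_R (by decide +kernel)
    ((rel2.trans rel1).trans rel0) (by decide +kernel) (by decide +kernel) (CB_coprime' ⟨lo3, up3⟩ (by decide))

noncomputable def a6t3_tbl : NT :=
(.node (nat_lit 5939)
(.node (nat_lit 1979)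
(.leaf (nat_lit 0) (nat_lit 0xa0000000000000000000000000003c00000000000000000000b020000000000000008000000000e000000000000000000000001a0000000000000000000000030000000000000000000000005800000000000000000000000a000000000000000000002a08000000000000000000200000240000000000000000000280000000000000000000000000008000000000000000000000000e000000000000000000000001800000000000000000001382280000000000000000000000050000000000000000000000008000000000000000000000000c000000000000000000000001000000000000000000000000100000000000000000000))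
(.node (nat_lit 3959)
(.leaf (nat_lit 1980) (nat_lit 0xa0000000000000000000000014000000000000000000000000b0208000000000000080000050000000000000000000000005014600000000000210000000000500000000000000000000280000000000000000000000050000000000000000000000002a082000000000000000002000004c0000000000000000000280000000000000000000000030050000008010000000000016c09a000000000010020000020004800000000000000000000a03000000000000000000000d00000000000000000000000020080000000020000000000000004400000000000000000001a825800400008000000000800001000000000000000000000))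
(.leaf (nat_lit 3960) (nat_lit 0xa0000000000000000000000004010800000004000000000002800000000000000000000000220a400010008000000000000a000000000000000000000001400000000000000000000000280000000000000000000000016042000000000000010000000002c0000000000000000000140000000000000000000000028000000000000000000000005000000000000000000000000a0000000000000000000000000005400000000000000000001382600000000000000000000500000000000000000000000020082000000020000000000014000000000000000000000002800000000000000000000000210a400000108000000000000))))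
(.node (nat_lit 9899)
(.node (nat_lit 7919)
(.leaf (nat_lit 5940) (nat_lit 0xa0000000000000000000000004010c00000004000000000000000b800000000000000000005000000000000000000000000a000000000000000000000001400000000000000000000000280000000000000000000000036056000000000800020001002a08600000000000000000201400000000000000000000000280000000000000000000000050000000000000000000000005010a000000000002000000114000000000000000000000001b84380000000000400800000d000000000000000000000000a0000000000000000000000014000000000000000000000001a829800000000000000401009406200000000000000000001))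
(.leaf (nat_lit 7920) (nat_lit 0xa00000000000000000000000140000000000000000000000028000000000000000000000002908c000000000000000108084e0a800000000000000000001400000000000000000000000280000000000000000000000050000000000000000000000002a08a00000000000000000200000600000000000000000000280000000000000000000000030057080000020000010000002c08800000000000002000001400000000000000000000000280000000000000000000000050000000000000000000000004210a0000020000000000001140000000000000000000000028000000000000000000000003708800000801000000000001)))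
(.node (nat_lit 11879)
(.leaf (nat_lit 9900) (nat_lit 0xa0000000000000000000000008c24404000020000020000000b027800000000000008000005000000000000000000000000a00000000000000000000000140000000000000000000000028000000000000000000000002a08e000000000100080008002a0940000000000000000020140000000000000000000000028000000000000000000000005000000000000000000000000a00000000000000000000000054124000000000000000004014859000000000000000084045000000000000000000000000a0000000000000000000000014000000000000000000000002282c000000000000000401009406600000000000000000001))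
(.leaf (nat_lit 11880) (nat_lit 0x5000000000000000000000000a0000000000000000000000014000000000000000000000001c84a000000000000000084043709500000000000000080102)))))

noncomputable def a6t3_par : NT :=
(.leaf (nat_lit 0) (nat_lit 0x5a9acd7223c68b14244078e1a305080e182030404000))

noncomputable def a6t3_rt : RT :=
(.node (nat_lit 4)
(.node (nat_lit 1)
(.node (nat_lit 0)
(.leaf (nat_lit 6) [nat_lit 3, nat_lit 3] (nat_lit 1) (nat_lit 1755) (nat_lit 0x1000000000000))
(.leaf (nat_lit 7) [nat_lit 0, nat_lit 3, nat_lit 0, nat_lit 3] (nat_lit 3) (nat_lit 0x618618) (nat_lit 0x100000000000000)))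
(.node (nat_lit 2)
(.leaf (nat_lit 8) [nat_lit 1, nat_lit 3, nat_lit 1, nat_lit 3] (nat_lit 3) (nat_lit 0x659659) (nat_lit 0x10000000000000000))
(.node (nat_lit 3)
(.leaf (nat_lit 9) [nat_lit 2, nat_lit 3, nat_lit 2, nat_lit 3, nat_lit 2, nat_lit 3] (nat_lit 5) (nat_lit 0x69a69a69a) (nat_lit 0x1000000000000000000))
(.leaf (nat_lit 0) [nat_lit 0, nat_lit 4] (nat_lit 1) (nat_lit 2080) (nat_lit 1)))))
(.node (nat_lit 7)
(.node (nat_lit 5)
(.leaf (nat_lit 1) [nat_lit 1, nat_lit 1] (nat_lit 1) (nat_lit 585) (nat_lit 256))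
(.node (nat_lit 6)
(.leaf (nat_lit 3) [nat_lit 2, nat_lit 2] (nat_lit 1) (nat_lit 1170) (nat_lit 0x1000000))
(.leaf (nat_lit 0) [nat_lit 0, nat_lit 0, nat_lit 0] (nat_lit 2) (nat_lit 0) (nat_lit 1))))
(.node (nat_lit 8)
(.leaf (nat_lit 4) [nat_lit 0, nat_lit 2, nat_lit 0, nat_lit 2] (nat_lit 3) (nat_lit 0x410410) (nat_lit 0x100000000))
(.node (nat_lit 9)
(.leaf (nat_lit 2) [nat_lit 0, nat_lit 1, nat_lit 0, nat_lit 1, nat_lit 0, nat_lit 1] (nat_lit 5) (nat_lit 0x208208208) (nat_lit 65536))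
(.leaf (nat_lit 5) [nat_lit 1, nat_lit 2, nat_lit 1, nat_lit 2, nat_lit 1, nat_lit 2] (nat_lit 5) (nat_lit 0x451451451) (nat_lit 0x10000000000))))))

noncomputable def a6t3_C : TC where
  G := nat_lit 5
  N := nat_lit 25
  W := nat_lit 99
  mask := nat_lit 0x7ffffffffffffffffffffffff
  VM := nat_lit 0xf0f0f0f0f0f0f0f0f0f
  TV := nat_lit 0xf0f0f0f0f0f0f0f0f0f
  vb := nat_lit 80
  TM := nat_lit 31
  rb := nat_lit 85
  RM := nat_lit 2047
  BIG := nat_lit 0x5000000000000000000000000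
  b := nat_lit 3
  lm := nat_lit 7
  Y := nat_lit 0
  n := nat_lit 9
  K := nat_lit 0x3f3f3f3f3f3f3f3f3f3f
  K0 := nat_lit 0x7070707070707070707
  QM := nat_lit 0xf0f0f0f0f0f0f0f0f0f
  k := nat_lit 10
  w := nat_lit 8
  c := nat_lit 15
  cq := nat_lit 15
  Lmax := nat_lit 6
  PW := nat_lit 7
  PM := nat_lit 127
  tbl := a6t3_tbl
  par := a6t3_par
  rt := a6t3_rt

noncomputable def a6t3 : Tl where
  C := a6t3_C
  df := [[nat_lit 0],
  [nat_lit 1],
  [nat_lit 2],
  [nat_lit 3],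
  [nat_lit 0, nat_lit 0]]
  X0 := nat_lit 0
  PW := [[nat_lit 0, nat_lit 0, nat_lit 0],
  [nat_lit 1, nat_lit 1],
  [nat_lit 0, nat_lit 1, nat_lit 0, nat_lit 1, nat_lit 0, nat_lit 1],
  [nat_lit 2, nat_lit 2],
  [nat_lit 0, nat_lit 2, nat_lit 0, nat_lit 2],
  [nat_lit 1, nat_lit 2, nat_lit 1, nat_lit 2, nat_lit 1, nat_lit 2],
  [nat_lit 3, nat_lit 3],
  [nat_lit 0, nat_lit 3, nat_lit 0, nat_lit 3],
  [nat_lit 1, nat_lit 3, nat_lit 1, nat_lit 3],
  [nat_lit 2, nat_lit 3, nat_lit 2, nat_lit 3, nat_lit 2, nat_lit 3]]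
  np := nat_lit 10
  rels := [(nat_lit 11, nat_lit 257, nat_lit 0x20007000000000700),
    (nat_lit 13, nat_lit 1024, nat_lit 0x306000007),
    (nat_lit 16, nat_lit 128, nat_lit 0x306000000000007),
    (nat_lit 22, nat_lit 1280, nat_lit 0x20006000600),
    (nat_lit 23, nat_lit 384, nat_lit 0x2000006000006000000),
    (nat_lit 24, nat_lit 1152, nat_lit 262917)]
  U := [nat_lit 0x20007000000000700, nat_lit 0x306000007, nat_lit 0x306000000000007, nat_lit 0x20006000600, nat_lit 0x2000006000006000000, nat_lit 262917]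
  A := [nat_lit 0x405000000, nat_lit 1024, nat_lit 0x4000000, nat_lit 0x4000000000000]
  β := [(nat_lit 0x504000405000000, nat_lit 3, [(nat_lit 1, nat_lit 4), (nat_lit 2, nat_lit 5)])]
  co := [[(nat_lit 1, nat_lit 4)],
    [],
    [(nat_lit 1, nat_lit 4), (nat_lit 5, nat_lit 7)],
    [],
    [],
    [(nat_lit 3, nat_lit 5)],
    [],
    [(nat_lit 6, nat_lit 2)],
    [(nat_lit 0, nat_lit 5)],
    [(nat_lit 4, nat_lit 5)]]

theorem a6t3_e0 : a6t3_C.edges (nat_lit 0) (nat_lit 25) = true := by decide +kernel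
theorem a6t3_E : ∀ i < a6t3.C.N, ∀ a < a6t3.C.G, a6t3.C.edge i a = true :=
  rng_all (TC.edges_sound a6t3_e0)
theorem a6t3_R : a6t3.relsOK = true := by decide +kernel

theorem a6t3_cb : CB 9 (Lc (nat_lit 15) g) 3 :=
  cb_step' (V := a6t3) (m0 := 1) hchk (by decide +kernel) a6t3_E a6t3_R (by decide +kernel)
    (((rel3.trans rel2).trans rel1).trans rel0) (by decide +kernel) (by decide +kernel) (CB_zero _ g)

def P : List (List ℕ) := a6l3_P ++ a6l2_P ++ a6l1_P ++ a6l0_P
def Q : List (List ℕ × List ℕ) := [([nat_lit 3], [nat_lit 1]), ([nat_lit 2, nat_lit 3], [nat_lit 0])]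

noncomputable def c2_tbl : NT :=
(.node (nat_lit 2047)
(.leaf (nat_lit 0) (nat_lit 0x8951a6a25da45f7a4fa28650864f4e324d9e704a924d823e70684c2a73a07776914b499e8c479c488e459a6c987397748a543d943f903b924939908c438e855e378c7c387c56362c3c358a5233883486845d437880673182302f803a2d7e2e7c7a78795c767473722b6e297062276e6a416c4544256a46266024561c4637240e642b23685b216622221f645a1d621e605e405d421b5a591e582d1b565319543c175251345032174e4a3e134c12114a280f481046444341403b0d3e30153c19180b3a392e380e0b36341532160930200c2e092c0a201a080229072a1205282710261d0524032206201e031c1a1816151401120d0610010e040c0a010806040200))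
(.leaf (nat_lit 2048) (nat_lit 0xe8e9e2c6e3d9e8cee1e0d2d0efeeedeae5dbd5ece6d6cac8ecdeefe4eaebcdeec2e3d8b6d9c3c29ac0e6bab8dcecdfdac4e5bddecbb5e6b2cdbfebd4c7c6b1e8c9b9afe6d2a9e0a6d4ade5ccceb6a5e2d0d1a3e0d7c09e9cdfdcddc4dbc5a1dc95d2a88a9e93d690a099dbbc9ace8fd89cc98dd697d499bea78b89d2a287d088a485ceb083ca9280a8959454abccbfacb2817fcaaf7dc87eb17bc6a4bb71c06ebd77c5a0b79a6dc2b99d6bc069bab464b4826866beaaab9675bcad986e6563ba6b61b8626d5fb68e67b25bb47e59b2ae79b07b8457ae6058ac9775aa55a653a8)))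

noncomputable def c2 : PT where
  N := nat_lit 120
  G := nat_lit 4
  W := nat_lit 8
  mask := nat_lit 255
  sb := nat_lit 1
  sm := nat_lit 1
  tbl := c2_tbl

def c2_PE : List (List ℕ × ℕ) :=
  [([nat_lit 0, nat_lit 0, nat_lit 0], nat_lit 0),
  ([nat_lit 1, nat_lit 1], nat_lit 1),
  ([nat_lit 0, nat_lit 1, nat_lit 0, nat_lit 1, nat_lit 0, nat_lit 1], nat_lit 0),
  ([nat_lit 2, nat_lit 2], nat_lit 1),
  ([nat_lit 0, nat_lit 2, nat_lit 0, nat_lit 2], nat_lit 1),
  ([nat_lit 1, nat_lit 2, nat_lit 1, nat_lit 2, nat_lit 1, nat_lit 2], nat_lit 0),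
  ([nat_lit 3, nat_lit 3], nat_lit 1),
  ([nat_lit 0, nat_lit 3, nat_lit 0, nat_lit 3], nat_lit 1),
  ([nat_lit 1, nat_lit 3, nat_lit 1, nat_lit 3], nat_lit 1),
  ([nat_lit 2, nat_lit 3, nat_lit 2, nat_lit 3, nat_lit 2, nat_lit 3], nat_lit 0)]

instance c2_nz : NeZero c2.N := ⟨by decide⟩

theorem c2_r0 : c2.relsOK (nat_lit 2) c2_PE (nat_lit 0) (nat_lit 120) = true := by decide +kernel
theorem c2_rng : c2.rng 0 (nat_lit 120) = true := by decide +kernel
theorem c2_rels : ∀ i < c2.N, ∀ p ∈ c2_PE, c2.tr p.1 i = i ∧ c2.tv p.1 i % nat_lit 2 = p.2 :=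
  rng_all (PT.relsOK_sound _ _ c2_r0)
def c2_iv : List ℕ := [nat_lit 0, nat_lit 1, nat_lit 3, nat_lit 6]
def c2_E : List ℕ := [nat_lit 1, nat_lit 0]

theorem c2_cov : HasCov P 4 (Multiplicative (ZMod 2)) Q fun i => Multiplicative.ofAdd ((gd 0 c2_E i : ℕ) : ZMod 2) :=
  PT.hasCov (T := c2) (m := nat_lit 2) (c2.rng_sound c2_rng le_rfl) (iv := c2_iv) (by decide +kernel) (by decide +kernel) c2_rels
    (subL_sound (by decide +kernel)) (by decide +kernel)

noncomputable def c3_tbl : NT :=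
(.leaf (nat_lit 0) (nat_lit 0x8420ca5a9463510419880208520402))

noncomputable def c3 : PT where
  N := nat_lit 6
  G := nat_lit 4
  W := nat_lit 5
  mask := nat_lit 31
  sb := nat_lit 2
  sm := nat_lit 3
  tbl := c3_tbl

def c3_PE : List (List ℕ × ℕ) :=
  [([nat_lit 0, nat_lit 0, nat_lit 0], nat_lit 0),
  ([nat_lit 1, nat_lit 1], nat_lit 0),
  ([nat_lit 0, nat_lit 1, nat_lit 0, nat_lit 1, nat_lit 0, nat_lit 1], nat_lit 0),
  ([nat_lit 2, nat_lit 2], nat_lit 2),
  ([nat_lit 0, nat_lit 2, nat_lit 0, nat_lit 2], nat_lit 0),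
  ([nat_lit 1, nat_lit 2, nat_lit 1, nat_lit 2, nat_lit 1, nat_lit 2], nat_lit 0),
  ([nat_lit 3, nat_lit 3], nat_lit 0),
  ([nat_lit 0, nat_lit 3, nat_lit 0, nat_lit 3], nat_lit 0),
  ([nat_lit 1, nat_lit 3, nat_lit 1, nat_lit 3], nat_lit 0),
  ([nat_lit 2, nat_lit 3, nat_lit 2, nat_lit 3, nat_lit 2, nat_lit 3], nat_lit 0)]

instance c3_nz : NeZero c3.N := ⟨by decide⟩

theorem c3_r0 : c3.relsOK (nat_lit 3) c3_PE (nat_lit 0) (nat_lit 6) = true := by decide +kernel
theorem c3_rng : c3.rng 0 (nat_lit 6) = true := by decide +kernel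
theorem c3_rels : ∀ i < c3.N, ∀ p ∈ c3_PE, c3.tr p.1 i = i ∧ c3.tv p.1 i % nat_lit 3 = p.2 :=
  rng_all (PT.relsOK_sound _ _ c3_r0)
def c3_iv : List ℕ := [nat_lit 0, nat_lit 1, nat_lit 3, nat_lit 6]
def c3_E : List ℕ := [nat_lit 0, nat_lit 1]

theorem c3_cov : HasCov P 4 (Multiplicative (ZMod 3)) Q fun i => Multiplicative.ofAdd ((gd 0 c3_E i : ℕ) : ZMod 3) :=
  PT.hasCov (T := c3) (m := nat_lit 3) (c3.rng_sound c3_rng le_rfl) (iv := c3_iv) (by decide +kernel) (by decide +kernel) c3_rels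
    (subL_sound (by decide +kernel)) (by decide +kernel)

theorem bound (Γ : Type) [Group Γ] [Finite Γ] (σ : Γ →* G0) (hσ : IsStemExtension σ) :
    Nat.card σ.ker ≤ 6 :=
  card_ker_dvd (B := 7) [(2, 1), (3, 1)] hcard (by decide +kernel) (by decide +kernel) (by norm_num) (by
    simp only [List.mem_cons, List.not_mem_nil, or_false, forall_eq_or_imp, forall_eq]
    exact ⟨⟨PB_of_CB (e := 2) Nat.prime_two a6t2_cb hcard ⟨lo0, up0⟩ (by decide), by decide⟩,
      ⟨PB_of_CB (e := 2) Nat.prime_three a6t3_cb hcard ⟨lo0, up0⟩ (by decide), by decide⟩⟩) Γ σ hσ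

theorem mult : HasCyclicSchurMultiplier G0 6 :=
  hasSchur_cyc2 (a := 2) (b := 3) (GG := 4) (by norm_num) (((rel3.trans rel2).trans rel1).trans rel0) htb.1 (fun _ h => gd_one h)
    (fun w hw => hchk w (allL_sound (show allL chk P = true by decide +kernel) w hw))
    (pairs_sound hAM htb.2 (by decide +kernel)) c2_cov c3_cov (by decide +kernel) bound

end Cfsg.Agent.H25.A6
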