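import Mathlib

set_option autoImplicit false

namespace Cfsg.Agent.H10.Am
open Subgroup

theorem pI25_z {E : Type*} [Group E] [Finite E] (h3 : ∀ x : E, x ^ 3 = 1) {x : E} (hx : x ≠ 1) :
    Nat.card (zpowers x) = 3 := by
  haveI : Fact (Nat.Prime 3) := ⟨Nat.prime_three⟩
  rw [Nat.card_zpowers]; exact orderOf_eq_prime (h3 x) hx

theorem pI25_aut {E : Type*} [Group E] [Finite E] (hE : Nat.card E = 9) (h3 : ∀ x : E, x ^ 3 = 1) :
    Nat.card (MulAut E) ≤ 48 := by
  classical
  haveI := Fintype.ofFinite E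
  have hE' : Fintype.card E = 9 := by rw [← Nat.card_eq_fintype_card]; exact hE
  haveI : Nontrivial E := Fintype.one_lt_card_iff_nontrivial.1 (by omega)
  obtain ⟨u, hu⟩ := exists_ne (1 : E)
  obtain ⟨v, hv⟩ : ∃ v, v ∉ zpowers u := by
    by_contra h
    push Not at h
    have : zpowers u = ⊤ := eq_top_iff.2 fun x _ => h x
    have h2 := pI25_z h3 hu
    rw [this, card_top, hE] at h2
    omega
  have top : closure ({u, v} : Set E) = ⊤ := by
    have h1 : zpowers u ≤ closure ({u, v} : Set E) := by
      rw [zpowers_le]; exact subset_closure (by simp)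
    have h2 := card_dvd_of_le h1
    have h4 := card_subgroup_dvd_card (closure ({u, v} : Set E))
    rw [pI25_z h3 hu] at h2
    rw [hE] at h4
    have h5 : Nat.card (closure ({u, v} : Set E)) ≠ 3 := fun e =>
      hv ((eq_of_le_of_card_ge h1 (by rw [e, pI25_z h3 hu])).symm ▸ subset_closure (by simp))
    apply eq_top_of_card_eq
    rw [hE]
    have h6 := Nat.le_of_dvd (by norm_num) h4
    generalize Nat.card (closure ({u, v} : Set E)) = k at *
    interval_cases k <;> omega
  let T : Finset ((_ : E) × E) :=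
    (Finset.univ.erase (1 : E)).sigma fun x => Finset.univ.filter fun y => y ∉ zpowers x
  have hT : T.card = 48 := by
    rw [Finset.card_sigma, Finset.sum_congr rfl (g := fun _ => 6)]
    · rw [Finset.sum_const, Finset.card_erase_of_mem (Finset.mem_univ _), Finset.card_univ, hE']; rfl
    · intro x hx
      have h1 := Finset.card_filter_add_card_filter_not (s := Finset.univ) (fun y => y ∈ zpowers x)
      have h2 : (Finset.univ.filter fun y => y ∈ zpowers x).card = 3 := by
        rw [← pI25_z h3 (Finset.ne_of_mem_erase hx), Nat.card_eq_fintype_card, Fintype.card_subtype]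
      rw [h2, Finset.card_univ, hE'] at h1
      omega
  let F : MulAut E → T := fun f => ⟨⟨f u, f v⟩, by
    simp only [T, Finset.mem_sigma, Finset.mem_erase, Finset.mem_univ, and_true, Finset.mem_filter, true_and]
    refine ⟨by simpa using hu, ?_⟩
    rintro ⟨k, hk⟩
    exact hv ⟨k, f.injective (by simpa using hk)⟩⟩
  have hF : Function.Injective F := by
    intro f g e
    have e1 : f u = g u := congrArg (fun p : T => p.1.1) e
    have e2 : f v = g v := congrArg (fun p : T => p.1.2) e
    apply MulEquiv.toMonoidHom_injective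
    apply MonoidHom.eq_of_eqOn_dense top
    rintro x (rfl | rfl)
    · exact e1
    · exact e2
  have := Nat.card_le_card_of_injective F hF
  rwa [Nat.card_eq_fintype_card (α := T), Fintype.card_coe, hT] at this

theorem pI25s {X : Type*} [Group X] [Finite X] (E : Subgroup X) [E.Normal] (hX : Nat.card X = 432)
    (hE : Nat.card E = 9) (h3 : ∀ x ∈ E, x ^ 3 = 1) (hc : centralizer (E : Set X) = E) :
    Function.Surjective (MulAut.conjNormal (G := X) (H := E)) := by
  set φ := MulAut.conjNormal (G := X) (H := E)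
  have hk : φ.ker = E := by
    ext g
    rw [MonoidHom.mem_ker]
    conv_rhs => rw [← hc]
    rw [mem_centralizer_iff]
    constructor
    · intro h x hx
      have : g * x * g⁻¹ = x := congrArg Subtype.val (MulEquiv.congr_fun h ⟨x, hx⟩)
      calc x * g = g * x * g⁻¹ * g := by rw [this]
        _ = g * x := by group
    · intro h
      ext x
      show g * x * g⁻¹ = x
      rw [← h x x.2]; group
  have h1 := φ.ker.card_mul_index
  rw [index_ker, hk, hE, hX] at h1
  have h2 := pI25_aut hE fun x => Subtype.ext (h3 x x.2)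
  rw [← MonoidHom.range_eq_top]
  apply eq_top_of_le_card
  omega

theorem pI25 {X : Type*} [Group X] [Finite X] (E : Subgroup X) [E.Normal] (hX : Nat.card X = 432)
    (hE : Nat.card E = 9) (h3 : ∀ x ∈ E, x ^ 3 = 1) (hc : centralizer (E : Set X) = E) :
    ∃ t : X, t * t = 1 ∧ ∀ e ∈ E, t * e * t⁻¹ = e⁻¹ := by
  have cm : ∀ x ∈ E, ∀ y ∈ E, x * y = y * x := fun x hx y hy =>
    (mem_centralizer_iff.1 (hc.ge hy)) x hx
  let ι : MulAut E :=
    { toFun := fun x => x⁻¹, invFun := fun x => x⁻¹, left_inv := inv_inv, right_inv := inv_inv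
      map_mul' := fun x y => by
        rw [mul_inv_rev]; exact Subtype.ext (cm _ (E.inv_mem y.2) _ (E.inv_mem x.2)) }
  obtain ⟨u, hu⟩ := pI25s E hX hE h3 hc ι
  have h1 : ∀ e ∈ E, u * e * u⁻¹ = e⁻¹ := fun e he =>
    congrArg Subtype.val (MulEquiv.congr_fun hu ⟨e, he⟩)
  have h2 : ∀ e ∈ E, u * u * e * (u * u)⁻¹ = e := fun e he => by
    calc u * u * e * (u * u)⁻¹ = u * (u * e * u⁻¹) * u⁻¹ := by group
      _ = e := by rw [h1 e he, h1 _ (E.inv_mem he), inv_inv]
  have h4 : u * u ∈ E := hc.le (mem_centralizer_iff.2 fun x hx => by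
    calc x * (u * u) = u * u * x * (u * u)⁻¹ * (u * u) := by rw [h2 x hx]
      _ = u * u * x := by group)
  refine ⟨u * u * u, ?_, fun e he => ?_⟩
  · rw [← h3 _ h4]; simp only [pow_succ, pow_zero, one_mul, mul_assoc]
  · calc u * u * u * e * (u * u * u)⁻¹ = u * u * (u * e * u⁻¹) * (u * u)⁻¹ := by group
      _ = e⁻¹ := by rw [h1 e he, h2 _ (E.inv_mem he)]

end Cfsg.Agent.H10.Am
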