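import Mathlib
import Cfsg.Agent.H25.Util
import Cfsg.Agent.H25.Co1M2
import Cfsg.Agent.H25.Co1M3
import Cfsg.Agent.H25.Co1M5
import Cfsg.Agent.H25.Co1M7

set_option maxRecDepth 100000
set_option linter.all false

namespace Cfsg.Agent.H25.Co1M
open Cfsg.Agent.H25

open Cfsg.Agent.H25.Leech

abbrev G0 := Spor.Co1
theorem hcard : Nat.card G0 = 4157776806543360000 := card_Co1
instance : Finite G0 := Nat.finite_of_card_ne_zero (by rw [hcard]; norm_num)
theorem bound (Γ : Type) [Group Γ] [Finite Γ] (σ : Γ →* G0) (hσ : IsStemExtension σ) :
    Nat.card σ.ker ≤ 2 :=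
  card_ker_dvd (B := 23) [(2, 1), (3, 0), (5, 0), (7, 0)] hcard (by decide +kernel) (by decide +kernel) (by norm_num) (by
    simp only [List.mem_cons, List.not_mem_nil, or_false, forall_eq_or_imp, forall_eq]
    exact ⟨⟨pb2, by decide⟩,
      ⟨pb3, by decide⟩,
      ⟨pb5, by decide⟩,
      ⟨pb7, by decide⟩⟩) Γ σ hσ

def Ms : List ℕ := [nat_lit 0x421084200842108421084210842108421084210842100421084210842108421084210842108401084210842108421088210842108421084210842108421004210842108421084210842108421084210842108421084210042108821084210842108421084210842108421084210842108021084210842108421084210842108421084010842108421084210842108421084210844108421084210842108421004210842108441084210842108421084210842108421084211042108421084210842108422084210842108421084210842108421084210842108421088210842108421084210842208421084210842108421084210842108420084210842108421084210882108421084210842108421084210842108421084210842208421084410842108421084210842108421084210842108421084210842100421084210840108421084210842108421084210842108421084200842108421084210842108421084210882108, mneg]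
theorem mult : HasCyclicSchurMultiplier Spor.Co1 2 := by
  haveI := simple_Co1
  have h : ev (l0 Ms) ([0] ++ [0]) = ev (l0 Ms) [1] := eqW_sound (oks (by decide +kernel)) (by decide +kernel)
  rw [ev_append, ev_cons _ 1, ev_nil, mul_one, ← pow_two, l0.eq_1 _ 1, if_pos (by decide +kernel),
    show gd 0 Ms 1 = mneg by decide +kernel, el_mneg] at h
  refine hasSchur_two ?_ mk1 (QuotientGroup.mk'_surjective _) (QuotientGroup.ker_mk' _).le
    (by rw [QuotientGroup.ker_mk', card_center]) (x := ev (l0 Ms) [0]) ?_ (by rw [h]; simpa using neg1_ne) bound
  · by_contra e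
    have := (@Group.is_simple_iff_prime_card G0 _ ⟨⟨fun a b => by_contra fun f => e ⟨a, b, f⟩⟩⟩).1
      inferInstance
    rw [hcard] at this
    norm_num at this
  · rw [← map_pow, h, map_inv, inv_eq_one]; exact (QuotientGroup.eq_one_iff _).2 neg1_central

end Cfsg.Agent.H25.Co1M
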