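import Mathlib
import Cfsg.Agent.H25.Out
import Cfsg.Agent.H25.Co2OA

set_option maxRecDepth 100000
set_option linter.all false

namespace Cfsg.Agent.H25.Co2O
open Cfsg.Agent.H25

open Cfsg.Agent.H25.Leech

theorem slp_0 : allRange (slpRow T0 T 3 (nat_lit 36) df) (nat_lit 0) (nat_lit 958) = true := by decide +kernel
theorem slp_3 : allRange (slpRow T0 T 3 (nat_lit 36) df) (nat_lit 2874) (nat_lit 3832) = true := by decide +kernel
theorem chc2 : chainOK T (nat_lit 0xffffffffffffffffff) c2 [] = true := by decide +kernel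
end Cfsg.Agent.H25.Co2O
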