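import Mathlib
import Cfsg.Agent.H25.PBridge
import Cfsg.Agent.H25.VM

/-! Tools for groups with a large table: searches inside a point stabiliser. -/

set_option linter.all false

namespace Cfsg.Agent.H25
open Cfsg.Spor

section
variable {α : Type} [DecidableEq α] {D : H15.PD α} {edges : List (α × ℕ × α)}
  {extra : List (FreeGroup α)}

theorem pres_rel2 (h : D.Good edges extra) (X : List (List ℕ))
    (hi : ∀ l < D.L, D.inv l < D.L ∧ ([l, D.inv l] ∈ relL D.B ++ X ∨ [D.inv l, l] ∈ relL D.B ++ X)) :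
    Rel (D.E edges extra) (relL D.B ++ X) 0 (2 ^ D.L - 1) := by
  intro Γ _ _ σ x K hx hc hk hP _
  have : K.Normal := ⟨fun a ha y => by
    rw [Subgroup.mem_center_iff.1 (hc ha) y]; simpa using ha⟩
  set π : ℕ → Γ ⧸ K := fun l => if l < D.L then QuotientGroup.mk' K (x l) else 1 with hπ
  have hev : ∀ w : List ℕ, (∀ a ∈ w, a < D.L) → ev π w = QuotientGroup.mk' K (ev x w) := by
    intro w hw
    rw [map_ev]
    exact ev_congr fun a ha => by simp [hπ, hw a ha]
  obtain ⟨φ, hφ⟩ := h.exists_hom (π := π) (fun l => by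
    by_cases hl : l < D.L
    · rcases (hi l hl).2 with h0 | h0
      · have h2 : ev π [l, D.inv l] = 1 := by
          rw [hev _ (by simpa using ⟨hl, (hi l hl).1⟩)]; exact (QuotientGroup.eq_one_iff _).2 (hP _ h0)
        simp only [ev_cons, ev_nil, mul_one] at h2
        exact eq_inv_of_mul_eq_one_right h2
      · have h2 : ev π [D.inv l, l] = 1 := by
          rw [hev _ (by simpa using ⟨(hi l hl).1, hl⟩)]; exact (QuotientGroup.eq_one_iff _).2 (hP _ h0)
        simp only [ev_cons, ev_nil, mul_one] at h2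
        exact eq_inv_of_mul_eq_one_left h2
    · rw [H15.PD.inv, H15.invT_of_le (not_lt.1 hl)]; simp [hπ, hl]) (fun p hp => by
    rw [← H15.lprod_repL, lprod_eq, hev]
    · exact (QuotientGroup.eq_one_iff _).2
        (hP _ (List.mem_append_left _ (List.mem_map_of_mem hp)))
    · have h1 := H15.okW_iff.1 (h.ok.2.2.1 p hp).1
      generalize p.2 = k
      induction k with
      | zero => intro a ha; cases ha
      | succ k ih =>
        intro a ha
        have e : H15.repL p.1 (k + 1) = H15.appL p.1 (H15.repL p.1 k) := rfl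
        rw [e, H15.appL_eq, List.mem_append] at ha
        exact ha.elim (h1 a) (ih a))
  rintro y ⟨hy1, hy2⟩
  have : Lc (2 ^ D.L - 1) x ≤ (φ.comp σ).eqLocus (QuotientGroup.mk' K) := by
    rw [Lc_le]
    intro a ha
    have ha := testBit_mask.1 ha
    show φ (σ (x a)) = _
    rw [hx, hφ a ha]; simp [hπ, ha]
  have h3 : φ (σ y) = QuotientGroup.mk' K y := this hy1
  rw [MonoidHom.mem_ker.1 hy2, map_one] at h3
  exact (QuotientGroup.eq_one_iff _).1 h3.symm

end

section
variable {G X : Type*} [Group G] [MulAction G X] {A : H15.TabAct G X}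

/-- a table of derived letters on a subset of the points -/
noncomputable def tabE (ap : ℕ → ℕ → ℕ) (n : ℕ) (T : PT) (df : List (List ℕ)) (emb : ℕ → ℕ)
    (lo hi : ℕ) : Bool :=
  allRange (fun i => force (emb i) fun e => band (Nat.ble (Nat.succ e) n)
    (allLin (fun a => force (T.tgt i a) fun t => band (Nat.ble (Nat.succ t) T.N)
      (Nat.beq (emb t) (H15.tr ap (gd [] df a) e))) 0 T.G)) lo hi

def TabP (ap : ℕ → ℕ → ℕ) (n : ℕ) (T : PT) (df : List (List ℕ)) (emb : ℕ → ℕ) (i : ℕ) : Prop :=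
  emb i < n ∧ ∀ a < T.G, T.tgt i a < T.N ∧ emb (T.tgt i a) = H15.tr ap (gd [] df a) (emb i)

theorem tabE_sound {ap : ℕ → ℕ → ℕ} {n : ℕ} {T : PT} {df : List (List ℕ)} {emb : ℕ → ℕ} {lo hi : ℕ}
    (h : tabE ap n T df emb lo hi = true) : ∀ i, lo ≤ i → i < hi → TabP ap n T df emb i := by
  intro i h1 h2
  have := allRange_sound h i h1 h2
  simp only [force_eq, band_eq, Bool.and_eq_true, Nat.ble_eq] at this
  refine ⟨this.1, fun a ha => ?_⟩
  have h3 := allLin_sound this.2 a (Nat.zero_le _) (by omega)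
  simp only [Bool.and_eq_true, Nat.ble_eq, Nat.beq_eq] at h3
  exact h3

theorem okW_gd {L : ℕ} {df : List (List ℕ)} (hs : allL (H15.okW L) df = true) (a : ℕ) :
    H15.okW L (gd [] df a) = true := by
  rcases gd_cases [] df a with h1 | h1
  · exact allL_sound hs _ h1
  · rw [h1]; rfl

theorem AM_of_tabE {T : PT} {df : List (List ℕ)} {emb : ℕ → ℕ}
    (hs : allL (H15.okW A.L) df = true) (h : ∀ i < T.N, TabP A.ap A.n T df emb i) :
    AM T (locv df A.e) fun i => A.c (emb i) := by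
  intro i hi a ha
  refine ⟨((h i hi).2 a ha).1, ?_⟩
  show _ = A.c (emb _)
  rw [((h i hi).2 a ha).2, ← (A.tr_spec (okW_gd hs a) (h i hi).1).2, lprod_eq]; rfl

theorem inj_of_tabE {T : PT} {df : List (List ℕ)} {emb : ℕ → ℕ}
    (h : ∀ i < T.N, TabP A.ap A.n T df emb i) (h1 : ∀ i < T.N, ∀ j < T.N, emb i = emb j → i = j) :
    ∀ i < T.N, ∀ j < T.N, A.c (emb i) = A.c (emb j) → i = j :=
  fun i hi j hj e => h1 i hi j hj (A.inj _ (h i hi).1 _ (h j hj).1 e)

theorem tab_ne2 {x : ℕ} {u v : List ℕ} (h : H15.neAt A.ap A.L A.n x u v = true) :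
    ev A.e u ≠ ev A.e v := by
  rw [← lprod_eq, ← lprod_eq]; exact A.ne_of_neAt h

theorem nofix [Finite G] {H : Subgroup G} (hH : H = MulAction.stabilizer G (A.c 0)) (hf : A.Full)
    {brk : List ℕ} (hs : A.Segs H 1 brk) {p : ℕ} (hd : ∀ v ∈ H15.ssums [0] 1 brk, p ∣ v)
    (h2 : ¬ p ^ 2 ∣ Nat.card H) {x : G} (hx : x ∈ H) (ho : orderOf x = p) {ω : X}
    (h : x • ω = ω) : ω = A.c 0 := by
  by_contra hne
  have h1 := A.ncard_mem_ssums (K := H) (O := MulAction.orbit H ω) (by
    rintro g hg _ ⟨m, rfl⟩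
    exact ⟨⟨g, hg⟩ * m, mul_smul _ _ _⟩) brk [0] 1 hs (by
      have : MulAction.orbit H ω ∩ A.seg 0 1 = ∅ := by
        rw [Set.eq_empty_iff_forall_notMem]
        rintro q ⟨⟨m, hm⟩, y, hy, rfl⟩
        have : y = 0 := by have := hy.2; omega
        subst this
        apply hne
        have h3 : (m : G) • A.c 0 = A.c 0 := hH.le m.2
        exact smul_left_cancel (m : G) ((show (m : G) • ω = A.c 0 from hm).trans h3.symm)
      rw [this]; simp)
  have h3 : MulAction.orbit H ω ∩ A.seg 0 A.n = MulAction.orbit H ω := by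
    refine Set.inter_eq_left.2 fun q _ => ?_
    obtain ⟨y, hy, rfl⟩ := hf q
    exact ⟨y, ⟨Nat.zero_le _, hy⟩, rfl⟩
  rw [h3, ← H15.relIndex_stabilizer] at h1
  apply h2
  have h4 : p ∣ Nat.card ((MulAction.stabilizer G ω).subgroupOf H) := by
    rw [← ho, ← Subgroup.orderOf_mk (H := H) x hx,
      ← Subgroup.orderOf_mk (H := (MulAction.stabilizer G ω).subgroupOf H) ⟨x, hx⟩ h]
    exact orderOf_dvd_natCard _
  rw [← ((MulAction.stabilizer G ω).subgroupOf H).card_mul_index, pow_two]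
  exact Nat.mul_dvd_mul h4 (hd _ h1)

/-- all fixed points of the word `u` are listed -/
noncomputable def scan (ap : ℕ → ℕ → ℕ) (u F : List ℕ) (lo hi : ℕ) : Bool :=
  allRange (fun i => Bool.rec true (anyL (fun f => Nat.beq f i) F) (Nat.beq (H15.tr ap u i) i)) lo hi

theorem scan_sound {ap : ℕ → ℕ → ℕ} {u F : List ℕ} {lo hi : ℕ} (h : scan ap u F lo hi = true) :
    ∀ i, lo ≤ i → i < hi → H15.tr ap u i = i → i ∈ F := by
  intro i h1 h2 e
  have := allRange_sound h i h1 h2
  rw [e, Nat.beq_refl] at this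
  obtain ⟨f, hf, e⟩ := anyL_sound this
  exact Nat.eq_of_beq_eq_true e ▸ hf

theorem cen_split (hf : A.Full) {u F : List ℕ} {W : List (List ℕ)}
    (hs : ∀ i < A.n, H15.tr A.ap u i = i → i ∈ F)
    (hc : band (band (H15.okW A.L u) (band (Nat.ble 1 A.n) (Nat.beq (H15.tr A.ap u 0) 0)))
      (band (allL (H15.okW A.L) W)
        (allLin (fun j => Nat.beq (H15.tr A.ap (gd [] W j) 0) (gd 0 F j)) 0 F.length)) = true)
    {c : G} (h : c⁻¹ * ev A.e u * c = ev A.e u) :
    ∃ j < F.length, (c * (ev A.e (gd [] W j))⁻¹) • A.c 0 = A.c 0 := by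
  simp only [band_eq, Bool.and_eq_true, Nat.ble_eq, Nat.beq_eq] at hc
  obtain ⟨⟨a1, a2, a3⟩, a4, a5⟩ := hc
  obtain ⟨i, hi, e⟩ := hf (c⁻¹ • A.c 0)
  have b1 := (A.tr_spec a1 a2).2
  rw [a3, lprod_eq] at b1
  obtain ⟨b2, b3⟩ := A.tr_spec a1 hi
  rw [lprod_eq] at b3
  have b4 : H15.tr A.ap u i = i := A.inj _ b2 _ hi (by
    rw [← b3, e, ← h, smul_smul]
    conv_rhs => rw [← b1, smul_smul]
    congr 1; group)
  obtain ⟨j, hj, e'⟩ := exists_gd 0 (hs i hi b4)
  refine ⟨j, hj, ?_⟩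
  have b5 := (A.tr_spec (okW_gd a4 j) a2).2
  rw [lprod_eq, Nat.eq_of_beq_eq_true (allLin_sound a5 j (Nat.zero_le _) (by omega)), e'] at b5
  rw [mul_smul, b5, e, smul_inv_smul]

end

section
variable {G : Type*} [Group G] {Ω : Type*} [MulAction G Ω] {T : PT} {g : ℕ → G} {pt : ℕ → Ω}

theorem full_of_chain2 [Finite G] (h : AM T g pt)
    (hinj : ∀ i < T.N, ∀ j < T.N, pt i = pt j → i = j) {X : ℕ} (ls : List OL) :
    ∀ {B : List ℕ}, fixB G pt B ≤ Lc X g → (∀ b ∈ B, b < T.N) → chainOK T X ls B = true →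
      Nat.card (fixB G pt B) ≤ (ls.map OL.n).prod → Full T X G pt ls B := by
  induction ls with
  | nil =>
    intro B _ _ _ hn y hy
    have : fixB G pt B = ⊥ := Subgroup.card_eq_one.1 (le_antisymm hn Nat.card_pos)
    rwa [this] at hy
  | cons l ls ih =>
    intro B hX hB hc hn
    have hc' : band (l.ok T X B) (chainOK T X ls (l.b :: B)) = true := hc
    simp only [band_eq, Bool.and_eq_true] at hc'
    obtain ⟨h1, h2⟩ := OL.sound h hinj hB hc'.1
    have hB' : ∀ b ∈ l.b :: B, b < T.N := by simpa [h1] using hB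
    have h3 := (chain_sound h hinj ls hB' hc'.2).2
    have hX' : fixB G pt (l.b :: B) ≤ Lc X g := fun y hy => hX fun b hb => hy b (by simp [hb])
    rw [inf_eq_right.2 hX, inf_eq_right.2 hX'] at h2
    rw [inf_eq_right.2 hX'] at h3
    simp only [List.map_cons, List.prod_cons] at hn
    have hpos : 0 < Nat.card (fixB G pt B) := Nat.card_pos
    have hl : 0 < l.n := Nat.pos_of_ne_zero fun e => by rw [e] at hn; omega
    have h4 : Nat.card (fixB G pt (l.b :: B)) ≤ (ls.map OL.n).prod :=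
      Nat.le_of_mul_le_mul_left (h2.trans hn) hl
    have h5 : (ls.map OL.n).prod ≤ Nat.card (fixB G pt (l.b :: B)) :=
      (Nat.le_mul_of_pos_right _ Nat.card_pos).trans h3
    refine ⟨hc'.1, h1, fun y hy => ?_, ih hX' hB' hc'.2 h4⟩
    choose u _ _ u3 u4 u5 u6 using fun i : Fin l.n =>
      OL.wd_sound h hB hc'.1 i i le_rfl i.2 []
    have hb := (Nat.bijective_iff_injective_and_card
      (fun p : Fin l.n × fixB G pt (l.b :: B) => (⟨(ev g (u p.1))⁻¹ * p.2, mul_mem (inv_mem (u3 _))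
        fun b hb => p.2.2 b (by simp [hb])⟩ : fixB G pt B))).2 ⟨?_, ?_⟩
    · obtain ⟨⟨i, k⟩, e⟩ := hb.2 ⟨y, hy⟩
      have e1 : (ev g (u i))⁻¹ * k = y := congrArg Subtype.val e
      exact ⟨i, i.2, by rw [← e1, mul_smul, k.2 l.b (by simp), u5]⟩
    · rintro ⟨i, k⟩ ⟨j, k'⟩ e
      have e1 : (ev g (u i))⁻¹ * k = (ev g (u j))⁻¹ * k' := congrArg Subtype.val e
      have e2 := congrArg (· • pt l.b) e1
      simp only [mul_smul] at e2
      rw [k.2 l.b (by simp), k'.2 l.b (by simp), u5, u5] at e2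
      have e3 := hinj _ (u4 i) _ (u4 j) e2
      have e4 : i = j := Fin.ext (by rw [← u6 i, e3, u6 j])
      subst e4
      rw [Subtype.ext (mul_left_cancel e1)]
    · rw [Nat.card_prod, Nat.card_fin]
      exact le_antisymm h2 (hn.trans (Nat.mul_le_mul_left _ h5))

/-- a chain below the stabiliser of the points `B` is complete when the order is known -/
theorem full_fix [Finite G] (h : AM T g pt) (hinj : ∀ i < T.N, ∀ j < T.N, pt i = pt j → i = j)
    {X : ℕ} {ls : List OL} {B : List ℕ} (hB : ∀ b ∈ B, b < T.N) (hc : chainOK T X ls B = true)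
    (hn : Nat.card (fixB G pt B) ≤ (ls.map OL.n).prod) : Full T X G pt ls B := by
  refine full_of_chain2 h hinj ls ?_ hB hc hn
  have h1 := (chain_sound h hinj ls hB hc).2
  have h2 : Lc X g ⊓ fixB G pt B = fixB G pt B :=
    Subgroup.eq_of_le_of_card_ge inf_le_right
      (hn.trans ((Nat.le_mul_of_pos_right _ Nat.card_pos).trans h1))
  exact inf_eq_right.1 h2

theorem Full.base {X : ℕ} (ls : List OL) : ∀ {B : List ℕ}, (∀ b ∈ B, b < T.N) →
    Full T X G pt ls B → IsBase G T.N pt ((ls.map OL.b).reverse ++ B) := by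
  induction ls with
  | nil => intro B hB h; exact ⟨by simpa using hB, fun y hy => h y fun b hb => hy b (by simpa using hb)⟩
  | cons l ls ih =>
    intro B hB h
    have := ih (B := l.b :: B) (by simpa [h.2.1] using hB) h.2.2.2
    simpa using this

/-- every element fixing `B` with the conjugation action `R` is a word accepted by `leaf` -/
def TLF (T : PT) (g : ℕ → G) (pt : ℕ → Ω) (B : List ℕ) (R : RL) (leaf : List ℕ → Bool) : Prop :=
  ∀ c ∈ fixB G pt B, Sat g R c → ∃ w, Sm T w ∧ c = ev g w ∧ leaf w = true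

theorem bt_fix (h : AM T g pt) (hinj : ∀ i < T.N, ∀ j < T.N, pt i = pt j → i = j) (hp : Pd T g)
    {R : RL} {X : ℕ} {leaf : List ℕ → Bool} {s : St} {ss : List St} {ls : List OL} {B : List ℕ}
    (hB : ∀ b ∈ B, b < T.N) (hF : Full T X G pt ls B) (hl : (s :: ss).map St.l = ls)
    (hs : band (smR T R) (planOK T R (s :: ss) B) = true)
    (hg : ∀ r < s.l.n, s.row T R (bt T R leaf ss) B [] r = true) : TLF T g pt B R leaf := by
  intro c hcB hc
  subst hl
  have hs' : band (smR T R) (band (s.ok T R B) (planOK T R ss (s.l.b :: B))) = true := hs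
  simp only [band_eq, Bool.and_eq_true] at hs'
  have hI : Inv T g pt c B B [] :=
    ⟨hB, fun k hk => ⟨hB _ (gd_mem 0 hk), (inv_mem hcB) _ (gd_mem 0 hk)⟩, Sm.nil, by simpa using hcB⟩
  obtain ⟨F', w', a1, a2⟩ := St.row_sound h hinj hs'.1 hc hI hF hs'.2.1 hg
  exact bt_aux h hinj hp hs'.1 hc ss a1 hF.2.2.2 hs'.2.2 a2

end

section Out
variable {G : Type*} [Group G] [Finite G]

theorem eq_one_of_comm {x u h : G} {p : ℕ} (hp : p.Prime) (hx : orderOf x = p)
    (hne : u⁻¹ * x * u ≠ x) (hh : h ∈ Subgroup.zpowers x) (hc : h * u = u * h) : h = 1 := by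
  by_contra h1
  apply hne
  haveI := Fact.mk hp
  have h2 : Subgroup.zpowers h = Subgroup.zpowers x := by
    refine Subgroup.eq_of_le_of_card_ge (by simpa using hh) ?_
    have h3 : orderOf h ∣ p := by
      rw [← hx, ← Nat.card_zpowers, ← Nat.card_zpowers]
      exact Subgroup.card_dvd_of_le (by simpa using hh)
    rcases (Nat.dvd_prime hp).1 h3 with h4 | h4
    · exact absurd (orderOf_eq_one_iff.1 h4) h1
    · rw [Nat.card_zpowers, Nat.card_zpowers, hx, h4]
  have h3 : x ∈ Subgroup.zpowers h := h2 ▸ Subgroup.mem_zpowers x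
  obtain ⟨k, rfl⟩ := h3
  have h4 : Commute h u := hc
  rw [mul_assoc, (h4.zpow_left k).eq, inv_mul_cancel_left]

theorem good_of_two {φ : MulAut G} {x u : G} {p r : ℕ} (hp : p.Prime) (hx : orderOf x = p)
    (h2 : ¬ p ^ 2 ∣ Nat.card G) (hC : ∀ c, c⁻¹ * x * c = x → c ∈ Subgroup.zpowers x)
    (hu : u⁻¹ * x * u = x ^ r) (hne : u⁻¹ * x * u ≠ x) {reps : List ℕ} {m : ℕ}
    (hr : ∀ k < p, 1 ≤ k → ∃ k0 ∈ reps, ∃ j < m, k0 * r ^ j % p = k)
    (hf : ∀ k ∈ reps, ∀ β : MulAut G, β x = x ^ k → β u = u → Good φ β) (β : MulAut G) :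
    Good φ β := by
  have hpw : ∀ j, (u ^ j)⁻¹ * x * u ^ j = x ^ r ^ j := fun j => by
    induction j with
    | zero => simp
    | succ j ih =>
      rw [pow_succ, mul_inv_rev, pow_succ' r, pow_mul, ← hu, cpw, ← ih]; group
  have hN : ∀ h ∈ Subgroup.zpowers x, u * h * u⁻¹ ∈ Subgroup.zpowers x := by
    have h1 : (Subgroup.zpowers x).map (MulAut.conj u⁻¹).toMonoidHom = Subgroup.zpowers x := by
      refine Subgroup.eq_of_le_of_card_ge ?_ (by rw [Subgroup.card_map_of_injective (MulEquiv.injective _)])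
      rw [MonoidHom.map_zpowers, Subgroup.zpowers_le]
      show u⁻¹ * x * u⁻¹⁻¹ ∈ _
      rw [inv_inv, hu]; exact Subgroup.npow_mem_zpowers x r
    intro h hh
    rw [← h1] at hh
    obtain ⟨y, hy, rfl⟩ := hh
    have : u * (MulAut.conj u⁻¹).toMonoidHom y * u⁻¹ = y := by simp [mul_assoc]
    rwa [this]
  have step : ∀ k ∈ reps, ∀ β : MulAut G, β x = x ^ k → Good φ β := by
    intro k hk β e
    have e1 : (β u)⁻¹ * x * β u = x ^ r := by
      have h3 : x ∈ Subgroup.zpowers (β x) := by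
        have : Subgroup.zpowers (β x) = Subgroup.zpowers x :=
          Subgroup.eq_of_le_of_card_ge (by rw [e]; simpa using Subgroup.npow_mem_zpowers x k)
            (by rw [Nat.card_zpowers, Nat.card_zpowers, β.orderOf_eq])
        rw [this]; exact Subgroup.mem_zpowers x
      obtain ⟨i, hi⟩ := h3
      have h4 : (β u)⁻¹ * β x * β u = β x ^ r := by rw [← map_inv, ← map_mul, ← map_mul, hu, map_pow]
      have hi' : β x ^ i = x := hi
      rw [← hi', ← zpow_natCast, ← zpow_mul, mul_comm i, zpow_mul, zpow_natCast, ← h4]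
      simpa using (conj_zpow (a := (β u)⁻¹) (b := β x) (i := i)).symm
    have e2 := hC (β u * u⁻¹) (by
      rw [mul_inv_rev, inv_inv, mul_assoc, mul_assoc, ← mul_assoc x, ← mul_assoc (β u)⁻¹,
        ← mul_assoc (β u)⁻¹, e1, ← hu]; group)
    let f : Subgroup.zpowers x → Subgroup.zpowers x := fun h =>
      ⟨h * (u * (h : G)⁻¹ * u⁻¹), mul_mem h.2 (hN _ (inv_mem h.2))⟩
    have hf1 : Function.Injective f := fun a b e => by
      have e3 : (a : G) * (u * (a : G)⁻¹ * u⁻¹) = b * (u * (b : G)⁻¹ * u⁻¹) := congrArg Subtype.val e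
      have := eq_one_of_comm hp hx hne (mul_mem (inv_mem b.2) a.2) (by
        calc (b : G)⁻¹ * a * u = (b : G)⁻¹ * (a * (u * (a : G)⁻¹ * u⁻¹)) * u * a := by group
          _ = u * ((b : G)⁻¹ * a) := by rw [e3]; group)
      exact Subtype.ext (inv_mul_eq_one.1 this).symm
    obtain ⟨h, hh⟩ := Finite.injective_iff_surjective.1 hf1 ⟨_, e2⟩
    have e4 : (h : G) * (u * (h : G)⁻¹ * u⁻¹) = β u * u⁻¹ := congrArg Subtype.val hh
    refine Good.of_conj (h : G) (hf k hk _ ?_ ?_)
    · obtain ⟨i, hi⟩ := h.2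
      have hi' : x ^ i = (h : G) := hi
      rw [MulAut.mul_apply, MulAut.conj_apply, e, ← hi']; group
    · rw [MulAut.mul_apply, MulAut.conj_apply]
      calc (h : G)⁻¹ * β u * (h : G)⁻¹⁻¹ = (h : G)⁻¹ * (β u * u⁻¹) * u * h := by group
        _ = u := by rw [← e4]; group
  obtain ⟨c, k, k1, k2, e⟩ := exists_conj_pow hp hx ((β.orderOf_eq _).trans hx) h2
  obtain ⟨k0, hk0, j, -, hj⟩ := hr k k2 k1
  refine Good.of_conj (c * (u ^ j)⁻¹) (step k0 hk0 _ ?_)
  have e5 : x ^ k = (u ^ j)⁻¹ * x ^ k0 * u ^ j := by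
    rw [← cpw, hpw, ← pow_mul, mul_comm, ← hj, ← hx, pow_mod_orderOf]
  rw [MulAut.mul_apply, MulAut.conj_apply, inv_inv]
  calc (c * (u ^ j)⁻¹)⁻¹ * β x * (c * (u ^ j)⁻¹) = u ^ j * (c⁻¹ * β x * c) * (u ^ j)⁻¹ := by group
    _ = x ^ k0 := by rw [e, e5]; group

theorem not_inner2 {φ : MulAut G} {x u t : G} {p : ℕ} (hp : p.Prime) (hx : orderOf x = p)
    (hC : ∀ c, c⁻¹ * x * c = x → c ∈ Subgroup.zpowers x) (hne : u⁻¹ * x * u ≠ x)
    (h1 : φ x = x) (h2 : φ u = u) (h3 : φ t ≠ t) (c : G) : φ ≠ MulAut.conj c := by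
  rintro rfl
  rw [MulAut.conj_apply] at h1 h2 h3
  have := eq_one_of_comm hp hx hne (hC c (by nth_rw 1 [← h1]; group)) (by nth_rw 2 [← h2]; group)
  exact h3 (by rw [this]; group)

/-- the candidate `w` for the third generator violates a relation or is known -/
noncomputable def fin3 (eq ne : List ℕ → List ℕ → Bool) (t t' u x : List ℕ) (dead : List (List ℕ))
    (k : ℕ) (w : List ℕ) : Bool :=
  Bool.rec (anyL (fun d => ne (expand [w, u, pw x k] d) []) dead) true
    (band (Nat.beq k 1) (Bool.rec (eq w t') true (eq w t)))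

omit [Finite G] in
theorem fin_step {E : ℕ → G} {eq ne : List ℕ → List ℕ → Bool}
    (heq : ∀ u v, eq u v = true → ev E u = ev E v) (hne : ∀ u v, ne u v = true → ev E u ≠ ev E v)
    {t t' u x : List ℕ} {dead : List (List ℕ)} (hg : Gen E [t, u, x]) {φ : MulAut G}
    (hφ : ∀ j, φ (locv [t, u, x] E j) = locv [t', u, x] E j)
    (hd : allL (fun d => eq (expand [t, u, x] d) []) dead = true) {β : MulAut G} {k : ℕ} {w : List ℕ}
    (h1 : β (ev E x) = ev E x ^ k) (h2 : β (ev E u) = ev E u) (h3 : β (ev E t) = ev E w)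
    (hf : fin3 eq ne t t' u x dead k w = true) : Good φ β := by
  have h4 : ∀ j, β (locv [t, u, x] E j) = locv [w, u, pw x k] E j := fun j => by
    rcases j with _ | _ | _ | j
    · exact h3
    · exact h2
    · exact h1.trans (ev_pw x k).symm
    · rw [locv_ge _ (by simp), locv_ge _ (by simp), map_one]
  have h5 : ∀ {v}, k = 1 → ev E w = ev E v → ∀ j, β (locv [t, u, x] E j) = locv [v, u, x] E j :=
    fun hk e j => by
      rcases j with _ | _ | _ | j
      · exact h3.trans e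
      · exact h2
      · exact h1.trans (by rw [hk, pow_one]; rfl)
      · rw [locv_ge _ (by simp), locv_ge _ (by simp), map_one]
  unfold fin3 at hf
  cases hb : band (Nat.beq k 1) (Bool.rec (eq w t') true (eq w t)) with
  | true =>
    simp only [band_eq, Bool.and_eq_true, Nat.beq_eq] at hb
    cases he : eq w t with
    | true => exact Node.fin1 hg φ β (h5 hb.1 (heq _ _ he))
    | false => rw [he] at hb; exact Node.fin2 hg hφ β (h5 hb.1 (heq _ _ hb.2))
  | false =>
    rw [hb] at hf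
    obtain ⟨d, hd1, hd2⟩ := anyL_sound hf
    refine absurd ?_ (hne _ _ hd2)
    have := heq _ _ (allL_sound hd d hd1)
    rw [ev_expand] at this ⊢
    rw [← funext h4, ← this]
    exact ((map_ev β.toMonoidHom _ d).symm).trans (by rw [this]; simp)

omit [Finite G] in
theorem gen_of_words {E : ℕ → G} {eq : List ℕ → List ℕ → Bool}
    (heq : ∀ u v, eq u v = true → ev E u = ev E v) {L : ℕ} (ht : Lc (2 ^ L - 1) E = ⊤)
    {a : List (List ℕ)} (W : List (List ℕ))
    (h : ∀ l < L, eq [l] (expand a (gd [] W l)) = true) : Gen E a := by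
  intro K hK
  rw [eq_top_iff, ← ht, Lc_le]
  intro l hl
  have := heq _ _ (h l (testBit_mask.1 hl))
  rw [ev_cons, ev_nil, mul_one, ev_expand] at this
  rw [this]; exact ev_mem fun j _ => hK j

end Out

section Cov
variable {G : Type} [Group G] [Finite G] {g : ℕ → G} {P : List (List ℕ)} {GG : ℕ}

theorem aut_of_words [IsSimpleGroup G] (hrel : Rel g P 0 (2 ^ GG - 1))
    (hX : Lc (2 ^ GG - 1) g = ⊤) (hg : ∀ a, GG ≤ a → g a = 1) (hP : ∀ w ∈ P, ev g w = 1)
    {W : List (List ℕ)} (hW : W.length ≤ GG) (h : ∀ w ∈ P, ev g (expand W w) = 1)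
    (h0 : ev g (gd [] W 0) ≠ 1) : ∃ φ : MulAut G, ∀ w, φ (ev g w) = ev g (expand W w) := by
  obtain ⟨φ, hφ⟩ := exists_hom hrel hX (locv W g) (fun w hw => ⟨hP w hw, by rw [← ev_expand, h w hw]⟩)
    fun a ha => by
      have : GG ≤ a := not_lt.1 fun h => by rw [testBit_mask.2 h] at ha; cases ha
      exact ⟨hg a this, locv_ge a (hW.trans this)⟩
  have hi : Function.Injective φ := by
    rw [← MonoidHom.ker_eq_bot_iff]
    refine (Subgroup.Normal.eq_bot_or_eq_top φ.normal_ker).resolve_right fun e => h0 ?_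
    have : g 0 ∈ φ.ker := e ▸ Subgroup.mem_top _
    exact (hφ 0).symm.trans this
  refine ⟨MulEquiv.ofBijective φ (Finite.injective_iff_bijective.1 hi), fun w => ?_⟩
  rw [ev_expand, ← funext hφ]
  exact map_ev φ g w

theorem sub_of_words [IsSimpleGroup G] (hrel : Rel g P 0 (2 ^ GG - 1))
    (hX : Lc (2 ^ GG - 1) g = ⊤) (hg : ∀ a, GG ≤ a → g a = 1) (hP : ∀ w ∈ P, ev g w = 1)
    {C : Type} [Group C] [Finite C] {E : ℕ → C}
    {W : List (List ℕ)} (hW : W.length ≤ GG) (h : ∀ w ∈ P, ev E (expand W w) = 1)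
    (h0 : ev E (gd [] W 0) ≠ 1) : ∃ K : Subgroup C, Nonempty (G ≃* K) := by
  obtain ⟨φ, hφ⟩ := exists_hom hrel hX (locv W E) (fun w hw => ⟨hP w hw, by rw [← ev_expand, h w hw]⟩)
    fun a ha => by
      have : GG ≤ a := not_lt.1 fun h => by rw [testBit_mask.2 h] at ha; cases ha
      exact ⟨hg a this, locv_ge a (hW.trans this)⟩
  have hi : Function.Injective φ := by
    rw [← MonoidHom.ker_eq_bot_iff]
    refine (Subgroup.Normal.eq_bot_or_eq_top φ.normal_ker).resolve_right fun e => h0 ?_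
    have : g 0 ∈ φ.ker := e ▸ Subgroup.mem_top _
    exact (hφ 0).symm.trans this
  exact ⟨φ.range, ⟨MonoidHom.ofInjective hi⟩⟩

theorem cover_quot [IsSimpleGroup G] (hna : ∃ a b : G, a * b ≠ b * a)
    (hrel : Rel g P 0 (2 ^ GG - 1)) (hX : Lc (2 ^ GG - 1) g = ⊤) (hg : ∀ a, GG ≤ a → g a = 1)
    (hP : ∀ w ∈ P, ev g w = 1) {C : Type} [Group C] [Finite C] {c : ℕ → C} {z : C} {m : ℕ}
    (hm : orderOf z = m) (h1 : z ≠ 1) (hc : ∀ a < GG, c a * z = z * c a)
    (hr : ∀ w ∈ P, (∀ a ∈ w, a < GG) ∧ ev c w ∈ Subgroup.zpowers z) {u v : List ℕ}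
    (hs : ∀ a ∈ u ++ v, a < GG) (hz : ev c (u ++ v) = z * ev c (v ++ u)) :
    ∃ H : Subgroup C, Nat.card (Subgroup.center H) = m ∧ Nonempty (G ≃* H ⧸ Subgroup.center H) ∧
      ∀ (A : Type) [CommGroup A] (δ : C →* A), H ≤ δ.ker := by
  set H := Lc (2 ^ GG - 1) c with hH
  have hm1 : ∀ a < GG, c a ∈ H := fun a ha => mem_Lc _ (testBit_mask.2 ha)
  have hm2 : ∀ w : List ℕ, (∀ a ∈ w, a < GG) → ev c w ∈ H := fun w hw =>
    ev_mem fun a ha => hm1 a (hw a ha)
  have hu := hm2 u fun a ha => hs a (by simp [ha])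
  have hv := hm2 v fun a ha => hs a (by simp [ha])
  rw [ev_append, ev_append] at hz
  have hz' : z = ev c u * ev c v * (ev c u)⁻¹ * (ev c v)⁻¹ := by rw [hz]; group
  have hzH : z ∈ H := hz' ▸ mul_mem (mul_mem (mul_mem hu hv) (inv_mem hu)) (inv_mem hv)
  let Z : Subgroup H := Subgroup.zpowers ⟨z, hzH⟩
  have hZ : Z ≤ Subgroup.center H := by
    rw [Subgroup.zpowers_le, Subgroup.mem_center_iff]
    intro y
    have : H ≤ Subgroup.centralizer {z} := by
      rw [hH, Lc_le]
      intro a ha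
      rw [Subgroup.mem_centralizer_singleton_iff]
      exact hc a (testBit_mask.1 ha)
    exact Subtype.ext (Subgroup.mem_centralizer_singleton_iff.1 (this y.2))
  haveI : Z.Normal := ⟨fun a ha y => by
    rw [Subgroup.mem_center_iff.1 (hZ ha) y]; simpa using ha⟩
  let c1 : ℕ → H := fun a => if h : a < GG then ⟨c a, hm1 a h⟩ else 1
  have hc1 : ∀ w : List ℕ, (∀ a ∈ w, a < GG) → ((ev c1 w : H) : C) = ev c w := fun w hw =>
    (map_ev H.subtype c1 w).trans (ev_congr fun a ha => by simp [c1, hw a ha])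
  obtain ⟨φ, hφ⟩ := exists_hom hrel hX (fun a => (c1 a : H ⧸ Z)) (fun w hw => ⟨hP w hw, by
      rw [show ev (fun a => (c1 a : H ⧸ Z)) w = ((ev c1 w : H) : H ⧸ Z) from
        (map_ev (QuotientGroup.mk' Z) c1 w).symm, QuotientGroup.eq_one_iff]
      obtain ⟨k, hk⟩ := (hr w hw).2
      exact ⟨k, Subtype.ext (by rw [hc1 w (hr w hw).1, ← hk]; simp)⟩⟩)
    fun a ha => by
      have : ¬ a < GG := fun h => by rw [testBit_mask.2 h] at ha; cases ha
      exact ⟨hg a (not_lt.1 this), by simp [c1, this]⟩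
  have hgen : ∀ K : Subgroup H, (∀ a, c1 a ∈ K) → K = ⊤ := fun K hK => by
    rw [eq_top_iff]
    intro y _
    have : Lc (2 ^ GG - 1) c ≤ K.map H.subtype := by
      rw [Lc_le]
      intro a ha
      exact ⟨c1 a, hK a, by simp [c1, testBit_mask.1 ha]⟩
    obtain ⟨y', h1, h2⟩ := this y.2
    exact (Subtype.ext h2 : y' = y) ▸ h1
  have hsur : Function.Surjective φ := fun y => by
    obtain ⟨y, rfl⟩ := QuotientGroup.mk_surjective y
    have : y ∈ φ.range.comap (QuotientGroup.mk' Z) := by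
      rw [hgen (φ.range.comap (QuotientGroup.mk' Z)) fun a => ⟨g a, hφ a⟩]; trivial
    exact this
  have hinj : Function.Injective φ := by
    rw [← MonoidHom.ker_eq_bot_iff]
    refine (Subgroup.Normal.eq_bot_or_eq_top φ.normal_ker).resolve_right fun e => h1 ?_
    have h3 : ∀ y : H, y ∈ Subgroup.center H := fun y => hZ (by
      obtain ⟨y', hy⟩ := hsur y
      have : y' ∈ φ.ker := e ▸ Subgroup.mem_top _
      exact (QuotientGroup.eq_one_iff _).1 (hy.symm.trans this))
    have h4 : ev c u * ev c v = ev c v * ev c u :=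
      congrArg Subtype.val (Subgroup.mem_center_iff.1 (h3 ⟨_, hv⟩) ⟨_, hu⟩)
    rw [hz', h4]; group
  let e := MulEquiv.ofBijective φ ⟨hinj, hsur⟩
  have hcen : Subgroup.center G = ⊥ := by
    refine (Subgroup.Normal.eq_bot_or_eq_top inferInstance).resolve_right fun e => ?_
    obtain ⟨a, b, h⟩ := hna
    exact h (Subgroup.mem_center_iff.1 (e ▸ Subgroup.mem_top b) a)
  have hZ' : Z = Subgroup.center H := le_antisymm hZ fun y hy => by
    obtain ⟨y', hy'⟩ := hsur y
    have : y' ∈ Subgroup.center G := Subgroup.mem_center_iff.2 fun a => hinj (by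
      obtain ⟨a', ha'⟩ := QuotientGroup.mk_surjective (φ a)
      rw [map_mul, map_mul, hy', ← ha', ← QuotientGroup.mk_mul, ← QuotientGroup.mk_mul,
        Subgroup.mem_center_iff.1 hy a'])
    rw [hcen, Subgroup.mem_bot] at this
    rw [this, map_one] at hy'
    exact (QuotientGroup.eq_one_iff _).1 hy'.symm
  refine ⟨H, ?_, ⟨e.trans (QuotientGroup.quotientMulEquivOfEq hZ')⟩, fun A _ δ => ?_⟩
  · rw [← hZ', Nat.card_zpowers, Subgroup.orderOf_mk, hm]
  · have hδ : Z ≤ (δ.comp H.subtype).ker := by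
      rw [Subgroup.zpowers_le]
      show δ z = 1
      rw [hz']; simp [mul_comm]
    let δ' := (QuotientGroup.lift Z _ hδ).comp φ
    have hk : δ'.ker = ⊤ := by
      refine (Subgroup.Normal.eq_bot_or_eq_top δ'.normal_ker).resolve_left fun e => ?_
      obtain ⟨a, b, h⟩ := hna
      exact h ((MonoidHom.ker_eq_bot_iff _).1 e (by rw [map_mul, map_mul, mul_comm]))
    rw [hH, Lc_le]
    intro a ha
    have : g a ∈ δ'.ker := hk ▸ Subgroup.mem_top _
    have h5 : QuotientGroup.lift Z _ hδ (φ (g a)) = 1 := this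
    rw [hφ] at h5
    simpa [c1, testBit_mask.1 ha] using h5

theorem exists_sl {n : ℕ} {R : Type} [CommRing R] (H : Subgroup (Matrix (Fin n) (Fin n) R)ˣ)
    (h : ∀ (A : Type) [CommGroup A] (δ : (Matrix (Fin n) (Fin n) R)ˣ →* A), H ≤ δ.ker) :
    ∃ K : Subgroup (Matrix.SpecialLinearGroup (Fin n) R), Nonempty (K ≃* H) := by
  have h1 : H ≤ (Matrix.SpecialLinearGroup.toGL (n := Fin n) (R := R)).range := fun y hy => by
    have := h _ Matrix.GeneralLinearGroup.det hy
    exact ⟨⟨y.val, congrArg Units.val this⟩, Units.ext rfl⟩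
  refine ⟨H.comap Matrix.SpecialLinearGroup.toGL, ⟨(Subgroup.equivMapOfInjective _ _
    Matrix.SpecialLinearGroup.toGL_injective).trans (MulEquiv.subgroupCongr ?_)⟩⟩
  exact Subgroup.map_comap_eq_self h1

noncomputable def cenQuot {K H : Type*} [Group K] [Group H] (e : K ≃* H) :
    K ⧸ Subgroup.center K ≃* H ⧸ Subgroup.center H :=
  QuotientGroup.congr _ _ e (by
    ext y
    constructor
    · rintro ⟨x, hx, rfl⟩
      exact ((Subgroup.centerCongr e) ⟨x, hx⟩).2
    · intro hy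
      exact ⟨e.symm y, ((Subgroup.centerCongr e.symm) ⟨y, hy⟩).2, e.apply_symm_apply y⟩)

end Cov

end Cfsg.Agent.H25
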