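import Mathlib
import Cfsg.Agent.H25.X2
import Cfsg.Agent.H25.Mat

/-! Covers inside special linear groups; centralisers by searches in a stabiliser. -/

set_option linter.all false

namespace Cfsg.Agent.H25

theorem allLin_of {p : ℕ → Bool} {n lo : ℕ} (h : ∀ i, lo ≤ i → i < lo + n → p i = true) :
    allLin p lo n = true := by
  induction n with
  | zero => rfl
  | succ n ih =>
    show (Bool.rec false (allLin p lo n) (p (lo + n)) : Bool) = true
    rw [h (lo + n) (by omega) (by omega)]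
    exact ih fun i a b => h i a (by omega)

theorem MT.cov {G : Type} [Group G] [Finite G] {g : ℕ → G} {P : List (List ℕ)} {GG : ℕ}
    [IsSimpleGroup G] (hna : ∃ a b : G, a * b ≠ b * a)
    (hrel : Rel g P 0 (2 ^ GG - 1)) (hX : Lc (2 ^ GG - 1) g = ⊤) (hg : ∀ a, GG ≤ a → g a = 1)
    (hP : ∀ w ∈ P, ev g w = 1) {T : MT} [NeZero T.p] (ok : T.ok = true) {m : ℕ} (hm : m.Prime)
    {z e E : List ℕ} {Q : List (List ℕ × List ℕ)} (h0 : ev T.el z ≠ 1)
    (h1 : allLin (fun a => T.chk (a :: z) (app z [a])) 0 GG = true)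
    (h2 : allLin (fun i => T.chk (gd [] P i) (H15.repL z (gd 0 e i))) 0 P.length = true)
    (h3 : allLin (fun i => T.chk (app (gd ([], []) Q i).1 (gd ([], []) Q i).2)
      (app (H15.repL z (gd 0 E i)) (app (gd ([], []) Q i).2 (gd ([], []) Q i).1))) 0 Q.length = true)
    (h4 : T.chk (H15.repL z m) [] = true)
    (h5 : allL (fun w => allL (fun a => Nat.ble (Nat.succ a) GG) w) P = true)
    (h6 : 0 < Q.length ∧ gd 0 E 0 = 1 ∧ ∀ a ∈ (gd ([], []) Q 0).1 ++ (gd ([], []) Q 0).2, a < GG) :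
    ∃ H : Subgroup (Matrix.SpecialLinearGroup (Fin T.n) (ZMod T.p)),
      Nat.card (Subgroup.center H) = m ∧ Nonempty (G ≃* H ⧸ Subgroup.center H) := by
  haveI := Fact.mk hm
  have rp : ∀ k, ev T.el (H15.repL z k) = ev T.el z ^ k := fun k => by
    rw [← lprod_eq, H15.lprod_repL, lprod_eq]
  obtain ⟨H, a1, ⟨f1⟩, a3⟩ := cover_quot (m := m) (c := T.el) (z := ev T.el z) hna hrel hX hg hP
    (orderOf_eq_prime (by rw [← rp]; exact MT.chk_sound ok _ _ h4) h0) h0
    (fun a ha => by
      have := MT.chk_sound ok _ _ (allLin_sound h1 a (Nat.zero_le _) (by omega))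
      rwa [app_eq, ev_cons, ev_append, ev_cons T.el a, ev_nil, mul_one] at this)
    (fun w hw => ⟨fun a ha => Nat.le_of_ble_eq_true (allL_sound (allL_sound h5 w hw) a ha), by
      obtain ⟨j, hj, rfl⟩ := exists_gd [] hw
      rw [MT.chk_sound ok _ _ (allLin_sound h2 j (Nat.zero_le _) (by omega)), rp]
      exact Subgroup.npow_mem_zpowers _ _⟩) h6.2.2 (by
      have := MT.chk_sound ok _ _ (allLin_sound h3 0 le_rfl (by omega))
      rwa [app_eq, app_eq, app_eq, ev_append _ (H15.repL _ _), rp, h6.2.1, pow_one] at this)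
  obtain ⟨K, ⟨f⟩⟩ := exists_sl H a3
  exact ⟨K, (Nat.card_congr (Subgroup.centerCongr f).toEquiv).trans a1, ⟨f1.trans (cenQuot f).symm⟩⟩

section
variable {G : Type*} [Group G] {Ω : Type*} [MulAction G Ω] {T : PT} {g : ℕ → G} {pt : ℕ → Ω}

/-- pairs of powers -/
noncomputable def powR (a b E : List ℕ) : RL :=
  List.rec (motive := fun _ => RL) [] (fun e _ ih => (pw a e, pw b e) :: ih) E

theorem sat_powR {a b : List ℕ} {c : G} (h : c⁻¹ * ev g a * c = ev g b) (E : List ℕ) :
    Sat g (powR a b E) c := by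
  induction E with
  | nil => intro q hq; cases hq
  | cons e E ih =>
    intro q hq
    rcases List.mem_cons.1 hq with rfl | hq
    · show c⁻¹ * ev g (pw a e) * c = ev g (pw b e)
      rw [ev_pw, ev_pw, ← h, cpw]
    · exact ih q hq

/-- `w` does not conjugate `a` to `b`, or `L w` -/
noncomputable def orNe (T : PT) (B a b : List ℕ) (L : List ℕ → Bool) (w : List ℕ) : Bool :=
  Bool.rec (L w) true (neqv T B (app a w) (app w b))

theorem tlf_cen (h : AM T g pt) (hinj : ∀ i < T.N, ∀ j < T.N, pt i = pt j → i = j) {B B0 : List ℕ}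
    (hB : ∀ b ∈ B, b < T.N) {a b E : List ℕ} {L : List ℕ → Bool}
    (hT : TLF T g pt B0 (powR a b E) (orNe T B a b L)) (hs : band (T.small a) (T.small b) = true)
    {c : G} (h0 : c ∈ fixB G pt B0) (hc : c⁻¹ * ev g a * c = ev g b) :
    ∃ w, Sm T w ∧ c = ev g w ∧ L w = true := by
  obtain ⟨w, w1, w2, w3⟩ := hT c h0 (sat_powR hc E)
  refine ⟨w, w1, w2, ?_⟩
  unfold orNe at w3
  cases hn : neqv T B (app a w) (app w b) with
  | false => rwa [hn] at w3
  | true =>
    rw [app_eq, app_eq] at hn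
    refine absurd ?_ (h.neqv hinj hB (Sm.app (T.small_sound (band_l hs)) w1)
      (w1.app (T.small_sound (band_r hs))) hn)
    rw [ev_append, ev_append, ← w2, ← hc]; group

theorem mem_of_inPw (h : AM T g pt) {B : List ℕ} (hB : IsBase G T.N pt B) {x w : List ℕ} {p : ℕ}
    (hx : T.small x = true) (hw : Sm T w) (hc : inPw T B x p w = true) :
    ev g w ∈ Subgroup.zpowers (ev g x) := by
  obtain ⟨k, -, e⟩ := anyL_sound hc
  rw [h.eqv hB hw (Sm.pw (T.small_sound hx) k) e, ev_pw]
  exact Subgroup.npow_mem_zpowers _ _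

theorem pd_of_words {E : ℕ → G} {eq : List ℕ → List ℕ → Bool}
    (heq : ∀ u v, eq u v = true → ev E u = ev E v) {df : List (List ℕ)}
    (h : allLin (fun a => band (Nat.ble (Nat.succ (Nat.xor a 1)) T.G)
      (eq (app (gd [] df a) (gd [] df (Nat.xor a 1))) [])) 0 T.G = true) : Pd T (locv df E) := by
  intro a ha
  have := allLin_sound h a (Nat.zero_le _) (by omega)
  simp only [band_eq, Bool.and_eq_true, Nat.ble_eq, Nat.zero_add] at this
  refine ⟨this.1, ?_⟩
  have h2 := heq _ _ this.2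
  rw [app_eq, ev_append] at h2
  exact eq_inv_of_mul_eq_one_right h2

end

end Cfsg.Agent.H25
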