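import Mathlib
import Cfsg.Agent.H25.X3
import Cfsg.Agent.H14.PermAmb

/-! Letters in a certified subgroup; multipliers of order two. -/

set_option linter.all false

namespace Cfsg.Agent.H25
open scoped commutatorElement

section
variable {G Ω : Type*} [Group G] [MulAction G Ω] {A : H14.Amb G Ω}

open Classical in
noncomputable def cg (S : H14.CSub A) (Ts : List ℕ) (a : ℕ) : S.K :=
  if h : a < Ts.length ∧ A.el (gd 0 Ts a) ∈ S.K then (⟨_, h.2⟩ : S.K)⁻¹ else 1

noncomputable def cgOK (S : H14.CSub A) (Ts : List ℕ) (T : PT) : Bool :=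
  band (Nat.beq T.G Ts.length) (band (allLin A.Vb 0 T.N) (allLin (fun a => force (gd 0 Ts a) fun t =>
    band (A.okb t) (band (S.test t) (allLin (fun i => force (T.tgt i a) fun y =>
      band (Nat.ble (Nat.succ y) T.N) (Nat.beq y (A.fn t i))) 0 T.N))) 0 T.G))

theorem cg_AM {S : H14.CSub A} {Ts : List ℕ} {T : PT} (h : cgOK S Ts T = true) :
    AM T (cg S Ts) A.dec := by
  simp only [cgOK, band_eq, Bool.and_eq_true, Nat.beq_eq, force_eq] at h
  obtain ⟨h1, h2, h3⟩ := h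
  intro i hi a ha
  have h4 := allLin_sound h3 a (Nat.zero_le _) (by omega)
  simp only [Bool.and_eq_true] at h4
  obtain ⟨a1, a2, a3⟩ := h4
  have b1 := A.okb_ok _ a1
  have b4 := allLin_sound a3 i (Nat.zero_le _) (by omega)
  simp only [Bool.and_eq_true, Nat.ble_eq, Nat.beq_eq] at b4
  refine ⟨b4.1, ?_⟩
  rw [cg, dif_pos ⟨h1 ▸ ha, (S.test_iff _ b1).1 a2⟩, inv_inv, b4.2]
  exact A.act _ _ b1 (A.Vb_V _ (allLin_sound h2 i (Nat.zero_le _) (by omega)))

theorem cg_val {S : H14.CSub A} {Ts : List ℕ} {a : ℕ} (ha : a < Ts.length)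
    (h : band (A.okb (gd 0 Ts a)) (S.test (gd 0 Ts a)) = true) :
    (cg S Ts a : G) = (A.el (gd 0 Ts a))⁻¹ := by
  rw [cg, dif_pos ⟨ha, (S.test_iff _ (A.okb_ok _ (band_l h))).1 (band_r h)⟩]; rfl

end

theorem fin_inj {n : ℕ} : ∀ i < n + 1, ∀ j < n + 1, (H14.finCoord n).pt i = (H14.finCoord n).pt j → i = j :=
  fun _ hi _ hj e => (H14.finCoord n).pt_inj hi hj e

theorem hasSchur_two {G Γ0 : Type} [Group G] [Group Γ0] [Finite Γ0] [IsSimpleGroup G]
    (hna : ∃ a b : G, a * b ≠ b * a) (σ0 : Γ0 →* G) (h1 : Function.Surjective σ0)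
    (h2 : σ0.ker ≤ Subgroup.center Γ0) (h3 : Nat.card σ0.ker = 2) {x : Γ0} (hx : σ0 x ^ 2 = 1)
    (hx' : x ^ 2 ≠ 1)
    (hb : ∀ (Γ : Type) [Group Γ] [Finite Γ] (σ : Γ →* G), IsStemExtension σ → Nat.card σ.ker ≤ 2) :
    HasCyclicSchurMultiplier G 2 := by
  haveI : Fact (Nat.Prime 2) := ⟨Nat.prime_two⟩
  have hc : Nat.card (Multiplicative (ZMod 2)) = 2 := by simp
  refine ⟨⟨Γ0, _, inferInstance, σ0, ⟨h1, h2, ?_⟩, ⟨mulEquivOfPrimeCardEq h3 hc⟩⟩, fun Γ _ _ σ hσ => ?_⟩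
  · have hp : (commutator Γ0).map σ0 = ⊤ := by
      haveI := Subgroup.Normal.map (inferInstance : (commutator Γ0).Normal) σ0 h1
      refine (Subgroup.Normal.eq_bot_or_eq_top inferInstance).resolve_left fun e => ?_
      obtain ⟨a, b, h⟩ := hna
      obtain ⟨a, rfl⟩ := h1 a
      obtain ⟨b, rfl⟩ := h1 b
      have : σ0 ⁅a, b⁆ ∈ (commutator Γ0).map σ0 := Subgroup.mem_map_of_mem _
        (Subgroup.commutator_mem_commutator (Subgroup.mem_top _) (Subgroup.mem_top _))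
      rw [e, Subgroup.mem_bot, map_commutatorElement, commutatorElement_eq_one_iff_mul_comm] at this
      exact h this
    obtain ⟨c, hc1, hc2⟩ : σ0 x ∈ (commutator Γ0).map σ0 := hp ▸ Subgroup.mem_top _
    have k1 : c⁻¹ * x ∈ σ0.ker := by rw [MonoidHom.mem_ker, map_mul, map_inv, hc2, inv_mul_cancel]
    have k2 : (c⁻¹ * x) ^ 2 = 1 := by
      have := pow_card_eq_one' (x := (⟨_, k1⟩ : σ0.ker))
      rw [h3] at this
      exact congrArg Subtype.val this
    have k3 : x ^ 2 = c ^ 2 := by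
      have e := Subgroup.mem_center_iff.1 (h2 k1) c
      calc x ^ 2 = c * ((c⁻¹ * x) * c) * (c⁻¹ * x) := by simp [pow_two, mul_assoc]
        _ = c ^ 2 * (c⁻¹ * x) ^ 2 := by rw [← e]; simp [pow_two, mul_assoc]
        _ = _ := by rw [k2, mul_one]
    have k4 : x ^ 2 ∈ σ0.ker := by rw [MonoidHom.mem_ker, map_pow, hx]
    intro y hy
    obtain ⟨z, -, hz⟩ := (Nat.card_eq_two_iff' (1 : σ0.ker)).1 h3
    by_cases e : y = 1
    · rw [e]; exact one_mem _
    · have e1 := hz ⟨y, hy⟩ fun e' => e (congrArg Subtype.val e')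
      have e2 := hz ⟨_, k4⟩ fun e' => hx' (congrArg Subtype.val e')
      rw [show y = x ^ 2 from congrArg Subtype.val (e1.trans e2.symm), k3]
      exact pow_mem hc1 2
  · have h4 := hb Γ σ hσ
    have h5 : 0 < Nat.card σ.ker := Nat.card_pos
    rcases (by omega : Nat.card σ.ker = 1 ∨ Nat.card σ.ker = 2) with h | h
    · haveI := (Nat.card_eq_one_iff_unique.1 h).1
      exact ⟨1, fun y => ⟨1, Subsingleton.elim _ _⟩⟩
    · exact ⟨(mulEquivOfPrimeCardEq hc h).toMonoidHom, (mulEquivOfPrimeCardEq hc h).surjective⟩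

end Cfsg.Agent.H25
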