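import Mathlib
import Cfsg.Agent.H25.Co
import Cfsg.Agent.H25.X4
import Cfsg.Agent.H28.PC

/-! Polycyclic certificates inside the Conway groups. -/

set_option linter.all false
set_option maxRecDepth 100000

namespace Cfsg.Agent.H25.Leech
open Cfsg.Spor

def mneg : ℕ := nat_lit 0x21084210842108421084210842108401084210842108421084210842108420084210842108421084210842108421004210842108421084210842108421080210842108421084210842108421084010842108421084210842108421084200842108421084210842108421084210042108421084210842108421084210802108421084210842108421084210840108421084210842108421084210842008421084210842108421084210842100421084210842108421084210842108021084210842108421084210842108401084210842108421084210842108420084210842108421084210842108421004210842108421084210842108421080210842108421084210842108421084010842108421084210842108421084200842108421084210842108421084210042108421084210842108421084210802108421084210842108421084210840108421084210842108421084210842008421084210842108421084210842100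

theorem mneg_ok : ok mneg = true := by decide +kernel

theorem el_mneg : el mneg = neg1 := co_ext8 fun i => by
  obtain ⟨a, b⟩ := c8_spec i
  have h : ∀ i, (prep mneg).act (c8 (H14.gC.idx i)) = code (-e8 i).1 := by decide +kernel
  rw [neg1_smul, ← (VC_code (x := -e8 i) (by rw [AddSubgroup.coe_neg, sq_neg, sq_e8])).2, ← h,
    ← (el_smul mneg_ok a).2, b]

theorem oks {Ms : List ℕ} (h : allL ok Ms = true) : ∀ M ∈ Ms, ok M = true := allL_sound h

theorem am_l0 {vec : ℕ → ℕ} {T : PT} {Ms : List ℕ} (hG : T.G ≤ Ms.length) (hM : ∀ M ∈ Ms, ok M = true)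
    (hv : ∀ i < T.N, VC (vec i)) (h : ∀ i < T.N, ∀ a < T.G, T.tgt i a < T.N ∧
      (gd ⟨0, 0, 0⟩ (Ms.map prep) a).act (vec i) = vec (T.tgt i a)) :
    AM T (l0 Ms) fun i => pt (vec i) := fun i hi a ha => by
  obtain ⟨h1, h2⟩ := h i hi a ha
  have ha' := ha.trans_le hG
  rw [gd_prep ha'] at h2
  exact ⟨h1, by rw [l0, if_pos ha', inv_inv, (el_smul (hM _ (gd_mem 0 ha')) (hv i hi)).2, h2]⟩

/-- lower bound for the order of the group generated by the letters -/
theorem card_l0 {vec : ℕ → ℕ} {T : PT} {Ms : List ℕ} {n r X m : ℕ} {ls : List OL} (hM : ∀ M ∈ Ms, ok M = true)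
    (h0 : T.G ≤ Ms.length ∧ T.N = n + 1) (h1 : allRange (fun i => vcb r (vec i)) 0 (n + 1) = true)
    (h2 : mono vec 0 n = true) (h3 : amc vec T Ms 0 (n + 1) = true) (h4 : chainOK T X ls [] = true)
    (h5 : m ≤ (ls.map OL.n).prod) : m ≤ Nat.card (Lc X (l0 Ms)) := by
  have hv : ∀ i < T.N, VC (vec i) := fun i hi =>
    (vcb_sound (allRange_sound h1 i (Nat.zero_le _) (h0.2 ▸ hi))).1
  exact card_ge_of_chain (am_l0 h0.1 hM hv fun i hi => amc_rng h3 i (Nat.zero_le _) (h0.2 ▸ hi))
    (fun i hi j hj e => inj_of_mono (rng_all (mono_rng h2)) i (by omega) j (by omega)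
      ((hv i hi).inj (hv j hj) e)) h4 h5

noncomputable def eqMs (Ms : List ℕ) (E : List (List ℕ × List ℕ)) (z lo hi : ℕ) : Bool :=
  force Ms.length fun n => prepL Ms fun ts => allRange (fun i =>
    Bool.rec (eqW ts n (gd ([], []) E i).1 (z :: (gd ([], []) E i).2)) true
      (eqW ts n (gd ([], []) E i).1 (gd ([], []) E i).2)) lo hi

def EqP (Ms : List ℕ) (E : List (List ℕ × List ℕ)) (z i : ℕ) : Prop :=
  ev (l0 Ms) (gd ([], []) E i).1 = ev (l0 Ms) (gd ([], []) E i).2 ∨
    ev (l0 Ms) (gd ([], []) E i).1 = l0 Ms z * ev (l0 Ms) (gd ([], []) E i).2 ∧ z < Ms.length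

theorem eqMs_sound {Ms : List ℕ} (hM : ∀ M ∈ Ms, ok M = true) {E : List (List ℕ × List ℕ)} {z lo hi : ℕ}
    (h : eqMs Ms E z lo hi = true) : ∀ i, lo ≤ i → i < hi → EqP Ms E z i := fun i h1 h2 => by
  rw [eqMs, force_eq, prepL_eq] at h
  have := allRange_sound h i h1 h2
  cases e : eqW (Ms.map prep) Ms.length (gd ([], []) E i).1 (gd ([], []) E i).2 with
  | true => exact Or.inl (eqW_sound hM e)
  | false =>
    rw [e] at this
    exact Or.inr ⟨(eqW_sound hM this).trans (ev_cons _ _ _),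
      Nat.le_of_ble_eq_true (allL_sound (band_l (band_r this)) z (by simp))⟩

theorem pb_sub {K : Subgroup Co0} {Ms : List ℕ} (hM : ∀ M ∈ Ms, ok M = true ∧ el M ∈ K) {V : H28.PCD}
    {X p a e N n : ℕ} (hp : p.Prime) (h1 : V.ok1 X = true) (h2 : V.ok2 = true)
    (hE : ∀ i < n, EqP Ms V.eqs 99 i) (hl : V.eqs.length ≤ n ∧ Ms.length ≤ 99)
    (hc : H28.PCD.ord V.lay ≤ Nat.card (Lc X (l0 Ms))) (hN : Nat.card K = N)
    (hn : p ^ e ∣ V.n ∧ ¬ p ^ e ∣ V.m ∧ ¬ p ^ (a + 1) ∣ V.m ∧ ¬ p * H28.PCD.ord V.lay ∣ N) : PB K p a := by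
  let g : ℕ → K := fun a => ⟨l0 Ms a, by simpa using ev_l0_mem (fun M h => (hM M h).2) [a]⟩
  refine H28.PCD.pb (g := g) hp h1 h2 (fun q hq => Subtype.ext ?_) ?_ hN hn
  · obtain ⟨i, hi, rfl⟩ := exists_gd ([], []) hq
    exact (map_ev K.subtype g _).trans (((hE i (by omega)).resolve_right (by omega)).trans
      (map_ev K.subtype g _).symm)
  · rwa [← Lc_map K.subtype X g (g := l0 Ms) fun _ => rfl, Subgroup.card_map_of_injective K.subtype_injective] at hc

theorem pb_quo {Ms : List ℕ} {V : H28.PCD} {L p a e z n : ℕ} (hp : p.Prime)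
    (h1 : V.ok1 (2 ^ L - 1) = true) (h2 : V.ok2 = true) (hE : ∀ i < n, EqP Ms V.eqs z i)
    (hl : V.eqs.length ≤ n ∧ L ≤ Ms.length ∧ gd 0 Ms z = mneg)
    (hc : 2 * H28.PCD.ord V.lay ≤ Nat.card (Lc (2 ^ (L + 1) - 1) (l0 (Ms.take L ++ [mneg]))))
    (hn : p ^ e ∣ V.n ∧ ¬ p ^ e ∣ V.m ∧ ¬ p ^ (a + 1) ∣ V.m ∧ ¬ p * H28.PCD.ord V.lay ∣ 4157776806543360000) :
    PB Co1 p a := by
  have hz : mk1 (el mneg)⁻¹ = 1 := by
    rw [el_mneg, map_inv, inv_eq_one]; exact (QuotientGroup.eq_one_iff _).2 neg1_central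
  refine H28.PCD.pb (g := fun a => mk1 (l0 Ms a)) hp h1 h2 (fun q hq => ?_) ?_ card_Co1 hn
  · obtain ⟨i, hi, rfl⟩ := exists_gd ([], []) hq
    rw [← map_ev, ← map_ev]
    rcases hE i (by omega) with h | h
    · rw [h]
    · rw [h.1, map_mul, l0, if_pos h.2, hl.2.2, hz, one_mul]
  · set H := Lc (2 ^ (L + 1) - 1) (l0 (Ms.take L ++ [mneg]))
    have k1 : H.map mk1 ≤ Lc (2 ^ L - 1) fun a => mk1 (l0 Ms a) := by
      rw [Subgroup.map_le_iff_le_comap, Lc_le]
      intro b hb
      have hb := testBit_mask.1 hb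
      have ht : (Ms.take L).length = L := by simp [hl.2.1]
      rw [Subgroup.mem_comap, l0, if_pos (by simp [hl.2.1]; omega), gd_eq]
      by_cases h : b < L
      · rw [List.getD_append _ _ _ _ (by omega)]
        convert mem_Lc (fun a => mk1 (l0 Ms a)) (testBit_mask.2 h) using 2
        rw [l0, if_pos (by omega), gd_eq]
        simp [List.getD_eq_getElem?_getD, List.getElem?_take, h]
      · rw [List.getD_append_right _ _ _ _ (by omega), show b - (Ms.take L).length = 0 by omega]
        exact hz ▸ one_mem _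
    have k2 := (mk1.comp H.subtype).ker.card_mul_index
    rw [Subgroup.index_ker, MonoidHom.range_comp, Subgroup.range_subtype] at k2
    have k3 : Nat.card (mk1.comp H.subtype).ker ≤ 2 := by
      rw [← card_center]
      exact Nat.card_le_card_of_injective (fun y => ⟨y.1.1, (QuotientGroup.eq_one_iff _).1 y.2⟩)
        fun x y e => Subtype.ext (Subtype.ext (congrArg (fun t : Subgroup.center Co0 => t.1) e))
    have k4 := Subgroup.card_le_of_le k1
    nlinarith

theorem bound_congr {G H : Type} [Group G] [Group H] (e : H ≃* G) {m : ℕ}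
    (h : ∀ (Γ : Type) [Group Γ] [Finite Γ] (σ : Γ →* G), IsStemExtension σ → Nat.card σ.ker ≤ m)
    (Γ : Type) [Group Γ] [Finite Γ] (σ : Γ →* H) (hσ : IsStemExtension σ) : Nat.card σ.ker ≤ m := by
  have := h Γ ((e : H →* G).comp σ) ⟨e.surjective.comp hσ.1, by
    rw [MonoidHom.ker_mulEquiv_comp]; exact hσ.2⟩
  rwa [MonoidHom.ker_mulEquiv_comp] at this

end Cfsg.Agent.H25.Leech
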