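import Mathlib
import Cfsg.Agent.H25.Util
import Cfsg.Agent.H25.Co2O
import Cfsg.Agent.H25.CoX
import Cfsg.Agent.H25.X2

set_option maxRecDepth 100000
set_option linter.all false

namespace Cfsg.Agent.H25.Co1O
open Cfsg.Agent.H25

open Cfsg.Agent.H25.Leech Cfsg.Spor
open Cfsg.Agent.H25.Co2O (T B g c1_0 c1_1 c1_2 c1_3 c1_4 c1_5 sc2_0 ssc2 Rc2 hAM hinj hpd hB fullc1 fullc2)

def Ms : List ℕ := Co2O.Ms ++ [nat_lit 0x3294832946529463210841908321464208a4210842108428c65214a42988621064210842104428c6520c6419084210a4110442108428ca3214641908421064208843108418c63214a419084310a4210842108418ca520ca4190c318c8328c6518c63210842908320ca22106421084210c428c6520c641908421064218841108418c63214a419084210a421086210842946320ca6190843106421084210842946321464290c328c8318ca319463210841908520c64210a42108421884194653146419084208642108421084194a320c641988528c8528c65194a5210841908320c642106411044210841946520ca429084210a421084208841946511464190832948518ca518c65210842908321464210662108421082294a5214a41908318c85194a529465210841908320ca4210a6210842108218c6320c6429084210a421082210842946320ca2190851948318ca5194a32108419083214a31948528c63194652108419085214a,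 nat_lit 0x52086319084214a429084290a4294a3210a329084214a4190c4190a4194a5210a32908420c641908629064294a41948420c6329083214a3314832108419484214a529085214a320c85310841948410c651908520ca5214852108629484214631908520ca320c832108428c8420ca319045214a3214852108418c84214a32908520ca5214832088428c84214652908320ca32144521083210a5290842146428884290a429463210a31908220ca429084190642946429484214a519083314a521483210832106329084114a4190842906428c6429484214632988521465214852108418cc42146519085214632148321085210a32908420ca429084290a618c65210a5190c4214a4190842906419465210652908420ca419084198a429463210652908420ca62908429064194a42948220ca52908520c63214832108428c8420c6529085214a520c8321045110632908421464290841906419465210a528884214a4290841906428ca, mneg]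
def F : List ℕ := [nat_lit 0x600000200000100000080000040000020000010000008000004000002000001000000800000400000200000100000080000040000020000010000008000004000002000001000000c, nat_lit 0x2000002000001000000800000400000200000100000080000040000020000010000008000004000002000001000000800000400000200000100000080000040000020000010000004, nat_lit 0x3000002000001400000800000400000280000100000060000040000020000014000006000004000002000001000000800000400000180000100000080000040000020000014000008, nat_lit 0x500000200000140000080000040000020000014000008000004000002000000c00000600000400000180000100000080000040000020000010000008000004000001800001000000a, nat_lit 0x5000002000000c000008000004000001800001000000a000004000002000000c00000a00000400000200000100000080000040000028000010000008000004000002000000c000008, nat_lit 0x3000002000000c000008000004000002000000c000008000004000002000001400000a000004000002800001000000800000400000200000100000080000040000028000010000006, nat_lit 0x3000002800001000000800000400000200000100000080000030000020000014000008000004000002000001400000800000300000180000100000080000040000020000014000008,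 nat_lit 0x4000001800001400000800000400000280000100000060000050000020000010000006000004000002000000c00000800000500000200000100000080000040000020000010000008, nat_lit 0x300000200000140000080000040000020000014000008000004000002000000c000006000004000001800001000000800000400000200000100000080000040000018000010000006, nat_lit 0x500000180000100000080000040000020000010000008000005000002000000c000008000004000002000000c0000080000050000028000010000008000004000002000000c000008, nat_lit 0x4000002800000c000008000004000001800001000000a000003000002000001000000a000004000002000001400000800000300000200000100000080000040000020000010000008, nat_lit 0x5000002000000c000008000004000002000000c000008000004000002000001400000a00000400000280000100000080000040000020000010000008000004000002800001000000a]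
def D : List (List ℕ) := [[],
  [nat_lit 5],
  [nat_lit 3],
  [nat_lit 4],
  [nat_lit 5, nat_lit 3],
  [nat_lit 5, nat_lit 4],
  [nat_lit 3, nat_lit 4],
  [nat_lit 4, nat_lit 3],
  [nat_lit 4, nat_lit 4],
  [nat_lit 5, nat_lit 3, nat_lit 4],
  [nat_lit 5, nat_lit 4, nat_lit 3],
  [nat_lit 5, nat_lit 4, nat_lit 4]]
def d1 : List (List ℕ) := [[nat_lit 0, nat_lit 1, nat_lit 1, nat_lit 2, nat_lit 0, nat_lit 2, nat_lit 0, nat_lit 1, nat_lit 1, nat_lit 2, nat_lit 0, nat_lit 2, nat_lit 0, nat_lit 1, nat_lit 1, nat_lit 2, nat_lit 0, nat_lit 2, nat_lit 0, nat_lit 1, nat_lit 1, nat_lit 2, nat_lit 0, nat_lit 2, nat_lit 0, nat_lit 1, nat_lit 1, nat_lit 2, nat_lit 0, nat_lit 2, nat_lit 0, nat_lit 1, nat_lit 1, nat_lit 2, nat_lit 0, nat_lit 2],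
  [nat_lit 0, nat_lit 1, nat_lit 2, nat_lit 0, nat_lit 1, nat_lit 2, nat_lit 0, nat_lit 1, nat_lit 2, nat_lit 0, nat_lit 1, nat_lit 2, nat_lit 0, nat_lit 1, nat_lit 2, nat_lit 0, nat_lit 1, nat_lit 2, nat_lit 0, nat_lit 1, nat_lit 2, nat_lit 0, nat_lit 1, nat_lit 2, nat_lit 0, nat_lit 1, nat_lit 2, nat_lit 0, nat_lit 1, nat_lit 2, nat_lit 0, nat_lit 1, nat_lit 2, nat_lit 0, nat_lit 1, nat_lit 2, nat_lit 0, nat_lit 1, nat_lit 2, nat_lit 0, nat_lit 1, nat_lit 2],
  [nat_lit 0, nat_lit 2, nat_lit 0, nat_lit 2, nat_lit 2, nat_lit 1, nat_lit 2, nat_lit 0, nat_lit 2, nat_lit 0, nat_lit 2, nat_lit 2, nat_lit 1, nat_lit 2, nat_lit 0, nat_lit 2, nat_lit 0, nat_lit 2, nat_lit 2, nat_lit 1, nat_lit 2, nat_lit 0, nat_lit 2, nat_lit 0, nat_lit 2, nat_lit 2, nat_lit 1, nat_lit 2, nat_lit 0, nat_lit 2, nat_lit 0, nat_lit 2, nat_lit 2, nat_lit 1, nat_lit 2, nat_lit 0, nat_lit 2, nat_lit 0, nat_lit 2, nat_lit 2, nat_lit 1, nat_lit 2, nat_lit 0, nat_lit 2, nat_lit 0, nat_lit 2, nat_lit 2, nat_lit 1, nat_lit 2, nat_lit 0, nat_lit 2, nat_lit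 0, nat_lit 2, nat_lit 2, nat_lit 1, nat_lit 2, nat_lit 0, nat_lit 2, nat_lit 0, nat_lit 2, nat_lit 2, nat_lit 1, nat_lit 2, nat_lit 0, nat_lit 2, nat_lit 0, nat_lit 2, nat_lit 2, nat_lit 1, nat_lit 2, nat_lit 0, nat_lit 2, nat_lit 0, nat_lit 2, nat_lit 2, nat_lit 1, nat_lit 2, nat_lit 0, nat_lit 2, nat_lit 0, nat_lit 2, nat_lit 2, nat_lit 1, nat_lit 2, nat_lit 0, nat_lit 2, nat_lit 0, nat_lit 2, nat_lit 2, nat_lit 1, nat_lit 2, nat_lit 0, nat_lit 2, nat_lit 0, nat_lit 2, nat_lit 2, nat_lit 1, nat_lit 2, nat_lit 0, nat_lit 2, nat_lit 0, nat_lit 2, nat_lit 2, nat_lit 1, nat_lit 2, nat_lit 0, nat_lit 2, nat_lit 0, nat_lit 2, nat_lit 2, nat_lit 1, nat_lit 2, nat_lit 0, nat_lit 2, nat_lit 0, nat_lit 2, nat_lit 2, nat_lit 1, nat_lit 2, nat_lit 0, nat_lit 2, nat_lit 0, nat_lit 2, nat_lit 2, nat_lit 1, nat_lit 2, nat_lit 0, nat_lit 2, nat_lit 0, nat_lit 2, nat_lit 2, nat_lit 1, nat_lit 2, nat_lit 0, nat_lit 2, nat_lit 0, nat_lit 2, nat_lit 2, nat_lit 1, nat_lit 2]]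
def d2 : List (List ℕ) := [[nat_lit 0, nat_lit 1, nat_lit 0, nat_lit 1, nat_lit 0, nat_lit 2, nat_lit 1, nat_lit 0, nat_lit 1, nat_lit 0, nat_lit 1, nat_lit 0, nat_lit 2, nat_lit 1, nat_lit 0, nat_lit 1, nat_lit 0, nat_lit 1, nat_lit 0, nat_lit 2, nat_lit 1],
  [nat_lit 0, nat_lit 2, nat_lit 1, nat_lit 1, nat_lit 1, nat_lit 0, nat_lit 2, nat_lit 1, nat_lit 1, nat_lit 1, nat_lit 0, nat_lit 2, nat_lit 1, nat_lit 1, nat_lit 1, nat_lit 0, nat_lit 2, nat_lit 1, nat_lit 1, nat_lit 1, nat_lit 0, nat_lit 2, nat_lit 1, nat_lit 1, nat_lit 1, nat_lit 0, nat_lit 2, nat_lit 1, nat_lit 1, nat_lit 1, nat_lit 0, nat_lit 2, nat_lit 1, nat_lit 1, nat_lit 1, nat_lit 0, nat_lit 2, nat_lit 1, nat_lit 1, nat_lit 1, nat_lit 0, nat_lit 2, nat_lit 1, nat_lit 1, nat_lit 1, nat_lit 0, nat_lit 2, nat_lit 1, nat_lit 1, nat_lit 1, nat_lit 0, nat_lit 2, nat_lit 1, nat_lit 1, nat_lit 1, nat_lit 0, nat_lit 2, nat_lit 1, nat_lit 1, nat_lit 1]]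
def Rcc : RL := [([nat_lit 0], [nat_lit 0])]
noncomputable def scc_0 : St := ⟨c1_0, true, nat_lit 0, nat_lit 0, []⟩
noncomputable def scc_1 : St := ⟨c1_1, false, nat_lit 0, nat_lit 0, []⟩
noncomputable def scc_2 : St := ⟨c1_2, false, nat_lit 0, nat_lit 0, []⟩
noncomputable def scc_3 : St := ⟨c1_3, false, nat_lit 0, nat_lit 0, []⟩
noncomputable def scc_4 : St := ⟨c1_4, false, nat_lit 0, nat_lit 0, []⟩
noncomputable def scc_5 : St := ⟨c1_5, false, nat_lit 0, nat_lit 0, []⟩
noncomputable def sscc : List St := [scc_1, scc_2, scc_3, scc_4, scc_5]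
noncomputable def lfu (w : List ℕ) : Bool := anyL (fun k => eqv T B w (4 :: pw [2] k)) (List.range 11)

noncomputable def inF (x c n : ℕ) : Bool :=
  Bool.rec true (allLin (fun j => Bool.rec true false (Nat.beq (gd 0 F j) c)) 0 n).not (Nat.beq x c)

noncomputable def scan (lo hi : ℕ) : Bool :=
  forceT (prep (gd 0 Ms 0)) fun t => forceT (prep (gd 0 Ms 1)) fun s => allRange (fun i => force (mv i) fun c =>
    band (inF (t.act c) c 2) (inF (s.act c) c 12)) lo hi

noncomputable def actF (ts : List TR) (w : List ℕ) : ℕ → ℕ :=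
  List.rec (motive := fun _ => ℕ → ℕ) (fun c => c) (fun a _ ih c => force ((gd ⟨0, 0, 0⟩ ts a).act c) ih) w

noncomputable def eqF (ts : List TR) (u v : List ℕ) : Bool :=
  band (smallW 6 u) (band (smallW 6 v)
    (allLin (fun i => force (c8 i) fun c => Nat.beq (actF ts u c) (actF ts v c)) 0 24))

noncomputable def eq1 (ts : List TR) (u v : List ℕ) : Bool := Bool.rec (eqF ts u (5 :: v)) true (eqF ts u v)

noncomputable def ne1 (ts : List TR) (u v : List ℕ) : Bool :=
  band (smallW 6 u) (band (smallW 6 v) (force (actF ts u cV) fun a =>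
    band (Nat.beq a (actF ts v cV)).not (Nat.beq a (actF ts (app v [5]) cV)).not))

noncomputable def cand (t : List ℕ) (dead : List (List ℕ)) (k lo hi : ℕ) : Bool :=
  prepL Ms fun ts => allRange (fun j => allLin (fun i =>
    fin3 (eq1 ts) (ne1 ts) t t [1] [0] dead k (2 :: app (pw [1] i) (gd [] D j))) 0 11) lo hi

end Cfsg.Agent.H25.Co1O
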