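import Mathlib
import Cfsg.Agent.H25.Util
import Cfsg.Agent.H25.Co1OA

set_option maxRecDepth 100000
set_option linter.all false

namespace Cfsg.Agent.H25.Co1O
open Cfsg.Agent.H25

open Cfsg.Agent.H25.Leech Cfsg.Spor
open Cfsg.Agent.H25.Co2O (T B g c1_0 c1_1 c1_2 c1_3 c1_4 c1_5 sc2_0 ssc2 Rc2 hAM hinj hpd hB fullc1 fullc2)

theorem ca0 : cand [2] d1 1 0 3 = true := by decide +kernel
theorem ca1 : cand [2] d1 1 3 6 = true := by decide +kernel
theorem ca2 : cand [2] d1 1 6 9 = true := by decide +kernel
theorem ca3 : cand [2] d1 1 9 12 = true := by decide +kernel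
theorem cb0 : cand [2] d1 5 0 3 = true := by decide +kernel
theorem cb1 : cand [2] d1 5 3 6 = true := by decide +kernel
theorem cb2 : cand [2] d1 5 6 9 = true := by decide +kernel
theorem cb3 : cand [2] d1 5 9 12 = true := by decide +kernel
theorem cc0 : cand [2, 3] d2 1 0 3 = true := by decide +kernel
theorem cc1 : cand [2, 3] d2 1 3 6 = true := by decide +kernel
theorem cc2 : cand [2, 3] d2 1 6 9 = true := by decide +kernel
theorem cc3 : cand [2, 3] d2 1 9 12 = true := by decide +kernel
theorem hd : (prepL Ms fun ts => band (allL (fun d => eq1 ts (expand [[2], [1], [0]] d) []) d1)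
    (allL (fun d => eq1 ts (expand [[2, 3], [1], [0]] d) []) d2)) = true := by decide +kernel
end Cfsg.Agent.H25.Co1O
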