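import Mathlib
import Cfsg.Agent.H25.Util
import Cfsg.Agent.H25.Co1OA

set_option maxRecDepth 100000
set_option linter.all false

namespace Cfsg.Agent.H25.Co1O
open Cfsg.Agent.H25

open Cfsg.Agent.H25.Leech Cfsg.Spor
open Cfsg.Agent.H25.Co2O (T B g c1_0 c1_1 c1_2 c1_3 c1_4 c1_5 sc2_0 ssc2 Rc2 hAM hinj hpd hB fullc1 fullc2)

theorem rcc_0 : allRange (St.row scc_0 T Rcc (bt T Rcc (inPw T B [0] 23) sscc) [] []) (nat_lit 0) (nat_lit 4600) = true := by decide +kernel
theorem tlcc : TL T g Rcc (inPw T B [0] 23) :=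
  bt_top (s := scc_0) (ss := sscc) hAM hinj hpd fullc1 rfl (by decide +kernel) (rng_all (allRange_sound rcc_0))

theorem rcu : allRange (St.row sc2_0 T Rc2 (bt T Rc2 lfu ssc2) [] []) (nat_lit 0) (nat_lit 4600) = true := by decide +kernel
theorem tlcu : TL T g Rc2 lfu :=
  bt_top (s := sc2_0) (ss := ssc2) hAM hinj hpd fullc2 rfl (by decide +kernel) (rng_all (allRange_sound rcu))

end Cfsg.Agent.H25.Co1O
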