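import Mathlib
import Cfsg.Agent.H25.Util
import Cfsg.Agent.H25.X3
import Cfsg.Agent.H25.Co1OA

set_option maxRecDepth 100000
set_option linter.all false

namespace Cfsg.Agent.H25.Co1O
open Cfsg.Agent.H25

open Cfsg.Agent.H25.Leech Cfsg.Spor
open Cfsg.Agent.H25.Co2O (T B g c1_0 c1_1 c1_2 c1_3 c1_4 c1_5 sc2_0 ssc2 Rc2 hAM hinj hpd hB fullc1 fullc2)

def ScP (i : ℕ) : Prop := ∀ a < 2, (prep (gd 0 Ms a)).act (mv i) = mv i → ∃ j < 2 + 10 * a, gd 0 F j = mv i

theorem scan_aux {x c n : ℕ} (h : inF x c n = true) (e : x = c) : ∃ j < n, gd 0 F j = c := by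
  rw [inF, e, Nat.beq_refl] at h
  by_contra hc
  rw [allLin_of fun j _ hj => by
    rw [Bool.eq_false_iff.2 fun a => hc ⟨j, by omega, Nat.eq_of_beq_eq_true a⟩]] at h
  cases h

theorem scan_rng {lo hi : ℕ} (h : scan lo hi = true) : ∀ i, lo ≤ i → i < hi → ScP i := fun i a b k hk => by
  rw [scan, forceT_eq, forceT_eq] at h
  have := allRange_sound h i a b
  rw [force_eq] at this
  interval_cases k
  exacts [scan_aux (band_l this), scan_aux (band_r this)]

end Cfsg.Agent.H25.Co1O
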