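import Mathlib
import Cfsg.Agent.H25.Util
import Cfsg.Agent.H25.Co1OB

set_option maxRecDepth 100000
set_option linter.all false

namespace Cfsg.Agent.H25.Co1O
open Cfsg.Agent.H25

theorem s0 : scan (nat_lit 0) (nat_lit 504) = true := by decide +kernel
theorem s1 : scan (nat_lit 504) (nat_lit 1008) = true := by decide +kernel
theorem s2 : scan (nat_lit 1008) (nat_lit 1512) = true := by decide +kernel
theorem s3 : scan (nat_lit 1512) (nat_lit 2016) = true := by decide +kernel
theorem s4 : scan (nat_lit 2016) (nat_lit 2520) = true := by decide +kernel
theorem s5 : scan (nat_lit 2520) (nat_lit 3024) = true := by decide +kernel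
theorem s6 : scan (nat_lit 3024) (nat_lit 3528) = true := by decide +kernel
theorem s7 : scan (nat_lit 3528) (nat_lit 4032) = true := by decide +kernel
theorem s8 : scan (nat_lit 4032) (nat_lit 4536) = true := by decide +kernel
theorem s9 : scan (nat_lit 4536) (nat_lit 5040) = true := by decide +kernel
theorem s10 : scan (nat_lit 5040) (nat_lit 5544) = true := by decide +kernel
theorem s11 : scan (nat_lit 5544) (nat_lit 6048) = true := by decide +kernel
theorem s12 : scan (nat_lit 6048) (nat_lit 6552) = true := by decide +kernel
theorem s13 : scan (nat_lit 6552) (nat_lit 7056) = true := by decide +kernel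
theorem s14 : scan (nat_lit 7056) (nat_lit 7560) = true := by decide +kernel
theorem s15 : scan (nat_lit 7560) (nat_lit 8064) = true := by decide +kernel
theorem s16 : scan (nat_lit 8064) (nat_lit 8568) = true := by decide +kernel
theorem s17 : scan (nat_lit 8568) (nat_lit 9072) = true := by decide +kernel
theorem s18 : scan (nat_lit 9072) (nat_lit 9576) = true := by decide +kernel
theorem s19 : scan (nat_lit 9576) (nat_lit 10080) = true := by decide +kernel
theorem s20 : scan (nat_lit 10080) (nat_lit 10584) = true := by decide +kernel
theorem s21 : scan (nat_lit 10584) (nat_lit 11088) = true := by decide +kernel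
theorem s22 : scan (nat_lit 11088) (nat_lit 11592) = true := by decide +kernel
theorem s23 : scan (nat_lit 11592) (nat_lit 12096) = true := by decide +kernel
theorem s24 : scan (nat_lit 12096) (nat_lit 12600) = true := by decide +kernel
theorem s25 : scan (nat_lit 12600) (nat_lit 13104) = true := by decide +kernel
theorem s26 : scan (nat_lit 13104) (nat_lit 13608) = true := by decide +kernel
theorem s27 : scan (nat_lit 13608) (nat_lit 14112) = true := by decide +kernel
theorem s28 : scan (nat_lit 14112) (nat_lit 14616) = true := by decide +kernel
theorem s29 : scan (nat_lit 14616) (nat_lit 15120) = true := by decide +kernel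
theorem s30 : scan (nat_lit 15120) (nat_lit 15624) = true := by decide +kernel
theorem s31 : scan (nat_lit 15624) (nat_lit 16128) = true := by decide +kernel
theorem s32 : scan (nat_lit 16128) (nat_lit 16632) = true := by decide +kernel
theorem s33 : scan (nat_lit 16632) (nat_lit 17136) = true := by decide +kernel
theorem s34 : scan (nat_lit 17136) (nat_lit 17640) = true := by decide +kernel
theorem s35 : scan (nat_lit 17640) (nat_lit 18144) = true := by decide +kernel
theorem s36 : scan (nat_lit 18144) (nat_lit 18648) = true := by decide +kernel
theorem s37 : scan (nat_lit 18648) (nat_lit 19152) = true := by decide +kernel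
theorem s38 : scan (nat_lit 19152) (nat_lit 19656) = true := by decide +kernel
theorem s39 : scan (nat_lit 19656) (nat_lit 20160) = true := by decide +kernel
theorem s40 : scan (nat_lit 20160) (nat_lit 20664) = true := by decide +kernel
theorem s41 : scan (nat_lit 20664) (nat_lit 21168) = true := by decide +kernel
theorem s42 : scan (nat_lit 21168) (nat_lit 21672) = true := by decide +kernel
theorem s43 : scan (nat_lit 21672) (nat_lit 22176) = true := by decide +kernel
theorem s44 : scan (nat_lit 22176) (nat_lit 22680) = true := by decide +kernel
theorem s45 : scan (nat_lit 22680) (nat_lit 23184) = true := by decide +kernel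
theorem s46 : scan (nat_lit 23184) (nat_lit 23688) = true := by decide +kernel
theorem s47 : scan (nat_lit 23688) (nat_lit 24192) = true := by decide +kernel
theorem s48 : scan (nat_lit 24192) (nat_lit 24696) = true := by decide +kernel
theorem s49 : scan (nat_lit 24696) (nat_lit 25200) = true := by decide +kernel
theorem s50 : scan (nat_lit 25200) (nat_lit 25704) = true := by decide +kernel
theorem s51 : scan (nat_lit 25704) (nat_lit 26208) = true := by decide +kernel
theorem s52 : scan (nat_lit 26208) (nat_lit 26712) = true := by decide +kernel
theorem s53 : scan (nat_lit 26712) (nat_lit 27216) = true := by decide +kernel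
theorem s54 : scan (nat_lit 27216) (nat_lit 27720) = true := by decide +kernel
theorem s55 : scan (nat_lit 27720) (nat_lit 28224) = true := by decide +kernel
theorem s56 : scan (nat_lit 28224) (nat_lit 28728) = true := by decide +kernel
theorem s57 : scan (nat_lit 28728) (nat_lit 29232) = true := by decide +kernel
theorem s58 : scan (nat_lit 29232) (nat_lit 29736) = true := by decide +kernel
theorem s59 : scan (nat_lit 29736) (nat_lit 30240) = true := by decide +kernel
theorem s60 : scan (nat_lit 30240) (nat_lit 30744) = true := by decide +kernel
theorem s61 : scan (nat_lit 30744) (nat_lit 31248) = true := by decide +kernel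
theorem s62 : scan (nat_lit 31248) (nat_lit 31752) = true := by decide +kernel
theorem s63 : scan (nat_lit 31752) (nat_lit 32256) = true := by decide +kernel
theorem s64 : scan (nat_lit 32256) (nat_lit 32760) = true := by decide +kernel
theorem sc0 : ∀ i, 0 ≤ i → i < 32760 → ScP i :=
  rng_join (rng_join (rng_join (rng_join (rng_join (rng_join (rng_join (rng_join (rng_join (rng_join (rng_join (rng_join (rng_join (rng_join (rng_join (rng_join (rng_join (rng_join (rng_join (rng_join (rng_join (rng_join (rng_join (rng_join (rng_join (rng_join (rng_join (rng_join (rng_join (rng_join (rng_join (rng_join (rng_join (rng_join (rng_join (rng_join (rng_join (rng_join (rng_join (rng_join (rng_join (rng_join (rng_join (rng_join (rng_join (rng_join (rng_join (rng_join (rng_join (rng_join (rng_join (rng_join (rng_join (rng_join (rng_join (rng_join (rng_join (rng_join (rng_join (rng_join (rng_join (rng_join (rng_join (rng_join (scan_rng s0) (scan_rng s1)) (scan_rng s2)) (scan_rng s3)) (scan_rng s4)) (scan_rng s5)) (scan_rng s6)) (scan_rng s7)) (scan_rng s8)) (scan_rng s9)) (scan_rng s10)) (scan_rng s11)) (scan_rng s12)) (scan_rng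 s13)) (scan_rng s14)) (scan_rng s15)) (scan_rng s16)) (scan_rng s17)) (scan_rng s18)) (scan_rng s19)) (scan_rng s20)) (scan_rng s21)) (scan_rng s22)) (scan_rng s23)) (scan_rng s24)) (scan_rng s25)) (scan_rng s26)) (scan_rng s27)) (scan_rng s28)) (scan_rng s29)) (scan_rng s30)) (scan_rng s31)) (scan_rng s32)) (scan_rng s33)) (scan_rng s34)) (scan_rng s35)) (scan_rng s36)) (scan_rng s37)) (scan_rng s38)) (scan_rng s39)) (scan_rng s40)) (scan_rng s41)) (scan_rng s42)) (scan_rng s43)) (scan_rng s44)) (scan_rng s45)) (scan_rng s46)) (scan_rng s47)) (scan_rng s48)) (scan_rng s49)) (scan_rng s50)) (scan_rng s51)) (scan_rng s52)) (scan_rng s53)) (scan_rng s54)) (scan_rng s55)) (scan_rng s56)) (scan_rng s57)) (scan_rng s58)) (scan_rng s59)) (scan_rng s60)) (scan_rng s61)) (scan_rng s62)) (scan_rng s63)) (scan_rng s64)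

end Cfsg.Agent.H25.Co1O
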