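import Mathlib
import Cfsg.Agent.H25.Util
import Cfsg.Agent.H25.Co1OB

set_option maxRecDepth 100000
set_option linter.all false

namespace Cfsg.Agent.H25.Co1O
open Cfsg.Agent.H25

theorem s65 : scan (nat_lit 32760) (nat_lit 33264) = true := by decide +kernel
theorem s66 : scan (nat_lit 33264) (nat_lit 33768) = true := by decide +kernel
theorem s67 : scan (nat_lit 33768) (nat_lit 34272) = true := by decide +kernel
theorem s68 : scan (nat_lit 34272) (nat_lit 34776) = true := by decide +kernel
theorem s69 : scan (nat_lit 34776) (nat_lit 35280) = true := by decide +kernel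
theorem s70 : scan (nat_lit 35280) (nat_lit 35784) = true := by decide +kernel
theorem s71 : scan (nat_lit 35784) (nat_lit 36288) = true := by decide +kernel
theorem s72 : scan (nat_lit 36288) (nat_lit 36792) = true := by decide +kernel
theorem s73 : scan (nat_lit 36792) (nat_lit 37296) = true := by decide +kernel
theorem s74 : scan (nat_lit 37296) (nat_lit 37800) = true := by decide +kernel
theorem s75 : scan (nat_lit 37800) (nat_lit 38304) = true := by decide +kernel
theorem s76 : scan (nat_lit 38304) (nat_lit 38808) = true := by decide +kernel
theorem s77 : scan (nat_lit 38808) (nat_lit 39312) = true := by decide +kernel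
theorem s78 : scan (nat_lit 39312) (nat_lit 39816) = true := by decide +kernel
theorem s79 : scan (nat_lit 39816) (nat_lit 40320) = true := by decide +kernel
theorem s80 : scan (nat_lit 40320) (nat_lit 40824) = true := by decide +kernel
theorem s81 : scan (nat_lit 40824) (nat_lit 41328) = true := by decide +kernel
theorem s82 : scan (nat_lit 41328) (nat_lit 41832) = true := by decide +kernel
theorem s83 : scan (nat_lit 41832) (nat_lit 42336) = true := by decide +kernel
theorem s84 : scan (nat_lit 42336) (nat_lit 42840) = true := by decide +kernel
theorem s85 : scan (nat_lit 42840) (nat_lit 43344) = true := by decide +kernel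
theorem s86 : scan (nat_lit 43344) (nat_lit 43848) = true := by decide +kernel
theorem s87 : scan (nat_lit 43848) (nat_lit 44352) = true := by decide +kernel
theorem s88 : scan (nat_lit 44352) (nat_lit 44856) = true := by decide +kernel
theorem s89 : scan (nat_lit 44856) (nat_lit 45360) = true := by decide +kernel
theorem s90 : scan (nat_lit 45360) (nat_lit 45864) = true := by decide +kernel
theorem s91 : scan (nat_lit 45864) (nat_lit 46368) = true := by decide +kernel
theorem s92 : scan (nat_lit 46368) (nat_lit 46872) = true := by decide +kernel
theorem s93 : scan (nat_lit 46872) (nat_lit 47376) = true := by decide +kernel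
theorem s94 : scan (nat_lit 47376) (nat_lit 47880) = true := by decide +kernel
theorem s95 : scan (nat_lit 47880) (nat_lit 48384) = true := by decide +kernel
theorem s96 : scan (nat_lit 48384) (nat_lit 48888) = true := by decide +kernel
theorem s97 : scan (nat_lit 48888) (nat_lit 49392) = true := by decide +kernel
theorem s98 : scan (nat_lit 49392) (nat_lit 49896) = true := by decide +kernel
theorem s99 : scan (nat_lit 49896) (nat_lit 50400) = true := by decide +kernel
theorem s100 : scan (nat_lit 50400) (nat_lit 50904) = true := by decide +kernel
theorem s101 : scan (nat_lit 50904) (nat_lit 51408) = true := by decide +kernel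
theorem s102 : scan (nat_lit 51408) (nat_lit 51912) = true := by decide +kernel
theorem s103 : scan (nat_lit 51912) (nat_lit 52416) = true := by decide +kernel
theorem s104 : scan (nat_lit 52416) (nat_lit 52920) = true := by decide +kernel
theorem s105 : scan (nat_lit 52920) (nat_lit 53424) = true := by decide +kernel
theorem s106 : scan (nat_lit 53424) (nat_lit 53928) = true := by decide +kernel
theorem s107 : scan (nat_lit 53928) (nat_lit 54432) = true := by decide +kernel
theorem s108 : scan (nat_lit 54432) (nat_lit 54936) = true := by decide +kernel
theorem s109 : scan (nat_lit 54936) (nat_lit 55440) = true := by decide +kernel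
theorem s110 : scan (nat_lit 55440) (nat_lit 55944) = true := by decide +kernel
theorem s111 : scan (nat_lit 55944) (nat_lit 56448) = true := by decide +kernel
theorem s112 : scan (nat_lit 56448) (nat_lit 56952) = true := by decide +kernel
theorem s113 : scan (nat_lit 56952) (nat_lit 57456) = true := by decide +kernel
theorem s114 : scan (nat_lit 57456) (nat_lit 57960) = true := by decide +kernel
theorem s115 : scan (nat_lit 57960) (nat_lit 58464) = true := by decide +kernel
theorem s116 : scan (nat_lit 58464) (nat_lit 58968) = true := by decide +kernel
theorem s117 : scan (nat_lit 58968) (nat_lit 59472) = true := by decide +kernel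
theorem s118 : scan (nat_lit 59472) (nat_lit 59976) = true := by decide +kernel
theorem s119 : scan (nat_lit 59976) (nat_lit 60480) = true := by decide +kernel
theorem s120 : scan (nat_lit 60480) (nat_lit 60984) = true := by decide +kernel
theorem s121 : scan (nat_lit 60984) (nat_lit 61488) = true := by decide +kernel
theorem s122 : scan (nat_lit 61488) (nat_lit 61992) = true := by decide +kernel
theorem s123 : scan (nat_lit 61992) (nat_lit 62496) = true := by decide +kernel
theorem s124 : scan (nat_lit 62496) (nat_lit 63000) = true := by decide +kernel
theorem s125 : scan (nat_lit 63000) (nat_lit 63504) = true := by decide +kernel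
theorem s126 : scan (nat_lit 63504) (nat_lit 64008) = true := by decide +kernel
theorem s127 : scan (nat_lit 64008) (nat_lit 64512) = true := by decide +kernel
theorem s128 : scan (nat_lit 64512) (nat_lit 65016) = true := by decide +kernel
theorem s129 : scan (nat_lit 65016) (nat_lit 65520) = true := by decide +kernel
theorem sc1 : ∀ i, 32760 ≤ i → i < 65520 → ScP i :=
  rng_join (rng_join (rng_join (rng_join (rng_join (rng_join (rng_join (rng_join (rng_join (rng_join (rng_join (rng_join (rng_join (rng_join (rng_join (rng_join (rng_join (rng_join (rng_join (rng_join (rng_join (rng_join (rng_join (rng_join (rng_join (rng_join (rng_join (rng_join (rng_join (rng_join (rng_join (rng_join (rng_join (rng_join (rng_join (rng_join (rng_join (rng_join (rng_join (rng_join (rng_join (rng_join (rng_join (rng_join (rng_join (rng_join (rng_join (rng_join (rng_join (rng_join (rng_join (rng_join (rng_join (rng_join (rng_join (rng_join (rng_join (rng_join (rng_join (rng_join (rng_join (rng_join (rng_join (rng_join (scan_rng s65) (scan_rng s66)) (scan_rng s67)) (scan_rng s68)) (scan_rng s69)) (scan_rng s70)) (scan_rng s71)) (scan_rng s72)) (scan_rng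 s73)) (scan_rng s74)) (scan_rng s75)) (scan_rng s76)) (scan_rng s77)) (scan_rng s78)) (scan_rng s79)) (scan_rng s80)) (scan_rng s81)) (scan_rng s82)) (scan_rng s83)) (scan_rng s84)) (scan_rng s85)) (scan_rng s86)) (scan_rng s87)) (scan_rng s88)) (scan_rng s89)) (scan_rng s90)) (scan_rng s91)) (scan_rng s92)) (scan_rng s93)) (scan_rng s94)) (scan_rng s95)) (scan_rng s96)) (scan_rng s97)) (scan_rng s98)) (scan_rng s99)) (scan_rng s100)) (scan_rng s101)) (scan_rng s102)) (scan_rng s103)) (scan_rng s104)) (scan_rng s105)) (scan_rng s106)) (scan_rng s107)) (scan_rng s108)) (scan_rng s109)) (scan_rng s110)) (scan_rng s111)) (scan_rng s112)) (scan_rng s113)) (scan_rng s114)) (scan_rng s115)) (scan_rng s116)) (scan_rng s117)) (scan_rng s118)) (scan_rng s119)) (scan_rng s120)) (scan_rng s121)) (scan_rng s122)) (scan_rng s123)) (scan_rng s124)) (scan_rng s125)) (scan_rng s126)) (scan_rng s127)) (scan_rng s128)) (scan_rng s129)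

end Cfsg.Agent.H25.Co1O
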