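import Mathlib
import Cfsg.Agent.H25.Util
import Cfsg.Agent.H25.Co1OB

set_option maxRecDepth 100000
set_option linter.all false

namespace Cfsg.Agent.H25.Co1O
open Cfsg.Agent.H25

theorem s130 : scan (nat_lit 65520) (nat_lit 66024) = true := by decide +kernel
theorem s131 : scan (nat_lit 66024) (nat_lit 66528) = true := by decide +kernel
theorem s132 : scan (nat_lit 66528) (nat_lit 67032) = true := by decide +kernel
theorem s133 : scan (nat_lit 67032) (nat_lit 67536) = true := by decide +kernel
theorem s134 : scan (nat_lit 67536) (nat_lit 68040) = true := by decide +kernel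
theorem s135 : scan (nat_lit 68040) (nat_lit 68544) = true := by decide +kernel
theorem s136 : scan (nat_lit 68544) (nat_lit 69048) = true := by decide +kernel
theorem s137 : scan (nat_lit 69048) (nat_lit 69552) = true := by decide +kernel
theorem s138 : scan (nat_lit 69552) (nat_lit 70056) = true := by decide +kernel
theorem s139 : scan (nat_lit 70056) (nat_lit 70560) = true := by decide +kernel
theorem s140 : scan (nat_lit 70560) (nat_lit 71064) = true := by decide +kernel
theorem s141 : scan (nat_lit 71064) (nat_lit 71568) = true := by decide +kernel
theorem s142 : scan (nat_lit 71568) (nat_lit 72072) = true := by decide +kernel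
theorem s143 : scan (nat_lit 72072) (nat_lit 72576) = true := by decide +kernel
theorem s144 : scan (nat_lit 72576) (nat_lit 73080) = true := by decide +kernel
theorem s145 : scan (nat_lit 73080) (nat_lit 73584) = true := by decide +kernel
theorem s146 : scan (nat_lit 73584) (nat_lit 74088) = true := by decide +kernel
theorem s147 : scan (nat_lit 74088) (nat_lit 74592) = true := by decide +kernel
theorem s148 : scan (nat_lit 74592) (nat_lit 75096) = true := by decide +kernel
theorem s149 : scan (nat_lit 75096) (nat_lit 75600) = true := by decide +kernel
theorem s150 : scan (nat_lit 75600) (nat_lit 76104) = true := by decide +kernel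
theorem s151 : scan (nat_lit 76104) (nat_lit 76608) = true := by decide +kernel
theorem s152 : scan (nat_lit 76608) (nat_lit 77112) = true := by decide +kernel
theorem s153 : scan (nat_lit 77112) (nat_lit 77616) = true := by decide +kernel
theorem s154 : scan (nat_lit 77616) (nat_lit 78120) = true := by decide +kernel
theorem s155 : scan (nat_lit 78120) (nat_lit 78624) = true := by decide +kernel
theorem s156 : scan (nat_lit 78624) (nat_lit 79128) = true := by decide +kernel
theorem s157 : scan (nat_lit 79128) (nat_lit 79632) = true := by decide +kernel
theorem s158 : scan (nat_lit 79632) (nat_lit 80136) = true := by decide +kernel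
theorem s159 : scan (nat_lit 80136) (nat_lit 80640) = true := by decide +kernel
theorem s160 : scan (nat_lit 80640) (nat_lit 81144) = true := by decide +kernel
theorem s161 : scan (nat_lit 81144) (nat_lit 81648) = true := by decide +kernel
theorem s162 : scan (nat_lit 81648) (nat_lit 82152) = true := by decide +kernel
theorem s163 : scan (nat_lit 82152) (nat_lit 82656) = true := by decide +kernel
theorem s164 : scan (nat_lit 82656) (nat_lit 83160) = true := by decide +kernel
theorem s165 : scan (nat_lit 83160) (nat_lit 83664) = true := by decide +kernel
theorem s166 : scan (nat_lit 83664) (nat_lit 84168) = true := by decide +kernel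
theorem s167 : scan (nat_lit 84168) (nat_lit 84672) = true := by decide +kernel
theorem s168 : scan (nat_lit 84672) (nat_lit 85176) = true := by decide +kernel
theorem s169 : scan (nat_lit 85176) (nat_lit 85680) = true := by decide +kernel
theorem s170 : scan (nat_lit 85680) (nat_lit 86184) = true := by decide +kernel
theorem s171 : scan (nat_lit 86184) (nat_lit 86688) = true := by decide +kernel
theorem s172 : scan (nat_lit 86688) (nat_lit 87192) = true := by decide +kernel
theorem s173 : scan (nat_lit 87192) (nat_lit 87696) = true := by decide +kernel
theorem s174 : scan (nat_lit 87696) (nat_lit 88200) = true := by decide +kernel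
theorem s175 : scan (nat_lit 88200) (nat_lit 88704) = true := by decide +kernel
theorem s176 : scan (nat_lit 88704) (nat_lit 89208) = true := by decide +kernel
theorem s177 : scan (nat_lit 89208) (nat_lit 89712) = true := by decide +kernel
theorem s178 : scan (nat_lit 89712) (nat_lit 90216) = true := by decide +kernel
theorem s179 : scan (nat_lit 90216) (nat_lit 90720) = true := by decide +kernel
theorem s180 : scan (nat_lit 90720) (nat_lit 91224) = true := by decide +kernel
theorem s181 : scan (nat_lit 91224) (nat_lit 91728) = true := by decide +kernel
theorem s182 : scan (nat_lit 91728) (nat_lit 92232) = true := by decide +kernel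
theorem s183 : scan (nat_lit 92232) (nat_lit 92736) = true := by decide +kernel
theorem s184 : scan (nat_lit 92736) (nat_lit 93240) = true := by decide +kernel
theorem s185 : scan (nat_lit 93240) (nat_lit 93744) = true := by decide +kernel
theorem s186 : scan (nat_lit 93744) (nat_lit 94248) = true := by decide +kernel
theorem s187 : scan (nat_lit 94248) (nat_lit 94752) = true := by decide +kernel
theorem s188 : scan (nat_lit 94752) (nat_lit 95256) = true := by decide +kernel
theorem s189 : scan (nat_lit 95256) (nat_lit 95760) = true := by decide +kernel
theorem s190 : scan (nat_lit 95760) (nat_lit 96264) = true := by decide +kernel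
theorem s191 : scan (nat_lit 96264) (nat_lit 96768) = true := by decide +kernel
theorem s192 : scan (nat_lit 96768) (nat_lit 97272) = true := by decide +kernel
theorem s193 : scan (nat_lit 97272) (nat_lit 97776) = true := by decide +kernel
theorem s194 : scan (nat_lit 97776) (nat_lit 98280) = true := by decide +kernel
theorem sc2 : ∀ i, 65520 ≤ i → i < 98280 → ScP i :=
  rng_join (rng_join (rng_join (rng_join (rng_join (rng_join (rng_join (rng_join (rng_join (rng_join (rng_join (rng_join (rng_join (rng_join (rng_join (rng_join (rng_join (rng_join (rng_join (rng_join (rng_join (rng_join (rng_join (rng_join (rng_join (rng_join (rng_join (rng_join (rng_join (rng_join (rng_join (rng_join (rng_join (rng_join (rng_join (rng_join (rng_join (rng_join (rng_join (rng_join (rng_join (rng_join (rng_join (rng_join (rng_join (rng_join (rng_join (rng_join (rng_join (rng_join (rng_join (rng_join (rng_join (rng_join (rng_join (rng_join (rng_join (rng_join (rng_join (rng_join (rng_join (rng_join (rng_join (rng_join (scan_rng s130) (scan_rng s131)) (scan_rng s132)) (scan_rng s133)) (scan_rng s134)) (scan_rng s135)) (scan_rng s136)) (scan_rng s137)) (scan_rng s138))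 (scan_rng s139)) (scan_rng s140)) (scan_rng s141)) (scan_rng s142)) (scan_rng s143)) (scan_rng s144)) (scan_rng s145)) (scan_rng s146)) (scan_rng s147)) (scan_rng s148)) (scan_rng s149)) (scan_rng s150)) (scan_rng s151)) (scan_rng s152)) (scan_rng s153)) (scan_rng s154)) (scan_rng s155)) (scan_rng s156)) (scan_rng s157)) (scan_rng s158)) (scan_rng s159)) (scan_rng s160)) (scan_rng s161)) (scan_rng s162)) (scan_rng s163)) (scan_rng s164)) (scan_rng s165)) (scan_rng s166)) (scan_rng s167)) (scan_rng s168)) (scan_rng s169)) (scan_rng s170)) (scan_rng s171)) (scan_rng s172)) (scan_rng s173)) (scan_rng s174)) (scan_rng s175)) (scan_rng s176)) (scan_rng s177)) (scan_rng s178)) (scan_rng s179)) (scan_rng s180)) (scan_rng s181)) (scan_rng s182)) (scan_rng s183)) (scan_rng s184)) (scan_rng s185)) (scan_rng s186)) (scan_rng s187)) (scan_rng s188)) (scan_rng s189)) (scan_rng s190)) (scan_rng s191)) (scan_rng s192)) (scan_rng s193)) (scan_rng s194)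

end Cfsg.Agent.H25.Co1O
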