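import Mathlib
import Cfsg.Agent.H25.Util
import Cfsg.Agent.H25.Co1OB

set_option maxRecDepth 100000
set_option linter.all false

namespace Cfsg.Agent.H25.Co1O
open Cfsg.Agent.H25

theorem s195 : scan (nat_lit 98280) (nat_lit 98784) = true := by decide +kernel
theorem s196 : scan (nat_lit 98784) (nat_lit 99288) = true := by decide +kernel
theorem s197 : scan (nat_lit 99288) (nat_lit 99792) = true := by decide +kernel
theorem s198 : scan (nat_lit 99792) (nat_lit 100296) = true := by decide +kernel
theorem s199 : scan (nat_lit 100296) (nat_lit 100800) = true := by decide +kernel
theorem s200 : scan (nat_lit 100800) (nat_lit 101304) = true := by decide +kernel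
theorem s201 : scan (nat_lit 101304) (nat_lit 101808) = true := by decide +kernel
theorem s202 : scan (nat_lit 101808) (nat_lit 102312) = true := by decide +kernel
theorem s203 : scan (nat_lit 102312) (nat_lit 102816) = true := by decide +kernel
theorem s204 : scan (nat_lit 102816) (nat_lit 103320) = true := by decide +kernel
theorem s205 : scan (nat_lit 103320) (nat_lit 103824) = true := by decide +kernel
theorem s206 : scan (nat_lit 103824) (nat_lit 104328) = true := by decide +kernel
theorem s207 : scan (nat_lit 104328) (nat_lit 104832) = true := by decide +kernel
theorem s208 : scan (nat_lit 104832) (nat_lit 105336) = true := by decide +kernel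
theorem s209 : scan (nat_lit 105336) (nat_lit 105840) = true := by decide +kernel
theorem s210 : scan (nat_lit 105840) (nat_lit 106344) = true := by decide +kernel
theorem s211 : scan (nat_lit 106344) (nat_lit 106848) = true := by decide +kernel
theorem s212 : scan (nat_lit 106848) (nat_lit 107352) = true := by decide +kernel
theorem s213 : scan (nat_lit 107352) (nat_lit 107856) = true := by decide +kernel
theorem s214 : scan (nat_lit 107856) (nat_lit 108360) = true := by decide +kernel
theorem s215 : scan (nat_lit 108360) (nat_lit 108864) = true := by decide +kernel
theorem s216 : scan (nat_lit 108864) (nat_lit 109368) = true := by decide +kernel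
theorem s217 : scan (nat_lit 109368) (nat_lit 109872) = true := by decide +kernel
theorem s218 : scan (nat_lit 109872) (nat_lit 110376) = true := by decide +kernel
theorem s219 : scan (nat_lit 110376) (nat_lit 110880) = true := by decide +kernel
theorem s220 : scan (nat_lit 110880) (nat_lit 111384) = true := by decide +kernel
theorem s221 : scan (nat_lit 111384) (nat_lit 111888) = true := by decide +kernel
theorem s222 : scan (nat_lit 111888) (nat_lit 112392) = true := by decide +kernel
theorem s223 : scan (nat_lit 112392) (nat_lit 112896) = true := by decide +kernel
theorem s224 : scan (nat_lit 112896) (nat_lit 113400) = true := by decide +kernel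
theorem s225 : scan (nat_lit 113400) (nat_lit 113904) = true := by decide +kernel
theorem s226 : scan (nat_lit 113904) (nat_lit 114408) = true := by decide +kernel
theorem s227 : scan (nat_lit 114408) (nat_lit 114912) = true := by decide +kernel
theorem s228 : scan (nat_lit 114912) (nat_lit 115416) = true := by decide +kernel
theorem s229 : scan (nat_lit 115416) (nat_lit 115920) = true := by decide +kernel
theorem s230 : scan (nat_lit 115920) (nat_lit 116424) = true := by decide +kernel
theorem s231 : scan (nat_lit 116424) (nat_lit 116928) = true := by decide +kernel
theorem s232 : scan (nat_lit 116928) (nat_lit 117432) = true := by decide +kernel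
theorem s233 : scan (nat_lit 117432) (nat_lit 117936) = true := by decide +kernel
theorem s234 : scan (nat_lit 117936) (nat_lit 118440) = true := by decide +kernel
theorem s235 : scan (nat_lit 118440) (nat_lit 118944) = true := by decide +kernel
theorem s236 : scan (nat_lit 118944) (nat_lit 119448) = true := by decide +kernel
theorem s237 : scan (nat_lit 119448) (nat_lit 119952) = true := by decide +kernel
theorem s238 : scan (nat_lit 119952) (nat_lit 120456) = true := by decide +kernel
theorem s239 : scan (nat_lit 120456) (nat_lit 120960) = true := by decide +kernel
theorem s240 : scan (nat_lit 120960) (nat_lit 121464) = true := by decide +kernel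
theorem s241 : scan (nat_lit 121464) (nat_lit 121968) = true := by decide +kernel
theorem s242 : scan (nat_lit 121968) (nat_lit 122472) = true := by decide +kernel
theorem s243 : scan (nat_lit 122472) (nat_lit 122976) = true := by decide +kernel
theorem s244 : scan (nat_lit 122976) (nat_lit 123480) = true := by decide +kernel
theorem s245 : scan (nat_lit 123480) (nat_lit 123984) = true := by decide +kernel
theorem s246 : scan (nat_lit 123984) (nat_lit 124488) = true := by decide +kernel
theorem s247 : scan (nat_lit 124488) (nat_lit 124992) = true := by decide +kernel
theorem s248 : scan (nat_lit 124992) (nat_lit 125496) = true := by decide +kernel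
theorem s249 : scan (nat_lit 125496) (nat_lit 126000) = true := by decide +kernel
theorem s250 : scan (nat_lit 126000) (nat_lit 126504) = true := by decide +kernel
theorem s251 : scan (nat_lit 126504) (nat_lit 127008) = true := by decide +kernel
theorem s252 : scan (nat_lit 127008) (nat_lit 127512) = true := by decide +kernel
theorem s253 : scan (nat_lit 127512) (nat_lit 128016) = true := by decide +kernel
theorem s254 : scan (nat_lit 128016) (nat_lit 128520) = true := by decide +kernel
theorem s255 : scan (nat_lit 128520) (nat_lit 129024) = true := by decide +kernel
theorem s256 : scan (nat_lit 129024) (nat_lit 129528) = true := by decide +kernel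
theorem s257 : scan (nat_lit 129528) (nat_lit 130032) = true := by decide +kernel
theorem s258 : scan (nat_lit 130032) (nat_lit 130536) = true := by decide +kernel
theorem s259 : scan (nat_lit 130536) (nat_lit 131040) = true := by decide +kernel
theorem sc3 : ∀ i, 98280 ≤ i → i < 131040 → ScP i :=
  rng_join (rng_join (rng_join (rng_join (rng_join (rng_join (rng_join (rng_join (rng_join (rng_join (rng_join (rng_join (rng_join (rng_join (rng_join (rng_join (rng_join (rng_join (rng_join (rng_join (rng_join (rng_join (rng_join (rng_join (rng_join (rng_join (rng_join (rng_join (rng_join (rng_join (rng_join (rng_join (rng_join (rng_join (rng_join (rng_join (rng_join (rng_join (rng_join (rng_join (rng_join (rng_join (rng_join (rng_join (rng_join (rng_join (rng_join (rng_join (rng_join (rng_join (rng_join (rng_join (rng_join (rng_join (rng_join (rng_join (rng_join (rng_join (rng_join (rng_join (rng_join (rng_join (rng_join (rng_join (scan_rng s195) (scan_rng s196)) (scan_rng s197)) (scan_rng s198)) (scan_rng s199)) (scan_rng s200)) (scan_rng s201)) (scan_rng s202)) (scan_rng s203)) (scan_rng s204)) (scan_rng s205)) (scan_rng s206)) (scan_rng s207)) (scan_rng s208)) (scan_rng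 s209)) (scan_rng s210)) (scan_rng s211)) (scan_rng s212)) (scan_rng s213)) (scan_rng s214)) (scan_rng s215)) (scan_rng s216)) (scan_rng s217)) (scan_rng s218)) (scan_rng s219)) (scan_rng s220)) (scan_rng s221)) (scan_rng s222)) (scan_rng s223)) (scan_rng s224)) (scan_rng s225)) (scan_rng s226)) (scan_rng s227)) (scan_rng s228)) (scan_rng s229)) (scan_rng s230)) (scan_rng s231)) (scan_rng s232)) (scan_rng s233)) (scan_rng s234)) (scan_rng s235)) (scan_rng s236)) (scan_rng s237)) (scan_rng s238)) (scan_rng s239)) (scan_rng s240)) (scan_rng s241)) (scan_rng s242)) (scan_rng s243)) (scan_rng s244)) (scan_rng s245)) (scan_rng s246)) (scan_rng s247)) (scan_rng s248)) (scan_rng s249)) (scan_rng s250)) (scan_rng s251)) (scan_rng s252)) (scan_rng s253)) (scan_rng s254)) (scan_rng s255)) (scan_rng s256)) (scan_rng s257)) (scan_rng s258)) (scan_rng s259)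

end Cfsg.Agent.H25.Co1O
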