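import Mathlib
import Cfsg.Agent.H25.Util
import Cfsg.Agent.H25.Co1OB

set_option maxRecDepth 100000
set_option linter.all false

namespace Cfsg.Agent.H25.Co1O
open Cfsg.Agent.H25

theorem s260 : scan (nat_lit 131040) (nat_lit 131544) = true := by decide +kernel
theorem s261 : scan (nat_lit 131544) (nat_lit 132048) = true := by decide +kernel
theorem s262 : scan (nat_lit 132048) (nat_lit 132552) = true := by decide +kernel
theorem s263 : scan (nat_lit 132552) (nat_lit 133056) = true := by decide +kernel
theorem s264 : scan (nat_lit 133056) (nat_lit 133560) = true := by decide +kernel
theorem s265 : scan (nat_lit 133560) (nat_lit 134064) = true := by decide +kernel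
theorem s266 : scan (nat_lit 134064) (nat_lit 134568) = true := by decide +kernel
theorem s267 : scan (nat_lit 134568) (nat_lit 135072) = true := by decide +kernel
theorem s268 : scan (nat_lit 135072) (nat_lit 135576) = true := by decide +kernel
theorem s269 : scan (nat_lit 135576) (nat_lit 136080) = true := by decide +kernel
theorem s270 : scan (nat_lit 136080) (nat_lit 136584) = true := by decide +kernel
theorem s271 : scan (nat_lit 136584) (nat_lit 137088) = true := by decide +kernel
theorem s272 : scan (nat_lit 137088) (nat_lit 137592) = true := by decide +kernel
theorem s273 : scan (nat_lit 137592) (nat_lit 138096) = true := by decide +kernel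
theorem s274 : scan (nat_lit 138096) (nat_lit 138600) = true := by decide +kernel
theorem s275 : scan (nat_lit 138600) (nat_lit 139104) = true := by decide +kernel
theorem s276 : scan (nat_lit 139104) (nat_lit 139608) = true := by decide +kernel
theorem s277 : scan (nat_lit 139608) (nat_lit 140112) = true := by decide +kernel
theorem s278 : scan (nat_lit 140112) (nat_lit 140616) = true := by decide +kernel
theorem s279 : scan (nat_lit 140616) (nat_lit 141120) = true := by decide +kernel
theorem s280 : scan (nat_lit 141120) (nat_lit 141624) = true := by decide +kernel
theorem s281 : scan (nat_lit 141624) (nat_lit 142128) = true := by decide +kernel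
theorem s282 : scan (nat_lit 142128) (nat_lit 142632) = true := by decide +kernel
theorem s283 : scan (nat_lit 142632) (nat_lit 143136) = true := by decide +kernel
theorem s284 : scan (nat_lit 143136) (nat_lit 143640) = true := by decide +kernel
theorem s285 : scan (nat_lit 143640) (nat_lit 144144) = true := by decide +kernel
theorem s286 : scan (nat_lit 144144) (nat_lit 144648) = true := by decide +kernel
theorem s287 : scan (nat_lit 144648) (nat_lit 145152) = true := by decide +kernel
theorem s288 : scan (nat_lit 145152) (nat_lit 145656) = true := by decide +kernel
theorem s289 : scan (nat_lit 145656) (nat_lit 146160) = true := by decide +kernel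
theorem s290 : scan (nat_lit 146160) (nat_lit 146664) = true := by decide +kernel
theorem s291 : scan (nat_lit 146664) (nat_lit 147168) = true := by decide +kernel
theorem s292 : scan (nat_lit 147168) (nat_lit 147672) = true := by decide +kernel
theorem s293 : scan (nat_lit 147672) (nat_lit 148176) = true := by decide +kernel
theorem s294 : scan (nat_lit 148176) (nat_lit 148680) = true := by decide +kernel
theorem s295 : scan (nat_lit 148680) (nat_lit 149184) = true := by decide +kernel
theorem s296 : scan (nat_lit 149184) (nat_lit 149688) = true := by decide +kernel
theorem s297 : scan (nat_lit 149688) (nat_lit 150192) = true := by decide +kernel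
theorem s298 : scan (nat_lit 150192) (nat_lit 150696) = true := by decide +kernel
theorem s299 : scan (nat_lit 150696) (nat_lit 151200) = true := by decide +kernel
theorem s300 : scan (nat_lit 151200) (nat_lit 151704) = true := by decide +kernel
theorem s301 : scan (nat_lit 151704) (nat_lit 152208) = true := by decide +kernel
theorem s302 : scan (nat_lit 152208) (nat_lit 152712) = true := by decide +kernel
theorem s303 : scan (nat_lit 152712) (nat_lit 153216) = true := by decide +kernel
theorem s304 : scan (nat_lit 153216) (nat_lit 153720) = true := by decide +kernel
theorem s305 : scan (nat_lit 153720) (nat_lit 154224) = true := by decide +kernel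
theorem s306 : scan (nat_lit 154224) (nat_lit 154728) = true := by decide +kernel
theorem s307 : scan (nat_lit 154728) (nat_lit 155232) = true := by decide +kernel
theorem s308 : scan (nat_lit 155232) (nat_lit 155736) = true := by decide +kernel
theorem s309 : scan (nat_lit 155736) (nat_lit 156240) = true := by decide +kernel
theorem s310 : scan (nat_lit 156240) (nat_lit 156744) = true := by decide +kernel
theorem s311 : scan (nat_lit 156744) (nat_lit 157248) = true := by decide +kernel
theorem s312 : scan (nat_lit 157248) (nat_lit 157752) = true := by decide +kernel
theorem s313 : scan (nat_lit 157752) (nat_lit 158256) = true := by decide +kernel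
theorem s314 : scan (nat_lit 158256) (nat_lit 158760) = true := by decide +kernel
theorem s315 : scan (nat_lit 158760) (nat_lit 159264) = true := by decide +kernel
theorem s316 : scan (nat_lit 159264) (nat_lit 159768) = true := by decide +kernel
theorem s317 : scan (nat_lit 159768) (nat_lit 160272) = true := by decide +kernel
theorem s318 : scan (nat_lit 160272) (nat_lit 160776) = true := by decide +kernel
theorem s319 : scan (nat_lit 160776) (nat_lit 161280) = true := by decide +kernel
theorem s320 : scan (nat_lit 161280) (nat_lit 161784) = true := by decide +kernel
theorem s321 : scan (nat_lit 161784) (nat_lit 162288) = true := by decide +kernel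
theorem s322 : scan (nat_lit 162288) (nat_lit 162792) = true := by decide +kernel
theorem s323 : scan (nat_lit 162792) (nat_lit 163296) = true := by decide +kernel
theorem s324 : scan (nat_lit 163296) (nat_lit 163800) = true := by decide +kernel
theorem sc4 : ∀ i, 131040 ≤ i → i < 163800 → ScP i :=
  rng_join (rng_join (rng_join (rng_join (rng_join (rng_join (rng_join (rng_join (rng_join (rng_join (rng_join (rng_join (rng_join (rng_join (rng_join (rng_join (rng_join (rng_join (rng_join (rng_join (rng_join (rng_join (rng_join (rng_join (rng_join (rng_join (rng_join (rng_join (rng_join (rng_join (rng_join (rng_join (rng_join (rng_join (rng_join (rng_join (rng_join (rng_join (rng_join (rng_join (rng_join (rng_join (rng_join (rng_join (rng_join (rng_join (rng_join (rng_join (rng_join (rng_join (rng_join (rng_join (rng_join (rng_join (rng_join (rng_join (rng_join (rng_join (rng_join (rng_join (rng_join (rng_join (rng_join (rng_join (scan_rng s260) (scan_rng s261)) (scan_rng s262)) (scan_rng s263)) (scan_rng s264)) (scan_rng s265)) (scan_rng s266)) (scan_rng s267)) (scan_rng s268)) (scan_rng s269)) (scan_rng s270)) (scan_rng s271)) (scan_rng s272)) (scan_rng s273)) (scan_rng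 s274)) (scan_rng s275)) (scan_rng s276)) (scan_rng s277)) (scan_rng s278)) (scan_rng s279)) (scan_rng s280)) (scan_rng s281)) (scan_rng s282)) (scan_rng s283)) (scan_rng s284)) (scan_rng s285)) (scan_rng s286)) (scan_rng s287)) (scan_rng s288)) (scan_rng s289)) (scan_rng s290)) (scan_rng s291)) (scan_rng s292)) (scan_rng s293)) (scan_rng s294)) (scan_rng s295)) (scan_rng s296)) (scan_rng s297)) (scan_rng s298)) (scan_rng s299)) (scan_rng s300)) (scan_rng s301)) (scan_rng s302)) (scan_rng s303)) (scan_rng s304)) (scan_rng s305)) (scan_rng s306)) (scan_rng s307)) (scan_rng s308)) (scan_rng s309)) (scan_rng s310)) (scan_rng s311)) (scan_rng s312)) (scan_rng s313)) (scan_rng s314)) (scan_rng s315)) (scan_rng s316)) (scan_rng s317)) (scan_rng s318)) (scan_rng s319)) (scan_rng s320)) (scan_rng s321)) (scan_rng s322)) (scan_rng s323)) (scan_rng s324)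

end Cfsg.Agent.H25.Co1O
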