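import Mathlib
import Cfsg.Agent.H25.Util
import Cfsg.Agent.H25.Co1OB

set_option maxRecDepth 100000
set_option linter.all false

namespace Cfsg.Agent.H25.Co1O
open Cfsg.Agent.H25

theorem s325 : scan (nat_lit 163800) (nat_lit 164304) = true := by decide +kernel
theorem s326 : scan (nat_lit 164304) (nat_lit 164808) = true := by decide +kernel
theorem s327 : scan (nat_lit 164808) (nat_lit 165312) = true := by decide +kernel
theorem s328 : scan (nat_lit 165312) (nat_lit 165816) = true := by decide +kernel
theorem s329 : scan (nat_lit 165816) (nat_lit 166320) = true := by decide +kernel
theorem s330 : scan (nat_lit 166320) (nat_lit 166824) = true := by decide +kernel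
theorem s331 : scan (nat_lit 166824) (nat_lit 167328) = true := by decide +kernel
theorem s332 : scan (nat_lit 167328) (nat_lit 167832) = true := by decide +kernel
theorem s333 : scan (nat_lit 167832) (nat_lit 168336) = true := by decide +kernel
theorem s334 : scan (nat_lit 168336) (nat_lit 168840) = true := by decide +kernel
theorem s335 : scan (nat_lit 168840) (nat_lit 169344) = true := by decide +kernel
theorem s336 : scan (nat_lit 169344) (nat_lit 169848) = true := by decide +kernel
theorem s337 : scan (nat_lit 169848) (nat_lit 170352) = true := by decide +kernel
theorem s338 : scan (nat_lit 170352) (nat_lit 170856) = true := by decide +kernel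
theorem s339 : scan (nat_lit 170856) (nat_lit 171360) = true := by decide +kernel
theorem s340 : scan (nat_lit 171360) (nat_lit 171864) = true := by decide +kernel
theorem s341 : scan (nat_lit 171864) (nat_lit 172368) = true := by decide +kernel
theorem s342 : scan (nat_lit 172368) (nat_lit 172872) = true := by decide +kernel
theorem s343 : scan (nat_lit 172872) (nat_lit 173376) = true := by decide +kernel
theorem s344 : scan (nat_lit 173376) (nat_lit 173880) = true := by decide +kernel
theorem s345 : scan (nat_lit 173880) (nat_lit 174384) = true := by decide +kernel
theorem s346 : scan (nat_lit 174384) (nat_lit 174888) = true := by decide +kernel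
theorem s347 : scan (nat_lit 174888) (nat_lit 175392) = true := by decide +kernel
theorem s348 : scan (nat_lit 175392) (nat_lit 175896) = true := by decide +kernel
theorem s349 : scan (nat_lit 175896) (nat_lit 176400) = true := by decide +kernel
theorem s350 : scan (nat_lit 176400) (nat_lit 176904) = true := by decide +kernel
theorem s351 : scan (nat_lit 176904) (nat_lit 177408) = true := by decide +kernel
theorem s352 : scan (nat_lit 177408) (nat_lit 177912) = true := by decide +kernel
theorem s353 : scan (nat_lit 177912) (nat_lit 178416) = true := by decide +kernel
theorem s354 : scan (nat_lit 178416) (nat_lit 178920) = true := by decide +kernel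
theorem s355 : scan (nat_lit 178920) (nat_lit 179424) = true := by decide +kernel
theorem s356 : scan (nat_lit 179424) (nat_lit 179928) = true := by decide +kernel
theorem s357 : scan (nat_lit 179928) (nat_lit 180432) = true := by decide +kernel
theorem s358 : scan (nat_lit 180432) (nat_lit 180936) = true := by decide +kernel
theorem s359 : scan (nat_lit 180936) (nat_lit 181440) = true := by decide +kernel
theorem s360 : scan (nat_lit 181440) (nat_lit 181944) = true := by decide +kernel
theorem s361 : scan (nat_lit 181944) (nat_lit 182448) = true := by decide +kernel
theorem s362 : scan (nat_lit 182448) (nat_lit 182952) = true := by decide +kernel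
theorem s363 : scan (nat_lit 182952) (nat_lit 183456) = true := by decide +kernel
theorem s364 : scan (nat_lit 183456) (nat_lit 183960) = true := by decide +kernel
theorem s365 : scan (nat_lit 183960) (nat_lit 184464) = true := by decide +kernel
theorem s366 : scan (nat_lit 184464) (nat_lit 184968) = true := by decide +kernel
theorem s367 : scan (nat_lit 184968) (nat_lit 185472) = true := by decide +kernel
theorem s368 : scan (nat_lit 185472) (nat_lit 185976) = true := by decide +kernel
theorem s369 : scan (nat_lit 185976) (nat_lit 186480) = true := by decide +kernel
theorem s370 : scan (nat_lit 186480) (nat_lit 186984) = true := by decide +kernel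
theorem s371 : scan (nat_lit 186984) (nat_lit 187488) = true := by decide +kernel
theorem s372 : scan (nat_lit 187488) (nat_lit 187992) = true := by decide +kernel
theorem s373 : scan (nat_lit 187992) (nat_lit 188496) = true := by decide +kernel
theorem s374 : scan (nat_lit 188496) (nat_lit 189000) = true := by decide +kernel
theorem s375 : scan (nat_lit 189000) (nat_lit 189504) = true := by decide +kernel
theorem s376 : scan (nat_lit 189504) (nat_lit 190008) = true := by decide +kernel
theorem s377 : scan (nat_lit 190008) (nat_lit 190512) = true := by decide +kernel
theorem s378 : scan (nat_lit 190512) (nat_lit 191016) = true := by decide +kernel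
theorem s379 : scan (nat_lit 191016) (nat_lit 191520) = true := by decide +kernel
theorem s380 : scan (nat_lit 191520) (nat_lit 192024) = true := by decide +kernel
theorem s381 : scan (nat_lit 192024) (nat_lit 192528) = true := by decide +kernel
theorem s382 : scan (nat_lit 192528) (nat_lit 193032) = true := by decide +kernel
theorem s383 : scan (nat_lit 193032) (nat_lit 193536) = true := by decide +kernel
theorem s384 : scan (nat_lit 193536) (nat_lit 194040) = true := by decide +kernel
theorem s385 : scan (nat_lit 194040) (nat_lit 194544) = true := by decide +kernel
theorem s386 : scan (nat_lit 194544) (nat_lit 195048) = true := by decide +kernel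
theorem s387 : scan (nat_lit 195048) (nat_lit 195552) = true := by decide +kernel
theorem s388 : scan (nat_lit 195552) (nat_lit 196056) = true := by decide +kernel
theorem s389 : scan (nat_lit 196056) (nat_lit 196560) = true := by decide +kernel
theorem sc5 : ∀ i, 163800 ≤ i → i < 196560 → ScP i :=
  rng_join (rng_join (rng_join (rng_join (rng_join (rng_join (rng_join (rng_join (rng_join (rng_join (rng_join (rng_join (rng_join (rng_join (rng_join (rng_join (rng_join (rng_join (rng_join (rng_join (rng_join (rng_join (rng_join (rng_join (rng_join (rng_join (rng_join (rng_join (rng_join (rng_join (rng_join (rng_join (rng_join (rng_join (rng_join (rng_join (rng_join (rng_join (rng_join (rng_join (rng_join (rng_join (rng_join (rng_join (rng_join (rng_join (rng_join (rng_join (rng_join (rng_join (rng_join (rng_join (rng_join (rng_join (rng_join (rng_join (rng_join (rng_join (rng_join (rng_join (rng_join (rng_join (rng_join (rng_join (scan_rng s325) (scan_rng s326)) (scan_rng s327)) (scan_rng s328)) (scan_rng s329)) (scan_rng s330)) (scan_rng s331)) (scan_rng s332)) (scan_rng s333)) (scan_rng s334)) (scan_rng s335)) (scan_rng s336)) (scan_rng s337)) (scan_rng s338)) (scan_rng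 s339)) (scan_rng s340)) (scan_rng s341)) (scan_rng s342)) (scan_rng s343)) (scan_rng s344)) (scan_rng s345)) (scan_rng s346)) (scan_rng s347)) (scan_rng s348)) (scan_rng s349)) (scan_rng s350)) (scan_rng s351)) (scan_rng s352)) (scan_rng s353)) (scan_rng s354)) (scan_rng s355)) (scan_rng s356)) (scan_rng s357)) (scan_rng s358)) (scan_rng s359)) (scan_rng s360)) (scan_rng s361)) (scan_rng s362)) (scan_rng s363)) (scan_rng s364)) (scan_rng s365)) (scan_rng s366)) (scan_rng s367)) (scan_rng s368)) (scan_rng s369)) (scan_rng s370)) (scan_rng s371)) (scan_rng s372)) (scan_rng s373)) (scan_rng s374)) (scan_rng s375)) (scan_rng s376)) (scan_rng s377)) (scan_rng s378)) (scan_rng s379)) (scan_rng s380)) (scan_rng s381)) (scan_rng s382)) (scan_rng s383)) (scan_rng s384)) (scan_rng s385)) (scan_rng s386)) (scan_rng s387)) (scan_rng s388)) (scan_rng s389)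

end Cfsg.Agent.H25.Co1O
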