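import Mathlib
import Cfsg.Agent.H25.Util
import Cfsg.Agent.H25.Co1OS0
import Cfsg.Agent.H25.Co1OS1
import Cfsg.Agent.H25.Co1OS2
import Cfsg.Agent.H25.Co1OS3
import Cfsg.Agent.H25.Co1OS4
import Cfsg.Agent.H25.Co1OS5
import Cfsg.Agent.H25.Co1OR
import Cfsg.Agent.H25.Co1OC

set_option maxRecDepth 100000
set_option linter.all false

namespace Cfsg.Agent.H25.Co1O
open Cfsg.Agent.H25

open Cfsg.Agent.H25.Leech Cfsg.Spor
open Cfsg.Agent.H25.Co2O (T B g c1_0 c1_1 c1_2 c1_3 c1_4 c1_5 sc2_0 ssc2 Rc2 hAM hinj hpd hB fullc1 fullc2)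

theorem hsc : ∀ i < 196560, ScP i :=
  rng_all (rng_join (rng_join (rng_join (rng_join (rng_join sc0 sc1) sc2) sc3) sc4) sc5)

theorem hM : ∀ M ∈ Ms, ok M = true := oks (by decide +kernel)

theorem actF_eq (ts : List TR) (w : List ℕ) : ∀ c, actF ts w c = actW ts w c := by
  induction w with
  | nil => intro c; rfl
  | cons a w ih => intro c; rw [actW_cons, ← ih]; exact force_eq _ _

theorem eqF_sound {u v : List ℕ} (h : eqF (Ms.map prep) u v = true) : ev (l0 Ms) u = ev (l0 Ms) v :=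
  eqW_sound hM (by simpa only [eqF, eqW, actF_eq, force_eq, show Ms.length = 6 from rfl] using h)

theorem l5 : l0 Ms 5 = neg1 := by
  rw [l0, if_pos (by decide), show gd 0 Ms 5 = mneg by decide +kernel, el_mneg]
  exact inv_eq_of_mul_eq_one_left neg1_sq

noncomputable def E (a : ℕ) : Co1 := mk1 (l0 Ms a)
theorem ev_E (w : List ℕ) : ev E w = mk1 (ev (l0 Ms) w) := (map_ev mk1 _ w).symm
theorem mk_neg : mk1 neg1 = 1 := (QuotientGroup.eq_one_iff _).2 neg1_central

theorem heq (u v : List ℕ) (h : eq1 (Ms.map prep) u v = true) : ev E u = ev E v := by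
  rw [ev_E, ev_E]
  unfold eq1 at h
  cases e : eqF (Ms.map prep) u v with
  | true => rw [eqF_sound e]
  | false => rw [e] at h; rw [eqF_sound h, ev_cons, map_mul, l5, mk_neg, one_mul]

theorem hne (u v : List ℕ) (h : ne1 (Ms.map prep) u v = true) : ev E u ≠ ev E v := fun e => by
  simp only [ne1, band_eq, Bool.and_eq_true, force_eq, actF_eq, app_eq, Bool.not_eq_true'] at h
  obtain ⟨a, b, c, d⟩ := h
  have key : ∀ {v}, smallW 6 v = true → ev (l0 Ms) u = ev (l0 Ms) v →
      Nat.beq (actW (Ms.map prep) u cV) (actW (Ms.map prep) v cV) = true := fun {v} b e => by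
    obtain ⟨a1, a2⟩ := actW_spec hM a ptW.1
    obtain ⟨b1, b2⟩ := actW_spec hM b ptW.1
    rw [a1.inj b1 (by rw [← a2, ← b2, e]), Nat.beq_refl]
  rw [ev_E, ev_E, mk1_eq] at e
  rcases e with e | e
  · rw [key b e] at c; cases c
  · rw [key (v := v ++ [5]) (allL_of fun a ha => (List.mem_append.1 ha).elim (allL_sound b a)
      fun h => by rw [List.mem_singleton.1 h]; rfl) (by rw [e, ev_append, ev_cons, ev_nil, mul_one, l5])] at d
    cases d

noncomputable def ι : Spor.Co2 →* Co0 := Subgroup.inclusion inf_le_left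

theorem ι_g {k : ℕ} (hk : k < 3) : ι (g (2 * k)) = l0 Ms k := by
  have h := inCo2 (Ms := Co2O.Ms) (by decide +kernel) _ (gd_mem 0 (show k < Co2O.Ms.length from hk))
  rw [g, slpg_even, slp_base hk, show gd [] Co2O.df k = [k] by clear h; revert k; decide +kernel, ev_cons, ev_nil,
    mul_one, Co2O.g0, lk, dif_pos ⟨hk, h.2⟩, l0, if_pos (hk.trans (by decide)),
    show gd 0 Ms k = gd 0 Co2O.Ms k by clear h; revert k; decide +kernel]
  rfl

/-- reduction to `Co2` -/
theorem split {a n : ℕ} (ha : a < 2) (hn : l0 Ms a ^ (2 * n + 1) = 1) {s : ℤ} (hs : s = 1 ∨ s = -1) {c : Co1}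
    (h : c⁻¹ * E a * c = E a ^ s) : ∃ j < 2 + 10 * a, ∃ y : Spor.Co2,
      (ι y)⁻¹ * l0 Ms a * ι y = l0 Ms a ^ s ∧ c = mk1 (ι y) * ev E (gd [] D j) := by
  obtain ⟨c, rfl⟩ := QuotientGroup.mk'_surjective _ c
  have h1 : c⁻¹ * l0 Ms a * c = l0 Ms a ^ s := by
    refine (mk1_eq.1 (by rw [map_mul, map_mul, map_inv, map_zpow]; exact h)).resolve_right fun e => neg1_ne ?_
    have := congrArg (· ^ (2 * n + 1)) e
    simp only [cpw, hn] at this
    rw [(Commute.mul_pow (Subgroup.mem_center_iff.1 neg1_central _)), ← zpow_natCast, ← zpow_mul, mul_comm s,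
      zpow_mul, zpow_natCast, hn, pow_succ, pow_mul, pow_two, neg1_sq] at this
    simpa using this.symm
  have h2 : l0 Ms a • U = U := (ι_g (by omega : a < 3)) ▸ (g (2 * a)).2.2
  have h3 : (l0 Ms a)⁻¹ • c⁻¹ • U = c⁻¹ • U := by
    have : l0 Ms a ^ s • c⁻¹ • U = c⁻¹ • U := by rw [← h1, mul_smul, mul_smul, smul_inv_smul, h2]
    rcases hs with rfl | rfl
    · rw [inv_smul_eq_iff]; simpa using this.symm
    · simpa using this
  obtain ⟨i, hi, e⟩ := (od'.2.2 _).1 (SL_smul c⁻¹ (n := 32) sqU)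
  obtain ⟨b1, b2⟩ := el_smul (hM _ (gd_mem 0 (show a < Ms.length from ha.trans (by decide)))) (od'.2.1 i hi)
  rw [l0, if_pos (ha.trans (by decide)), inv_inv, ← e, b2] at h3
  obtain ⟨j, hj, e2⟩ := hsc i hi a ha (b1.inj (od'.2.1 i hi) h3)
  have h4 : (prepL Ms fun ts => allLin (fun a => allLin (fun j => band (Nat.beq (actF ts (gd [] D j) cU) (gd 0 F j))
    (eqF ts (a :: gd [] D j) (app (gd [] D j) [a]))) 0 (2 + 10 * a)) 0 2) = true := by decide +kernel
  rw [prepL_eq] at h4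
  have h5 := allLin_sound (allLin_sound h4 a (Nat.zero_le _) (by omega)) j (Nat.zero_le _) (by omega)
  have h6 := eqF_sound (band_r h5)
  have h7 := (actW_spec hM (w := gd [] D j) (band_r (band_l (band_r h5))) ptU.1).2
  rw [← actF_eq, Nat.eq_of_beq_eq_true (band_l h5), e2, e, ptU.2] at h7
  rw [app_eq, ev_append, ev_cons, ev_cons, ev_nil, mul_one] at h6
  refine ⟨j, hj, ⟨(c * (ev (l0 Ms) (gd [] D j))⁻¹ : Co0), (c * _).2, show (c * _) • U = U by
    rw [mul_smul, h7, smul_inv_smul]⟩, ?_, ?_⟩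
  · show (c * _)⁻¹ * _ * (c * _) = _
    rw [mul_inv_rev, inv_inv, mul_assoc, mul_assoc, ← mul_assoc (l0 Ms a), ← mul_assoc c⁻¹, ← mul_assoc c⁻¹,
      h1, ← mul_assoc, ← (Commute.zpow_left h6 s).eq, mul_inv_cancel_right]
  · show _ = mk1 (c * _) * _
    rw [ev_E, ← map_mul, inv_mul_cancel_right]

theorem x23 : l0 Ms 0 ^ 23 = 1 := by
  have := eqF_sound (u := pw [0] 23) (v := []) (by rw [← prepL_eq Ms fun ts => eqF ts _ _]; decide +kernel)
  rwa [ev_pw, ev_cons, ev_nil, mul_one] at this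

theorem u11 : l0 Ms 1 ^ 11 = 1 := by
  have := eqF_sound (u := pw [1] 11) (v := []) (by rw [← prepL_eq Ms fun ts => eqF ts _ _]; decide +kernel)
  rwa [ev_pw, ev_cons, ev_nil, mul_one] at this

theorem ι_inj : Function.Injective ι := Subgroup.inclusion_injective _

theorem cenx (c : Co1) (h : c⁻¹ * E 0 * c = E 0) : c ∈ Subgroup.zpowers (E 0) := by
  obtain ⟨j, hj, y, h1, rfl⟩ := split (n := 11) (s := 1) (by omega) x23 (Or.inl rfl) (by rwa [zpow_one])
  obtain ⟨w, w1, rfl, w3⟩ := tlcc y fun q hq => by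
    rw [List.mem_singleton.1 hq]
    exact ι_inj (by simpa [← ι_g (k := 0)] using h1)
  obtain ⟨k, -, hk⟩ := anyL_sound w3
  rw [hAM.eqv hB w1 (Sm.pw (T.small_sound (w := [0]) (by decide +kernel)) k) hk, ev_pw, ev_cons, ev_nil, mul_one,
    map_pow, show ι (g 0) = _ from ι_g (k := 0) (by omega), map_pow, show ev E (gd [] D j) = 1 by
      interval_cases j
      · rfl
      · exact (mul_one _).trans ((congrArg mk1 l5).trans mk_neg), mul_one]
  exact Subgroup.npow_mem_zpowers _ k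

theorem invu {c : Co1} (h : c⁻¹ * E 1 * c = (E 1)⁻¹) :
    ∃ j < 12, ∃ i < 11, c = ev E (2 :: app (pw [1] i) (gd [] D j)) := by
  obtain ⟨j, hj, y, h1, rfl⟩ := split (n := 5) (s := -1) (by omega) u11 (Or.inr rfl) (by rwa [zpow_neg_one])
  obtain ⟨w, w1, rfl, w3⟩ := tlcu y fun q hq => by
    rw [List.mem_singleton.1 hq]
    exact ι_inj (by simpa [← ι_g (k := 1), show g 3 = (g 2)⁻¹ from (hpd 2 (by decide)).2] using h1)
  obtain ⟨k, hk, e⟩ := anyL_sound w3
  have s : Sm T (4 :: pw [2] k) :=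
    Sm.app (T.small_sound (w := [4]) (by decide +kernel)) (Sm.pw (T.small_sound (w := [2]) (by decide +kernel)) k)
  refine ⟨j, hj, k, List.mem_range.1 hk, ?_⟩
  rw [hAM.eqv hB w1 s e, app_eq]
  simp only [ev_cons, ev_append, ev_pw, ev_nil, mul_one, map_mul, map_pow, mul_assoc,
    show ι (g 4) = _ from ι_g (k := 2) (by omega), show ι (g 2) = _ from ι_g (k := 1) (by omega), E]

theorem fin_fix {t : List ℕ} {dead : List (List ℕ)} {k : ℕ} (h0 : cand t dead k 0 3 = true)
    (h1 : cand t dead k 3 6 = true) (h2 : cand t dead k 6 9 = true) (h3 : cand t dead k 9 12 = true)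
    (hd : allL (fun d => eq1 (Ms.map prep) (expand [t, [1], [0]] d) []) dead = true)
    (ht : (ev E t)⁻¹ * E 1 * ev E t = (E 1)⁻¹) {β : MulAut Co1} (e1 : β (E 0) = E 0 ^ k) (e2 : β (E 1) = E 1) :
    k = 1 ∧ β (ev E t) = ev E t := by
  obtain ⟨j, hj, i, hi, e⟩ := invu (c := β (ev E t)) (by rw [← e2, ← map_inv, ← map_mul, ← map_mul, ht, map_inv])
  rw [cand, prepL_eq] at h0 h1 h2 h3
  have hf := allLin_sound (rng_join (rng_join (rng_join (allRange_sound h0) (allRange_sound h1))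
    (allRange_sound h2)) (allRange_sound h3) j (Nat.zero_le _) hj) i (Nat.zero_le _) (by omega)
  generalize 2 :: app (pw [1] i) (gd [] D j) = w at e hf
  have h4 : ∀ j, β (locv [t, [1], [0]] E j) = locv [w, [1], pw [0] k] E j := fun j => by
    rcases j with _ | _ | _ | j
    · exact e
    · simpa [locv, gd_eq] using e2
    · simpa [locv, gd_eq, ev_pw] using e1
    · rw [locv_ge _ (by simp), locv_ge _ (by simp), map_one]
  unfold fin3 at hf
  cases hb : band (Nat.beq k 1) (Bool.rec (eq1 (Ms.map prep) w t) true (eq1 (Ms.map prep) w t)) with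
  | true =>
    refine ⟨Nat.eq_of_beq_eq_true (band_l hb), e.trans (heq _ _ ?_)⟩
    have := band_r hb
    cases he : eq1 (Ms.map prep) w t with
    | true => rfl
    | false => rw [he] at this; exact this
  | false =>
    rw [hb] at hf
    obtain ⟨d, hd1, hd2⟩ := anyL_sound hf
    refine absurd ?_ (hne _ _ hd2)
    have := heq _ _ (allL_sound hd d hd1)
    rw [ev_expand] at this ⊢
    rw [← funext h4, ← this]
    exact ((map_ev β.toMonoidHom _ d).symm).trans (by rw [this]; simp)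

theorem out : Nat.card (Out Co1) = 1 := by
  haveI : Finite Co1 := Nat.finite_of_card_ne_zero (by rw [card_Co1]; norm_num)
  haveI : Fact (Nat.Prime 23) := ⟨by norm_num⟩
  have h : (prepL Ms fun ts => band (band (ne1 ts [0] []) (ne1 ts [0, 1] [1, 0])) (band (eq1 ts [0, 1] [1, 0, 0])
    (band (eq1 ts [1, 2, 1] [2]) (eq1 ts [1, 2, 3, 1] [2, 3])))) = true := by decide +kernel
  have hd := hd
  rw [prepL_eq] at h hd
  have a1 := hne _ _ (band_l (band_l h))
  have a2 := hne _ _ (band_r (band_l h))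
  have a3 := heq _ _ (band_l (band_r h))
  have a4 := heq _ _ (band_l (band_r (band_r h)))
  have a5 := heq _ _ (band_r (band_r (band_r h)))
  simp only [ev_cons, ev_nil, mul_one] at a1 a2 a3 a4 a5
  refine card_out_one (good_of_two (x := E 0) (u := E 1) (p := 23) (r := 2) (reps := [1, 5]) (m := 11)
    (by norm_num) (orderOf_eq_prime (by rw [E, ← map_pow, x23, map_one]) a1) (by rw [card_Co1]; norm_num) cenx
    (by rw [mul_assoc, a3, inv_mul_cancel_left, pow_two]) (fun e => a2 (by rwa [mul_assoc, inv_mul_eq_iff_eq_mul] at e)) (by decide +kernel)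
    fun k hk β e1 e2 => ?_)
  have b1 : (ev E [2])⁻¹ * E 1 * ev E [2] = (E 1)⁻¹ := by
    simp only [ev_cons, ev_nil, mul_one]; nth_rw 1 [← a4]; group
  obtain ⟨rfl, c1⟩ : k = 1 ∧ β (ev E [2]) = ev E [2] := by
    rcases List.mem_pair.1 hk with rfl | rfl
    exacts [fin_fix ca0 ca1 ca2 ca3 (band_l hd) b1 e1 e2, fin_fix cb0 cb1 cb2 cb3 (band_l hd) b1 e1 e2]
  have c2 := (fin_fix cc0 cc1 cc2 cc3 (band_r hd) (by
    simp only [ev_cons, ev_nil, mul_one]; nth_rw 1 [← a5]; group) e1 e2).2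
  let K := β.toMonoidHom.eqLocus (MonoidHom.id _)
  have k1 : C2.map mk1 ≤ K := by
    rintro _ ⟨y, hy, rfl⟩
    have := Co2O.hgen (K.comap (mk1.comp ι)) fun j => by
      have key : ∀ k < 3, β (E k) = E k → ev g [2 * k] ∈ K.comap (mk1.comp ι) := fun k hk e => by
        show β (mk1 (ι _)) = mk1 (ι _)
        rw [ev_cons, ev_nil, mul_one, ι_g hk]; exact e
      rcases j with _ | _ | _ | j
      · exact key 2 (by omega) (by simpa using c1)
      · exact key 1 (by omega) e2
      · exact key 0 (by omega) (by simpa using e1)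
      · rw [locv_ge _ (by simp)]; exact one_mem _
    exact (this.ge (Subgroup.mem_top (⟨y.1, y.2, hy⟩ : Spor.Co2)) :)
  have k2 : K = ⊤ := coatom_Co1.2 K (lt_of_le_of_ne k1 fun e => by
    have h1 : ev E [2, 3] ∈ C2.map mk1 := e ▸ c2
    rw [← inv_mem_iff, ev_E, ← map_inv, mem_map_C2, ← ptU.2,
      (actW_spec hM (w := [2, 3]) (by decide) ptU.1).2] at h1
    have h2 := (actW_spec hM (w := [2, 3]) (by decide) ptU.1).1.val
    rcases h1 with h1 | h1 <;> rw [h1, ptU.2] at h2 <;> revert h2 <;> decide +kernel)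
  exact ⟨1, Or.inl (MulEquiv.ext fun y => (show β y = y from k2.ge (Subgroup.mem_top y)).trans (by simp))⟩

end Cfsg.Agent.H25.Co1O
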