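import Mathlib
import Cfsg.Agent.H25.CoD

/-! Kernel checks for the enumeration of the minimal vectors, part 0. -/

set_option linter.all false
set_option maxRecDepth 100000
set_option Elab.async false

namespace Cfsg.Agent.H25.Leech

theorem ca0 : band (cov mv CT roots M22s (nat_lit 0) (nat_lit 7560)) (band (mono kv (nat_lit 0) (nat_lit 7560))
    (Nat.beq (hist (lab CT) (nat_lit 0) 135) (nat_lit 0xc00054000fc001a4001a4000fc000540000c0000c000fc001a40005400054001a4000fc0000c00010001c300399000e6001d5000110000a0003c00096000c8000960003c0000a0000a0003c00096000c8000960003c0000a0001600016000160001600001000010000100001000e7001ce000e700016000160001600016))) = true := by decide +kernel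

theorem ca1 : band (cov mv CT roots M22s (nat_lit 7560) (nat_lit 15120)) (band (mono kv (nat_lit 7560) (nat_lit 15120))
    (Nat.beq (hist (lab CT) (nat_lit 7560) 135) (nat_lit 0x120007e0017a00276002760017a0007e00012000110016500253000770007700253001650001100012001fc003f3000fd001f80001200006000240005a000780005a000240000600006000240005a000780005a0002400006000000000000000000000000000000000000000000000000000000000000000000000000000))) = true := by decide +kernel

theorem ca2 : band (cov mv CT roots M22s (nat_lit 15120) (nat_lit 22680)) (band (mono kv (nat_lit 15120) (nat_lit 22680))
    (Nat.beq (hist (lab CT) (nat_lit 15120) 135) (nat_lit 0xe0006200126001ea001ea00126000620000e00010001500023000070000700023000150000100001600268004d3001350026c00016000070002a000690008c000690002a00007000070002a000690008c000690002a00007000000000000000000000000000000000000000000000000000000000000000000000000000))) = true := by decide +kernel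

theorem ca3 : band (cov mv CT roots M22s (nat_lit 22680) (nat_lit 30240)) (band (mono kv (nat_lit 22680) (nat_lit 30240))
    (Nat.beq (hist (lab CT) (nat_lit 22680) 135) (nat_lit 0xc0005500103001b7001be0010f0005b0000d0000d00111001c70005b0005b001c7001110000d0001b002ed005c900172002db0001a000070002a000690008c000690002a00007000070002a000690008c000690002a00007000000000000000000000000000000000000000000000000000000000000000000000000000))) = true := by decide +kernel

theorem ca4 : band (cov mv CT roots M22s (nat_lit 30240) (nat_lit 37800)) (band (mono kv (nat_lit 30240) (nat_lit 37800))
    (Nat.beq (hist (lab CT) (nat_lit 30240) 135) (nat_lit 0xe000610011f001d7001d0001130005b0000d0000c000fc001a40005400054001a4000fc0000c0001a002e1005d900176002f30001b000070002a000690008c000690002a00007000070002a000690008c000690002a00007000000000000000000000000000000000000000000000000000000000000000000000000000))) = true := by decide +kernel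

theorem ca5 : band (cov mv CT roots M22s (nat_lit 37800) (nat_lit 45360)) (band (mono kv (nat_lit 37800) (nat_lit 45360))
    (Nat.beq (hist (lab CT) (nat_lit 37800) 135) (nat_lit 0xd0005d0011c001e0001e500125000620000e0000d00111001c70005b0005b001c7001110000d0001b002eb005bf00170002d90001a00006000240005a000780005a000240000600006000240005a000780005a0002400006000000000000000000000000000000000000000000000000000000000000000000000000000))) = true := by decide +kernel

theorem ca6 : band (cov mv CT roots M22s (nat_lit 45360) (nat_lit 52920)) (band (mono kv (nat_lit 45360) (nat_lit 52920))
    (Nat.beq (hist (lab CT) (nat_lit 45360) 135) (nat_lit 0xf000690013c00210002100013c000690000f0000f0013b0020d00069000690020d0013b0000f00017002840050800142002840001700006000240005a000780005a000240000600006000240005a000780005a0002400006000000000000000000000000000000000000000000000000000000000000000000000000000))) = true := by decide +kernel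

end Cfsg.Agent.H25.Leech
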