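import Mathlib
import Cfsg.Agent.H25.CoD

/-! Kernel checks for the enumeration of the minimal vectors, part 1. -/

set_option linter.all false
set_option maxRecDepth 100000
set_option Elab.async false

namespace Cfsg.Agent.H25.Leech

theorem ca7 : band (cov mv CT roots M22s (nat_lit 52920) (nat_lit 60480)) (band (mono kv (nat_lit 52920) (nat_lit 60480))
    (Nat.beq (hist (lab CT) (nat_lit 52920) 135) (nat_lit 0xe000600011a001ce001c9001110005b0000d0000e00126001ea0006200062001ea001260000e0001b003060061c00187003100001c00004000180003c000500003c000180000400004000180003c000500003c0001800004000000000000000000000000000000000000000000000000000000000000000000000000000))) = true := by decide +kernel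

theorem ca8 : band (cov mv CT roots M22s (nat_lit 60480) (nat_lit 68040)) (band (mono kv (nat_lit 60480) (nat_lit 68040))
    (Nat.beq (hist (lab CT) (nat_lit 60480) 135) (nat_lit 0xd0005b00111001c7001c7001110005b0000d0000d00111001c70005b0005b001c7001110000d0001d003300065b001970032c0001d00004000180003c000500003c000180000400004000180003c000500003c0001800004000000000000000000000000000000000000000000000000000000000000000000000000000))) = true := by decide +kernel

theorem ca9 : band (cov mv CT roots M22s (nat_lit 68040) (nat_lit 75600)) (band (mono kv (nat_lit 68040) (nat_lit 75600))
    (Nat.beq (hist (lab CT) (nat_lit 68040) 135) (nat_lit 0xc00054000fc001a4001a4000fc000540000c0000d00111001c70005b0005b001c7001110000d0001b002de005b10016c002d80001a000080003000078000a0000780003000008000080003000078000a0000780003000008000000000000000000000000000000000000000000000000000000000000000000000000000))) = true := by decide +kernel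

theorem ca10 : band (cov mv CT roots M22s (nat_lit 75600) (nat_lit 83160)) (band (mono kv (nat_lit 75600) (nat_lit 83160))
    (Nat.beq (hist (lab CT) (nat_lit 75600) 135) (nat_lit 0xe0006200126001ea001ea00126000620000e0000c000fc001a40005400054001a4000fc0000c0001b002f4005e90017a002fa0001c00006000240005a000780005a000240000600006000240005a000780005a0002400006000000000000000000000000000000000000000000000000000000000000000000000000000))) = true := by decide +kernel

theorem ca11 : band (cov mv CT roots M22s (nat_lit 83160) (nat_lit 90720)) (band (mono kv (nat_lit 83160) (nat_lit 90720))
    (Nat.beq (hist (lab CT) (nat_lit 83160) 135) (nat_lit 0xf000690013b0020d0020d0013b000690000f00010001500023000070000700023000150000100001a002d8005b30016d002dc0001a000020000c0001e000280001e0000c00002000020000c0001e000280001e0000c00002000000000000000000000000000000000000000000000000000000000000000000000000000))) = true := by decide +kernel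

theorem ca12 : band (cov mv CT roots M22s (nat_lit 90720) (nat_lit 98280)) (band (mono kv (nat_lit 90720) (nat_lit 98280))
    (Nat.beq (hist (lab CT) (nat_lit 90720) 135) (nat_lit 0x100016000010000a00046000d20015e0015e000d2000460000a0000a000d20015e00046000460015e000d20000a00023003d4007a4001e9003ca0002200004000180003c000500003c000180000400004000180003c000500003c0001800004000000000000000000000000000000000000000000000000000000000000000000000000000))) = true := by decide +kernel

end Cfsg.Agent.H25.Leech
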