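import Mathlib
import Cfsg.Agent.H25.Util
import Cfsg.Agent.H25.X4
import Cfsg.Agent.H28.J2P

set_option maxRecDepth 100000
set_option linter.all false

namespace Cfsg.Agent.H25.J2
open Cfsg.Agent.H25

open Cfsg.Agent.H28 Cfsg.Agent.H28.J2P

abbrev G0 := ↥KJ.K
noncomputable abbrev pt : ℕ → Fin 100 := A.dec
theorem hcard : Nat.card G0 = 604800 := card_K
theorem hinj0 : ∀ i < 100, ∀ j < 100, pt i = pt j → i = j := fin_inj
theorem hB0 : IsBase G0 100 pt [0, 7, 6, 1] := ⟨by decide, fun y h => Subtype.ext (base y.2 h)⟩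

end Cfsg.Agent.H25.J2
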