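import Mathlib
import Cfsg.Agent.H25.Util
import Cfsg.Agent.H25.J2B
import Cfsg.Agent.H28.PC

set_option maxRecDepth 100000
set_option linter.all false

namespace Cfsg.Agent.H25.J2
open Cfsg.Agent.H25

open Cfsg.Agent.H28 Cfsg.Agent.H28.J2P

noncomputable def j2p2_ru : RuT :=
(.node (nat_lit 39)
(.node (nat_lit 27)
(.node (nat_lit 10)
(.node (nat_lit 0)
(.leaf (nat_lit 0) (nat_lit 0) (nat_lit 0) [])
(.node (nat_lit 9)
(.leaf (nat_lit 1) (nat_lit 0) (nat_lit 1) [nat_lit 0, nat_lit 1, nat_lit 5])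
(.leaf (nat_lit 1) (nat_lit 1) (nat_lit 2) [])))
(.node (nat_lit 19)
(.node (nat_lit 18)
(.leaf (nat_lit 2) (nat_lit 0) (nat_lit 3) [nat_lit 0, nat_lit 2, nat_lit 3, nat_lit 5])
(.leaf (nat_lit 2) (nat_lit 1) (nat_lit 4) [nat_lit 1, nat_lit 2, nat_lit 4, nat_lit 5]))
(.node (nat_lit 20)
(.leaf (nat_lit 2) (nat_lit 2) (nat_lit 5) [])
(.leaf (nat_lit 3) (nat_lit 0) (nat_lit 6) [nat_lit 0, nat_lit 3, nat_lit 6]))))
(.node (nat_lit 30)
(.node (nat_lit 28)
(.leaf (nat_lit 3) (nat_lit 1) (nat_lit 7) [nat_lit 1, nat_lit 3, nat_lit 5])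
(.node (nat_lit 29)
(.leaf (nat_lit 3) (nat_lit 2) (nat_lit 8) [nat_lit 2, nat_lit 3])
(.leaf (nat_lit 3) (nat_lit 3) (nat_lit 9) [nat_lit 6])))
(.node (nat_lit 37)
(.node (nat_lit 36)
(.leaf (nat_lit 4) (nat_lit 0) (nat_lit 10) [nat_lit 0, nat_lit 4, nat_lit 5])
(.leaf (nat_lit 4) (nat_lit 1) (nat_lit 11) [nat_lit 1, nat_lit 4, nat_lit 6]))
(.node (nat_lit 38)
(.leaf (nat_lit 4) (nat_lit 2) (nat_lit 12) [nat_lit 2, nat_lit 4])
(.leaf (nat_lit 4) (nat_lit 3) (nat_lit 13) [nat_lit 3, nat_lit 4, nat_lit 6])))))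
(.node (nat_lit 50)
(.node (nat_lit 46)
(.node (nat_lit 40)
(.leaf (nat_lit 4) (nat_lit 4) (nat_lit 14) [nat_lit 6])
(.node (nat_lit 45)
(.leaf (nat_lit 5) (nat_lit 0) (nat_lit 15) [nat_lit 0, nat_lit 5])
(.leaf (nat_lit 5) (nat_lit 1) (nat_lit 16) [nat_lit 1, nat_lit 5])))
(.node (nat_lit 48)
(.node (nat_lit 47)
(.leaf (nat_lit 5) (nat_lit 2) (nat_lit 17) [nat_lit 2, nat_lit 5, nat_lit 6])
(.leaf (nat_lit 5) (nat_lit 3) (nat_lit 18) [nat_lit 3, nat_lit 5]))
(.node (nat_lit 49)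
(.leaf (nat_lit 5) (nat_lit 4) (nat_lit 19) [nat_lit 4, nat_lit 5])
(.leaf (nat_lit 5) (nat_lit 5) (nat_lit 20) []))))
(.node (nat_lit 56)
(.node (nat_lit 54)
(.leaf (nat_lit 6) (nat_lit 0) (nat_lit 21) [nat_lit 0, nat_lit 6])
(.node (nat_lit 55)
(.leaf (nat_lit 6) (nat_lit 1) (nat_lit 22) [nat_lit 1, nat_lit 6])
(.leaf (nat_lit 6) (nat_lit 2) (nat_lit 23) [nat_lit 2, nat_lit 6])))
(.node (nat_lit 58)
(.node (nat_lit 57)
(.leaf (nat_lit 6) (nat_lit 3) (nat_lit 24) [nat_lit 3, nat_lit 6])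
(.leaf (nat_lit 6) (nat_lit 4) (nat_lit 25) [nat_lit 4, nat_lit 6]))
(.node (nat_lit 59)
(.leaf (nat_lit 6) (nat_lit 5) (nat_lit 26) [nat_lit 5, nat_lit 6])
(.leaf (nat_lit 6) (nat_lit 6) (nat_lit 27) []))))))

def j2p2_E : List (List ℕ × List ℕ) :=
  [([nat_lit 0, nat_lit 0], []),
    ([nat_lit 1, nat_lit 0], [nat_lit 0, nat_lit 1, nat_lit 5]),
    ([nat_lit 1, nat_lit 1], []),
    ([nat_lit 2, nat_lit 0], [nat_lit 0, nat_lit 2, nat_lit 3, nat_lit 5]),
    ([nat_lit 2, nat_lit 1], [nat_lit 1, nat_lit 2, nat_lit 4, nat_lit 5]),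
    ([nat_lit 2, nat_lit 2], []),
    ([nat_lit 3, nat_lit 0], [nat_lit 0, nat_lit 3, nat_lit 6]),
    ([nat_lit 3, nat_lit 1], [nat_lit 1, nat_lit 3, nat_lit 5]),
    ([nat_lit 3, nat_lit 2], [nat_lit 2, nat_lit 3]),
    ([nat_lit 3, nat_lit 3], [nat_lit 6]),
    ([nat_lit 4, nat_lit 0], [nat_lit 0, nat_lit 4, nat_lit 5]),
    ([nat_lit 4, nat_lit 1], [nat_lit 1, nat_lit 4, nat_lit 6]),
    ([nat_lit 4, nat_lit 2], [nat_lit 2, nat_lit 4]),
    ([nat_lit 4, nat_lit 3], [nat_lit 3, nat_lit 4, nat_lit 6]),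
    ([nat_lit 4, nat_lit 4], [nat_lit 6]),
    ([nat_lit 5, nat_lit 0], [nat_lit 0, nat_lit 5]),
    ([nat_lit 5, nat_lit 1], [nat_lit 1, nat_lit 5]),
    ([nat_lit 5, nat_lit 2], [nat_lit 2, nat_lit 5, nat_lit 6]),
    ([nat_lit 5, nat_lit 3], [nat_lit 3, nat_lit 5]),
    ([nat_lit 5, nat_lit 4], [nat_lit 4, nat_lit 5]),
    ([nat_lit 5, nat_lit 5], []),
    ([nat_lit 6, nat_lit 0], [nat_lit 0, nat_lit 6]),
    ([nat_lit 6, nat_lit 1], [nat_lit 1, nat_lit 6]),
    ([nat_lit 6, nat_lit 2], [nat_lit 2, nat_lit 6]),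
    ([nat_lit 6, nat_lit 3], [nat_lit 3, nat_lit 6]),
    ([nat_lit 6, nat_lit 4], [nat_lit 4, nat_lit 6]),
    ([nat_lit 6, nat_lit 5], [nat_lit 5, nat_lit 6]),
    ([nat_lit 6, nat_lit 6], [])]

def j2p2_A : List ℕ :=
  [nat_lit 0x180000300000000000000000000000000000000000000000000000000000000000000000000000000000000000000000000000000000000000000000000000000000000000000000000000000000000000000000,
    nat_lit 0x300000000000000000000000000000000000000000000000000000000000000000000000000000000000000000000000000000000000000000000000000000080000000000300000000000000000800000,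
    nat_lit 0x6000000000000000000000000000000000000000000000000000000000000000000000000000000000000000000000000000000000000000000000000000000000000000000000000000000000000000000000080000000000000000000000000001800000,
    nat_lit 0x200000000001800000,
    nat_lit 0x100000000000000001800000,
    nat_lit 0x800000,
    nat_lit 0x40000000000000000000000000000000000]

def j2p2_co : List ℕ :=
  [nat_lit 0x40000000000000000000000000000000000000000000000000000000000000000000000000000,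
    nat_lit 0,
    nat_lit 0xc20000820030800400010c30000410020400c00410c00c2043080001081083043000001003000,
    nat_lit 0,
    nat_lit 0,
    nat_lit 0x800000030c00020800000000030030000400820820c2003082001041082001041000003000003,
    nat_lit 0,
    nat_lit 0x400c00410420820400010830010400020400c00c1082040080083082040043043000001003002,
    nat_lit 0x80001002082000001083001043002040001000080002040082082081000082000000003000,
    nat_lit 0x820820820000820400010c30000410020400c00410c2043043081081081002003000000003001,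
    nat_lit 0x400800020c20030800000800010010000000820820420030420030c3003083041000001000003,
    nat_lit 0x830800400020020010030020000c30000020820800810000820400c1000001000003,
    nat_lit 0x80001002082000001080001042002040000000080002040082082081000082000000003000,
    nat_lit 0x800000010830000430020400010430c20c20c1081001003043002000002003003,
    nat_lit 0x820000820020000800030410000400000400830410c20430c3001001003000001000000003003,
    nat_lit 0x30400000800000000010010000000820820420010020030030820030c3000003003001,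
    nat_lit 0x10c00000800000000030030000000820820c20030c2001001081001041000003000003,
    nat_lit 0x800020420820000010030000400020400010030c20c30c20810810830030c0000000003001,
    nat_lit 0x3040000000000000001003000000000000080002042002002001000082000000003002,
    nat_lit 0x80001002002000000080001002000000000000080000040002082081082000000002003000,
    nat_lit 0x800000030c00020800000000030030000000820820c2003082001041082001041000003000003,
    nat_lit 0x820800810820020020c20400c3000003000001,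
    nat_lit 0x800000000000020000000820820820010020030020800030c3000003000001,
    nat_lit 0x80000003002040000080043043000003000000,
    nat_lit 0x1000000000000,
    nat_lit 0x40000000000000,
    nat_lit 0x1000000000003000000000000000,
    nat_lit 0x800800000020020000000020000000820800810820820020820410c3000001000002]

noncomputable def j2p2 : PCD where
  G := nat_lit 9
  w := nat_lit 23
  k := nat_lit 40
  n := nat_lit 4
  fuel := nat_lit 90
  o := nat_lit 0x200000400000800001000002000004000008000010000020000040000080000100000200000400000800001000002000004000008000010000020000040000080000100000200000400000800001000002000004000008000010000020000040000080000100000200000400000800001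
  c0 := nat_lit 589684
  cq := nat_lit 0xfffff
  cA := nat_lit 3
  Lm := nat_lit 4
  np := nat_lit 28
  rules := j2p2_ru
  E := j2p2_E
  C := [(nat_lit 7, [nat_lit 0], [nat_lit 0, nat_lit 1, nat_lit 4]),
    (nat_lit 7, [nat_lit 1, nat_lit 4], [nat_lit 0]),
    (nat_lit 7, [nat_lit 2], [nat_lit 2]),
    (nat_lit 7, [nat_lit 3, nat_lit 4], [nat_lit 4]),
    (nat_lit 7, [nat_lit 4], [nat_lit 3]),
    (nat_lit 7, [nat_lit 5], [nat_lit 5]),
    (nat_lit 7, [nat_lit 6], [nat_lit 6]),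
    (nat_lit 8, [nat_lit 2], [nat_lit 5]),
    (nat_lit 8, [nat_lit 3, nat_lit 4], [nat_lit 3]),
    (nat_lit 8, [nat_lit 4], [nat_lit 4]),
    (nat_lit 8, [nat_lit 5], [nat_lit 2]),
    (nat_lit 8, [nat_lit 6], [nat_lit 6])]
  RA := [([nat_lit 3], [nat_lit 2, nat_lit 2]),
    ([nat_lit 4], [nat_lit 2, nat_lit 2]),
    ([nat_lit 5], [nat_lit 0, nat_lit 0]),
    ([nat_lit 5], [nat_lit 1, nat_lit 1]),
    ([nat_lit 6], [nat_lit 0, nat_lit 0]),
    ([nat_lit 6], [nat_lit 1, nat_lit 1]),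
    ([nat_lit 6], [nat_lit 2, nat_lit 2]),
    ([nat_lit 6], [nat_lit 5, nat_lit 5]),
    ([nat_lit 3], [nat_lit 3, nat_lit 3]),
    ([nat_lit 4], [nat_lit 4, nat_lit 4]),
    ([nat_lit 5], [nat_lit 5, nat_lit 3]),
    ([nat_lit 5], [nat_lit 5, nat_lit 4]),
    ([nat_lit 1], [nat_lit 0, nat_lit 0]),
    ([nat_lit 3], [nat_lit 0, nat_lit 0]),
    ([nat_lit 3], [nat_lit 1, nat_lit 1]),
    ([nat_lit 4], [nat_lit 0, nat_lit 0]),
    ([nat_lit 4], [nat_lit 1, nat_lit 1]),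
    ([nat_lit 5], [nat_lit 2, nat_lit 2]),
    ([nat_lit 5], [nat_lit 3, nat_lit 3]),
    ([nat_lit 1], [nat_lit 1, nat_lit 0]),
    ([nat_lit 4], [nat_lit 3, nat_lit 3]),
    ([nat_lit 2], [nat_lit 0, nat_lit 0]),
    ([nat_lit 2], [nat_lit 1, nat_lit 1]),
    ([nat_lit 3], [nat_lit 3, nat_lit 1]),
    ([nat_lit 2], [nat_lit 2, nat_lit 0]),
    ([nat_lit 4], [nat_lit 2, nat_lit 0])]
  RB := [(nat_lit 7, [nat_lit 2, nat_lit 2]),
    (nat_lit 7, [nat_lit 5, nat_lit 5]),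
    (nat_lit 7, [nat_lit 6, nat_lit 6]),
    (nat_lit 8, [nat_lit 7, nat_lit 7]),
    (nat_lit 8, [nat_lit 10, nat_lit 10]),
    (nat_lit 8, [nat_lit 11, nat_lit 11]),
    (nat_lit 7, [nat_lit 4, nat_lit 4, nat_lit 6]),
    (nat_lit 8, [nat_lit 9, nat_lit 9, nat_lit 11]),
    (nat_lit 7, [nat_lit 1, nat_lit 1]),
    (nat_lit 8, [nat_lit 7, nat_lit 11, nat_lit 7, nat_lit 11]),
    (nat_lit 7, [nat_lit 2, nat_lit 4, nat_lit 2, nat_lit 4, nat_lit 6]),
    (nat_lit 7, [nat_lit 3, nat_lit 3, nat_lit 6]),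
    (nat_lit 8, [nat_lit 7, nat_lit 9, nat_lit 7, nat_lit 9, nat_lit 11]),
    (nat_lit 8, [nat_lit 8, nat_lit 8, nat_lit 11]),
    (nat_lit 7, [nat_lit 1, nat_lit 6, nat_lit 1, nat_lit 6]),
    (nat_lit 7, [nat_lit 2, nat_lit 5, nat_lit 2, nat_lit 5, nat_lit 6]),
    (nat_lit 7, [nat_lit 0, nat_lit 0]),
    (nat_lit 8, [nat_lit 7, nat_lit 10, nat_lit 7, nat_lit 10, nat_lit 11]),
    (nat_lit 7, [nat_lit 1, nat_lit 4, nat_lit 1, nat_lit 4]),
    (nat_lit 7, [nat_lit 4, nat_lit 5, nat_lit 4, nat_lit 5, nat_lit 6]),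
    (nat_lit 7, [nat_lit 1, nat_lit 5, nat_lit 1, nat_lit 5]),
    (nat_lit 7, [nat_lit 1, nat_lit 3, nat_lit 1, nat_lit 3, nat_lit 5, nat_lit 6]),
    (nat_lit 7, [nat_lit 1, nat_lit 2, nat_lit 1, nat_lit 2, nat_lit 4, nat_lit 5]),
    (nat_lit 7, [nat_lit 0, nat_lit 3, nat_lit 0, nat_lit 3, nat_lit 5]),
    (nat_lit 7, [nat_lit 0, nat_lit 2, nat_lit 0, nat_lit 2, nat_lit 3, nat_lit 4, nat_lit 5, nat_lit 6])]
  A := j2p2_A
  β := [(nat_lit 0x100000200000000000000000000000000000000000000000000000000000000000000000000000000000000000000000000000000000000000000000000000000000000000000000000000000000000000000001, nat_lit 2, nat_lit 0x80002000000000002002000000000000080002080002042003002082000000000002)]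
  co := j2p2_co
  lay := [(nat_lit 126, [nat_lit 0]),
    (nat_lit 124, [nat_lit 1]),
    (nat_lit 120, [nat_lit 2]),
    (nat_lit 112, [nat_lit 3]),
    (nat_lit 96, [nat_lit 4]),
    (nat_lit 64, [nat_lit 5]),
    (nat_lit 0, [nat_lit 6])]

theorem j2p2_1 : j2p2.ok1 (nat_lit 127) = true := by decide +kernel
theorem j2p2_2 : j2p2.ok2 = true := by decide +kernel

def j2p2s : List ℕ := [nat_lit 0x4d30d0f1129c96380e33e4ad412956042153250ee21978b851d65c3a62a08a25b603b03112ec55886b2e00921bc4ed1fb7a64aa425f8ebb23f01b10462a6db1b867bb937284e16aa0a0c11cdcb267835f7a26451b556933, nat_lit 0x4726a1bb0aa6c2951e35f7ef60614a48e8526b2e886b6f129b565c2e7771cd5ae5eb2d869a0c51cca59f00d97ab6311e4e617a41614ea9a1c6652106862881c05511e7ca0d039f482201adc789049c64c0c1e811282ce33, nat_lit 0x47f0e07ed40428898ed88e20f54a54d2500339092800d648ae122db6f719cbbe9c70c46e9b2086e6f2b8244330382454968a8aa87d685d176526b8c556caf1a68b9832594a227319101ef4dbc4ab57560ec42c6958e7dd,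 nat_lit 0x86bc2e063266c2473db18974d5d4058ced07e4c25b8eb8f1a80c883b11728d70c49e0b7caa0a0accd65e48013073e28cd56b6149698051594e3a33838d1ce237201ba94a0abd6112ec51e306a5285d6d29d6b09112defa1, nat_lit 0x5b5c28f593e8dc7ad10b03f298d02e642543d620bc5e0ad48c4d880e130889c92953a3453aea05c000bf6565aba814c426be1d4a816ae24628499b88e1a6cb1a6a1936e58acc5430ec5c0f8dbbb75a903317b0b9c62aaa4, nat_lit 0x5d602e0920425c24b2ce260267d05b29cd4ab1c8be0f4af9a9d1a2a31508e9357306254e7e8b806d832666c8f57318e9da7e70aa876d1e24882d0a074c60aa372012f105948e816e6901e506bd450eb1796d70dd6e66f00, nat_lit 0x107f0e04c7825c4efd9ba8e09ad46f0dcd00cc08a38029a48ae022bea508ecbb51059425628b8a692ac9b2840ce385c1ab58614a8b77c7369831920c57a0af36684aa5c58abc0eee6901e946a27b28ce3273c2dd5b598c6, nat_lit 0xbf2cd102848e8d5a319078f691853d55ce188c2ed2393c754aeccb0a6a6e6af4528ce36e4e8c2bc9262543193cec5258bd16e94e006f1736875805c80ec89f71415d8683ca88314c2288a5d002121962654fa44102fedd9,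 nat_lit 0x18746c5680659a057d8599a2cf2047117b8aac8faea36d5c2224c7997d223b94c2455310cce5498aaf2c9d6032108f1dbfb400aa8ad269182e0dd5082c6bddc37074628594b76d8f160210c2ad949d2a248d4dc024f6787]
noncomputable def j2p2g : ℕ → G0 := cg KJ j2p2s
noncomputable def j2p2T_tbl : NT :=
(.node (nat_lit 4087)
(.node (nat_lit 2043)
(.leaf (nat_lit 0) (nat_lit 0x70e0810830313a8e7313446c5dde6219a55302ab9183066b9b3466dd3ebd54bc4bc0dbc2e0d9b1a6c6e01b7281a906a41a2b8472b120a1832e8a7c6b0a97937460f3b28d17086f28cbe92587962c5941651714952aa4a95526a83710f074c7a881ce6c603c054c09cf178e9bbb63224ca4ab1049b34edd64120e050408458a41020211478fc03c78dc10cba528f863d6f1c2a01a34d8d363cdad0489ebb4af04cb9425ea2b651282269c34a8758bad4e792ac335a92d5c303224d8cb83a55a65f48a89cb31383867ad5f4f6b7ad310e24dc80b870e10b424408376eb923188d124056b7c626514b4f5fd63229be317567db637aadf9e72907b31802443759b3))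
(.leaf (nat_lit 2044) (nat_lit 0x5f2c99caf2eaa24c8ad2b921afd75a2654498949272f6051916313bc1d583d3c6512a316316b010dc92744f91c330cc9d83f3953a4d10e51a346ec16d06ed484e1c2040822c5997a9835d5a18e58a92246c019b96486f4caa180acbd2eb2c4b2533fbcacfae9c86cb36492080016232165640116c903270279aa60cbe1a19d3abba0ec15bc0988e18807ce314ef2497c74c50988d1db1074c41914f1fbf7aaed26ab26737b42d63fbed5a30a601d18381ec2abc48aa952554a92b22a28c0a14282ca0b42ac0edbb1731f0a5f25e5f68ac0da758e92e1cf2222174eb986cd9246b3450b22f0e644289dde33e0eb0c16487143301d0064859c69a91b50b881038)))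
(.node (nat_lit 6131)
(.leaf (nat_lit 4088) (nat_lit 0xc350d45218300fc180d8f685134958c5fd8100491e033e4b5552a59d08128cd0135c9a1b72e5c850a11604b53927a8e24a397c63f58d27a68e0d83267650b63b1a3590eeb1303162fbe9b1e3b03f2e3bf4a2ed02132a9887ad4f236b3d8ab3d001200b52850a9530a94679bad2e0a9255712ac394671d324057b972e421d4874238c342a54a140295ab103553cfc09332c98308f609ce5850fdd22460844374eaea48df3cb648462a2720075f1e035196e78aa409703b77958e697ed1e5988bc2a920d483521485235ebcec502bda1c4d9808cd9904b3647968b148108ae1c1914f918e776d73a7cd690a1221bbb6320dc2850ae5cb8a23cd3a748d166e48b9))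
(.leaf (nat_lit 6132) (nat_lit 0x197c42e5b0c1234c7659fb15d79f933069ac214285))))

noncomputable def j2p2T : PT where
  N := nat_lit 100
  G := nat_lit 9
  W := nat_lit 7
  mask := nat_lit 127
  sb := nat_lit 0
  sm := nat_lit 0
  tbl := j2p2T_tbl

theorem j2p2h : AM j2p2T j2p2g pt := cg_AM (by decide +kernel)
noncomputable def j2p2c_0 : OL where
  b := nat_lit 0
  n := nat_lit 16
  S := [[nat_lit 0],
  [nat_lit 2]]
  O := ⟨nat_lit 0, nat_lit 4, nat_lit 7, nat_lit 127, nat_lit 0, nat_lit 0,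
(.node (nat_lit 1616)
(.node (nat_lit 944)
(.node (nat_lit 496)
(.leaf (nat_lit 0) (nat_lit 0x46c600046590000584000051d00044d1000444d00003a4000032100042b2000423600001911a0013900040c1000405d00000330000000))
(.node (nat_lit 832)
(.leaf (nat_lit 497) (nat_lit 0x5))
(.leaf (nat_lit 833) (nat_lit 0xc))))
(.node (nat_lit 1420)
(.node (nat_lit 1028)
(.leaf (nat_lit 945) (nat_lit 0x8))
(.leaf (nat_lit 1029) (nat_lit 0x9)))
(.node (nat_lit 1532)
(.leaf (nat_lit 1421) (nat_lit 0x10000007))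
(.leaf (nat_lit 1533) (nat_lit 0x6)))))
(.node (nat_lit 2176)
(.node (nat_lit 1840)
(.leaf (nat_lit 1617) (nat_lit 0x4))
(.node (nat_lit 1980)
(.leaf (nat_lit 1841) (nat_lit 0x3))
(.leaf (nat_lit 1981) (nat_lit 0xf))))
(.node (nat_lit 2512)
(.node (nat_lit 2288)
(.leaf (nat_lit 2177) (nat_lit 0xa))
(.leaf (nat_lit 2289) (nat_lit 0xb)))
(.node (nat_lit 2624)
(.leaf (nat_lit 2513) (nat_lit 0xe))
(.leaf (nat_lit 2625) (nat_lit 0x2))))))⟩

noncomputable def j2p2c_1 : OL where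
  b := nat_lit 1
  n := nat_lit 8
  S := [[nat_lit 1, nat_lit 0],
  [nat_lit 3, nat_lit 4, nat_lit 0]]
  O := ⟨nat_lit 0, nat_lit 4, nat_lit 7, nat_lit 127, nat_lit 0, nat_lit 0,
(.node (nat_lit 2008)
(.node (nat_lit 524)
(.leaf (nat_lit 0) (nat_lit 0x41830000192000014700040ce0e000de0004037000005b0000001))
(.node (nat_lit 1560)
(.leaf (nat_lit 525) (nat_lit 0x6))
(.leaf (nat_lit 1561) (nat_lit 0x2))))
(.node (nat_lit 2568)
(.node (nat_lit 2204)
(.leaf (nat_lit 2009) (nat_lit 0x5))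
(.leaf (nat_lit 2205) (nat_lit 0x4)))
(.node (nat_lit 2652)
(.leaf (nat_lit 2569) (nat_lit 0x1))
(.leaf (nat_lit 2653) (nat_lit 0x3)))))⟩

noncomputable def j2p2c : List OL := [j2p2c_0, j2p2c_1]

theorem pb2 : PB G0 2 1 :=
  H28.PCD.pb (g := j2p2g) (e := 2) (by norm_num) j2p2_1 j2p2_2
    (fun e he => j2p2h.chk2 hB0 _ _ (allL_sound (p := fun e => j2p2T.chk2 [0, 7, 6, 1] e.1 e.2) (by decide +kernel) e he))
    (card_ge_of_chain (ls := j2p2c) j2p2h hinj0 (by decide +kernel) (by decide +kernel)) hcard (by decide +kernel)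

noncomputable def j2p3_ru : RuT :=
(.node (nat_lit 24)
(.node (nat_lit 15)
(.node (nat_lit 7)
(.node (nat_lit 0)
(.leaf (nat_lit 0) (nat_lit 0) (nat_lit 0) [nat_lit 1])
(.node (nat_lit 1)
(.leaf (nat_lit 0) (nat_lit 1) (nat_lit 1) [])
(.leaf (nat_lit 1) (nat_lit 0) (nat_lit 2) [])))
(.node (nat_lit 8)
(.leaf (nat_lit 1) (nat_lit 1) (nat_lit 3) [nat_lit 0])
(.node (nat_lit 14)
(.leaf (nat_lit 2) (nat_lit 0) (nat_lit 4) [nat_lit 0, nat_lit 2, nat_lit 4])
(.leaf (nat_lit 2) (nat_lit 1) (nat_lit 5) [nat_lit 1, nat_lit 2, nat_lit 5]))))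
(.node (nat_lit 21)
(.node (nat_lit 16)
(.leaf (nat_lit 2) (nat_lit 2) (nat_lit 6) [nat_lit 3])
(.node (nat_lit 17)
(.leaf (nat_lit 2) (nat_lit 3) (nat_lit 7) [])
(.leaf (nat_lit 3) (nat_lit 0) (nat_lit 8) [nat_lit 0, nat_lit 3, nat_lit 5])))
(.node (nat_lit 22)
(.leaf (nat_lit 3) (nat_lit 1) (nat_lit 9) [nat_lit 1, nat_lit 3, nat_lit 4])
(.node (nat_lit 23)
(.leaf (nat_lit 3) (nat_lit 2) (nat_lit 10) [])
(.leaf (nat_lit 3) (nat_lit 3) (nat_lit 11) [nat_lit 2])))))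
(.node (nat_lit 33)
(.node (nat_lit 30)
(.node (nat_lit 28)
(.leaf (nat_lit 4) (nat_lit 0) (nat_lit 12) [nat_lit 0, nat_lit 4])
(.node (nat_lit 29)
(.leaf (nat_lit 4) (nat_lit 1) (nat_lit 13) [nat_lit 1, nat_lit 4])
(.leaf (nat_lit 4) (nat_lit 2) (nat_lit 14) [nat_lit 2, nat_lit 4])))
(.node (nat_lit 31)
(.leaf (nat_lit 4) (nat_lit 3) (nat_lit 15) [nat_lit 3, nat_lit 4])
(.node (nat_lit 32)
(.leaf (nat_lit 4) (nat_lit 4) (nat_lit 16) [nat_lit 5])
(.leaf (nat_lit 4) (nat_lit 5) (nat_lit 17) []))))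
(.node (nat_lit 37)
(.node (nat_lit 35)
(.leaf (nat_lit 5) (nat_lit 0) (nat_lit 18) [nat_lit 0, nat_lit 5])
(.node (nat_lit 36)
(.leaf (nat_lit 5) (nat_lit 1) (nat_lit 19) [nat_lit 1, nat_lit 5])
(.leaf (nat_lit 5) (nat_lit 2) (nat_lit 20) [nat_lit 2, nat_lit 5])))
(.node (nat_lit 38)
(.leaf (nat_lit 5) (nat_lit 3) (nat_lit 21) [nat_lit 3, nat_lit 5])
(.node (nat_lit 39)
(.leaf (nat_lit 5) (nat_lit 4) (nat_lit 22) [])
(.leaf (nat_lit 5) (nat_lit 5) (nat_lit 23) [nat_lit 4]))))))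

def j2p3_E : List (List ℕ × List ℕ) :=
  [([nat_lit 0, nat_lit 0], [nat_lit 1]),
    ([nat_lit 0, nat_lit 1], []),
    ([nat_lit 1, nat_lit 0], []),
    ([nat_lit 1, nat_lit 1], [nat_lit 0]),
    ([nat_lit 2, nat_lit 0], [nat_lit 0, nat_lit 2, nat_lit 4]),
    ([nat_lit 2, nat_lit 1], [nat_lit 1, nat_lit 2, nat_lit 5]),
    ([nat_lit 2, nat_lit 2], [nat_lit 3]),
    ([nat_lit 2, nat_lit 3], []),
    ([nat_lit 3, nat_lit 0], [nat_lit 0, nat_lit 3, nat_lit 5]),
    ([nat_lit 3, nat_lit 1], [nat_lit 1, nat_lit 3, nat_lit 4]),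
    ([nat_lit 3, nat_lit 2], []),
    ([nat_lit 3, nat_lit 3], [nat_lit 2]),
    ([nat_lit 4, nat_lit 0], [nat_lit 0, nat_lit 4]),
    ([nat_lit 4, nat_lit 1], [nat_lit 1, nat_lit 4]),
    ([nat_lit 4, nat_lit 2], [nat_lit 2, nat_lit 4]),
    ([nat_lit 4, nat_lit 3], [nat_lit 3, nat_lit 4]),
    ([nat_lit 4, nat_lit 4], [nat_lit 5]),
    ([nat_lit 4, nat_lit 5], []),
    ([nat_lit 5, nat_lit 0], [nat_lit 0, nat_lit 5]),
    ([nat_lit 5, nat_lit 1], [nat_lit 1, nat_lit 5]),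
    ([nat_lit 5, nat_lit 2], [nat_lit 2, nat_lit 5]),
    ([nat_lit 5, nat_lit 3], [nat_lit 3, nat_lit 5]),
    ([nat_lit 5, nat_lit 4], []),
    ([nat_lit 5, nat_lit 5], [nat_lit 4])]

def j2p3_A : List ℕ :=
  [nat_lit 1,
    nat_lit 0,
    nat_lit 0,
    nat_lit 0x1000000000000000000000000000000,
    nat_lit 0x100000000000000000000,
    nat_lit 0x10000000000000000000000000]

def j2p3_co : List ℕ :=
  [nat_lit 0,
    nat_lit 0x40000081041042042042000041000,
    nat_lit 0x40000081041042042042000041002,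
    nat_lit 0x40000081041042042042000081000,
    nat_lit 0,
    nat_lit 0,
    nat_lit 0,
    nat_lit 0x1081080000002042082002002080,
    nat_lit 0x40080082002040040040000000000,
    nat_lit 0x82041081040041041081000001000,
    nat_lit 0x1081080000002042082002002040,
    nat_lit 0x1081080000002042082000002080,
    nat_lit 0x2001040000082082000000002000,
    nat_lit 0x1002080000041041001000001000,
    nat_lit 0x42081000000002002082000000000,
    nat_lit 0x81042000000001001081000000000,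
    nat_lit 0x1002040002041041001080002000,
    nat_lit 0x2001040001082082002000000000,
    nat_lit 0x1002080000040041000000001000,
    nat_lit 0x2001040000080080000000002000,
    nat_lit 0x81042000000081001041000000000,
    nat_lit 0x42081000000042042082000000000,
    nat_lit 0x2001040001082082002000002000,
    nat_lit 0x1002000002041041001080001000]

noncomputable def j2p3 : PCD where
  G := nat_lit 7
  w := nat_lit 20
  k := nat_lit 27
  n := nat_lit 3
  fuel := nat_lit 38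
  o := nat_lit 0x10000100001000010000100001000010000100001000010000100001000010000100001000010000100001000010000100001000010000100001000010000100001
  c0 := nat_lit 100552
  cq := nat_lit 131071
  cA := nat_lit 3
  Lm := nat_lit 3
  np := nat_lit 24
  rules := j2p3_ru
  E := j2p3_E
  C := [(nat_lit 6, [nat_lit 1, nat_lit 2], [nat_lit 3]),
    (nat_lit 6, [nat_lit 3], [nat_lit 1, nat_lit 3]),
    (nat_lit 6, [nat_lit 4], [nat_lit 5])]
  RA := [([nat_lit 0], [nat_lit 1, nat_lit 0]),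
    ([nat_lit 2], [nat_lit 3, nat_lit 2]),
    ([nat_lit 4], [nat_lit 5, nat_lit 4]),
    ([nat_lit 0], [nat_lit 0, nat_lit 1]),
    ([nat_lit 2], [nat_lit 2, nat_lit 3]),
    ([nat_lit 4], [nat_lit 4, nat_lit 5]),
    ([nat_lit 4], [nat_lit 0, nat_lit 1]),
    ([nat_lit 4], [nat_lit 2, nat_lit 3]),
    ([nat_lit 5], [nat_lit 0, nat_lit 1]),
    ([nat_lit 5], [nat_lit 2, nat_lit 3]),
    ([nat_lit 4], [nat_lit 5, nat_lit 0]),
    ([nat_lit 4], [nat_lit 5, nat_lit 2]),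
    ([nat_lit 2], [nat_lit 0, nat_lit 1]),
    ([nat_lit 3], [nat_lit 0, nat_lit 1]),
    ([nat_lit 2], [nat_lit 3, nat_lit 0])]
  RB := [(nat_lit 6, [nat_lit 2, nat_lit 2, nat_lit 2]),
    (nat_lit 6, [nat_lit 0, nat_lit 0, nat_lit 0]),
    (nat_lit 6, [nat_lit 1, nat_lit 1, nat_lit 1]),
    (nat_lit 6, [nat_lit 0, nat_lit 0, nat_lit 2, nat_lit 0, nat_lit 2, nat_lit 2]),
    (nat_lit 6, [nat_lit 1, nat_lit 1, nat_lit 2, nat_lit 1, nat_lit 2, nat_lit 2]),
    (nat_lit 6, [nat_lit 0, nat_lit 0, nat_lit 1, nat_lit 0, nat_lit 1, nat_lit 1, nat_lit 2, nat_lit 2])]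
  A := j2p3_A
  β := []
  co := j2p3_co
  lay := [(nat_lit 60, [nat_lit 0, nat_lit 1]),
    (nat_lit 48, [nat_lit 2, nat_lit 3]),
    (nat_lit 0, [nat_lit 4, nat_lit 5])]

theorem j2p3_1 : j2p3.ok1 (nat_lit 63) = true := by decide +kernel
theorem j2p3_2 : j2p3.ok2 = true := by decide +kernel

def j2p3s : List ℕ := [nat_lit 0x533c8368b5cc0c776aaa12219154a4c15cb2cc6dc2589dce32f25fa52a51984bf06e0a9a263400281e247c7445327109501ed2428078572a75645e0871c70d5f596803d88fcc3666f26a2c82bdb0d51ce0e68e3894dc15d, nat_lit 0x90593207e4403d9b6910bbc6acd4614c7acc421d94a00e3293ce6fae3f31f388acc635b68e484058052a823a7523694ccba2931a894422341356c362a5d905261895d8f3e1c25eb6be15674e5c42f1d310f586c04e05b98, nat_lit 0x5c24e4b8cddc173a81ac8a7614b61ccdcd414321030f4afd66325f8baa4491b577a3c4827c7847d403619465e94005985a8a161a8b6a91244a8dd2c43393b4278812f118e7ad80ee690a35c69e7854d5cc16535d02ca618, nat_lit 0x2c69a0792f82084eb03561d221d0af287b62a78881c0ce3587b7d5bc5335d938add88b24868ddbd52c9ca40a3ad318ca207e9aaa83a151a44494fda7432de18025900b8b85303706110734c6ce893f11796d553898641af,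 nat_lit 0x6b54e36729d7dc601d0cf06545da0209fac453a941a06688a8e3e31a88cc75d9275e89a78d580b681d6165098b7801af4bbe99e285a16b109160b605c78a34710c8932f652be095e50d8b3120cc48d488a87d5182535d9b, nat_lit 0x742da2056b605c6f50b22249710777364cbb13810e5845fa38f147c334ca62fa251ea902d6f9b618319c84cd8dbba7d3d072144a8bca8a8d153ecb60c79f6101125042e86b1d300cca48d0480cab21e08b4b9313af4a9b8, nat_lit 0x84457bf550e8319f7e9944734cb95c246c63af548b1e852128e71a4c8256aac20e86300ccc2d44545940ac94458977a2454c61ba83412900aef9dc94f39addb43acb6b804163c120b38c388d97940ed9e56b49a014f0f87]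
noncomputable def j2p3g : ℕ → G0 := cg KJ j2p3s
noncomputable def j2p3T_tbl : NT :=
(.node (nat_lit 2043)
(.leaf (nat_lit 0) (nat_lit 0x79561e390a142850a1428357969db72818454142aa2186915ac8d1445c006904891a2aae2a4224a25d3e9f612a3ab65dd92c7dd581725b60b4b1b604e1973a42561ce3c7864e2f1dabe296d3b21d770b4c2d028db401c40264d78e890c4e20d5acca22c81125ad821300bee80b85cbdc111cf0143657639f881564a2a7c33f8cebe60b614cc06021b80bcdc8075e0bb5a64b19950a6d7bce120d20430a6c31a2b9a2ae8e283329d73ac8d90483469c0a5c60c9c7ae3d95571447886c03908e79578d6dbc5388d3a46784082f718ce576aa4bc01c3ad5c7dad9ac689a654a930d38809987176038155c94c029e53ca534cb202dcfd3760e637041dc1b5e60c5d))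
(.node (nat_lit 4087)
(.leaf (nat_lit 2044) (nat_lit 0x1cc29099a0a533a6c06c97e3dc8f571a5ac6d5164b3b611151588b3d9d38f0c10c5482a44613bb62c741020ca421eb28600f4162122659d2069d23fa31afc6724918ab1594e38f1e3bd6278b9c8a3efc97325a0f8cadfdf7f3219a782d725826a229aa7ca9564ce6919852acc1cec93e66b17dd266dc0421464c55716fba2875bde670463d7ac638cb8c14891711a8a0c06992836e6b36b8d09f46242df57447c98d50d80ba1024044c2dde7c080d1c082a50c081963756430a7900e613985524ad099529505f2567081191c74431631dece1162db75a529539776018006c9de3e1b1964b12227bc51819251684b416a5d04ce6fbf8b447980a9930548d1b89))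
(.leaf (nat_lit 4088) (nat_lit 0x84e9a965d214911754d092d3d7b438d0e2620fd0360f2d03654adcc98cfe2c35a9df37235e8405e11c0030c6e5c105de8c9edd8273b35ddfa81d620b56a9964219aa2aa5114fad205a1464818ea7788cd4a564583418ce2170d4d944e43daa0daa545cec0d7))))

noncomputable def j2p3T : PT where
  N := nat_lit 100
  G := nat_lit 7
  W := nat_lit 7
  mask := nat_lit 127
  sb := nat_lit 0
  sm := nat_lit 0
  tbl := j2p3T_tbl

theorem j2p3h : AM j2p3T j2p3g pt := cg_AM (by decide +kernel)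
noncomputable def j2p3c_0 : OL where
  b := nat_lit 0
  n := nat_lit 9
  S := [[nat_lit 0],
  [nat_lit 2]]
  O := ⟨nat_lit 0, nat_lit 4, nat_lit 7, nat_lit 127, nat_lit 0, nat_lit 0,
(.node (nat_lit 1336)
(.node (nat_lit 692)
(.node (nat_lit 552)
(.leaf (nat_lit 0) (nat_lit 0x429b0000213000418400001c00c0412f00040b80004018000005d0000000))
(.leaf (nat_lit 553) (nat_lit 0x7)))
(.node (nat_lit 776)
(.leaf (nat_lit 693) (nat_lit 0x2))
(.leaf (nat_lit 777) (nat_lit 0x8))))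
(.node (nat_lit 1812)
(.node (nat_lit 1588)
(.leaf (nat_lit 1337) (nat_lit 0x4))
(.leaf (nat_lit 1589) (nat_lit 0x3)))
(.node (nat_lit 2624)
(.leaf (nat_lit 1813) (nat_lit 0x5))
(.leaf (nat_lit 2625) (nat_lit 0x1)))))⟩

noncomputable def j2p3c_1 : OL where
  b := nat_lit 1
  n := nat_lit 3
  S := [[nat_lit 2, nat_lit 0]]
  O := ⟨nat_lit 0, nat_lit 4, nat_lit 7, nat_lit 127, nat_lit 0, nat_lit 0,
(.node (nat_lit 1868)
(.leaf (nat_lit 0) (nat_lit 0xde00000420000001))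
(.node (nat_lit 2652)
(.leaf (nat_lit 1869) (nat_lit 0x1))
(.leaf (nat_lit 2653) (nat_lit 0x2))))⟩

noncomputable def j2p3c : List OL := [j2p3c_0, j2p3c_1]

theorem pb3 : PB G0 3 0 :=
  H28.PCD.pb (g := j2p3g) (e := 1) (by norm_num) j2p3_1 j2p3_2
    (fun e he => j2p3h.chk2 hB0 _ _ (allL_sound (p := fun e => j2p3T.chk2 [0, 7, 6, 1] e.1 e.2) (by decide +kernel) e he))
    (card_ge_of_chain (ls := j2p3c) j2p3h hinj0 (by decide +kernel) (by decide +kernel)) hcard (by decide +kernel)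

noncomputable def j2p5_ru : RuT :=
(.node (nat_lit 47)
(.node (nat_lit 23)
(.node (nat_lit 11)
(.node (nat_lit 2)
(.node (nat_lit 0)
(.leaf (nat_lit 0) (nat_lit 0) (nat_lit 0) [nat_lit 1])
(.node (nat_lit 1)
(.leaf (nat_lit 0) (nat_lit 1) (nat_lit 1) [nat_lit 2])
(.leaf (nat_lit 0) (nat_lit 2) (nat_lit 2) [nat_lit 3])))
(.node (nat_lit 3)
(.leaf (nat_lit 0) (nat_lit 3) (nat_lit 3) [])
(.node (nat_lit 10)
(.leaf (nat_lit 1) (nat_lit 0) (nat_lit 4) [nat_lit 2])
(.leaf (nat_lit 1) (nat_lit 1) (nat_lit 5) [nat_lit 3]))))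
(.node (nat_lit 20)
(.node (nat_lit 12)
(.leaf (nat_lit 1) (nat_lit 2) (nat_lit 6) [])
(.node (nat_lit 13)
(.leaf (nat_lit 1) (nat_lit 3) (nat_lit 7) [nat_lit 0])
(.leaf (nat_lit 2) (nat_lit 0) (nat_lit 8) [nat_lit 3])))
(.node (nat_lit 21)
(.leaf (nat_lit 2) (nat_lit 1) (nat_lit 9) [])
(.node (nat_lit 22)
(.leaf (nat_lit 2) (nat_lit 2) (nat_lit 10) [nat_lit 0])
(.leaf (nat_lit 2) (nat_lit 3) (nat_lit 11) [nat_lit 1])))))
(.node (nat_lit 41)
(.node (nat_lit 32)
(.node (nat_lit 30)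
(.leaf (nat_lit 3) (nat_lit 0) (nat_lit 12) [])
(.node (nat_lit 31)
(.leaf (nat_lit 3) (nat_lit 1) (nat_lit 13) [nat_lit 0])
(.leaf (nat_lit 3) (nat_lit 2) (nat_lit 14) [nat_lit 1])))
(.node (nat_lit 33)
(.leaf (nat_lit 3) (nat_lit 3) (nat_lit 15) [nat_lit 2])
(.node (nat_lit 40)
(.leaf (nat_lit 4) (nat_lit 0) (nat_lit 16) [nat_lit 0, nat_lit 4])
(.leaf (nat_lit 4) (nat_lit 1) (nat_lit 17) [nat_lit 1, nat_lit 4]))))
(.node (nat_lit 44)
(.node (nat_lit 42)
(.leaf (nat_lit 4) (nat_lit 2) (nat_lit 18) [nat_lit 2, nat_lit 4])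
(.node (nat_lit 43)
(.leaf (nat_lit 4) (nat_lit 3) (nat_lit 19) [nat_lit 3, nat_lit 4])
(.leaf (nat_lit 4) (nat_lit 4) (nat_lit 20) [nat_lit 5])))
(.node (nat_lit 45)
(.leaf (nat_lit 4) (nat_lit 5) (nat_lit 21) [nat_lit 6])
(.node (nat_lit 46)
(.leaf (nat_lit 4) (nat_lit 6) (nat_lit 22) [nat_lit 7])
(.leaf (nat_lit 4) (nat_lit 7) (nat_lit 23) []))))))
(.node (nat_lit 63)
(.node (nat_lit 55)
(.node (nat_lit 52)
(.node (nat_lit 50)
(.leaf (nat_lit 5) (nat_lit 0) (nat_lit 24) [nat_lit 0, nat_lit 5])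
(.node (nat_lit 51)
(.leaf (nat_lit 5) (nat_lit 1) (nat_lit 25) [nat_lit 1, nat_lit 5])
(.leaf (nat_lit 5) (nat_lit 2) (nat_lit 26) [nat_lit 2, nat_lit 5])))
(.node (nat_lit 53)
(.leaf (nat_lit 5) (nat_lit 3) (nat_lit 27) [nat_lit 3, nat_lit 5])
(.node (nat_lit 54)
(.leaf (nat_lit 5) (nat_lit 4) (nat_lit 28) [nat_lit 6])
(.leaf (nat_lit 5) (nat_lit 5) (nat_lit 29) [nat_lit 7]))))
(.node (nat_lit 60)
(.node (nat_lit 56)
(.leaf (nat_lit 5) (nat_lit 6) (nat_lit 30) [])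
(.node (nat_lit 57)
(.leaf (nat_lit 5) (nat_lit 7) (nat_lit 31) [nat_lit 4])
(.leaf (nat_lit 6) (nat_lit 0) (nat_lit 32) [nat_lit 0, nat_lit 6])))
(.node (nat_lit 61)
(.leaf (nat_lit 6) (nat_lit 1) (nat_lit 33) [nat_lit 1, nat_lit 6])
(.node (nat_lit 62)
(.leaf (nat_lit 6) (nat_lit 2) (nat_lit 34) [nat_lit 2, nat_lit 6])
(.leaf (nat_lit 6) (nat_lit 3) (nat_lit 35) [nat_lit 3, nat_lit 6])))))
(.node (nat_lit 71)
(.node (nat_lit 66)
(.node (nat_lit 64)
(.leaf (nat_lit 6) (nat_lit 4) (nat_lit 36) [nat_lit 7])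
(.node (nat_lit 65)
(.leaf (nat_lit 6) (nat_lit 5) (nat_lit 37) [])
(.leaf (nat_lit 6) (nat_lit 6) (nat_lit 38) [nat_lit 4])))
(.node (nat_lit 67)
(.leaf (nat_lit 6) (nat_lit 7) (nat_lit 39) [nat_lit 5])
(.node (nat_lit 70)
(.leaf (nat_lit 7) (nat_lit 0) (nat_lit 40) [nat_lit 0, nat_lit 7])
(.leaf (nat_lit 7) (nat_lit 1) (nat_lit 41) [nat_lit 1, nat_lit 7]))))
(.node (nat_lit 74)
(.node (nat_lit 72)
(.leaf (nat_lit 7) (nat_lit 2) (nat_lit 42) [nat_lit 2, nat_lit 7])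
(.node (nat_lit 73)
(.leaf (nat_lit 7) (nat_lit 3) (nat_lit 43) [nat_lit 3, nat_lit 7])
(.leaf (nat_lit 7) (nat_lit 4) (nat_lit 44) [])))
(.node (nat_lit 75)
(.leaf (nat_lit 7) (nat_lit 5) (nat_lit 45) [nat_lit 4])
(.node (nat_lit 76)
(.leaf (nat_lit 7) (nat_lit 6) (nat_lit 46) [nat_lit 5])
(.leaf (nat_lit 7) (nat_lit 7) (nat_lit 47) [nat_lit 6])))))))

def j2p5_E : List (List ℕ × List ℕ) :=
  [([nat_lit 0, nat_lit 0], [nat_lit 1]),
    ([nat_lit 0, nat_lit 1], [nat_lit 2]),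
    ([nat_lit 0, nat_lit 2], [nat_lit 3]),
    ([nat_lit 0, nat_lit 3], []),
    ([nat_lit 1, nat_lit 0], [nat_lit 2]),
    ([nat_lit 1, nat_lit 1], [nat_lit 3]),
    ([nat_lit 1, nat_lit 2], []),
    ([nat_lit 1, nat_lit 3], [nat_lit 0]),
    ([nat_lit 2, nat_lit 0], [nat_lit 3]),
    ([nat_lit 2, nat_lit 1], []),
    ([nat_lit 2, nat_lit 2], [nat_lit 0]),
    ([nat_lit 2, nat_lit 3], [nat_lit 1]),
    ([nat_lit 3, nat_lit 0], []),
    ([nat_lit 3, nat_lit 1], [nat_lit 0]),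
    ([nat_lit 3, nat_lit 2], [nat_lit 1]),
    ([nat_lit 3, nat_lit 3], [nat_lit 2]),
    ([nat_lit 4, nat_lit 0], [nat_lit 0, nat_lit 4]),
    ([nat_lit 4, nat_lit 1], [nat_lit 1, nat_lit 4]),
    ([nat_lit 4, nat_lit 2], [nat_lit 2, nat_lit 4]),
    ([nat_lit 4, nat_lit 3], [nat_lit 3, nat_lit 4]),
    ([nat_lit 4, nat_lit 4], [nat_lit 5]),
    ([nat_lit 4, nat_lit 5], [nat_lit 6]),
    ([nat_lit 4, nat_lit 6], [nat_lit 7]),
    ([nat_lit 4, nat_lit 7], []),
    ([nat_lit 5, nat_lit 0], [nat_lit 0, nat_lit 5]),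
    ([nat_lit 5, nat_lit 1], [nat_lit 1, nat_lit 5]),
    ([nat_lit 5, nat_lit 2], [nat_lit 2, nat_lit 5]),
    ([nat_lit 5, nat_lit 3], [nat_lit 3, nat_lit 5]),
    ([nat_lit 5, nat_lit 4], [nat_lit 6]),
    ([nat_lit 5, nat_lit 5], [nat_lit 7]),
    ([nat_lit 5, nat_lit 6], []),
    ([nat_lit 5, nat_lit 7], [nat_lit 4]),
    ([nat_lit 6, nat_lit 0], [nat_lit 0, nat_lit 6]),
    ([nat_lit 6, nat_lit 1], [nat_lit 1, nat_lit 6]),
    ([nat_lit 6, nat_lit 2], [nat_lit 2, nat_lit 6]),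
    ([nat_lit 6, nat_lit 3], [nat_lit 3, nat_lit 6]),
    ([nat_lit 6, nat_lit 4], [nat_lit 7]),
    ([nat_lit 6, nat_lit 5], []),
    ([nat_lit 6, nat_lit 6], [nat_lit 4]),
    ([nat_lit 6, nat_lit 7], [nat_lit 5]),
    ([nat_lit 7, nat_lit 0], [nat_lit 0, nat_lit 7]),
    ([nat_lit 7, nat_lit 1], [nat_lit 1, nat_lit 7]),
    ([nat_lit 7, nat_lit 2], [nat_lit 2, nat_lit 7]),
    ([nat_lit 7, nat_lit 3], [nat_lit 3, nat_lit 7]),
    ([nat_lit 7, nat_lit 4], []),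
    ([nat_lit 7, nat_lit 5], [nat_lit 4]),
    ([nat_lit 7, nat_lit 6], [nat_lit 5]),
    ([nat_lit 7, nat_lit 7], [nat_lit 6])]

def j2p5_A : List ℕ :=
  [nat_lit 0x40000200001,
    nat_lit 0x80000400003,
    nat_lit 0xc0000800004,
    nat_lit 0,
    nat_lit 0x40000200001000000000000000000000000000000000000000000000000000000000000000000000000000000000000000000000000000000000,
    nat_lit 0x80000400003000000000000000000000000000000000000000000000000000000000000000000000000000000000000000000000000000000000,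
    nat_lit 0xc0000800004000000000000000000000000000000000000000000000000000000000000000000000000000000000000000000000000000000000,
    nat_lit 0]

def j2p5_co : List ℕ :=
  [nat_lit 0,
    nat_lit 0,
    nat_lit 0,
    nat_lit 0x30c00000000000000000000000000001010000030030c0000000000100102,
    nat_lit 0x40000000000000000000000000040,
    nat_lit 0x101000000000000000000000100,
    nat_lit 0x30c00000000000000000000000000001010010030030c0000000000100102,
    nat_lit 0x30c00000000000000000000000000001010000030030c0000000001100102,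
    nat_lit 0x4000000000000000000000000004,
    nat_lit 0x30c00000000000000000000000000001010010030030c00000000001000c2,
    nat_lit 0x30c00000000000000000000000000001010010030030c0000000040100102,
    nat_lit 0x30c00000000000000000000000000000c10000030030c00000400001000c2,
    nat_lit 0x30c00000000000000000000000000001010000030030c0000000000100101,
    nat_lit 0x30c00000000000000000000000000001010010030030c00000010001000c2,
    nat_lit 0x30c00000000000000000000000000001010400030030c0001000000100002,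
    nat_lit 0x30c00000000000000000000000000001020000030030c0040000000100103,
    nat_lit 0xc00c10800000000000000000000830421010840010000400000030000c1002,
    nat_lit 0x400421040000000000000000001010840c2103002000080000001000042004,
    nat_lit 0x1001030410000000000000000400440c10830420030000c0000004000103001,
    nat_lit 0x800840c00000000000000000010c21030440c1004000100000002000084003,
    nat_lit 0,
    nat_lit 0,
    nat_lit 0,
    nat_lit 0x11000000000000000000000000000c1000000004001100000000000040000,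
    nat_lit 0x400431000000000000000000001010840c2103002000080000001000042004,
    nat_lit 0x800810800000000000000000000c21030440c1004000100000002000084003,
    nat_lit 0xc00c40c00000000000000400000830421010840010000400000030000c1002,
    nat_lit 0x1001020400000000000000010000440c10830420030000c0000004000103001,
    nat_lit 0x40000000000000000000000000000040000,
    nat_lit 0x101000000000000000000000000100000,
    nat_lit 0x11000000000000000000000000000c2000000004001100000000000040000,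
    nat_lit 0x11000000000000000000000000000c1000000004001101000000000040000,
    nat_lit 0x1001020400040000000000000000440c10830420030000c0000004000103001,
    nat_lit 0xc00c40c01000000000000000000830421010840010000400000030000c1002,
    nat_lit 0x800810800400000000400000000c21030440c1004000100000002000084003,
    nat_lit 0x400431000010000000010000001010840c2103002000080000001000042004,
    nat_lit 0x4000000000000000000000000000004000,
    nat_lit 0x11000000000000000000000000000c2000000004001100000000000000000,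
    nat_lit 0x11000000000000000000000000000c2000000004001000000000000040000,
    nat_lit 0x11000000000000000000000001000c1000000004041100000000000000000,
    nat_lit 0x800840c00000040000000000000c21030440c1004000100000002000084003,
    nat_lit 0x1001030410001000000000000000440c10830420030000c0000004000103001,
    nat_lit 0x400421040000400400000000001010840c2103002000080000001000042004,
    nat_lit 0xc00c10800000010010000000000830421010840010000400000030000c1002,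
    nat_lit 0x11000000000000000000000000000c1000000004001100000000000044000,
    nat_lit 0x11000000000000000000000000000c2000000004002100000000000000000,
    nat_lit 0x1100000000000000000000000000101000000000001100000000000080000,
    nat_lit 0x11000000000000000000000000010c1000000044001100000000000041000]

noncomputable def j2p5 : PCD where
  G := nat_lit 10
  w := nat_lit 21
  k := nat_lit 52
  n := nat_lit 5
  fuel := nat_lit 20
  o := nat_lit 0x8000040000200001000008000040000200001000008000040000200001000008000040000200001000008000040000200001000008000040000200001000008000040000200001000008000040000200001000008000040000200001000008000040000200001000008000040000200001000008000040000200001000008000040000200001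
  c0 := nat_lit 105844
  cq := nat_lit 131071
  cA := nat_lit 7
  Lm := nat_lit 2
  np := nat_lit 48
  rules := j2p5_ru
  E := j2p5_E
  C := [(nat_lit 8, [nat_lit 0], [nat_lit 6]),
    (nat_lit 8, [nat_lit 4], [nat_lit 1]),
    (nat_lit 9, [nat_lit 0], [nat_lit 5]),
    (nat_lit 9, [nat_lit 4], [nat_lit 1, nat_lit 7])]
  RA := [([nat_lit 0], [nat_lit 3, nat_lit 0]),
    ([nat_lit 1], [nat_lit 2, nat_lit 1]),
    ([nat_lit 4], [nat_lit 7, nat_lit 4]),
    ([nat_lit 5], [nat_lit 6, nat_lit 5]),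
    ([nat_lit 0], [nat_lit 0, nat_lit 3]),
    ([nat_lit 0], [nat_lit 1, nat_lit 2]),
    ([nat_lit 0], [nat_lit 2, nat_lit 1]),
    ([nat_lit 1], [nat_lit 0, nat_lit 3]),
    ([nat_lit 1], [nat_lit 1, nat_lit 2]),
    ([nat_lit 2], [nat_lit 0, nat_lit 3]),
    ([nat_lit 4], [nat_lit 4, nat_lit 7]),
    ([nat_lit 4], [nat_lit 5, nat_lit 6]),
    ([nat_lit 4], [nat_lit 6, nat_lit 5]),
    ([nat_lit 5], [nat_lit 4, nat_lit 7]),
    ([nat_lit 5], [nat_lit 5, nat_lit 6]),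
    ([nat_lit 6], [nat_lit 4, nat_lit 7]),
    ([nat_lit 0], [nat_lit 0, nat_lit 2]),
    ([nat_lit 0], [nat_lit 1, nat_lit 1]),
    ([nat_lit 0], [nat_lit 2, nat_lit 0]),
    ([nat_lit 1], [nat_lit 0, nat_lit 1]),
    ([nat_lit 4], [nat_lit 4, nat_lit 6]),
    ([nat_lit 4], [nat_lit 5, nat_lit 5]),
    ([nat_lit 4], [nat_lit 6, nat_lit 4]),
    ([nat_lit 5], [nat_lit 4, nat_lit 5]),
    ([nat_lit 4], [nat_lit 0, nat_lit 3]),
    ([nat_lit 4], [nat_lit 1, nat_lit 2]),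
    ([nat_lit 5], [nat_lit 0, nat_lit 3]),
    ([nat_lit 5], [nat_lit 1, nat_lit 2]),
    ([nat_lit 6], [nat_lit 0, nat_lit 3]),
    ([nat_lit 6], [nat_lit 1, nat_lit 2]),
    ([nat_lit 7], [nat_lit 0, nat_lit 3]),
    ([nat_lit 7], [nat_lit 1, nat_lit 2]),
    ([nat_lit 4], [nat_lit 7, nat_lit 0]),
    ([nat_lit 4], [nat_lit 7, nat_lit 1]),
    ([nat_lit 5], [nat_lit 6, nat_lit 0]),
    ([nat_lit 5], [nat_lit 6, nat_lit 1]),
    ([nat_lit 4], [nat_lit 0, nat_lit 0]),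
    ([nat_lit 5], [nat_lit 0, nat_lit 0]),
    ([nat_lit 4], [nat_lit 4, nat_lit 0])]
  RB := [(nat_lit 8, [nat_lit 0, nat_lit 0, nat_lit 0, nat_lit 0, nat_lit 0]),
    (nat_lit 9, [nat_lit 2, nat_lit 2, nat_lit 2, nat_lit 2, nat_lit 2]),
    (nat_lit 8, [nat_lit 0, nat_lit 0, nat_lit 0, nat_lit 0, nat_lit 1, nat_lit 0, nat_lit 1, nat_lit 1, nat_lit 1, nat_lit 1])]
  A := j2p5_A
  β := []
  co := j2p5_co
  lay := [(nat_lit 240, [nat_lit 0, nat_lit 1, nat_lit 2, nat_lit 3]),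
    (nat_lit 0, [nat_lit 4, nat_lit 5, nat_lit 6, nat_lit 7])]

theorem j2p5_1 : j2p5.ok1 (nat_lit 255) = true := by decide +kernel
theorem j2p5_2 : j2p5.ok2 = true := by decide +kernel

def j2p5s : List ℕ := [nat_lit 0xa25959eb551a3e649d64a67723cd6228daf1b8e9bbc02d694c24c91a1e0ca8182d6d85529915f2e4460e610ef44b08e428112e039384002a6d65d2e4a910b8055e4b78a1a919086101d7b3eed6a0ff155121cfc28d3a63c, nat_lit 0x36184244f34735867140b60fb0d3bcfc158bb458a93d424195610c577b1a94c2a3191f8042cda8a82b4f883ea1a94d8a39ab800a27075e4b22b132300a9d5f9ccd697241c54984dd721b635a5c5f04b47c425283278dd85, nat_lit 0x41eaaa394e78c1ee1cd088d55b1a90674a686ef4048bca491109bb3b64c53ba55a1a5027562724bae0d34f66d71644ca28e7a659be842e040a0836792d35ac6c24453025fad065d1ba657473eb0543612d88046094549f, nat_lit 0x9c263cb70c46d67b7d12f343045e9a5718b1c0aa015560cadaa0cbb06411fa91570780988541c308df5daf6e9b3a0824d9c291dacb4e8f9e5ce4e910b80827a310a126f8a0c88d15b2686d27b595483ab0c59e13846e025,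 nat_lit 0x6010da0a45ca61b428621731f1c530be2105acc93122e8496a29702c38145cd94aefcfbcc9f155530419449dbd93b0315604daa5c7f0da2302d6da9bab9ec134a03a4970a8060079d8f71264554d609ce8c0c6bc3f5e98e, nat_lit 0xb2f0d295f2c31b1562adb7d45860487560fc488f3776c89c288d10568235312740a92d2e9d5d06cc67076afd50c7b34247af322e19470c81a622d542902f8b517232322148031cbaf382a24b6386840334a7e44fbae4c49, nat_lit 0x193d4543a4419ab0871da5712ca046f6b3808d572abc9c00558654c7172219e655d7e296fc11098dd9c61129b55be49e5172c701b75043d331385450d36926b985281763479f9300b95a04e130396c7226974b2d28f9209, nat_lit 0xaab6e457aecfa8436d80a04b0629037e39578220362efc70dac1ea514c58e2e4ee4e84232ab8f62a91259cea663a47a7c47cdd01a642e31848cec6006497c3c26da53bd21c5d13365d020002d9836a4b532521620cad193, nat_lit 0x1cc0a5848c962da94da4d0a12eca752c9c088253d2b6b9f2b066e8428b84bdf22f30337ad92812b071512c81f8d3c72bc63e2979946de7214c1d88b456951893201101f55db9b8e21cc535a3cf2578606c76441a5000eb5,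 nat_lit 0x8e104377e5c29b7aeac8a577271196e22581ab2f539884399440cf023a7ca981ea17c9482c6325d170c8af49dbeb7812d566a80b04f0c4b1538ce541cd934aace5a129b3c846bb01041bf08b1ab5416b579889862945180]
noncomputable def j2p5g : ℕ → G0 := cg KJ j2p5s
noncomputable def j2p5T_tbl : NT :=
(.node (nat_lit 4087)
(.node (nat_lit 2043)
(.leaf (nat_lit 0) (nat_lit 0x748651886985c14f6afb8ad270dc506a8e39c09cc83786e2888c19d76809a258c1ca485b24910a6051a42514bb79a3ef3b232db9825167d590342c2c42438620edc0f21420bf154a339ba7c18690b6499bb704c91c0230384120389b0171e8a5db98410e597bcedb235c820cca055c0f4ce909dbea48502ae21b2b6f6156004c4c969746cf2d1c2c22d2278e6974d4fb2c31d56afae56b44a09c869a5585f4285eb56d0d8a4560bf5a3248e004c3862d89a866a899ce57863d5798ccb44b18316c4271592974f832d8848726221169035e004a7c31ac4b67bc27181c228a0314ba7e104271a88056f9cd737471ce46751a4314e0297730035262648e4a7c2bc))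
(.leaf (nat_lit 2044) (nat_lit 0x42748261896b8256f942cb2899011e42815389ed5f5c558cc6ca8c128a5e2c154dd8cc46b9011c3891339c21f5cac324514b18399ba3678eae5a7086a8ab9a88c29207529fa7b6f47c376fe63654de9cda979f0dc754659675cd44b67a95f7a7680b956301c3c4a6c04045b234b5e7bc098a4992922ac689463d6b289ca8667df39ae0b0c7aa2150a6ec6636487b04b02bd0608b51dcc0301819346f0dc59651394e8d93a94fed5f70721b71704e437484e90133a30732d0f8578018a1314c0a33d825aa5299218a60572022db187673843572a165938c6c0ab56ce904ceaa0bc116a2922d91ae1c8818629742bc0095b5a253602ec12d5244ca97d2bef4826)))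
(.node (nat_lit 6131)
(.leaf (nat_lit 4088) (nat_lit 0x7ce4d4460cee0459128c718d5f5c9d74659618c42bc31c8ca5283045bcc69cd96e80a348626d4bcc5c4bbef4eaf2b05f8a884e3d659131ce046ec402ae0790172ac2f1b11e04c4b4734ba3560910d5133046e8e3bc9e02e3c4aa5e634e9d26ca9bb103014bb996cbde76455243d810ae7e9d93ab0be80b0ef87002624c9490b4cab1a161165b24c94440eb2c8946a88578419b0e65a2507082133d42a294180bb73048142a31eb2c60ceb9a3b1530b827195b7a3cfe12d20685084e3032a5ce434c2df8aa454c5f5c7894d52ee6011e453b275285522b0543c735c12bb9586355f80eafa57c7c3656e4b309896cf0094f8548f48cb2f7a60180a45b694fd3b2))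
(.leaf (nat_lit 6132) (nat_lit 0x8e3aa8cb2c270237442305b3de04121c3161052e28346e3d510adbd88b514a096a921e7e91e9d5f49c1c4f68bb27646597634e6d40ab0f830c506cf1cd0dad5068de1ac31abe7b510d81569e8f86c9d53b686c0abee0e27b2d1863aa3113950b054d156ada15f405ca561412b))))

noncomputable def j2p5T : PT where
  N := nat_lit 100
  G := nat_lit 10
  W := nat_lit 7
  mask := nat_lit 127
  sb := nat_lit 0
  sm := nat_lit 0
  tbl := j2p5T_tbl

theorem j2p5h : AM j2p5T j2p5g pt := cg_AM (by decide +kernel)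
noncomputable def j2p5c_0 : OL where
  b := nat_lit 0
  n := nat_lit 25
  S := [[nat_lit 0],
  [nat_lit 4]]
  O := ⟨nat_lit 0, nat_lit 4, nat_lit 7, nat_lit 127, nat_lit 0, nat_lit 0,
(.node (nat_lit 1700)
(.node (nat_lit 1056)
(.node (nat_lit 888)
(.leaf (nat_lit 0) (nat_lit 0x26000000004b460004a03220498700048c220048061c04799000468400046160004594000453404044930e0446200043c8000435d00003251204289000422d2c0418d280019f060414924040cf2e00085000400e000003c0000000))
(.leaf (nat_lit 889) (nat_lit 0x6)))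
(.node (nat_lit 1280)
(.leaf (nat_lit 1057) (nat_lit 0xa))
(.node (nat_lit 1476)
(.leaf (nat_lit 1281) (nat_lit 0x8))
(.leaf (nat_lit 1477) (nat_lit 0xf)))))
(.node (nat_lit 2232)
(.node (nat_lit 1868)
(.leaf (nat_lit 1701) (nat_lit 0x1))
(.node (nat_lit 1980)
(.leaf (nat_lit 1869) (nat_lit 0x15))
(.leaf (nat_lit 1981) (nat_lit 0x5000000c00000000000018))))
(.node (nat_lit 2624)
(.leaf (nat_lit 2233) (nat_lit 0x4))
(.node (nat_lit 2764)
(.leaf (nat_lit 2625) (nat_lit 0xb))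
(.leaf (nat_lit 2765) (nat_lit 0xd))))))⟩

noncomputable def j2p5c : List OL := [j2p5c_0]

theorem pb5 : PB G0 5 0 :=
  H28.PCD.pb (g := j2p5g) (e := 1) (by norm_num) j2p5_1 j2p5_2
    (fun e he => j2p5h.chk2 hB0 _ _ (allL_sound (p := fun e => j2p5T.chk2 [0, 7, 6, 1] e.1 e.2) (by decide +kernel) e he))
    (card_ge_of_chain (ls := j2p5c) j2p5h hinj0 (by decide +kernel) (by decide +kernel)) hcard (by decide +kernel)

theorem bound (Γ : Type) [Group Γ] [Finite Γ] (σ : Γ →* G0) (hσ : IsStemExtension σ) :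
    Nat.card σ.ker ≤ 2 :=
  card_ker_dvd (B := 7) [(2, 1), (3, 0), (5, 0)] hcard (by decide +kernel) (by decide +kernel) (by norm_num) (by
    simp only [List.mem_cons, List.not_mem_nil, or_false, forall_eq_or_imp, forall_eq]
    exact ⟨⟨pb2, by decide⟩,
      ⟨pb3, by decide⟩,
      ⟨pb5, by decide⟩⟩) Γ σ hσ

def Ts : List ℕ := [nat_lit 0xc1365638d7add4baf9ecbab5abdc710e8d088f312fb1864c8577d4cfa5093404b6acce76e90d3407d51e4ec8ea398b96988ed62996705f936049cb76cd1894363542c2e24a9c48883901018d0c0814b0f223850b0608001, nat_lit 0xb7670cfb91625fc6ff15874e6ab88cf1bd0c0cd84c5d024ab8f4ef5d4e9a0cab4911d25f5eb54a289ab49c758cd772d69a905d49587089be7ad90a0224190e36b0c8a54594084a1cf9e0c702841660194243c68c1200082, nat_lit 0xc787147ad62e5d936acdeaf7dc54914a6339f3a6d17b0add3c0aa2b9512a0a5528e5b444862556eb1abca07989b3490c362f19fc3284e02e7cedd113ec879c60bc62d56584274c250063a2c6991c289150440084001c283, nat_lit 0xad8b0e0b5563427d7e0baaf8ef5486ddb5062c193b96b55c88f762a7a772cc04d6d2a29961220a544f2c3b367ce5e665349260aa888fdeb924f08b83ed599c1a6972a125948c0e8d0901e2cd941c0cb8226042801420304]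
noncomputable def g : ℕ → G0 := cg KJ Ts
noncomputable def T_tbl : NT :=
(.node (nat_lit 2043)
(.leaf (nat_lit 0) (nat_lit 0x914d5c88f823abbaaa9df8b16f294ee6ecfa6a13d2b929342b3060a680965404ca6d25b68d25a4b2d1d944d294e98897bbb086bba4912b214156a53a4de8a0a2b111f3cd5aaa58f1a1e3b427279a78eb29ec589d9c6e6a35e69dcc32925ae94616ad68d8d18925e4473118bb52afd4c5510ca9988521b37e4e1417b009bf72b9f1324f9eb078edb1222e90b970450373e7c8b66ac8834663d93138707141ac0d9b34bd60d5c30ca854b452c12ad5172c58b095221415189c41c0e992a446243a24280f872018f101e74308162ce06363429a286420c1c385840628c052e481960454a0f2608911024078e0a0468a001060b1400483101c0020c14080080c101))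
(.leaf (nat_lit 2044) (nat_lit 0xad8ede0c586ccdc38b0cac11e7e3b55ae46ab622de8d7225b8576fd47d271ddbf69fbe836713d757ac4baf5dd55c77dcd6bce2ad7a951c5c87223386f49e436d31bd1a0ce850633f04461399bc6535862774662f96f57585b0a061576e4c9)))

noncomputable def T : PT where
  N := nat_lit 100
  G := nat_lit 4
  W := nat_lit 7
  mask := nat_lit 127
  sb := nat_lit 0
  sm := nat_lit 0
  tbl := T_tbl

theorem hAM : AM T g pt := cg_AM (by decide +kernel)
open Cfsg.Agent.H28.Ico Cfsg.Agent.H28.Ico.Q8 Cfsg.Spor in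
theorem step {a : ℕ} (ha : a < 4) {v : W3} (w : W3) {x : icoLeech} (hx : (x : V3) = v.val)
    (h : ∀ p ∈ [(v.x, w.x, (rep (ga a)).x), (v.y, w.y, (rep (ga a)).y), (v.z, w.z, (rep (ga a)).z)],
      sm 8 p.2.1 = sub (sm 8 p.1) (mul (ip v (rep (ga a))) p.2.2)) : (R (ga a) x : V3) = w.val := by
  have k : ∀ {x y w : Q8}, sm 8 w = sub (sm 8 x) (mul (ip v (rep (ga a))) y) →
      hv w = hv x - ((1 / 2 : ℝ) • qip v.val (rep (ga a)).val) * hv y := fun {x y w} e => by
    have := congrArg hv e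
    rw [hv_sm, hv_sub, hv_sm, hv_mul, hv_ip] at this
    apply smul_right_injective _ (show (8 : ℝ) ≠ 0 by norm_num)
    simp only [smul_sub, smul_mul_assoc, smul_smul] at this ⊢
    norm_num at this ⊢
    exact this
  rw [R, rf_apply (mn_rep (ga_lt ha)), hx]
  funext t
  fin_cases t
  exacts [(k (h (v.x, w.x, _) (by simp))).symm, (k (h (v.y, w.y, _) (by simp))).symm, (k (h (v.z, w.z, _) (by simp))).symm]

open Cfsg.Agent.H28.Ico Cfsg.Spor in
noncomputable def γ (a : ℕ) : twoJ2 := if h : a < 4 then (⟨R (ga a), R_mem (ga_lt h)⟩ : twoJ2)⁻¹ else 1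

open Cfsg.Agent.H28.Ico Cfsg.Spor in
theorem mult : HasCyclicSchurMultiplier J2 2 := by
  haveI := simple
  haveI : Finite twoJ2 := Nat.finite_of_card_ne_zero (by rw [card_twoJ2]; norm_num)
  have h1 : ∀ w : List ℕ, (∀ a ∈ w, a < 4) → e (QuotientGroup.mk (ev γ w)) = ev g w := fun w hw =>
    Subtype.ext (by
      rw [e_mk, map_ev]
      refine (ev_congr fun a ha => ?_).trans (map_ev KJ.K.subtype g w).symm
      have := hw a ha
      rw [γ, dif_pos this, map_inv, phi_gen this]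
      refine Eq.trans ?_ (cg_val (S := KJ) (Ts := Ts) this ?_).symm <;> interval_cases a <;> first | rfl | decide +kernel)
  have h2 : ∀ a (h : a < 4), (γ a : Equiv.Perm icoLeech) = R (ga a) := fun a h => by
    rw [γ, dif_pos h]; exact rf_inv (mn_rep (ga_lt h))
  refine hasSchur_two ⟨QuotientGroup.mk (ev γ [0, 1]), QuotientGroup.mk (ev γ [2]), fun h => ?_⟩
    (QuotientGroup.mk' _) (QuotientGroup.mk'_surjective _) (QuotientGroup.ker_mk' _).le
    (by rw [QuotientGroup.ker_mk', card_center]) (x := ev γ [0, 2, 1, 3, 0, 2, 1, 3, 0, 2, 1, 3]) (e.injective ?_) (fun h => ?_)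
    fun Γ _ _ σ hσ => ?_
  · have := congrArg e h
    rw [map_mul, map_mul, h1 _ (by decide), h1 _ (by decide), ← ev_append, ← ev_append] at this
    exact hAM.neqv hinj0 hB0.1 (T.small_sound (by decide +kernel)) (T.small_sound (by decide +kernel))
      (by decide +kernel) this
  · rw [map_pow, map_one, QuotientGroup.mk'_apply, h1 _ (by decide), pow_two, ← ev_append]
    exact hAM.chk hB0 _ (by decide +kernel)
  · have h0 : ((⟨_, (mn_rep (i := 0) (by norm_num)).1⟩ : icoLeech) : V3) = (⟨⟨0, 0, 0, 0, 2, 0, 0, 0⟩, ⟨1, 0, -1, 2, 1, 0, 1, 0⟩, ⟨2, 0, 0, 0, 0, 0, 0, 0⟩⟩ : W3).val :=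
      by rw [show (⟨⟨0, 0, 0, 0, 2, 0, 0, 0⟩, ⟨1, 0, -1, 2, 1, 0, 1, 0⟩, ⟨2, 0, 0, 0, 0, 0, 0, 0⟩⟩ : W3) = ⟨(rep 0).x, (rep 0).y, (rep 0).z⟩ by congr 1 <;> decide +kernel]
    have h101 := step (a := 3) (by norm_num) (⟨⟨1, -1, 0, 0, 1, 0, 0, -1⟩, ⟨1, 0, 0, 1, 1, -1, 2, 0⟩, ⟨0, 0, -1, 1, 0, 1, 1, 0⟩⟩ : W3) h0 (by decide +kernel)
    have h102 := step (a := 1) (by norm_num) (⟨⟨-1, 1, -2, 0, 1, 0, 0, 1⟩, ⟨1, 0, 0, -1, -1, 1, 0, 0⟩, ⟨0, 0, -1, 1, 0, 1, 1, 0⟩⟩ : W3) h101 (by decide +kernel)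
    have h103 := step (a := 2) (by norm_num) (⟨⟨-1, 1, -1, 0, 0, -1, 0, 0⟩, ⟨1, -1, 1, 0, 0, 1, 0, 0⟩, ⟨0, 0, -2, 1, -1, 0, -1, -1⟩⟩ : W3) h102 (by decide +kernel)
    have h104 := step (a := 0) (by norm_num) (⟨⟨-1, 1, -1, 0, 0, -1, 0, 0⟩, ⟨1, -1, 1, 0, 0, 1, 0, 0⟩, ⟨0, 0, -2, 1, -1, 0, -1, -1⟩⟩ : W3) h103 (by decide +kernel)
    have h105 := step (a := 3) (by norm_num) (⟨⟨-2, 0, -1, 0, 1, -1, 0, -1⟩, ⟨1, -1, 0, -1, 0, 0, -1, 0⟩, ⟨0, 0, -1, 0, -1, 1, 0, 1⟩⟩ : W3) h104 (by decide +kernel)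
    have h106 := step (a := 1) (by norm_num) (⟨⟨0, 0, 1, 0, 1, -1, 0, -1⟩, ⟨1, -1, 0, -1, 2, 0, 1, 0⟩, ⟨0, 0, -1, 0, -1, 1, 0, 1⟩⟩ : W3) h105 (by decide +kernel)
    have h107 := step (a := 2) (by norm_num) (⟨⟨0, 0, -1, 1, 0, -1, -1, 0⟩, ⟨0, 0, 1, -1, 0, 1, 1, 0⟩, ⟨-1, 0, 0, -1, 1, -1, 2, 0⟩⟩ : W3) h106 (by decide +kernel)
    have h108 := step (a := 0) (by norm_num) (⟨⟨1, -1, 1, 1, 1, -1, -1, 1⟩, ⟨1, -1, 1, 1, 1, -1, -1, 1⟩, ⟨0, 0, 0, 0, 0, 0, 0, 0⟩⟩ : W3) h107 (by decide +kernel)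
    have h109 := step (a := 3) (by norm_num) (⟨⟨0, -1, 1, 0, 0, 0, -1, 1⟩, ⟨1, 0, 0, 1, 1, -1, 0, 0⟩, ⟨0, 0, -1, 1, 0, -1, -1, 2⟩⟩ : W3) h108 (by decide +kernel)
    have h110 := step (a := 1) (by norm_num) (⟨⟨-1, 1, 0, 0, 1, 0, 0, 1⟩, ⟨0, 0, -1, 1, 0, 1, -1, 0⟩, ⟨0, 0, -1, 1, 0, -1, -1, 2⟩⟩ : W3) h109 (by decide +kernel)
    have h111 := step (a := 2) (by norm_num) (⟨⟨-1, 0, -1, 0, 1, 0, -1, 0⟩, ⟨-1, -1, -1, 1, -1, 1, -1, 1⟩, ⟨-1, 0, -1, 0, 1, 0, -1, 0⟩⟩ : W3) h110 (by decide +kernel)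
    have h112 := step (a := 0) (by norm_num) (⟨⟨-1, 1, 0, 0, 1, 0, 0, -1⟩, ⟨1, -1, 0, 0, -1, 0, 0, 1⟩, ⟨-1, 0, 0, -1, 1, -1, -2, 0⟩⟩ : W3) h111 (by decide +kernel)
    have h113 := step (a := 3) (by norm_num) (⟨⟨0, -1, 1, -1, 1, 0, 0, 0⟩, ⟨0, 0, 1, -2, -1, 1, 0, 1⟩, ⟨0, 1, -1, 1, -1, 0, 0, 0⟩⟩ : W3) h112 (by decide +kernel)
    have h114 := step (a := 1) (by norm_num) (⟨⟨1, -1, 0, -1, 0, 0, 1, -2⟩, ⟨1, 0, 0, 0, 0, 1, -1, 1⟩, ⟨0, 1, -1, 1, -1, 0, 0, 0⟩⟩ : W3) h113 (by decide +kernel)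
    have h115 := step (a := 2) (by norm_num) (⟨⟨-1, 0, -1, -1, 0, 0, 0, -1⟩, ⟨0, 1, 0, 0, -1, 1, 1, 0⟩, ⟨2, -1, 0, 0, 1, -1, 1, 0⟩⟩ : W3) h114 (by decide +kernel)
    have h116 := step (a := 0) (by norm_num) (⟨⟨0, -1, 1, -1, -1, 0, 0, 0⟩, ⟨0, 0, 1, 0, -1, -1, -2, 1⟩, ⟨1, -1, 0, 1, 0, 0, -1, 0⟩⟩ : W3) h115 (by decide +kernel)
    have h117 := step (a := 3) (by norm_num) (⟨⟨0, -1, 0, 0, -1, 1, 1, 0⟩, ⟨1, -1, 1, 0, 0, -1, -2, 0⟩, ⟨0, 1, 0, 0, 1, -1, -1, 0⟩⟩ : W3) h116 (by decide +kernel)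
    have h118 := step (a := 1) (by norm_num) (⟨⟨0, 1, 2, 0, 1, -1, 1, 0⟩, ⟨-1, 1, 1, 0, 0, 1, 0, 0⟩, ⟨0, 1, 0, 0, 1, -1, -1, 0⟩⟩ : W3) h117 (by decide +kernel)
    have h119 := step (a := 2) (by norm_num) (⟨⟨0, 0, 1, -1, 2, -1, 1, 0⟩, ⟨-1, 1, 0, 0, -1, 0, 0, 1⟩, ⟨-1, 0, 0, -1, 1, 1, 0, 0⟩⟩ : W3) h118 (by decide +kernel)
    have h120 := step (a := 0) (by norm_num) (⟨⟨0, 0, 1, -1, 2, -1, 1, 0⟩, ⟨-1, 1, 0, 0, -1, 0, 0, 1⟩, ⟨-1, 0, 0, -1, 1, 1, 0, 0⟩⟩ : W3) h119 (by decide +kernel)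
    have h121 := step (a := 3) (by norm_num) (⟨⟨0, 0, 0, -1, 1, 0, 1, 1⟩, ⟨0, 1, 0, 0, -1, 1, 1, 0⟩, ⟨-1, 1, -1, 0, 2, -1, 0, 0⟩⟩ : W3) h120 (by decide +kernel)
    have h122 := step (a := 1) (by norm_num) (⟨⟨1, -1, -1, 0, 0, 1, 0, 0⟩, ⟨1, 0, 1, 1, 0, 0, 0, 1⟩, ⟨-1, 1, -1, 0, 2, -1, 0, 0⟩⟩ : W3) h121 (by decide +kernel)
    have h123 := step (a := 2) (by norm_num) (⟨⟨0, 0, 0, 0, 2, 0, 0, 0⟩, ⟨1, 0, -1, 2, 1, 0, 1, 0⟩, ⟨2, 0, 0, 0, 0, 0, 0, 0⟩⟩ : W3) h122 (by decide +kernel)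
    have hL := step (a := 0) (by norm_num) (⟨⟨0, 0, 0, 0, -2, 0, 0, 0⟩, ⟨-1, 0, 1, -2, -1, 0, -1, 0⟩, ⟨-2, 0, 0, 0, 0, 0, 0, 0⟩⟩ : W3) h123 (by decide +kernel)
    have e1 := congrArg (fun f : twoJ2 => (f.1 ⟨_, (mn_rep (i := 0) (by norm_num)).1⟩ : V3)) h
    simp only [pow_two, ev_cons, ev_nil, mul_one, Subgroup.coe_mul, Equiv.Perm.mul_apply, h2 _ (by norm_num : 0 < 4),
      h2 _ (by norm_num : 1 < 4), h2 _ (by norm_num : 2 < 4), h2 _ (by norm_num : 3 < 4)] at e1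
    exact absurd (Q8.hv_inj (congrFun ((hL.symm.trans e1).trans h0) 0)) (by decide)
  · have := bound Γ ((e : J2 →* G0).comp σ) ⟨e.surjective.comp hσ.1, by
      rw [MonoidHom.ker_mulEquiv_comp]; exact hσ.2⟩
    rwa [MonoidHom.ker_mulEquiv_comp] at this

end Cfsg.Agent.H25.J2
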