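import Mathlib
import Cfsg.Prelude.Def_Spor_J3
import Cfsg.Prelude.Def_Classical
import Cfsg.Agent.H25.VM

/-! The triple cover of `J₃` over a concrete field with four elements. -/

set_option maxRecDepth 100000
set_option linter.all false

namespace Cfsg.Agent.H25.J3
open Cfsg.Agent.H25 Cfsg.Spor Matrix

instance fct : Fact (∀ r : ZMod 2, r ^ 2 ≠ 1 + 1 * r) := ⟨by decide⟩
abbrev K : Type := QuadraticAlgebra (ZMod 2) 1 1
instance : Fintype K := Fintype.ofEquiv _ (QuadraticAlgebra.equivProd 1 1).symm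
def om : K := ⟨0, 1⟩
theorem cardK : Fintype.card K = 4 := by decide
theorem hom : om ^ 2 + om + 1 = 0 := by decide
abbrev Γ : Type := threeJ3 K om

section Transport
variable {F : Type*} [Field F] [Fintype F] (hF : Fintype.card F = 4) {ω : F} (hω : ω ^ 2 + ω + 1 = 0)
include hF hω

theorem exists_iso : ∃ φ : K ≃+* F, φ om = ω := by
  have h2 : (2 : F) = 0 := by
    have := FiniteField.cast_card_eq_zero F
    rw [hF] at this
    exact pow_eq_zero_iff (n := 2) (by norm_num) |>.1 (by rw [← this]; norm_num)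
  haveI : CharP F 2 := CharTwo.of_one_ne_zero_of_two_eq_zero one_ne_zero h2
  letI : Algebra (ZMod 2) F := ZMod.algebra F 2
  let f : K →ₐ[ZMod 2] F := QuadraticAlgebra.lift ⟨ω, by
    rw [one_smul, one_smul]; linear_combination hω - (ω + 1) * h2⟩
  refine ⟨RingEquiv.ofBijective f.toRingHom ((Fintype.bijective_iff_injective_and_card _).2
    ⟨f.toRingHom.injective, by rw [hF, cardK]⟩), ?_⟩
  simp [f, om]

end Transport

section Map
variable {E F : Type*} [Field E] [Field F] (φ : E →+* F) (ω : E)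

theorem gens_map {M : Matrix F9 F9 E} (h : M ∈ j3Gens E ω) : M.map φ ∈ j3Gens F (φ ω) := by
  rcases h with (((⟨Z, rfl⟩ | ⟨Z, rfl⟩) | ⟨Z, rfl⟩) | ⟨Z, h, rfl⟩) | ⟨Z, h, rfl⟩
  · refine .inl (.inl (.inl (.inl ⟨Z, ?_⟩)))
    ext w z; simp [j3A, omegaPow, diagonal_apply, apply_ite φ]
  · refine .inl (.inl (.inl (.inr ⟨Z, ?_⟩)))
    ext w z; simp [j3E, omegaPow, diagonal_apply, apply_ite φ]
  · refine .inl (.inl (.inr ⟨Z, ?_⟩))
    ext w z; simp [j3D, j3Lam, apply_ite φ]
  · refine .inl (.inr ⟨Z, h, ?_⟩)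
    ext w z; simp [j3B, apply_ite φ]
  · refine .inr ⟨Z, h, ?_⟩
    ext w z; simp [j3C, apply_ite φ]

theorem mem_map {y : GL F9 E} (h : y ∈ threeJ3 E ω) :
    GeneralLinearGroup.map φ y ∈ threeJ3 F (φ ω) := by
  have : threeJ3 E ω ≤ (threeJ3 F (φ ω)).comap (GeneralLinearGroup.map φ) := by
    rw [threeJ3, Subgroup.closure_le]
    exact fun y hy => Subgroup.subset_closure (gens_map φ ω hy)
  exact this h

end Map

/-- transport along a field isomorphism -/
noncomputable def isoOf {E F : Type*} [Field E] [Field F] (φ : E ≃+* F) {ω : E} {ω' : F}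
    (h : φ ω = ω') : threeJ3 E ω ≃* threeJ3 F ω' where
  toFun y := ⟨GeneralLinearGroup.map φ.toRingHom y, h ▸ mem_map φ.toRingHom ω y.2⟩
  invFun y := ⟨GeneralLinearGroup.map φ.symm.toRingHom y, by
    have := mem_map φ.symm.toRingHom ω' y.2
    rwa [show φ.symm.toRingHom ω' = ω by simp [← h]] at this⟩
  left_inv y := by ext i j; simp
  right_inv y := by ext i j; simp
  map_mul' a b := by ext i j; simp

/-- isomorphic groups have isomorphic central quotients -/
noncomputable def quotIso {A B : Type*} [Group A] [Group B] (e : A ≃* B) :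
    (A ⧸ Subgroup.center A) ≃* (B ⧸ Subgroup.center B) :=
  QuotientGroup.congr _ _ e (by
    ext y
    refine ⟨?_, fun h => ⟨e.symm y, (MulEquivClass.apply_mem_center e.symm h), by simp⟩⟩
    rintro ⟨x, h, rfl⟩
    exact MulEquivClass.apply_mem_center e h)

def el (k : ℕ) : F9 := (((k / 3 : ℕ) : ZMod 3), (k : ZMod 3))
def idx (z : F9) : ℕ := 3 * z.1.val + z.2.val
theorem idx_lt : ∀ z, idx z < 9 := by decide
theorem el_idx : ∀ z, el (idx z) = z := by decide
theorem idx_el : ∀ k < 9, idx (el k) = k := by decide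
theorem idx_pos : ∀ z, z ≠ 0 → 0 < idx z := by decide
theorem el_ne : ∀ k < 9, 0 < k → el k ≠ 0 := by decide

def gm (a : ℕ) : Matrix F9 F9 K :=
  if a < 9 then j3A K om (el a) else if a < 18 then j3E K om (el (a - 9))
  else if a < 27 then j3D K om (el (a - 18)) else if a < 35 then j3B K (el (a - 26))
  else j3C K (el (a - 34))

theorem gm_mem (a : ℕ) (h : a < 43) : gm a ∈ j3Gens K om := by
  unfold gm
  split_ifs
  · exact .inl (.inl (.inl (.inl ⟨_, rfl⟩)))
  · exact .inl (.inl (.inl (.inr ⟨_, rfl⟩)))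
  · exact .inl (.inl (.inr ⟨_, rfl⟩))
  · exact .inl (.inr ⟨_, el_ne _ (by omega) (by omega), rfl⟩)
  · exact .inr ⟨_, el_ne _ (by omega) (by omega), rfl⟩

theorem exists_gm {M : Matrix F9 F9 K} (h : M ∈ j3Gens K om) : ∃ a < 43, M = gm a := by
  rcases h with (((⟨Z, rfl⟩ | ⟨Z, rfl⟩) | ⟨Z, rfl⟩) | ⟨Z, h, rfl⟩) | ⟨Z, h, rfl⟩
  all_goals have h1 := idx_lt Z
  · exact ⟨idx Z, by omega, by rw [gm, if_pos h1, el_idx]⟩
  · exact ⟨idx Z + 9, by omega, by
      rw [gm, if_neg (by omega), if_pos (by omega), Nat.add_sub_cancel, el_idx]⟩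
  · exact ⟨idx Z + 18, by omega, by
      rw [gm, if_neg (by omega), if_neg (by omega), if_pos (by omega), Nat.add_sub_cancel, el_idx]⟩
  · have := idx_pos Z h
    exact ⟨idx Z + 26, by omega, by
      rw [gm, if_neg (by omega), if_neg (by omega), if_neg (by omega), if_pos (by omega),
        Nat.add_sub_cancel, el_idx]⟩
  · have := idx_pos Z h
    exact ⟨idx Z + 34, by omega, by
      rw [gm, if_neg (by omega), if_neg (by omega), if_neg (by omega), if_neg (by omega),
        Nat.add_sub_cancel, el_idx]⟩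

theorem gm_unit : ∀ a < 43, ∀ w z, ∑ i, gm a i w * gm a i z ^ 2 = if w = z then 1 else 0 := by
  decide +kernel

theorem gm_isUnit (a : ℕ) (h : a < 43) : IsUnit (gm a) := by
  refine IsUnit.of_mul_eq_one_right ((gm a).map (· ^ 2))ᵀ ?_
  refine Matrix.ext fun z w => ?_
  simp only [mul_apply, transpose_apply, map_apply, one_apply, mul_comm (gm a _ z ^ 2), gm_unit a h,
    eq_comm]

noncomputable def y0 (a : ℕ) (h : a < 43) : Γ :=
  ⟨(gm_isUnit a h).unit, Subgroup.subset_closure (gm_mem a h)⟩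

noncomputable def x0 (a : ℕ) : Γ := if h : a < 43 then (y0 a h)⁻¹ else 1

theorem top_of {H : Subgroup Γ} (h : ∀ a < 43, x0 a ∈ H) : H = ⊤ :=
  top_of_gens fun (y : Γ) hy => by
    obtain ⟨a, ha, e⟩ := exists_gm hy
    have := h a ha
    rw [x0, dif_pos ha, inv_mem_iff] at this
    rwa [show y = y0 a ha from Subtype.ext (Units.ext e)]

def bas (i : ℕ) : F9 → K := Pi.single (el (i / 2)) (if i % 2 = 0 then 1 else om)

theorem dec_eq (w m : ℕ) (z : F9) :
    vdec 18 w bas m z = ⟨(dg w m (2 * idx z) : ZMod 2), (dg w m (2 * idx z + 1) : ZMod 2)⟩ := by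
  have h1 := idx_lt z
  rw [vdec, Finset.sum_apply, Finset.sum_eq_add_of_mem (2 * idx z) (2 * idx z + 1)
    (Finset.mem_range.2 (by omega)) (Finset.mem_range.2 (by omega)) (by omega)]
  · have e1 : (2 * idx z + 1) / 2 = idx z := by omega
    have e2 : (2 * idx z + 1) % 2 = 1 := by omega
    ext <;> simp [bas, e1, e2, el_idx, om]
  · intro c hc h
    have : z ≠ el (c / 2) := fun e => by
      have := idx_el (c / 2) (by have := Finset.mem_range.1 hc; omega)
      rw [← e] at this; omega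
    simp [bas, this]

theorem hb (w : ℕ) : Bas Γ 2 18 w bas where
  hp i := by
    funext z
    have : ∀ t : K, 2 • t = 0 := by decide
    exact this _
  ind a b e j hj := by
    have := congrFun e (el (j / 2))
    rw [dec_eq, dec_eq, idx_el _ (by omega), QuadraticAlgebra.mk.injEq] at this
    rcases Nat.even_or_odd' j with ⟨k, rfl | rfl⟩
    · rw [show 2 * k / 2 = k by omega] at this
      exact (ZMod.natCast_eq_natCast_iff' _ _ _).1 this.1
    · rw [show (2 * k + 1) / 2 = k by omega] at this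
      exact (ZMod.natCast_eq_natCast_iff' _ _ _).1 this.2
  span y h := by
    refine Subtype.ext (Units.ext (Matrix.ext fun i j => ?_))
    have := congrFun (h (2 * idx j) (by have := idx_lt j; omega)) i
    have e : ((y : GL F9 K).val.mulVec (bas (2 * idx j))) i = _ := this
    simpa [bas, el_idx, Matrix.one_apply, Pi.single_apply] using e

theorem vm_of {T : VT} (hk : T.ok = true) (e : T.p = 2 ∧ T.n = 18 ∧ T.G = 43)
    (h : ∀ a < 43, ∀ i < 18, ∀ z, gm a z (el (i / 2)) * (if i % 2 = 0 then 1 else om) =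
      ⟨(dg T.w (gd 0 (gd [] T.rows a) i) (2 * idx z) : ZMod 2),
        (dg T.w (gd 0 (gd [] T.rows a) i) (2 * idx z + 1) : ZMod 2)⟩) : VM T bas x0 := by
  refine VM.of_rows hk (by rw [e.1, e.2.1]; exact hb _) fun a ha i hi => ?_
  rw [e.2.2] at ha
  rw [e.2.1] at hi ⊢
  funext z
  rw [dec_eq, ← h a ha i hi z, x0, dif_pos ha, inv_inv]
  show ((gm a).mulVec (bas i)) z = _
  simp [bas]

/-- central elements are scalars -/
theorem scalar_of_center {c : Γ} (hc : c ∈ Subgroup.center Γ) :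
    ∃ t : K, (c : GL F9 K).val = t • (1 : Matrix F9 F9 K) := by
  have h : ∀ a < 43, gm a * (c : GL F9 K).val = (c : GL F9 K).val * gm a := fun a ha =>
    congrArg (fun y : Γ => (y : GL F9 K).val) (Subgroup.mem_center_iff.1 hc (y0 a ha))
  generalize (c : GL F9 K).val = M at h
  have h1 : ∀ w z, w ≠ z → M w z = 0 := fun w z hne => by
    have : ∀ w z : F9, w ≠ z → ∃ Z : F9, omegaPow K om (Z.1 * w.1 + Z.2 * w.2) ≠
      omegaPow K om (Z.1 * z.1 + Z.2 * z.2) := by decide +kernel
    obtain ⟨Z, hZ⟩ := this w z hne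
    have e := congrFun (congrFun (h (idx Z) (by have := idx_lt Z; omega)) w) z
    rw [gm, if_pos (idx_lt Z), el_idx, j3A, diagonal_mul, mul_diagonal, mul_comm] at e
    by_contra h0
    exact hZ (mul_left_cancel₀ h0 e)
  refine ⟨M 0 0, Matrix.ext fun w z => ?_⟩
  by_cases hwz : w = z
  · subst hwz
    have h2 := idx_lt w
    have e := congrFun (congrFun (h (idx w + 18) (by omega)) w) 0
    rw [gm, if_neg (by omega), if_neg (by omega), if_pos (by omega), Nat.add_sub_cancel, el_idx,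
      mul_apply, mul_apply, Finset.sum_eq_single 0 (fun b _ hb => by rw [h1 b 0 hb, mul_zero]) (by simp),
      Finset.sum_eq_single w (fun b _ hb => by rw [h1 w b hb.symm, zero_mul]) (by simp)] at e
    simpa [j3D, j3Lam] using e.symm
  · simp [h1 w z hwz, hwz]

theorem x0_9 : ((x0 0 : Γ) : GL F9 K).val = 1 := by
  rw [x0, dif_pos (by norm_num), Subgroup.coe_inv, Units.val_eq_one, inv_eq_one, ← Units.val_eq_one]
  show gm 0 = 1
  decide +kernel

/-- the centre, given an element acting as the scalar `ω` -/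
theorem center_eq {z : Γ} (hz : ∀ i < 18, z⁻¹ • bas i = om • bas i) :
    z ∈ Subgroup.center Γ ∧ ∀ c ∈ Subgroup.center Γ, c = 1 ∨ c = z ∨ c = z * z := by
  have h1 : ((z⁻¹ : Γ) : GL F9 K).val = om • (1 : Matrix F9 F9 K) := by
    ext i j : 1
    have := congrFun (hz (2 * idx j) (by have := idx_lt j; omega)) i
    have e : (((z⁻¹ : Γ) : GL F9 K).val.mulVec (bas (2 * idx j))) i = _ := this
    simpa [bas, el_idx, Matrix.one_apply, Pi.single_apply] using e
  refine ⟨?_, fun c hc => ?_⟩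
  · rw [← inv_mem_iff, Subgroup.mem_center_iff]
    intro y
    refine Subtype.ext (Units.ext ?_)
    show (y : GL F9 K).val * ((z⁻¹ : Γ) : GL F9 K).val = ((z⁻¹ : Γ) : GL F9 K).val * (y : GL F9 K).val
    rw [h1]; simp
  · obtain ⟨t, ht⟩ := scalar_of_center (Subgroup.inv_mem _ hc)
    have : ∀ t : K, t = 0 ∨ t = 1 ∨ t = om ∨ t = om * om := by decide
    rcases this t with rfl | rfl | rfl | rfl
    · exact absurd (by rw [ht, zero_smul]) ((c⁻¹ : Γ) : GL F9 K).ne_zero
    · exact .inl (inv_eq_one.1 (Subtype.ext (Units.ext (by rw [ht, one_smul]; rfl))))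
    · exact .inr (.inl (inv_injective (Subtype.ext (Units.ext (by rw [ht, h1])))))
    · refine .inr (.inr (inv_injective (Subtype.ext (Units.ext ?_))))
      rw [ht, _root_.mul_inv_rev]
      show _ = ((z⁻¹ : Γ) : GL F9 K).val * ((z⁻¹ : Γ) : GL F9 K).val
      rw [h1]; simp [smul_smul]

theorem herm (y : Γ) (u v : F9 → K) :
    ∑ i, ((y : GL F9 K).val *ᵥ u) i * ((y : GL F9 K).val *ᵥ v) i ^ 2 = ∑ i, u i * v i ^ 2 := by
  have h2 : ∀ a b : K, (a + b) ^ 2 = a ^ 2 + b ^ 2 := by decide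
  let f : K →+ K := AddMonoidHom.mk' (· ^ 2) h2
  let H : Subgroup Γ := (preserving (Units.coeHom _) fun u v : F9 → K => ∑ i, u i * v i ^ 2).comap
    (threeJ3 K om).subtype
  have : H = ⊤ := top_of fun a ha => by
    rw [x0, dif_pos ha, inv_mem_iff]
    intro u v
    show ∑ i, (gm a *ᵥ u) i * (gm a *ᵥ v) i ^ 2 = _
    have e : ∀ i, (gm a *ᵥ v) i ^ 2 = ∑ z, gm a i z ^ 2 * v z ^ 2 := fun i => by
      refine (map_sum f (fun z => gm a i z * v z) Finset.univ).trans ?_
      exact Finset.sum_congr rfl fun z _ => mul_pow _ _ _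
    simp only [e]
    simp only [mulVec, dotProduct, Finset.sum_mul_sum]
    rw [Finset.sum_comm]
    refine Finset.sum_congr rfl fun w _ => ?_
    rw [Finset.sum_comm]
    have e2 : ∀ z, ∑ i, gm a i w * u w * (gm a i z ^ 2 * v z ^ 2) =
        (if w = z then 1 else 0) * (u w * v z ^ 2) := fun z => by
      rw [← gm_unit a ha, Finset.sum_mul]
      exact Finset.sum_congr rfl fun i _ => by ring
    simp [e2]
  exact (this ▸ Subgroup.mem_top y : y ∈ H) u v

/-- the embedding into `SU₉(2)` -/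
theorem exists_su (hd : ∀ y : Γ, (y : GL F9 K).val.det = 1) :
    ∃ H : Subgroup (SU 9 K 2), Nonempty (Γ ≃* H) := by
  let e : F9 ≃ Fin 9 := Fintype.equivFinOfCardEq (by decide)
  let ψ : Γ →* SU 9 K 2 :=
    { toFun y := ⟨⟨reindex e e (y : GL F9 K).val, by rw [det_reindex_self, hd]⟩, fun u v => by
        have := herm y (u ∘ e) (v ∘ e)
        show ∑ i, (reindex e e (y : GL F9 K).val *ᵥ u) i * (reindex e e (y : GL F9 K).val *ᵥ v) i ^ 2 =
          ∑ i, u i * v i ^ 2
        rw [← e.sum_comp, ← e.sum_comp]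
        simpa [submatrix_mulVec_equiv] using this⟩
      map_one' := Subtype.ext (Subtype.ext (submatrix_one_equiv e.symm))
      map_mul' a b := Subtype.ext (Subtype.ext (submatrix_mul_equiv _ _ e.symm e.symm e.symm).symm) }
  refine ⟨ψ.range, ⟨MonoidHom.ofInjective fun a b h => ?_⟩⟩
  exact Subtype.ext (Units.ext ((reindex e e).injective (congrArg (fun t => t.1.1) h)))

end Cfsg.Agent.H25.J3
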