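import Mathlib
import Cfsg.Agent.H25.Util
import Cfsg.Agent.H25.J3

set_option maxRecDepth 100000
set_option linter.all false

namespace Cfsg.Agent.H25.J3
open Cfsg.Agent.H25

theorem card_center : Nat.card (Subgroup.center Γ) = 3 := by
  have h : Subgroup.center Γ = Subgroup.zpowers (x 6) := by
    refine le_antisymm (fun c hc => ?_) (Subgroup.zpowers_le.2 hz.1)
    rcases hz.2 c hc with rfl | rfl | rfl
    · exact Subgroup.one_mem _
    · exact Subgroup.mem_zpowers _
    · exact Subgroup.mul_mem _ (Subgroup.mem_zpowers _) (Subgroup.mem_zpowers _)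
  have h1 := vm.ne (u := [6]) (by decide +kernel)
  have h2 := vm.chk2 [6, 6, 6] [] (by decide +kernel)
  rw [h, Nat.card_zpowers]
  exact orderOf_eq_prime (by simpa [pow_succ, mul_assoc] using h2) (by simpa using h1)

theorem card_cover : Nat.card Γ = 150698880 := by
  rw [Subgroup.card_eq_card_quotient_mul_card_subgroup (Subgroup.center Γ), card_center]
  exact congrArg (· * 3) hcard

theorem card1 : Nat.card (Lc (nat_lit 31) g) = 8160 := le_antisymm up1 lo1

theorem index1 : (Lc (nat_lit 31) g).index = 6156 := by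
  have := (Lc (nat_lit 31) g).index_mul_card
  rw [card1, hcard] at this
  omega

theorem det_one (y : Γ) : (y : GL Spor.F9 K).val.det = 1 := by
  obtain ⟨d, hd⟩ : ∃ d : Γ →* Kˣ, ∀ y : Γ, y ∈ d.ker ↔ (y : GL Spor.F9 K).val.det = 1 :=
    ⟨Matrix.GeneralLinearGroup.det.comp (Spor.threeJ3 K om).subtype, fun y => by
      rw [MonoidHom.mem_ker, Units.ext_iff, MonoidHom.comp_apply,
        Matrix.GeneralLinearGroup.val_det_apply, Units.val_one, Subgroup.coe_subtype]⟩
  have h3 : ∀ t : Kˣ, t ^ 2 = 1 → t = 1 := fun t h => by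
    have : ∀ s : K, s ^ 2 = 1 → s = 1 := by decide
    exact Units.ext (this t (by simpa using congrArg Units.val h))
  have h : Lc 127 x ≤ d.ker := Lc_le.2 fun a ha => by
    have ha' : a < 7 := by
      have : (2 ^ 7 - 1).testBit a = true := ha
      rw [Nat.testBit_two_pow_sub_one] at this; simpa using this
    have h4 : ∀ a < 6, V1.chk2 [a, a] [] = true := by decide +kernel
    rcases Nat.lt_or_ge a 6 with h1 | h1
    · have := congrArg d (vm.chk2 _ _ (h4 a h1))
      rw [ev_cons, ev_cons, ev_nil, mul_one, map_mul, map_one, ← sq] at this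
      exact h3 _ this
    · obtain rfl : a = 6 := by omega
      obtain ⟨t, ht⟩ := scalar_of_center hz.1
      have h5 : ∀ s : K, s ≠ 0 → s ^ 9 = 1 := by decide
      rw [hd, ht, Matrix.det_smul, Matrix.det_one, mul_one]
      refine h5 t ?_
      rintro rfl
      exact ((x 6 : Γ) : GL Spor.F9 K).ne_zero (by rw [ht, zero_smul])
  exact (hd y).1 (h (xtop ▸ Subgroup.mem_top y))

end Cfsg.Agent.H25.J3
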