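import Mathlib
import Cfsg.Agent.H25.Out
import Cfsg.Agent.H25.J3OA

set_option maxRecDepth 100000
set_option linter.all false

namespace Cfsg.Agent.H25.J3O
open Cfsg.Agent.H25

theorem slp_0 : allRange (slpRow T0 T 3 (nat_lit 18) df) (nat_lit 0) (nat_lit 2174) = true := by decide +kernel
theorem slp_2 : allRange (slpRow T0 T 3 (nat_lit 18) df) (nat_lit 4348) (nat_lit 6156) = true := by decide +kernel
theorem chc2 : chainOK T (nat_lit 0xfffffffff) c2 [] = true := by decide +kernel
theorem rc2_0 : allRange (St.row sc2_0 T Rc2 (bt T Rc2 lf2 ssc2) [] []) (nat_lit 0) (nat_lit 6156) = true := by decide +kernel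
theorem sg_0 : allRange (sigRow T [[4], [2], [0]] As (fun i => Sg.rcd i 0) (fun i => Sg.rcd i 1)) (nat_lit 0) (nat_lit 6156) = true := by decide +kernel
end Cfsg.Agent.H25.J3O
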