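import Mathlib
import Cfsg.Agent.H25.Out
import Cfsg.Agent.H25.J3OR0
import Cfsg.Agent.H25.J3OR1

set_option maxRecDepth 100000
set_option linter.all false

namespace Cfsg.Agent.H25.J3O
open Cfsg.Agent.H25

theorem hst : slpSt T0 T 3 (nat_lit 18) df = true := by decide +kernel
noncomputable def g : ℕ → G0 := slpg g0 3 df
theorem hAM : AM T g pt := AM.slp hAM0 hst (rng_all (rng_join (rng_join (allRange_sound slp_0) (allRange_sound slp_1)) (allRange_sound slp_2)))
theorem hpd : Pd T g := slp_pd hst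
theorem hinj : ∀ i < T.N, ∀ j < T.N, pt i = pt j → i = j := hinj0
theorem fullc1 : Full T (nat_lit 0xfffffffff) G0 pt c1 [] :=
  full_top hAM hinj chc1 (hcard.le.trans (by decide +kernel))
theorem fullc2 : Full T (nat_lit 0xfffffffff) G0 pt c2 [] :=
  full_top hAM hinj chc2 (hcard.le.trans (by decide +kernel))
theorem hBe : (c1.map OL.b).reverse = B := by decide +kernel
theorem htb : Lc (nat_lit 0xfffffffff) g = ⊤ ∧ IsBase G0 T.N pt (c1.map OL.b).reverse :=
  base_of_chain hAM hinj chc1 (hcard.le.trans (by decide +kernel))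
theorem hB : IsBase G0 T.N pt B := hBe ▸ htb.2
theorem hgen : Gen g [[4], [2], [0]] := gen_of_slp hst htb.1 (by decide +kernel)

theorem tlc1 : TL T g Rc1 lf1 :=
  bt_top (s := sc1_0) (ss := ssc1) hAM hinj hpd fullc1 rfl (by decide +kernel) (rng_all (allRange_sound rc1_0))

theorem tlc2 : TL T g Rc2 lf2 :=
  bt_top (s := sc2_0) (ss := ssc2) hAM hinj hpd fullc2 rfl (by decide +kernel) (rng_all (allRange_sound rc2_0))

theorem n2_0 {φ : MulAut G0} (hφ : ∀ j, φ (locv [[4], [2], [0]] g j) = locv As g j) : Node g φ [[2], [0]] A2_0 :=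
  Node.ext (a0 := [4]) (dead := d3) (opts := o3_0) hAM hinj hB [([nat_lit 0], [nat_lit 0])] tlc2 (fun w h => band_l h)
    (by decide +kernel) (opts_mko (Node.fin1 hgen _))
theorem n1_0 {φ : MulAut G0} (hφ : ∀ j, φ (locv [[4], [2], [0]] g j) = locv As g j) : Node g φ [[0]] A1_0 :=
  Node.ext (a0 := [2]) (dead := d2) (opts := o2_0) hAM hinj hB [([nat_lit 0], [nat_lit 0, nat_lit 0, nat_lit 0, nat_lit 0])] tlc1 (fun w h => band_l h)
    (by decide +kernel) (opts_mko (n2_0 hφ))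
theorem n2_1 {φ : MulAut G0} (hφ : ∀ j, φ (locv [[4], [2], [0]] g j) = locv As g j) : Node g φ [[2], [0]] A2_1 :=
  Node.ext (a0 := [4]) (dead := d3) (opts := o3_1) hAM hinj hB [([nat_lit 0], [nat_lit 0])] tlc2 (fun w h => (band_r h))
    (by decide +kernel) (opts_mko (Node.fin2 hgen hφ))
theorem n1_1 {φ : MulAut G0} (hφ : ∀ j, φ (locv [[4], [2], [0]] g j) = locv As g j) : Node g φ [[0]] A1_1 :=
  Node.ext (a0 := [2]) (dead := d2) (opts := o2_1) hAM hinj hB [([nat_lit 0, nat_lit 0, nat_lit 0, nat_lit 0, nat_lit 0, nat_lit 0, nat_lit 0, nat_lit 0, nat_lit 0, nat_lit 0, nat_lit 0, nat_lit 0, nat_lit 0, nat_lit 0, nat_lit 0, nat_lit 0, nat_lit 0, nat_lit 0], [nat_lit 0, nat_lit 0, nat_lit 0, nat_lit 0, nat_lit 0, nat_lit 0, nat_lit 0, nat_lit 0, nat_lit 0, nat_lit 0, nat_lit 0, nat_lit 0, nat_lit 0, nat_lit 0, nat_lit 0])] tlc1 (fun w h => (band_r h))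
    (by decide +kernel) (opts_mko (n2_1 hφ))
theorem good {φ : MulAut G0} (hφ : ∀ j, φ (locv [[4], [2], [0]] g j) = locv As g j) : ∀ β : MulAut G0, Good φ β :=
  Node.syl (G := G0) (a0 := [0]) (dead := []) (opts := o1) (p := 19) hAM hinj hB (by norm_num) hcard (by norm_num)
    (by decide +kernel) (opts_app (opts_mko (n1_0 hφ)) (opts_mko (n1_1 hφ)))

theorem tlc3 : TL T g Rc3 (ncj T B [[4], [2], [0]] As) :=
  bt_top (s := sc3_0) (ss := ssc3) hAM hinj hpd fullc1 rfl (by decide +kernel) (rng_all (allRange_sound rc3_0))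

theorem exphi : ∃ φ : MulAut G0, ∀ j, φ (locv [[4], [2], [0]] g j) = locv As g j :=
  exists_aut hAM hinj hB hgen (by decide +kernel) (rng_all (allRange_sound sg_0))
theorem out : Nat.card (Out G0) = 2 := by
  obtain ⟨φ, hφ⟩ := exphi
  exact card_out_two (good hφ) (not_inner hAM hinj hB hφ [[nat_lit 2]] tlc3 (by decide +kernel))

def Rcc : RL := [([nat_lit 0], [nat_lit 0])]
noncomputable def scc_0 : St := ⟨c1_0, true, nat_lit 0, nat_lit 0, []⟩
noncomputable def scc_1 : St := ⟨c1_1, false, nat_lit 0, nat_lit 0, []⟩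
noncomputable def scc_2 : St := ⟨c1_2, false, nat_lit 0, nat_lit 0, []⟩
noncomputable def sscc : List St := [scc_1, scc_2]
theorem rcc_0 : allRange (St.row scc_0 T Rcc (bt T Rcc (inPw T B [0] 19) sscc) [] []) (nat_lit 0) (nat_lit 6156) = true := by decide +kernel
theorem tlcc : TL T g Rcc (inPw T B [0] 19) :=
  bt_top (s := scc_0) (ss := sscc) hAM hinj hpd fullc1 rfl (by decide +kernel) (rng_all (allRange_sound rcc_0))

theorem simple : IsSimpleGroup G0 :=
  simple_of_tl (A := 26) hAM hinj hB [nat_lit 1] [2, 3, 5, 17, 19] tlcc (by norm_num) hcard (by simp; norm_num)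
    (by decide +kernel) (by decide +kernel) J3.perf

end Cfsg.Agent.H25.J3O
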