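import Mathlib
import Cfsg.Agent.H25.Util

set_option maxRecDepth 100000
set_option linter.style.longLine false

namespace Cfsg.Agent.H25.M12L
open Cfsg.Agent.H25

noncomputable def m12l0_tbl : NT :=
(.leaf (nat_lit 0) (nat_lit 0x9402dc1e16da20961482742c2dc5c16e66076f788bac02d50a0a9a10952606aa403d04e09ec60753707a59812a0a08d640cc648220a0113dc14ca6064678a60981130a09983044e482652011c581c84a04a850335981184a0898404e0000b3b4238000284a0ac92835198139ca0a580052d103811022c4e09426062b50381981421a15ca4046f48231a0134021594a0b2128311104214a09043088358440a010ce0250660684682409810a4a0a0c004ae58254b44440e0a54a04e750392341c84a085a00505783900004c8e0a00001000007000030000142004021051000020821440000600002000080000400000200010000080000400002000010))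

noncomputable def m12l0_par : NT :=
(.leaf (nat_lit 0) (nat_lit 0x78e8991203c70b1220280))

noncomputable def m12l0_rt : RT :=
(.node (nat_lit 7)
(.node (nat_lit 3)
(.node (nat_lit 1)
(.node (nat_lit 0)
(.leaf (nat_lit 0) [nat_lit 5, nat_lit 5] (nat_lit 1) (nat_lit 2925) (nat_lit 0))
(.leaf (nat_lit 1) [nat_lit 2, nat_lit 5, nat_lit 2, nat_lit 5] (nat_lit 3) (nat_lit 0xaaaaaa) (nat_lit 0)))
(.node (nat_lit 2)
(.leaf (nat_lit 2) [nat_lit 4, nat_lit 5, nat_lit 4, nat_lit 5] (nat_lit 3) (nat_lit 0xb2cb2c) (nat_lit 0))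
(.leaf (nat_lit 3) [nat_lit 3, nat_lit 5, nat_lit 3, nat_lit 5, nat_lit 3, nat_lit 5] (nat_lit 5) (nat_lit 0xaebaebaeb) (nat_lit 0))))
(.node (nat_lit 5)
(.node (nat_lit 4)
(.leaf (nat_lit 4) [nat_lit 7, nat_lit 3, nat_lit 0, nat_lit 5, nat_lit 3, nat_lit 7, nat_lit 3, nat_lit 5] (nat_lit 7) (nat_lit 0xafba1fafba1f) (nat_lit 0))
(.leaf (nat_lit 0) [nat_lit 0, nat_lit 6] (nat_lit 1) (nat_lit 3120) (nat_lit 0)))
(.node (nat_lit 6)
(.leaf (nat_lit 0) [nat_lit 1, nat_lit 7] (nat_lit 1) (nat_lit 3705) (nat_lit 0))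
(.leaf (nat_lit 0) [nat_lit 2, nat_lit 2] (nat_lit 1) (nat_lit 1170) (nat_lit 0)))))
(.node (nat_lit 11)
(.node (nat_lit 9)
(.node (nat_lit 8)
(.leaf (nat_lit 0) [nat_lit 3, nat_lit 3] (nat_lit 1) (nat_lit 1755) (nat_lit 0))
(.leaf (nat_lit 0) [nat_lit 4, nat_lit 4] (nat_lit 1) (nat_lit 2340) (nat_lit 0)))
(.node (nat_lit 10)
(.leaf (nat_lit 0) [nat_lit 0, nat_lit 0, nat_lit 1, nat_lit 1] (nat_lit 3) (nat_lit 0x240240) (nat_lit 0))
(.leaf (nat_lit 0) [nat_lit 3, nat_lit 4, nat_lit 3, nat_lit 4] (nat_lit 3) (nat_lit 0x8e38e3) (nat_lit 0))))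
(.node (nat_lit 13)
(.node (nat_lit 12)
(.leaf (nat_lit 0) [nat_lit 2, nat_lit 4, nat_lit 2, nat_lit 4, nat_lit 2, nat_lit 4] (nat_lit 5) (nat_lit 0x8a28a28a2) (nat_lit 0))
(.leaf (nat_lit 0) [nat_lit 7, nat_lit 3, nat_lit 6, nat_lit 3, nat_lit 1, nat_lit 3, nat_lit 0] (nat_lit 6) (nat_lit 0x32f3e1979f) (nat_lit 0)))
(.node (nat_lit 14)
(.leaf (nat_lit 0) [nat_lit 0, nat_lit 4, nat_lit 2, nat_lit 4, nat_lit 0, nat_lit 4, nat_lit 2, nat_lit 4] (nat_lit 7) (nat_lit 0x8a08a08a08a0) (nat_lit 0))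
(.node (nat_lit 15)
(.leaf (nat_lit 0) [nat_lit 4, nat_lit 3, nat_lit 6, nat_lit 3, nat_lit 4, nat_lit 0, nat_lit 4, nat_lit 0, nat_lit 3, nat_lit 0] (nat_lit 9) (nat_lit 0xc411e70310479c) (nat_lit 0))
(.leaf (nat_lit 0) [nat_lit 2, nat_lit 3, nat_lit 7, nat_lit 2, nat_lit 3, nat_lit 0, nat_lit 2, nat_lit 6, nat_lit 3, nat_lit 0] (nat_lit 9) (nat_lit 0xf20d7683c835da) (nat_lit 0)))))))

def m12l0_P : List (List ℕ) :=
  [[nat_lit 5, nat_lit 5],
  [nat_lit 2, nat_lit 5, nat_lit 2, nat_lit 5],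
  [nat_lit 4, nat_lit 5, nat_lit 4, nat_lit 5],
  [nat_lit 3, nat_lit 5, nat_lit 3, nat_lit 5, nat_lit 3, nat_lit 5],
  [nat_lit 1, nat_lit 1, nat_lit 1, nat_lit 3, nat_lit 0, nat_lit 5, nat_lit 3, nat_lit 1, nat_lit 1, nat_lit 1, nat_lit 3, nat_lit 5]]

noncomputable def m12l0_C : TC where
  G := nat_lit 8
  N := nat_lit 12
  W := nat_lit 21
  mask := nat_lit 0x1fffff
  VM := nat_lit 0
  TV := nat_lit 0
  vb := nat_lit 0
  TM := nat_lit 15
  rb := nat_lit 4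
  RM := nat_lit 4095
  BIG := nat_lit 0x170000
  b := nat_lit 3
  lm := nat_lit 7
  Y := nat_lit 223
  n := nat_lit 1
  K := nat_lit 0
  K0 := nat_lit 0
  QM := nat_lit 0
  k := nat_lit 0
  w := nat_lit 1
  c := nat_lit 0
  cq := nat_lit 0
  Lmax := nat_lit 10
  PW := nat_lit 7
  PM := nat_lit 127
  tbl := m12l0_tbl
  par := m12l0_par
  rt := m12l0_rt

noncomputable def m12l0 : Lv where
  C := m12l0_C
  df := [[nat_lit 0],
  [nat_lit 1],
  [nat_lit 2],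
  [nat_lit 3],
  [nat_lit 4],
  [nat_lit 5],
  [nat_lit 0, nat_lit 0, nat_lit 0],
  [nat_lit 1, nat_lit 1, nat_lit 1]]
  X0 := nat_lit 31
  X := nat_lit 63
  Xl := nat_lit 63
  GG := nat_lit 6
  back := [nat_lit 0, nat_lit 1, nat_lit 2, nat_lit 3, nat_lit 4, nat_lit 5]
  P := m12l0_P

theorem m12l0_e0 : m12l0_C.edges (nat_lit 0) (nat_lit 12) = true := by decide +kernel
theorem m12l0_cl : m12l0_C.closed m12l0.Xl (nat_lit 0) (nat_lit 12) = true := by decide +kernel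
theorem m12l0_tab : m12l0.Tab :=
  ⟨rng_all (TC.edges_sound m12l0_e0), rng_all (TC.closed_sound m12l0_cl)⟩

noncomputable def m12l1_tbl : NT :=
(.leaf (nat_lit 0) (nat_lit 0x9b02a8e08a8084a0c0278d85a9605a960aa3b025328237084374026620750b032348460b0221505651865440254604614825228333b0230a8227a0570000a81857148562a8351b0273a829300226d8294b8280b0311a8381b02825057580283e0986b829348590a8312b02422824110441d8440b82122064198740b0211d058780295402232072348272c849000090a8212a0564e0733b82300008000070000600005080201085100004000030000200010000100000100010000100001000010))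

noncomputable def m12l1_par : NT :=
(.leaf (nat_lit 0) (nat_lit 0xd0a0f1c34609101c200))

noncomputable def m12l1_rt : RT :=
(.node (nat_lit 5)
(.node (nat_lit 2)
(.node (nat_lit 0)
(.leaf (nat_lit 0) [nat_lit 4, nat_lit 4] (nat_lit 1) (nat_lit 2340) (nat_lit 0))
(.node (nat_lit 1)
(.leaf (nat_lit 1) [nat_lit 3, nat_lit 4, nat_lit 3, nat_lit 4] (nat_lit 3) (nat_lit 0x8e38e3) (nat_lit 0))
(.leaf (nat_lit 2) [nat_lit 2, nat_lit 4, nat_lit 2, nat_lit 4, nat_lit 2, nat_lit 4] (nat_lit 5) (nat_lit 0x8a28a28a2) (nat_lit 0))))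
(.node (nat_lit 3)
(.leaf (nat_lit 3) [nat_lit 0, nat_lit 4, nat_lit 2, nat_lit 4, nat_lit 0, nat_lit 4, nat_lit 2, nat_lit 4] (nat_lit 7) (nat_lit 0x8a08a08a08a0) (nat_lit 0))
(.node (nat_lit 4)
(.leaf (nat_lit 4) [nat_lit 2, nat_lit 0, nat_lit 4, nat_lit 1, nat_lit 2, nat_lit 4, nat_lit 1, nat_lit 4] (nat_lit 7) (nat_lit 0x862302862302) (nat_lit 0))
(.leaf (nat_lit 0) [nat_lit 0, nat_lit 5] (nat_lit 1) (nat_lit 2600) (nat_lit 0)))))
(.node (nat_lit 8)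
(.node (nat_lit 6)
(.leaf (nat_lit 0) [nat_lit 1, nat_lit 6] (nat_lit 1) (nat_lit 3185) (nat_lit 0))
(.node (nat_lit 7)
(.leaf (nat_lit 0) [nat_lit 2, nat_lit 2] (nat_lit 1) (nat_lit 1170) (nat_lit 0))
(.leaf (nat_lit 0) [nat_lit 3, nat_lit 3] (nat_lit 1) (nat_lit 1755) (nat_lit 0))))
(.node (nat_lit 10)
(.node (nat_lit 9)
(.leaf (nat_lit 0) [nat_lit 0, nat_lit 0, nat_lit 1, nat_lit 1] (nat_lit 3) (nat_lit 0x240240) (nat_lit 0))
(.leaf (nat_lit 0) [nat_lit 0, nat_lit 1, nat_lit 5, nat_lit 1] (nat_lit 3) (nat_lit 0x348348) (nat_lit 0)))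
(.node (nat_lit 11)
(.leaf (nat_lit 0) [nat_lit 2, nat_lit 3, nat_lit 2, nat_lit 3] (nat_lit 3) (nat_lit 0x69a69a) (nat_lit 0))
(.leaf (nat_lit 0) [nat_lit 3, nat_lit 2, nat_lit 1, nat_lit 2, nat_lit 3, nat_lit 5, nat_lit 3, nat_lit 0, nat_lit 2, nat_lit 5] (nat_lit 9) (nat_lit 0xa83ad14ea0eb453) (nat_lit 0))))))

def m12l1_P : List (List ℕ) :=
  [[nat_lit 4, nat_lit 4],
  [nat_lit 3, nat_lit 4, nat_lit 3, nat_lit 4],
  [nat_lit 2, nat_lit 4, nat_lit 2, nat_lit 4, nat_lit 2, nat_lit 4],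
  [nat_lit 0, nat_lit 4, nat_lit 2, nat_lit 4, nat_lit 0, nat_lit 4, nat_lit 2, nat_lit 4],
  [nat_lit 2, nat_lit 0, nat_lit 4, nat_lit 1, nat_lit 2, nat_lit 4, nat_lit 1, nat_lit 4]]

noncomputable def m12l1_C : TC where
  G := nat_lit 7
  N := nat_lit 11
  W := nat_lit 20
  mask := nat_lit 0xfffff
  VM := nat_lit 0
  TV := nat_lit 0
  vb := nat_lit 0
  TM := nat_lit 15
  rb := nat_lit 4
  RM := nat_lit 2047
  BIG := nat_lit 655360
  b := nat_lit 3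
  lm := nat_lit 7
  Y := nat_lit 111
  n := nat_lit 1
  K := nat_lit 0
  K0 := nat_lit 0
  QM := nat_lit 0
  k := nat_lit 0
  w := nat_lit 1
  c := nat_lit 0
  cq := nat_lit 0
  Lmax := nat_lit 10
  PW := nat_lit 7
  PM := nat_lit 127
  tbl := m12l1_tbl
  par := m12l1_par
  rt := m12l1_rt

noncomputable def m12l1 : Lv where
  C := m12l1_C
  df := [[nat_lit 0],
  [nat_lit 1],
  [nat_lit 2],
  [nat_lit 3],
  [nat_lit 4],
  [nat_lit 0, nat_lit 0, nat_lit 0],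
  [nat_lit 1, nat_lit 1, nat_lit 1]]
  X0 := nat_lit 15
  X := nat_lit 31
  Xl := nat_lit 31
  GG := nat_lit 6
  back := [nat_lit 0, nat_lit 1, nat_lit 2, nat_lit 3, nat_lit 4, nat_lit 0]
  P := m12l1_P

theorem m12l1_e0 : m12l1_C.edges (nat_lit 0) (nat_lit 11) = true := by decide +kernel
theorem m12l1_cl : m12l1_C.closed m12l1.Xl (nat_lit 0) (nat_lit 11) = true := by decide +kernel
theorem m12l1_tab : m12l1.Tab :=
  ⟨rng_all (TC.edges_sound m12l1_e0), rng_all (TC.closed_sound m12l1_cl)⟩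

noncomputable def m12l2_tbl : NT :=
(.leaf (nat_lit 0) (nat_lit 0x480b3a60a7482c8a82654073900e5d01231823900458a08c501933045140444e15484319108226048860cdd011898226110c00024982aa98343404ce60a084425108414062660dcd013a38563004b6a095982c09831140426e15cc013dc0286604cac120000409821810d06a09c0003800060000a0001040102402100006000080008000100000200040000800010))

noncomputable def m12l2_par : NT :=
(.leaf (nat_lit 0) (nat_lit 0x99134c2ca1c60c0))

noncomputable def m12l2_rt : RT :=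
(.node (nat_lit 3)
(.node (nat_lit 1)
(.node (nat_lit 0)
(.leaf (nat_lit 0) [nat_lit 3, nat_lit 3] (nat_lit 1) (nat_lit 1755) (nat_lit 0))
(.leaf (nat_lit 1) [nat_lit 3, nat_lit 0, nat_lit 1, nat_lit 3, nat_lit 5, nat_lit 3, nat_lit 0] (nat_lit 6) (nat_lit 0x3ac861d643) (nat_lit 0)))
(.node (nat_lit 2)
(.leaf (nat_lit 2) [nat_lit 2, nat_lit 5, nat_lit 3, nat_lit 0, nat_lit 1, nat_lit 2, nat_lit 4, nat_lit 3, nat_lit 1, nat_lit 0] (nat_lit 9) (nat_lit 0x5c443a817110ea) (nat_lit 0))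
(.leaf (nat_lit 0) [nat_lit 0, nat_lit 4] (nat_lit 1) (nat_lit 2080) (nat_lit 0))))
(.node (nat_lit 5)
(.node (nat_lit 4)
(.leaf (nat_lit 0) [nat_lit 1, nat_lit 5] (nat_lit 1) (nat_lit 2665) (nat_lit 0))
(.leaf (nat_lit 0) [nat_lit 2, nat_lit 2] (nat_lit 1) (nat_lit 1170) (nat_lit 0)))
(.node (nat_lit 6)
(.leaf (nat_lit 0) [nat_lit 0, nat_lit 0, nat_lit 1, nat_lit 1] (nat_lit 3) (nat_lit 0x240240) (nat_lit 0))
(.node (nat_lit 7)
(.leaf (nat_lit 0) [nat_lit 0, nat_lit 1, nat_lit 4, nat_lit 1] (nat_lit 3) (nat_lit 0x308308) (nat_lit 0))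
(.leaf (nat_lit 0) [nat_lit 0, nat_lit 2, nat_lit 5, nat_lit 2, nat_lit 1, nat_lit 0, nat_lit 2] (nat_lit 6) (nat_lit 0x102aa081550) (nat_lit 0))))))

def m12l2_P : List (List ℕ) :=
  [[nat_lit 3, nat_lit 3],
  [nat_lit 3, nat_lit 0, nat_lit 1, nat_lit 3, nat_lit 1, nat_lit 1, nat_lit 1, nat_lit 3, nat_lit 0],
  [nat_lit 2, nat_lit 1, nat_lit 1, nat_lit 1, nat_lit 3, nat_lit 0, nat_lit 1, nat_lit 2, nat_lit 0, nat_lit 0, nat_lit 0, nat_lit 3, nat_lit 1, nat_lit 0]]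

noncomputable def m12l2_C : TC where
  G := nat_lit 6
  N := nat_lit 10
  W := nat_lit 19
  mask := nat_lit 524287
  VM := nat_lit 0
  TV := nat_lit 0
  vb := nat_lit 0
  TM := nat_lit 15
  rb := nat_lit 4
  RM := nat_lit 2047
  BIG := nat_lit 458752
  b := nat_lit 3
  lm := nat_lit 7
  Y := nat_lit 55
  n := nat_lit 1
  K := nat_lit 0
  K0 := nat_lit 0
  QM := nat_lit 0
  k := nat_lit 0
  w := nat_lit 1
  c := nat_lit 0
  cq := nat_lit 0
  Lmax := nat_lit 10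
  PW := nat_lit 6
  PM := nat_lit 63
  tbl := m12l2_tbl
  par := m12l2_par
  rt := m12l2_rt

noncomputable def m12l2 : Lv where
  C := m12l2_C
  df := [[nat_lit 0],
  [nat_lit 1],
  [nat_lit 2],
  [nat_lit 3],
  [nat_lit 0, nat_lit 0, nat_lit 0],
  [nat_lit 1, nat_lit 1, nat_lit 1]]
  X0 := nat_lit 7
  X := nat_lit 15
  Xl := nat_lit 15
  GG := nat_lit 6
  back := [nat_lit 0, nat_lit 1, nat_lit 2, nat_lit 3, nat_lit 0, nat_lit 0]
  P := m12l2_P

theorem m12l2_e0 : m12l2_C.edges (nat_lit 0) (nat_lit 10) = true := by decide +kernel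
theorem m12l2_cl : m12l2_C.closed m12l2.Xl (nat_lit 0) (nat_lit 10) = true := by decide +kernel
theorem m12l2_tab : m12l2.Tab :=
  ⟨rng_all (TC.edges_sound m12l2_e0), rng_all (TC.closed_sound m12l2_cl)⟩

noncomputable def m12l3_tbl : NT :=
(.leaf (nat_lit 0) (nat_lit 0x1d8246408d8854160c9a04516088a85560094a024440cdd8231408a083628155503436099d0285215c5831340dcd8274a159c02868160503116084e85730089a0265812000081408488330001c0006000140004100800003000080010000400001000400010))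

noncomputable def m12l3_par : NT :=
(.leaf (nat_lit 0) (nat_lit 0xe2ca248185080))

noncomputable def m12l3_rt : RT :=
(.node (nat_lit 2)
(.node (nat_lit 0)
(.leaf (nat_lit 0) [nat_lit 2, nat_lit 2] (nat_lit 1) (nat_lit 1170) (nat_lit 0))
(.node (nat_lit 1)
(.leaf (nat_lit 1) [nat_lit 2, nat_lit 4, nat_lit 2, nat_lit 0, nat_lit 4, nat_lit 2, nat_lit 0] (nat_lit 6) (nat_lit 0x28144140a2) (nat_lit 0))
(.leaf (nat_lit 0) [nat_lit 0, nat_lit 3] (nat_lit 1) (nat_lit 1560) (nat_lit 0))))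
(.node (nat_lit 3)
(.leaf (nat_lit 0) [nat_lit 1, nat_lit 4] (nat_lit 1) (nat_lit 2145) (nat_lit 0))
(.node (nat_lit 4)
(.leaf (nat_lit 0) [nat_lit 0, nat_lit 0, nat_lit 1, nat_lit 1] (nat_lit 3) (nat_lit 0x240240) (nat_lit 0))
(.leaf (nat_lit 0) [nat_lit 0, nat_lit 1, nat_lit 3, nat_lit 1] (nat_lit 3) (nat_lit 0x2c82c8) (nat_lit 0)))))

def m12l3_P : List (List ℕ) :=
  [[nat_lit 2, nat_lit 2],
  [nat_lit 2, nat_lit 1, nat_lit 1, nat_lit 1, nat_lit 2, nat_lit 0, nat_lit 1, nat_lit 1, nat_lit 1, nat_lit 2, nat_lit 0]]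

noncomputable def m12l3_C : TC where
  G := nat_lit 5
  N := nat_lit 9
  W := nat_lit 18
  mask := nat_lit 262143
  VM := nat_lit 0
  TV := nat_lit 0
  vb := nat_lit 0
  TM := nat_lit 15
  rb := nat_lit 4
  RM := nat_lit 1023
  BIG := nat_lit 147456
  b := nat_lit 3
  lm := nat_lit 7
  Y := nat_lit 27
  n := nat_lit 1
  K := nat_lit 0
  K0 := nat_lit 0
  QM := nat_lit 0
  k := nat_lit 0
  w := nat_lit 1
  c := nat_lit 0
  cq := nat_lit 0
  Lmax := nat_lit 7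
  PW := nat_lit 6
  PM := nat_lit 63
  tbl := m12l3_tbl
  par := m12l3_par
  rt := m12l3_rt

noncomputable def m12l3 : Lv where
  C := m12l3_C
  df := [[nat_lit 0],
  [nat_lit 1],
  [nat_lit 2],
  [nat_lit 0, nat_lit 0, nat_lit 0],
  [nat_lit 1, nat_lit 1, nat_lit 1]]
  X0 := nat_lit 3
  X := nat_lit 7
  Xl := nat_lit 7
  GG := nat_lit 6
  back := [nat_lit 0, nat_lit 1, nat_lit 2, nat_lit 0, nat_lit 0, nat_lit 0]
  P := m12l3_P

theorem m12l3_e0 : m12l3_C.edges (nat_lit 0) (nat_lit 9) = true := by decide +kernel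
theorem m12l3_cl : m12l3_C.closed m12l3.Xl (nat_lit 0) (nat_lit 9) = true := by decide +kernel
theorem m12l3_tab : m12l3.Tab :=
  ⟨rng_all (TC.edges_sound m12l3_e0), rng_all (TC.closed_sound m12l3_cl)⟩

noncomputable def m12l4_tbl : NT :=
(.leaf (nat_lit 0) (nat_lit 0x402482d2092078028008002002))

noncomputable def m12l4_par : NT :=
(.leaf (nat_lit 0) (nat_lit 0x10))

noncomputable def m12l4_rt : RT :=
(.node (nat_lit 1)
(.node (nat_lit 0)
(.leaf (nat_lit 0) [nat_lit 1, nat_lit 3] (nat_lit 1) (nat_lit 221) (nat_lit 0))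
(.leaf (nat_lit 1) [nat_lit 0, nat_lit 0, nat_lit 1, nat_lit 1] (nat_lit 3) (nat_lit 20560) (nat_lit 0)))
(.node (nat_lit 2)
(.leaf (nat_lit 2) [nat_lit 0, nat_lit 1, nat_lit 2, nat_lit 1] (nat_lit 3) (nat_lit 25700) (nat_lit 0))
(.leaf (nat_lit 0) [nat_lit 0, nat_lit 2] (nat_lit 1) (nat_lit 136) (nat_lit 0))))

def m12l4_P : List (List ℕ) :=
  [[nat_lit 1, nat_lit 1, nat_lit 1, nat_lit 1],
  [nat_lit 0, nat_lit 0, nat_lit 1, nat_lit 1],
  [nat_lit 0, nat_lit 1, nat_lit 0, nat_lit 0, nat_lit 0, nat_lit 1]]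

noncomputable def m12l4_C : TC where
  G := nat_lit 4
  N := nat_lit 2
  W := nat_lit 13
  mask := nat_lit 8191
  VM := nat_lit 0
  TV := nat_lit 0
  vb := nat_lit 0
  TM := nat_lit 1
  rb := nat_lit 1
  RM := nat_lit 1023
  BIG := nat_lit 6144
  b := nat_lit 2
  lm := nat_lit 3
  Y := nat_lit 5
  n := nat_lit 1
  K := nat_lit 0
  K0 := nat_lit 0
  QM := nat_lit 0
  k := nat_lit 0
  w := nat_lit 1
  c := nat_lit 0
  cq := nat_lit 0
  Lmax := nat_lit 4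
  PW := nat_lit 4
  PM := nat_lit 15
  tbl := m12l4_tbl
  par := m12l4_par
  rt := m12l4_rt

noncomputable def m12l4 : Lv where
  C := m12l4_C
  df := [[nat_lit 0],
  [nat_lit 1],
  [nat_lit 0, nat_lit 0, nat_lit 0],
  [nat_lit 1, nat_lit 1, nat_lit 1]]
  X0 := nat_lit 1
  X := nat_lit 3
  Xl := nat_lit 3
  GG := nat_lit 6
  back := [nat_lit 0, nat_lit 1, nat_lit 0, nat_lit 0, nat_lit 0, nat_lit 0]
  P := m12l4_P

theorem m12l4_e0 : m12l4_C.edges (nat_lit 0) (nat_lit 2) = true := by decide +kernel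
theorem m12l4_cl : m12l4_C.closed m12l4.Xl (nat_lit 0) (nat_lit 2) = true := by decide +kernel
theorem m12l4_tab : m12l4.Tab :=
  ⟨rng_all (TC.edges_sound m12l4_e0), rng_all (TC.closed_sound m12l4_cl)⟩

noncomputable def m12l5_tbl : NT :=
(.leaf (nat_lit 0) (nat_lit 0x2025212602c80c20200030008001))

noncomputable def m12l5_par : NT :=
(.leaf (nat_lit 0) (nat_lit 0x2100))

noncomputable def m12l5_rt : RT :=
(.node (nat_lit 0)
(.leaf (nat_lit 0) [nat_lit 0, nat_lit 1] (nat_lit 1) (nat_lit 10) (nat_lit 0))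
(.leaf (nat_lit 0) [nat_lit 0, nat_lit 0, nat_lit 0, nat_lit 0] (nat_lit 3) (nat_lit 0) (nat_lit 0)))

def m12l5_P : List (List ℕ) :=
  [[nat_lit 0, nat_lit 0, nat_lit 0, nat_lit 0]]

noncomputable def m12l5_C : TC where
  G := nat_lit 2
  N := nat_lit 4
  W := nat_lit 14
  mask := nat_lit 16383
  VM := nat_lit 0
  TV := nat_lit 0
  vb := nat_lit 0
  TM := nat_lit 3
  rb := nat_lit 2
  RM := nat_lit 511
  BIG := nat_lit 8192
  b := nat_lit 1
  lm := nat_lit 1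
  Y := nat_lit 0
  n := nat_lit 1
  K := nat_lit 0
  K0 := nat_lit 0
  QM := nat_lit 0
  k := nat_lit 0
  w := nat_lit 1
  c := nat_lit 0
  cq := nat_lit 0
  Lmax := nat_lit 4
  PW := nat_lit 4
  PM := nat_lit 15
  tbl := m12l5_tbl
  par := m12l5_par
  rt := m12l5_rt

noncomputable def m12l5 : Lv where
  C := m12l5_C
  df := [[nat_lit 0],
  [nat_lit 0, nat_lit 0, nat_lit 0]]
  X0 := nat_lit 0
  X := nat_lit 1
  Xl := nat_lit 1
  GG := nat_lit 6
  back := [nat_lit 0, nat_lit 0, nat_lit 0, nat_lit 0, nat_lit 0, nat_lit 0]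
  P := m12l5_P

theorem m12l5_e0 : m12l5_C.edges (nat_lit 0) (nat_lit 4) = true := by decide +kernel
theorem m12l5_cl : m12l5_C.closed m12l5.Xl (nat_lit 0) (nat_lit 4) = true := by decide +kernel
theorem m12l5_tab : m12l5.Tab :=
  ⟨rng_all (TC.edges_sound m12l5_e0), rng_all (TC.closed_sound m12l5_cl)⟩

end Cfsg.Agent.H25.M12L
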