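import Mathlib
import Cfsg.Agent.H25.Util

set_option maxRecDepth 100000
set_option linter.style.longLine false

namespace Cfsg.Agent.H25.M24L
open Cfsg.Agent.H25

noncomputable def m24l0_tbl : NT :=
(.node (nat_lit 2039)
(.leaf (nat_lit 0) (nat_lit 0x34b04e19d0c93d80a93920aa00001010208871d08c15408810f08811908804a04458904c00000f00000e2040871ce04418d04b00000d1d60a500000c04904400000b2080460c408604e0430db0a625f0e61160a625d0c61930a61de1262c804a0c408504e04200000a51004920b0473940a51930a50000091480440c308419f0671150840da08404b0420000080000071110a410804308608300000604d0410c70e30d50a30d40a31580a30d20a31080420850820000050c70a204c0410000040cf0a215c1020d00a20c80410400400840a10000030000020830a10820a111d0610810a1000020000001000020000020000020000020000020000020000020))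
(.node (nat_lit 4079)
(.leaf (nat_lit 2040) (nat_lit 0x54105378e0534520546100525510536820757930ad5d20734480542c00567c40b11d408c45008b41507104a04b7580564d00ad7c804f18004f21d10f1cd04f18c04f18b04f18a04f59805404806804804814105024e0501920501500501510501570500000177980d040804b28004b2c40ae41204e0cc0543030a900001644904b04806750805168005500001555205304c0475110540ca0537c905200001454805324208c74e04820d0510000133d908c04a04755c08800001204804724104e29608b15808748c05124b04a00001141e14e3d106e3c804930004911b08a04d0454da0ca21506b3420aa41d06a2910a50480452c104a15f14934606954c045))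
(.leaf (nat_lit 4080) (nat_lit 0x2c805644105460e0547120551cc0566160b515c0b404904f68107570805528209179d09645409618f05744307604a04e78905129d0576c805764308d04e04d74d05770f09564b0576ca0526dc0936c10b604804d4800575d309748d05209008e54b04d18a0575c90504170b160805258005275b05258d04d04c04c58b05208f0ad7090555170ac04804c))))

noncomputable def m24l0_par : NT :=
(.leaf (nat_lit 0) (nat_lit 0x88807b75706c6550484743413f322d26252118150e0d0700))

noncomputable def m24l0_rt : RT :=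
(.node (nat_lit 15)
(.node (nat_lit 7)
(.node (nat_lit 3)
(.node (nat_lit 1)
(.node (nat_lit 0)
(.leaf (nat_lit 0) [nat_lit 7, nat_lit 7] (nat_lit 1) (nat_lit 30583) (nat_lit 0))
(.leaf (nat_lit 1) [nat_lit 0, nat_lit 7, nat_lit 0, nat_lit 7] (nat_lit 3) (nat_lit 0x70707070) (nat_lit 0)))
(.node (nat_lit 2)
(.leaf (nat_lit 2) [nat_lit 2, nat_lit 7, nat_lit 2, nat_lit 7] (nat_lit 3) (nat_lit 0x72727272) (nat_lit 0))
(.leaf (nat_lit 3) [nat_lit 3, nat_lit 7, nat_lit 3, nat_lit 7] (nat_lit 3) (nat_lit 0x73737373) (nat_lit 0))))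
(.node (nat_lit 5)
(.node (nat_lit 4)
(.leaf (nat_lit 4) [nat_lit 6, nat_lit 7, nat_lit 6, nat_lit 7] (nat_lit 3) (nat_lit 0x76767676) (nat_lit 0))
(.leaf (nat_lit 5) [nat_lit 4, nat_lit 7, nat_lit 4, nat_lit 7, nat_lit 4, nat_lit 7] (nat_lit 5) (nat_lit 0x747474747474) (nat_lit 0)))
(.node (nat_lit 6)
(.leaf (nat_lit 6) [nat_lit 5, nat_lit 7, nat_lit 5, nat_lit 7, nat_lit 5, nat_lit 7] (nat_lit 5) (nat_lit 0x757575757575) (nat_lit 0))
(.leaf (nat_lit 7) [nat_lit 4, nat_lit 7, nat_lit 5, nat_lit 7, nat_lit 4, nat_lit 7, nat_lit 5, nat_lit 7] (nat_lit 7) (nat_lit 0x7574757475747574) (nat_lit 0)))))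
(.node (nat_lit 11)
(.node (nat_lit 9)
(.node (nat_lit 8)
(.leaf (nat_lit 0) [nat_lit 0, nat_lit 8] (nat_lit 1) (nat_lit 32896) (nat_lit 0))
(.leaf (nat_lit 0) [nat_lit 1, nat_lit 1] (nat_lit 1) (nat_lit 4369) (nat_lit 0)))
(.node (nat_lit 10)
(.leaf (nat_lit 0) [nat_lit 2, nat_lit 2] (nat_lit 1) (nat_lit 8738) (nat_lit 0))
(.leaf (nat_lit 0) [nat_lit 3, nat_lit 3] (nat_lit 1) (nat_lit 13107) (nat_lit 0))))
(.node (nat_lit 13)
(.node (nat_lit 12)
(.leaf (nat_lit 0) [nat_lit 4, nat_lit 4] (nat_lit 1) (nat_lit 17476) (nat_lit 0))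
(.leaf (nat_lit 0) [nat_lit 5, nat_lit 5] (nat_lit 1) (nat_lit 21845) (nat_lit 0)))
(.node (nat_lit 14)
(.leaf (nat_lit 0) [nat_lit 6, nat_lit 6] (nat_lit 1) (nat_lit 26214) (nat_lit 0))
(.leaf (nat_lit 0) [nat_lit 2, nat_lit 4, nat_lit 2, nat_lit 4] (nat_lit 3) (nat_lit 0x42424242) (nat_lit 0))))))
(.node (nat_lit 23)
(.node (nat_lit 19)
(.node (nat_lit 17)
(.node (nat_lit 16)
(.leaf (nat_lit 0) [nat_lit 0, nat_lit 4, nat_lit 0, nat_lit 4] (nat_lit 3) (nat_lit 0x40404040) (nat_lit 0))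
(.leaf (nat_lit 0) [nat_lit 0, nat_lit 3, nat_lit 0, nat_lit 3] (nat_lit 3) (nat_lit 0x30303030) (nat_lit 0)))
(.node (nat_lit 18)
(.leaf (nat_lit 0) [nat_lit 0, nat_lit 5, nat_lit 0, nat_lit 5] (nat_lit 3) (nat_lit 0x50505050) (nat_lit 0))
(.leaf (nat_lit 0) [nat_lit 1, nat_lit 6, nat_lit 1, nat_lit 6] (nat_lit 3) (nat_lit 0x61616161) (nat_lit 0))))
(.node (nat_lit 21)
(.node (nat_lit 20)
(.leaf (nat_lit 0) [nat_lit 2, nat_lit 5, nat_lit 2, nat_lit 5] (nat_lit 3) (nat_lit 0x52525252) (nat_lit 0))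
(.leaf (nat_lit 0) [nat_lit 3, nat_lit 5, nat_lit 3, nat_lit 5] (nat_lit 3) (nat_lit 0x53535353) (nat_lit 0)))
(.node (nat_lit 22)
(.leaf (nat_lit 0) [nat_lit 3, nat_lit 6, nat_lit 3, nat_lit 6] (nat_lit 3) (nat_lit 0x63636363) (nat_lit 0))
(.leaf (nat_lit 0) [nat_lit 0, nat_lit 2, nat_lit 0, nat_lit 2, nat_lit 0, nat_lit 2] (nat_lit 5) (nat_lit 0x202020202020) (nat_lit 0)))))
(.node (nat_lit 27)
(.node (nat_lit 25)
(.node (nat_lit 24)
(.leaf (nat_lit 0) [nat_lit 0, nat_lit 5, nat_lit 1, nat_lit 0, nat_lit 5, nat_lit 1] (nat_lit 5) (nat_lit 0x150150150150) (nat_lit 0))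
(.leaf (nat_lit 0) [nat_lit 2, nat_lit 3, nat_lit 2, nat_lit 3, nat_lit 2, nat_lit 3] (nat_lit 5) (nat_lit 0x323232323232) (nat_lit 0)))
(.node (nat_lit 26)
(.leaf (nat_lit 0) [nat_lit 3, nat_lit 4, nat_lit 3, nat_lit 4, nat_lit 3, nat_lit 4] (nat_lit 5) (nat_lit 0x434343434343) (nat_lit 0))
(.leaf (nat_lit 0) [nat_lit 5, nat_lit 6, nat_lit 5, nat_lit 6, nat_lit 5, nat_lit 6] (nat_lit 5) (nat_lit 0x656565656565) (nat_lit 0))))
(.node (nat_lit 29)
(.node (nat_lit 28)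
(.leaf (nat_lit 0) [nat_lit 0, nat_lit 1, nat_lit 2, nat_lit 4, nat_lit 0, nat_lit 1, nat_lit 2, nat_lit 4] (nat_lit 7) (nat_lit 0x4210421042104210) (nat_lit 0))
(.leaf (nat_lit 0) [nat_lit 1, nat_lit 6, nat_lit 0, nat_lit 2, nat_lit 8, nat_lit 6, nat_lit 8, nat_lit 2, nat_lit 0] (nat_lit 8) (nat_lit 0x28682061028682061) (nat_lit 0)))
(.node (nat_lit 30)
(.leaf (nat_lit 0) [nat_lit 0, nat_lit 1, nat_lit 3, nat_lit 1, nat_lit 3, nat_lit 6, nat_lit 0, nat_lit 1, nat_lit 3, nat_lit 1, nat_lit 3, nat_lit 6] (nat_lit 11) (nat_lit 0x631310631310631310631310) (nat_lit 0))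
(.leaf (nat_lit 0) [nat_lit 6, nat_lit 1, nat_lit 3, nat_lit 1, nat_lit 4, nat_lit 6, nat_lit 0, nat_lit 6, nat_lit 8, nat_lit 6, nat_lit 4, nat_lit 3] (nat_lit 11) (nat_lit 0x346860641316346860641316) (nat_lit 0)))))))

def m24l0_P : List (List ℕ) :=
  [[nat_lit 7, nat_lit 7],
  [nat_lit 0, nat_lit 7, nat_lit 0, nat_lit 7],
  [nat_lit 2, nat_lit 7, nat_lit 2, nat_lit 7],
  [nat_lit 3, nat_lit 7, nat_lit 3, nat_lit 7],
  [nat_lit 6, nat_lit 7, nat_lit 6, nat_lit 7],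
  [nat_lit 4, nat_lit 7, nat_lit 4, nat_lit 7, nat_lit 4, nat_lit 7],
  [nat_lit 5, nat_lit 7, nat_lit 5, nat_lit 7, nat_lit 5, nat_lit 7],
  [nat_lit 4, nat_lit 7, nat_lit 5, nat_lit 7, nat_lit 4, nat_lit 7, nat_lit 5, nat_lit 7]]

noncomputable def m24l0_C : TC where
  G := nat_lit 9
  N := nat_lit 24
  W := nat_lit 24
  mask := nat_lit 0xffffff
  VM := nat_lit 0
  TV := nat_lit 0
  vb := nat_lit 0
  TM := nat_lit 31
  rb := nat_lit 5
  RM := nat_lit 8191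
  BIG := nat_lit 0x800000
  b := nat_lit 4
  lm := nat_lit 15
  Y := nat_lit 383
  n := nat_lit 1
  K := nat_lit 0
  K0 := nat_lit 0
  QM := nat_lit 0
  k := nat_lit 0
  w := nat_lit 1
  c := nat_lit 0
  cq := nat_lit 0
  Lmax := nat_lit 12
  PW := nat_lit 8
  PM := nat_lit 255
  tbl := m24l0_tbl
  par := m24l0_par
  rt := m24l0_rt

noncomputable def m24l0 : Lv where
  C := m24l0_C
  df := [[nat_lit 0],
  [nat_lit 1],
  [nat_lit 2],
  [nat_lit 3],
  [nat_lit 4],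
  [nat_lit 5],
  [nat_lit 6],
  [nat_lit 7],
  [nat_lit 0, nat_lit 0]]
  X0 := nat_lit 127
  X := nat_lit 255
  Xl := nat_lit 255
  GG := nat_lit 8
  back := [nat_lit 0, nat_lit 1, nat_lit 2, nat_lit 3, nat_lit 4, nat_lit 5, nat_lit 6, nat_lit 7]
  P := m24l0_P

theorem m24l0_e0 : m24l0_C.edges (nat_lit 0) (nat_lit 24) = true := by decide +kernel
theorem m24l0_cl : m24l0_C.closed m24l0.Xl (nat_lit 0) (nat_lit 24) = true := by decide +kernel
theorem m24l0_tab : m24l0.Tab :=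
  ⟨rng_all (TC.edges_sound m24l0_e0), rng_all (TC.closed_sound m24l0_cl)⟩

noncomputable def m24l1_tbl : NT :=
(.node (nat_lit 2046)
(.leaf (nat_lit 0) (nat_lit 0x1104c08c6082287a8432ad0502d2092000041438269cf06d38c09028c224158229c51492a00d48b82a52b02498f0a504c08a2944a0e882408506529e09a9d81a0fa8241a50c900001f10012c67043b5612722410e0a01103382580000e00001a4882108582500000c25208a00002c1382200000a34c09208010c000048aa0482080cc8581947085280000818c0885001185804209308405208600001c000030af0a414c0860000144a04182a0420000083d818c6b07188d0a310c08410c208158208000030e01442b82884a8510710a20c828208010000001065061084142258184208508441010000400000040001000002000004000008000010000020))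
(.node (nat_lit 4093)
(.leaf (nat_lit 2047) (nat_lit 0x2704e68c0e8e181517082aa0e0955d40aca4825414026aac0b072c12cc90558100263cb05660a2a8f2415a24028c010726da16a098131e102b32b05109a11a6a41323402b32704f5da0e0498145f1828b5104c054096e24145e402642705471e15609812e0002931105325a0a2dc01ca1602a0d60ac22c224c1814d628b812e08b5940949401c0140252c705552c118f9813a0002710b04e71409c52413a3602731505304c0ce09811df08278f104f6da09e4bc13e440278000167aa0de798128c10469f008d0d40a65a41200000aa6404a04c0cca981400000a36b05205408c64c1cddb0390e7051000026e9814a1207394b0500000248c822c1402304c0a7))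
(.leaf (nat_lit 4094) (nat_lit 0x1d302abe00537620a8b58355d782a44e0b3))))

noncomputable def m24l1_par : NT :=
(.leaf (nat_lit 0) (nat_lit 0x716a66605c58523f38373432302d2822211e1b140d0600))

noncomputable def m24l1_rt : RT :=
(.node (nat_lit 10)
(.node (nat_lit 4)
(.node (nat_lit 1)
(.node (nat_lit 0)
(.leaf (nat_lit 0) [nat_lit 6, nat_lit 6] (nat_lit 1) (nat_lit 3510) (nat_lit 0))
(.leaf (nat_lit 1) [nat_lit 1, nat_lit 6, nat_lit 1, nat_lit 6] (nat_lit 3) (nat_lit 0xc71c71) (nat_lit 0)))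
(.node (nat_lit 2)
(.leaf (nat_lit 2) [nat_lit 3, nat_lit 6, nat_lit 3, nat_lit 6] (nat_lit 3) (nat_lit 0xcf3cf3) (nat_lit 0))
(.node (nat_lit 3)
(.leaf (nat_lit 3) [nat_lit 5, nat_lit 6, nat_lit 5, nat_lit 6, nat_lit 5, nat_lit 6] (nat_lit 5) (nat_lit 0xd75d75d75) (nat_lit 0))
(.leaf (nat_lit 4) [nat_lit 3, nat_lit 1, nat_lit 0, nat_lit 3, nat_lit 6, nat_lit 0, nat_lit 6, nat_lit 7, nat_lit 1] (nat_lit 8) (nat_lit 0xfc33059f8660b) (nat_lit 0)))))
(.node (nat_lit 7)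
(.node (nat_lit 5)
(.leaf (nat_lit 5) [nat_lit 4, nat_lit 6, nat_lit 4, nat_lit 0, nat_lit 6, nat_lit 0, nat_lit 6, nat_lit 4, nat_lit 6, nat_lit 0] (nat_lit 9) (nat_lit 0x1a6184d06986134) (nat_lit 0))
(.node (nat_lit 6)
(.leaf (nat_lit 0) [nat_lit 0, nat_lit 7] (nat_lit 1) (nat_lit 3640) (nat_lit 0))
(.leaf (nat_lit 0) [nat_lit 1, nat_lit 1] (nat_lit 1) (nat_lit 585) (nat_lit 0))))
(.node (nat_lit 8)
(.leaf (nat_lit 0) [nat_lit 2, nat_lit 2] (nat_lit 1) (nat_lit 1170) (nat_lit 0))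
(.node (nat_lit 9)
(.leaf (nat_lit 0) [nat_lit 3, nat_lit 3] (nat_lit 1) (nat_lit 1755) (nat_lit 0))
(.leaf (nat_lit 0) [nat_lit 4, nat_lit 4] (nat_lit 1) (nat_lit 2340) (nat_lit 0))))))
(.node (nat_lit 16)
(.node (nat_lit 13)
(.node (nat_lit 11)
(.leaf (nat_lit 0) [nat_lit 5, nat_lit 5] (nat_lit 1) (nat_lit 2925) (nat_lit 0))
(.node (nat_lit 12)
(.leaf (nat_lit 0) [nat_lit 1, nat_lit 2, nat_lit 1, nat_lit 2] (nat_lit 3) (nat_lit 0x451451) (nat_lit 0))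
(.leaf (nat_lit 0) [nat_lit 0, nat_lit 4, nat_lit 0, nat_lit 4] (nat_lit 3) (nat_lit 0x820820) (nat_lit 0))))
(.node (nat_lit 14)
(.leaf (nat_lit 0) [nat_lit 2, nat_lit 5, nat_lit 2, nat_lit 5] (nat_lit 3) (nat_lit 0xaaaaaa) (nat_lit 0))
(.node (nat_lit 15)
(.leaf (nat_lit 0) [nat_lit 0, nat_lit 3, nat_lit 0, nat_lit 3] (nat_lit 3) (nat_lit 0x618618) (nat_lit 0))
(.leaf (nat_lit 0) [nat_lit 3, nat_lit 5, nat_lit 3, nat_lit 5] (nat_lit 3) (nat_lit 0xaebaeb) (nat_lit 0)))))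
(.node (nat_lit 19)
(.node (nat_lit 17)
(.leaf (nat_lit 0) [nat_lit 0, nat_lit 5, nat_lit 0, nat_lit 5] (nat_lit 3) (nat_lit 0xa28a28) (nat_lit 0))
(.node (nat_lit 18)
(.leaf (nat_lit 0) [nat_lit 2, nat_lit 3, nat_lit 2, nat_lit 3, nat_lit 2, nat_lit 3] (nat_lit 5) (nat_lit 0x69a69a69a) (nat_lit 0))
(.leaf (nat_lit 0) [nat_lit 3, nat_lit 4, nat_lit 3, nat_lit 4, nat_lit 3, nat_lit 4] (nat_lit 5) (nat_lit 0x8e38e38e3) (nat_lit 0))))
(.node (nat_lit 20)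
(.leaf (nat_lit 0) [nat_lit 4, nat_lit 5, nat_lit 4, nat_lit 5, nat_lit 4, nat_lit 5] (nat_lit 5) (nat_lit 0xb2cb2cb2c) (nat_lit 0))
(.node (nat_lit 21)
(.leaf (nat_lit 0) [nat_lit 0, nat_lit 5, nat_lit 1, nat_lit 5, nat_lit 7, nat_lit 1] (nat_lit 5) (nat_lit 0x3e9a0fa68) (nat_lit 0))
(.leaf (nat_lit 0) [nat_lit 2, nat_lit 0, nat_lit 1, nat_lit 4, nat_lit 1, nat_lit 0, nat_lit 4, nat_lit 1] (nat_lit 7) (nat_lit 0x301842301842) (nat_lit 0)))))))

def m24l1_P : List (List ℕ) :=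
  [[nat_lit 6, nat_lit 6],
  [nat_lit 1, nat_lit 6, nat_lit 1, nat_lit 6],
  [nat_lit 3, nat_lit 6, nat_lit 3, nat_lit 6],
  [nat_lit 5, nat_lit 6, nat_lit 5, nat_lit 6, nat_lit 5, nat_lit 6],
  [nat_lit 3, nat_lit 1, nat_lit 0, nat_lit 3, nat_lit 6, nat_lit 0, nat_lit 6, nat_lit 0, nat_lit 0, nat_lit 1],
  [nat_lit 4, nat_lit 6, nat_lit 4, nat_lit 0, nat_lit 6, nat_lit 0, nat_lit 6, nat_lit 4, nat_lit 6, nat_lit 0]]

noncomputable def m24l1_C : TC where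
  G := nat_lit 8
  N := nat_lit 23
  W := nat_lit 23
  mask := nat_lit 0x7fffff
  VM := nat_lit 0
  TV := nat_lit 0
  vb := nat_lit 0
  TM := nat_lit 31
  rb := nat_lit 5
  RM := nat_lit 4095
  BIG := nat_lit 0x4a0000
  b := nat_lit 3
  lm := nat_lit 7
  Y := nat_lit 191
  n := nat_lit 1
  K := nat_lit 0
  K0 := nat_lit 0
  QM := nat_lit 0
  k := nat_lit 0
  w := nat_lit 1
  c := nat_lit 0
  cq := nat_lit 0
  Lmax := nat_lit 10
  PW := nat_lit 8
  PM := nat_lit 255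
  tbl := m24l1_tbl
  par := m24l1_par
  rt := m24l1_rt

noncomputable def m24l1 : Lv where
  C := m24l1_C
  df := [[nat_lit 0],
  [nat_lit 1],
  [nat_lit 2],
  [nat_lit 3],
  [nat_lit 4],
  [nat_lit 5],
  [nat_lit 6],
  [nat_lit 0, nat_lit 0]]
  X0 := nat_lit 63
  X := nat_lit 127
  Xl := nat_lit 127
  GG := nat_lit 8
  back := [nat_lit 0, nat_lit 1, nat_lit 2, nat_lit 3, nat_lit 4, nat_lit 5, nat_lit 6, nat_lit 0]
  P := m24l1_P

theorem m24l1_e0 : m24l1_C.edges (nat_lit 0) (nat_lit 23) = true := by decide +kernel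
theorem m24l1_cl : m24l1_C.closed m24l1.Xl (nat_lit 0) (nat_lit 23) = true := by decide +kernel
theorem m24l1_tab : m24l1.Tab :=
  ⟨rng_all (TC.edges_sound m24l1_e0), rng_all (TC.closed_sound m24l1_cl)⟩

noncomputable def m24l2_tbl : NT :=
(.node (nat_lit 2045)
(.leaf (nat_lit 0) (nat_lit 0x2e40533bc3a64604b30012cca04b93812ce804b69014826065098114a104c2b41326904c33c130000148c83b18604650c2286a0522a414400013c2c29826064418135410900a8111e90521a0142b306f000049c604e480139cd0910a4110d00a83cc320000113981412004d000040b30a70a01104b0a500003c260443102110d04d0000380000dc9c1296106a00003082085230214900850a010c6704700002c0000a380118000090000200000709c10c0000623830c630831c420c290420000140000429818c860421142082a04100000c6c0a22484086d0a219810420040000008430a1108284640a110428400020000004000200000800002000008000020))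
(.leaf (nat_lit 2046) (nat_lit 0x2860548082522c095a381502804fb2c2c2410b389814e200558a814ea90557ac2482704b9b42d66605558824e0c0548c024c2804ac1c1360f074098125c004f134229ce049820151c704c6342b426048484145ea04823812a0c0b15102c44e08e81813d600490a811de30af1302a6e705534839c2604768414a0d04f82414000015b1c125e10b0198145030885c4138290465081ba3208e6b81a1a605240821d2a04650c1b428046)))

noncomputable def m24l2_par : NT :=
(.leaf (nat_lit 0) (nat_lit 0x6b4e483f3835312d2c292322201f1e1c1716110b0500))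

noncomputable def m24l2_rt : RT :=
(.node (nat_lit 9)
(.node (nat_lit 4)
(.node (nat_lit 1)
(.node (nat_lit 0)
(.leaf (nat_lit 0) [nat_lit 5, nat_lit 5] (nat_lit 1) (nat_lit 2925) (nat_lit 0))
(.leaf (nat_lit 1) [nat_lit 0, nat_lit 5, nat_lit 0, nat_lit 5] (nat_lit 3) (nat_lit 0xa28a28) (nat_lit 0)))
(.node (nat_lit 2)
(.leaf (nat_lit 2) [nat_lit 2, nat_lit 5, nat_lit 2, nat_lit 5] (nat_lit 3) (nat_lit 0xaaaaaa) (nat_lit 0))
(.node (nat_lit 3)
(.leaf (nat_lit 3) [nat_lit 3, nat_lit 5, nat_lit 3, nat_lit 5] (nat_lit 3) (nat_lit 0xaebaeb) (nat_lit 0))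
(.leaf (nat_lit 4) [nat_lit 0, nat_lit 5, nat_lit 1, nat_lit 0, nat_lit 5, nat_lit 1] (nat_lit 5) (nat_lit 0x341a0d068) (nat_lit 0)))))
(.node (nat_lit 6)
(.node (nat_lit 5)
(.leaf (nat_lit 5) [nat_lit 4, nat_lit 5, nat_lit 4, nat_lit 5, nat_lit 4, nat_lit 5] (nat_lit 5) (nat_lit 0xb2cb2cb2c) (nat_lit 0))
(.leaf (nat_lit 0) [nat_lit 0, nat_lit 6] (nat_lit 1) (nat_lit 3120) (nat_lit 0)))
(.node (nat_lit 7)
(.leaf (nat_lit 0) [nat_lit 1, nat_lit 1] (nat_lit 1) (nat_lit 585) (nat_lit 0))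
(.node (nat_lit 8)
(.leaf (nat_lit 0) [nat_lit 2, nat_lit 2] (nat_lit 1) (nat_lit 1170) (nat_lit 0))
(.leaf (nat_lit 0) [nat_lit 3, nat_lit 3] (nat_lit 1) (nat_lit 1755) (nat_lit 0))))))
(.node (nat_lit 14)
(.node (nat_lit 11)
(.node (nat_lit 10)
(.leaf (nat_lit 0) [nat_lit 4, nat_lit 4] (nat_lit 1) (nat_lit 2340) (nat_lit 0))
(.leaf (nat_lit 0) [nat_lit 1, nat_lit 2, nat_lit 1, nat_lit 2] (nat_lit 3) (nat_lit 0x451451) (nat_lit 0)))
(.node (nat_lit 12)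
(.leaf (nat_lit 0) [nat_lit 2, nat_lit 4, nat_lit 2, nat_lit 4] (nat_lit 3) (nat_lit 0x8a28a2) (nat_lit 0))
(.node (nat_lit 13)
(.leaf (nat_lit 0) [nat_lit 0, nat_lit 4, nat_lit 0, nat_lit 4] (nat_lit 3) (nat_lit 0x820820) (nat_lit 0))
(.leaf (nat_lit 0) [nat_lit 0, nat_lit 0, nat_lit 3, nat_lit 6, nat_lit 3] (nat_lit 4) (nat_lit 0x1e603cc0) (nat_lit 0)))))
(.node (nat_lit 16)
(.node (nat_lit 15)
(.leaf (nat_lit 0) [nat_lit 0, nat_lit 2, nat_lit 0, nat_lit 2, nat_lit 0, nat_lit 2] (nat_lit 5) (nat_lit 0x410410410) (nat_lit 0))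
(.leaf (nat_lit 0) [nat_lit 2, nat_lit 3, nat_lit 2, nat_lit 3, nat_lit 2, nat_lit 3] (nat_lit 5) (nat_lit 0x69a69a69a) (nat_lit 0)))
(.node (nat_lit 17)
(.leaf (nat_lit 0) [nat_lit 3, nat_lit 4, nat_lit 3, nat_lit 4, nat_lit 3, nat_lit 4] (nat_lit 5) (nat_lit 0x8e38e38e3) (nat_lit 0))
(.node (nat_lit 18)
(.leaf (nat_lit 0) [nat_lit 0, nat_lit 1, nat_lit 4, nat_lit 2, nat_lit 0, nat_lit 1, nat_lit 4, nat_lit 2] (nat_lit 7) (nat_lit 0x508508508508) (nat_lit 0))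
(.leaf (nat_lit 0) [nat_lit 1, nat_lit 2, nat_lit 3, nat_lit 1, nat_lit 2, nat_lit 3, nat_lit 1, nat_lit 2, nat_lit 3] (nat_lit 8) (nat_lit 0x1a2d168b45a2d1) (nat_lit 0)))))))

def m24l2_P : List (List ℕ) :=
  [[nat_lit 5, nat_lit 5],
  [nat_lit 0, nat_lit 5, nat_lit 0, nat_lit 5],
  [nat_lit 2, nat_lit 5, nat_lit 2, nat_lit 5],
  [nat_lit 3, nat_lit 5, nat_lit 3, nat_lit 5],
  [nat_lit 0, nat_lit 5, nat_lit 1, nat_lit 0, nat_lit 5, nat_lit 1],
  [nat_lit 4, nat_lit 5, nat_lit 4, nat_lit 5, nat_lit 4, nat_lit 5]]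

noncomputable def m24l2_C : TC where
  G := nat_lit 7
  N := nat_lit 22
  W := nat_lit 22
  mask := nat_lit 0x3fffff
  VM := nat_lit 0
  TV := nat_lit 0
  vb := nat_lit 0
  TM := nat_lit 31
  rb := nat_lit 5
  RM := nat_lit 4095
  BIG := nat_lit 0x340000
  b := nat_lit 3
  lm := nat_lit 7
  Y := nat_lit 95
  n := nat_lit 1
  K := nat_lit 0
  K0 := nat_lit 0
  QM := nat_lit 0
  k := nat_lit 0
  w := nat_lit 1
  c := nat_lit 0
  cq := nat_lit 0
  Lmax := nat_lit 9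
  PW := nat_lit 8
  PM := nat_lit 255
  tbl := m24l2_tbl
  par := m24l2_par
  rt := m24l2_rt

noncomputable def m24l2 : Lv where
  C := m24l2_C
  df := [[nat_lit 0],
  [nat_lit 1],
  [nat_lit 2],
  [nat_lit 3],
  [nat_lit 4],
  [nat_lit 5],
  [nat_lit 0, nat_lit 0]]
  X0 := nat_lit 31
  X := nat_lit 63
  Xl := nat_lit 63
  GG := nat_lit 8
  back := [nat_lit 0, nat_lit 1, nat_lit 2, nat_lit 3, nat_lit 4, nat_lit 5, nat_lit 0, nat_lit 0]
  P := m24l2_P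

theorem m24l2_e0 : m24l2_C.edges (nat_lit 0) (nat_lit 22) = true := by decide +kernel
theorem m24l2_cl : m24l2_C.closed m24l2.Xl (nat_lit 0) (nat_lit 22) = true := by decide +kernel
theorem m24l2_tab : m24l2.Tab :=
  ⟨rng_all (TC.edges_sound m24l2_e0), rng_all (TC.closed_sound m24l2_cl)⟩

noncomputable def m24l3_tbl : NT :=
(.node (nat_lit 2036)
(.leaf (nat_lit 0) (nat_lit 0x3908d1a827288219f009ca7049bb02a0541982a08cb104e750278000531c2922904f2282844c3343008afb04d2f0f68a829d0a0a4810858606605c1167c122890891a825140128b00945704a3a0890541902a0884104b2502592c12c000262904b4a82604010e340a49b08fcb0270841c86a08a000121c028000046cc08a150631a826c8414030086ec0e79a0438000400001eb004f6e82305c10d882080000e0a821a401300001a0000cae8940a412000016320841e04205c109ac08c0000a000040000240000e000060b0210000148a084230820c020800010000063a0a21a82084010000004220a11a0808842840004000001000100000800004000020))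
(.leaf (nat_lit 2037) (nat_lit 0x850536104a22014c2e09d6408f158589d4144c00a27a05422059058128f20a835049080244a0124ae0a68604b3d8560d4150a40a65c0910b824518130dc26615047980238a82209c1e17d130)))

noncomputable def m24l3_par : NT :=
(.leaf (nat_lit 0) (nat_lit 0x567ad192a52910a03a60b172a5090e1a24200))

noncomputable def m24l3_rt : RT :=
(.node (nat_lit 6)
(.node (nat_lit 2)
(.node (nat_lit 0)
(.leaf (nat_lit 0) [nat_lit 4, nat_lit 4] (nat_lit 1) (nat_lit 2340) (nat_lit 0))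
(.node (nat_lit 1)
(.leaf (nat_lit 1) [nat_lit 0, nat_lit 4, nat_lit 0, nat_lit 4] (nat_lit 3) (nat_lit 0x820820) (nat_lit 0))
(.leaf (nat_lit 2) [nat_lit 2, nat_lit 4, nat_lit 2, nat_lit 4] (nat_lit 3) (nat_lit 0x8a28a2) (nat_lit 0))))
(.node (nat_lit 4)
(.node (nat_lit 3)
(.leaf (nat_lit 3) [nat_lit 3, nat_lit 4, nat_lit 3, nat_lit 4, nat_lit 3, nat_lit 4] (nat_lit 5) (nat_lit 0x8e38e38e3) (nat_lit 0))
(.leaf (nat_lit 4) [nat_lit 0, nat_lit 1, nat_lit 2, nat_lit 4, nat_lit 0, nat_lit 1, nat_lit 2, nat_lit 4] (nat_lit 7) (nat_lit 0x888888888888) (nat_lit 0)))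
(.node (nat_lit 5)
(.leaf (nat_lit 0) [nat_lit 0, nat_lit 5] (nat_lit 1) (nat_lit 2600) (nat_lit 0))
(.leaf (nat_lit 0) [nat_lit 1, nat_lit 1] (nat_lit 1) (nat_lit 585) (nat_lit 0)))))
(.node (nat_lit 10)
(.node (nat_lit 8)
(.node (nat_lit 7)
(.leaf (nat_lit 0) [nat_lit 2, nat_lit 2] (nat_lit 1) (nat_lit 1170) (nat_lit 0))
(.leaf (nat_lit 0) [nat_lit 3, nat_lit 3] (nat_lit 1) (nat_lit 1755) (nat_lit 0)))
(.node (nat_lit 9)
(.leaf (nat_lit 0) [nat_lit 0, nat_lit 0, nat_lit 0] (nat_lit 2) (nat_lit 0) (nat_lit 0))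
(.leaf (nat_lit 0) [nat_lit 0, nat_lit 3, nat_lit 0, nat_lit 3] (nat_lit 3) (nat_lit 0x618618) (nat_lit 0))))
(.node (nat_lit 12)
(.node (nat_lit 11)
(.leaf (nat_lit 0) [nat_lit 0, nat_lit 2, nat_lit 0, nat_lit 2, nat_lit 0, nat_lit 2] (nat_lit 5) (nat_lit 0x410410410) (nat_lit 0))
(.leaf (nat_lit 0) [nat_lit 2, nat_lit 3, nat_lit 2, nat_lit 3, nat_lit 2, nat_lit 3] (nat_lit 5) (nat_lit 0x69a69a69a) (nat_lit 0)))
(.node (nat_lit 13)
(.leaf (nat_lit 0) [nat_lit 1, nat_lit 2, nat_lit 3, nat_lit 1, nat_lit 2, nat_lit 3, nat_lit 1, nat_lit 2, nat_lit 3] (nat_lit 8) (nat_lit 0x1a2d168b45a2d1) (nat_lit 0))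
(.leaf (nat_lit 0) [nat_lit 3, nat_lit 1, nat_lit 3, nat_lit 0, nat_lit 2, nat_lit 3, nat_lit 0, nat_lit 1, nat_lit 3, nat_lit 0, nat_lit 2, nat_lit 0, nat_lit 1, nat_lit 0] (nat_lit 13) (nat_lit 0x420c86832c108321a0cb) (nat_lit 0))))))

def m24l3_P : List (List ℕ) :=
  [[nat_lit 4, nat_lit 4],
  [nat_lit 0, nat_lit 4, nat_lit 0, nat_lit 4],
  [nat_lit 2, nat_lit 4, nat_lit 2, nat_lit 4],
  [nat_lit 3, nat_lit 4, nat_lit 3, nat_lit 4, nat_lit 3, nat_lit 4],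
  [nat_lit 0, nat_lit 1, nat_lit 2, nat_lit 4, nat_lit 0, nat_lit 1, nat_lit 2, nat_lit 4]]

noncomputable def m24l3_C : TC where
  G := nat_lit 6
  N := nat_lit 21
  W := nat_lit 21
  mask := nat_lit 0x1fffff
  VM := nat_lit 0
  TV := nat_lit 0
  vb := nat_lit 0
  TM := nat_lit 31
  rb := nat_lit 5
  RM := nat_lit 2047
  BIG := nat_lit 0x1a0000
  b := nat_lit 3
  lm := nat_lit 7
  Y := nat_lit 47
  n := nat_lit 1
  K := nat_lit 0
  K0 := nat_lit 0
  QM := nat_lit 0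
  k := nat_lit 0
  w := nat_lit 1
  c := nat_lit 0
  cq := nat_lit 0
  Lmax := nat_lit 14
  PW := nat_lit 7
  PM := nat_lit 127
  tbl := m24l3_tbl
  par := m24l3_par
  rt := m24l3_rt

noncomputable def m24l3 : Lv where
  C := m24l3_C
  df := [[nat_lit 0],
  [nat_lit 1],
  [nat_lit 2],
  [nat_lit 3],
  [nat_lit 4],
  [nat_lit 0, nat_lit 0]]
  X0 := nat_lit 15
  X := nat_lit 31
  Xl := nat_lit 31
  GG := nat_lit 8
  back := [nat_lit 0, nat_lit 1, nat_lit 2, nat_lit 3, nat_lit 4, nat_lit 0, nat_lit 0, nat_lit 0]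
  P := m24l3_P

theorem m24l3_e0 : m24l3_C.edges (nat_lit 0) (nat_lit 21) = true := by decide +kernel
theorem m24l3_cl : m24l3_C.closed m24l3.Xl (nat_lit 0) (nat_lit 21) = true := by decide +kernel
theorem m24l3_tab : m24l3.Tab :=
  ⟨rng_all (TC.edges_sound m24l3_e0), rng_all (TC.closed_sound m24l3_cl)⟩

noncomputable def m24l4_tbl : NT :=
(.leaf (nat_lit 0) (nat_lit 0x95050441901704c890ad2a0ae1504a700512a08d7306c98051a5052620d24909016049810aa8504e5005357051160488809355047100465404fa41af310ab35053620ce17046a40aa710703504c5004c370529605315065150454104d00013860522804d4504f100446a0cb7410b210a795051720ca17044b604e00012350484004847048000111506315043310493a04900010280493504b10042420a7530c74804f350440000f0000ec6044150620000d330a517042290a30000c150420000b0000ab90a6280460000922083170413604500008000060000700005160410000435041100400000300002210a10002000001000200002000020))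

noncomputable def m24l4_par : NT :=
(.leaf (nat_lit 0) (nat_lit 0x7cc97294280e992e5898f1a3860a0e18180))

noncomputable def m24l4_rt : RT :=
(.node (nat_lit 4)
(.node (nat_lit 1)
(.node (nat_lit 0)
(.leaf (nat_lit 0) [nat_lit 3, nat_lit 3] (nat_lit 1) (nat_lit 1755) (nat_lit 0))
(.leaf (nat_lit 1) [nat_lit 0, nat_lit 3, nat_lit 0, nat_lit 3] (nat_lit 3) (nat_lit 0x618618) (nat_lit 0)))
(.node (nat_lit 2)
(.leaf (nat_lit 2) [nat_lit 2, nat_lit 3, nat_lit 2, nat_lit 3, nat_lit 2, nat_lit 3] (nat_lit 5) (nat_lit 0x69a69a69a) (nat_lit 0))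
(.node (nat_lit 3)
(.leaf (nat_lit 3) [nat_lit 1, nat_lit 2, nat_lit 3, nat_lit 1, nat_lit 2, nat_lit 3, nat_lit 1, nat_lit 2, nat_lit 3] (nat_lit 8) (nat_lit 0x1a2d168b45a2d1) (nat_lit 0))
(.leaf (nat_lit 4) [nat_lit 3, nat_lit 0, nat_lit 1, nat_lit 0, nat_lit 3, nat_lit 1, nat_lit 2, nat_lit 0, nat_lit 2, nat_lit 3, nat_lit 1, nat_lit 3, nat_lit 0, nat_lit 2] (nat_lit 13) (nat_lit 0x4196822c10d065a08b043) (nat_lit 0)))))
(.node (nat_lit 7)
(.node (nat_lit 5)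
(.leaf (nat_lit 0) [nat_lit 0, nat_lit 4] (nat_lit 1) (nat_lit 2080) (nat_lit 0))
(.node (nat_lit 6)
(.leaf (nat_lit 0) [nat_lit 1, nat_lit 1] (nat_lit 1) (nat_lit 585) (nat_lit 0))
(.leaf (nat_lit 0) [nat_lit 2, nat_lit 2] (nat_lit 1) (nat_lit 1170) (nat_lit 0))))
(.node (nat_lit 8)
(.leaf (nat_lit 0) [nat_lit 0, nat_lit 0, nat_lit 0] (nat_lit 2) (nat_lit 0) (nat_lit 0))
(.node (nat_lit 9)
(.leaf (nat_lit 0) [nat_lit 1, nat_lit 2, nat_lit 1, nat_lit 2] (nat_lit 3) (nat_lit 0x451451) (nat_lit 0))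
(.leaf (nat_lit 0) [nat_lit 0, nat_lit 2, nat_lit 0, nat_lit 2, nat_lit 0, nat_lit 2] (nat_lit 5) (nat_lit 0x410410410) (nat_lit 0))))))

def m24l4_P : List (List ℕ) :=
  [[nat_lit 3, nat_lit 3],
  [nat_lit 0, nat_lit 3, nat_lit 0, nat_lit 3],
  [nat_lit 2, nat_lit 3, nat_lit 2, nat_lit 3, nat_lit 2, nat_lit 3],
  [nat_lit 1, nat_lit 2, nat_lit 3, nat_lit 1, nat_lit 2, nat_lit 3, nat_lit 1, nat_lit 2, nat_lit 3],
  [nat_lit 3, nat_lit 0, nat_lit 1, nat_lit 0, nat_lit 3, nat_lit 1, nat_lit 2, nat_lit 0, nat_lit 2, nat_lit 3, nat_lit 1, nat_lit 3, nat_lit 0, nat_lit 2]]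

noncomputable def m24l4_C : TC where
  G := nat_lit 5
  N := nat_lit 20
  W := nat_lit 20
  mask := nat_lit 0xfffff
  VM := nat_lit 0
  TV := nat_lit 0
  vb := nat_lit 0
  TM := nat_lit 31
  rb := nat_lit 5
  RM := nat_lit 2047
  BIG := nat_lit 851968
  b := nat_lit 3
  lm := nat_lit 7
  Y := nat_lit 23
  n := nat_lit 1
  K := nat_lit 0
  K0 := nat_lit 0
  QM := nat_lit 0
  k := nat_lit 0
  w := nat_lit 1
  c := nat_lit 0
  cq := nat_lit 0
  Lmax := nat_lit 14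
  PW := nat_lit 7
  PM := nat_lit 127
  tbl := m24l4_tbl
  par := m24l4_par
  rt := m24l4_rt

noncomputable def m24l4 : Lv where
  C := m24l4_C
  df := [[nat_lit 0],
  [nat_lit 1],
  [nat_lit 2],
  [nat_lit 3],
  [nat_lit 0, nat_lit 0]]
  X0 := nat_lit 7
  X := nat_lit 15
  Xl := nat_lit 15
  GG := nat_lit 8
  back := [nat_lit 0, nat_lit 1, nat_lit 2, nat_lit 3, nat_lit 0, nat_lit 0, nat_lit 0, nat_lit 0]
  P := m24l4_P

theorem m24l4_e0 : m24l4_C.edges (nat_lit 0) (nat_lit 20) = true := by decide +kernel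
theorem m24l4_cl : m24l4_C.closed m24l4.Xl (nat_lit 0) (nat_lit 20) = true := by decide +kernel
theorem m24l4_tab : m24l4.Tab :=
  ⟨rng_all (TC.edges_sound m24l4_e0), rng_all (TC.closed_sound m24l4_cl)⟩

noncomputable def m24l5_tbl : NT :=
(.leaf (nat_lit 0) (nat_lit 0x7014c02a10b980d3012902d3092c0b0006402110a8002000800040020004))

noncomputable def m24l5_par : NT :=
(.leaf (nat_lit 0) (nat_lit 0x39040))

noncomputable def m24l5_rt : RT :=
(.node (nat_lit 2)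
(.node (nat_lit 0)
(.leaf (nat_lit 0) [nat_lit 2, nat_lit 2] (nat_lit 1) (nat_lit 170) (nat_lit 0))
(.node (nat_lit 1)
(.leaf (nat_lit 1) [nat_lit 1, nat_lit 2, nat_lit 1, nat_lit 2] (nat_lit 3) (nat_lit 39321) (nat_lit 0))
(.leaf (nat_lit 2) [nat_lit 0, nat_lit 2, nat_lit 0, nat_lit 2, nat_lit 0, nat_lit 2] (nat_lit 5) (nat_lit 0x888888) (nat_lit 0))))
(.node (nat_lit 4)
(.node (nat_lit 3)
(.leaf (nat_lit 3) [nat_lit 0, nat_lit 1, nat_lit 3, nat_lit 2, nat_lit 0, nat_lit 1, nat_lit 3, nat_lit 2] (nat_lit 7) (nat_lit 0xb4b4b4b4) (nat_lit 0))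
(.leaf (nat_lit 0) [nat_lit 0, nat_lit 3] (nat_lit 1) (nat_lit 204) (nat_lit 0)))
(.node (nat_lit 5)
(.leaf (nat_lit 0) [nat_lit 1, nat_lit 1] (nat_lit 1) (nat_lit 85) (nat_lit 0))
(.leaf (nat_lit 0) [nat_lit 0, nat_lit 0, nat_lit 0] (nat_lit 2) (nat_lit 0) (nat_lit 0)))))

def m24l5_P : List (List ℕ) :=
  [[nat_lit 2, nat_lit 2],
  [nat_lit 1, nat_lit 2, nat_lit 1, nat_lit 2],
  [nat_lit 0, nat_lit 2, nat_lit 0, nat_lit 2, nat_lit 0, nat_lit 2],
  [nat_lit 0, nat_lit 1, nat_lit 0, nat_lit 0, nat_lit 2, nat_lit 0, nat_lit 1, nat_lit 0, nat_lit 0, nat_lit 2]]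

noncomputable def m24l5_C : TC where
  G := nat_lit 4
  N := nat_lit 4
  W := nat_lit 15
  mask := nat_lit 32767
  VM := nat_lit 0
  TV := nat_lit 0
  vb := nat_lit 0
  TM := nat_lit 3
  rb := nat_lit 2
  RM := nat_lit 1023
  BIG := nat_lit 20480
  b := nat_lit 2
  lm := nat_lit 3
  Y := nat_lit 11
  n := nat_lit 1
  K := nat_lit 0
  K0 := nat_lit 0
  QM := nat_lit 0
  k := nat_lit 0
  w := nat_lit 1
  c := nat_lit 0
  cq := nat_lit 0
  Lmax := nat_lit 8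
  PW := nat_lit 5
  PM := nat_lit 31
  tbl := m24l5_tbl
  par := m24l5_par
  rt := m24l5_rt

noncomputable def m24l5 : Lv where
  C := m24l5_C
  df := [[nat_lit 0],
  [nat_lit 1],
  [nat_lit 2],
  [nat_lit 0, nat_lit 0]]
  X0 := nat_lit 3
  X := nat_lit 7
  Xl := nat_lit 7
  GG := nat_lit 8
  back := [nat_lit 0, nat_lit 1, nat_lit 2, nat_lit 0, nat_lit 0, nat_lit 0, nat_lit 0, nat_lit 0]
  P := m24l5_P

theorem m24l5_e0 : m24l5_C.edges (nat_lit 0) (nat_lit 4) = true := by decide +kernel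
theorem m24l5_cl : m24l5_C.closed m24l5.Xl (nat_lit 0) (nat_lit 4) = true := by decide +kernel
theorem m24l5_tab : m24l5.Tab :=
  ⟨rng_all (TC.edges_sound m24l5_e0), rng_all (TC.closed_sound m24l5_cl)⟩

noncomputable def m24l6_tbl : NT :=
(.leaf (nat_lit 0) (nat_lit 0x6814c028a0694094416982c0019008000400100008004))

noncomputable def m24l6_par : NT :=
(.leaf (nat_lit 0) (nat_lit 0x5310))

noncomputable def m24l6_rt : RT :=
(.node (nat_lit 1)
(.node (nat_lit 0)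
(.leaf (nat_lit 0) [nat_lit 1, nat_lit 1] (nat_lit 1) (nat_lit 85) (nat_lit 0))
(.leaf (nat_lit 1) [nat_lit 0, nat_lit 1, nat_lit 0, nat_lit 1, nat_lit 0, nat_lit 1] (nat_lit 5) (nat_lit 0x444444) (nat_lit 0)))
(.node (nat_lit 2)
(.leaf (nat_lit 0) [nat_lit 0, nat_lit 2] (nat_lit 1) (nat_lit 136) (nat_lit 0))
(.leaf (nat_lit 0) [nat_lit 0, nat_lit 0, nat_lit 0] (nat_lit 2) (nat_lit 0) (nat_lit 0))))

def m24l6_P : List (List ℕ) :=
  [[nat_lit 1, nat_lit 1],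
  [nat_lit 0, nat_lit 1, nat_lit 0, nat_lit 1, nat_lit 0, nat_lit 1]]

noncomputable def m24l6_C : TC where
  G := nat_lit 3
  N := nat_lit 4
  W := nat_lit 15
  mask := nat_lit 32767
  VM := nat_lit 0
  TV := nat_lit 0
  vb := nat_lit 0
  TM := nat_lit 3
  rb := nat_lit 2
  RM := nat_lit 1023
  BIG := nat_lit 16384
  b := nat_lit 2
  lm := nat_lit 3
  Y := nat_lit 5
  n := nat_lit 1
  K := nat_lit 0
  K0 := nat_lit 0
  QM := nat_lit 0
  k := nat_lit 0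
  w := nat_lit 1
  c := nat_lit 0
  cq := nat_lit 0
  Lmax := nat_lit 6
  PW := nat_lit 4
  PM := nat_lit 15
  tbl := m24l6_tbl
  par := m24l6_par
  rt := m24l6_rt

noncomputable def m24l6 : Lv where
  C := m24l6_C
  df := [[nat_lit 0],
  [nat_lit 1],
  [nat_lit 0, nat_lit 0]]
  X0 := nat_lit 1
  X := nat_lit 3
  Xl := nat_lit 3
  GG := nat_lit 8
  back := [nat_lit 0, nat_lit 1, nat_lit 0, nat_lit 0, nat_lit 0, nat_lit 0, nat_lit 0, nat_lit 0]
  P := m24l6_P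

theorem m24l6_e0 : m24l6_C.edges (nat_lit 0) (nat_lit 4) = true := by decide +kernel
theorem m24l6_cl : m24l6_C.closed m24l6.Xl (nat_lit 0) (nat_lit 4) = true := by decide +kernel
theorem m24l6_tab : m24l6.Tab :=
  ⟨rng_all (TC.edges_sound m24l6_e0), rng_all (TC.closed_sound m24l6_cl)⟩

noncomputable def m24l7_tbl : NT :=
(.leaf (nat_lit 0) (nat_lit 0x602480c202120a0008001))

noncomputable def m24l7_par : NT :=
(.leaf (nat_lit 0) (nat_lit 0x40))

noncomputable def m24l7_rt : RT :=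
(.node (nat_lit 0)
(.leaf (nat_lit 0) [nat_lit 0, nat_lit 1] (nat_lit 1) (nat_lit 10) (nat_lit 0))
(.leaf (nat_lit 0) [nat_lit 0, nat_lit 0, nat_lit 0] (nat_lit 2) (nat_lit 0) (nat_lit 0)))

def m24l7_P : List (List ℕ) :=
  [[nat_lit 0, nat_lit 0, nat_lit 0]]

noncomputable def m24l7_C : TC where
  G := nat_lit 2
  N := nat_lit 3
  W := nat_lit 14
  mask := nat_lit 16383
  VM := nat_lit 0
  TV := nat_lit 0
  vb := nat_lit 0
  TM := nat_lit 3
  rb := nat_lit 2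
  RM := nat_lit 511
  BIG := nat_lit 8192
  b := nat_lit 1
  lm := nat_lit 1
  Y := nat_lit 0
  n := nat_lit 1
  K := nat_lit 0
  K0 := nat_lit 0
  QM := nat_lit 0
  k := nat_lit 0
  w := nat_lit 1
  c := nat_lit 0
  cq := nat_lit 0
  Lmax := nat_lit 3
  PW := nat_lit 3
  PM := nat_lit 7
  tbl := m24l7_tbl
  par := m24l7_par
  rt := m24l7_rt

noncomputable def m24l7 : Lv where
  C := m24l7_C
  df := [[nat_lit 0],
  [nat_lit 0, nat_lit 0]]
  X0 := nat_lit 0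
  X := nat_lit 1
  Xl := nat_lit 1
  GG := nat_lit 8
  back := [nat_lit 0, nat_lit 0, nat_lit 0, nat_lit 0, nat_lit 0, nat_lit 0, nat_lit 0, nat_lit 0]
  P := m24l7_P

theorem m24l7_e0 : m24l7_C.edges (nat_lit 0) (nat_lit 3) = true := by decide +kernel
theorem m24l7_cl : m24l7_C.closed m24l7.Xl (nat_lit 0) (nat_lit 3) = true := by decide +kernel
theorem m24l7_tab : m24l7.Tab :=
  ⟨rng_all (TC.edges_sound m24l7_e0), rng_all (TC.closed_sound m24l7_cl)⟩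

end Cfsg.Agent.H25.M24L
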