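import Mathlib
import Cfsg.Agent.H25.Util
import Cfsg.Agent.H14.M24b

/-! Models of the Mathieu groups. -/

namespace Cfsg.Agent.H25
open Cfsg.Agent.H14 (gC A24 CSub isPerm)

open Classical in
/-- letters given by tables of permutations of the 24 points -/
noncomputable def mg (K : Subgroup (Equiv.Perm GolayPt)) (Ts : List ℕ) (a : ℕ) : K :=
  if h : a < Ts.length ∧ gC.perm 5 (gd 0 Ts a) ∈ K then (⟨_, h.2⟩ : K)⁻¹ else 1

theorem mg_one (K : Subgroup (Equiv.Perm GolayPt)) (Ts : List ℕ) (a : ℕ) (h : Ts.length ≤ a) :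
    mg K Ts a = 1 := dif_neg (by omega)

noncomputable def mgOK (S : CSub A24) (Ts : List ℕ) (T : PT) : Bool :=
  band (Nat.beq T.N 24) (band (Nat.beq T.G Ts.length) (allLin (fun a => force (gd 0 Ts a) fun t =>
    band (A24.okb t) (band (S.test t) (allLin (fun i => Nat.beq (T.tgt i a) (H14.get 5 t i)) 0 24)))
    0 T.G))

theorem mg_AM {K : Subgroup (Equiv.Perm GolayPt)} (S : CSub A24) (hK : S.K.map M24.subtype = K)
    {Ts : List ℕ} {T : PT} (h : mgOK S Ts T = true) : AM T (mg K Ts) gC.pt := by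
  simp only [mgOK, band_eq, Bool.and_eq_true, Nat.beq_eq, force_eq] at h
  obtain ⟨h1, h2, h3⟩ := h
  intro i hi a ha
  have h4 := allLin_sound h3 a (Nat.zero_le _) (by omega)
  simp only [Bool.and_eq_true] at h4
  obtain ⟨a1, a2, a3⟩ := h4
  have b1 := H14.A24_ok a1
  have b2 := H14.A24_isPerm b1
  have b3 : gC.perm 5 (gd 0 Ts a) ∈ K := by
    rw [← hK, ← H14.A24_el_coe b1]
    exact Subgroup.mem_map_of_mem _ ((S.test_iff _ b1).1 a2)
  have b4 := Nat.eq_of_beq_eq_true (allLin_sound a3 i (Nat.zero_le _) (by omega))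
  rw [h1] at hi
  refine ⟨by rw [b4, h1]; exact H14.isPerm_lt b2 hi, ?_⟩
  rw [mg, dif_pos ⟨h2 ▸ ha, b3⟩, inv_inv, b4]
  exact gC.perm_pt b2 hi

theorem card_of_CSub {K : Subgroup (Equiv.Perm GolayPt)} (S : CSub A24)
    (hK : S.K.map M24.subtype = K) : Nat.card K = S.ord := by
  rw [← hK, Subgroup.card_map_of_injective M24.subtype_injective, S.card_eq]

theorem pt_inj24 {T : PT} (h : T.N = 24) : ∀ i < T.N, ∀ j < T.N, gC.pt i = gC.pt j → i = j :=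
  fun _ hi _ hj e => gC.pt_inj (hi.trans_eq h) (hj.trans_eq h) e

theorem K24 : H14.G24.K.map M24.subtype = M24 := by
  rw [H14.G24_K, ← MonoidHom.range_eq_map, Subgroup.range_subtype]

theorem K23 : H14.S23.K.map M24.subtype = Spor.M23 := by
  ext x
  constructor
  · rintro ⟨y, hy, rfl⟩; exact ⟨y.2, hy⟩
  · rintro ⟨h1, h2⟩; exact ⟨⟨x, h1⟩, h2, rfl⟩

theorem K22 : H14.S22.K.map M24.subtype = Spor.M22 := by
  ext x
  constructor
  · rintro ⟨y, hy, rfl⟩; exact ⟨⟨y.2, hy.1⟩, hy.2⟩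
  · rintro ⟨⟨h1, h2⟩, h3⟩; exact ⟨⟨x, h1⟩, ⟨h2, h3⟩, rfl⟩

theorem K12 : H14.SD.K.map M24.subtype = Spor.M12 := by
  rw [H14.SD_K, H14.d0_eq]
  ext x
  constructor
  · rintro ⟨y, hy, rfl⟩; exact ⟨y.2, hy⟩
  · rintro ⟨h1, h2⟩; exact ⟨⟨x, h1⟩, h2, rfl⟩

theorem K11 : H14.SD0.K.map M24.subtype = Spor.M11 := by
  rw [H14.SD0_K, H14.d0_eq]
  ext x
  constructor
  · rintro ⟨y, hy, rfl⟩; exact ⟨⟨y.2, hy.1⟩, hy.2⟩
  · rintro ⟨⟨h1, h2⟩, h3⟩; exact ⟨⟨x, h1⟩, ⟨h2, h3⟩, rfl⟩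

end Cfsg.Agent.H25
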