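import Mathlib
import Cfsg.Agent.H25.O8B

set_option maxRecDepth 100000
set_option linter.all false

namespace Cfsg.Agent.H25.O8
open Cfsg Cfsg.Agent.H25 Cfsg.Agent.H25.PcT

noncomputable def t1 : Tr :=
(.node (.node (.node (.node (.node (.node (.node (.node (.node (.node (.good (nat_lit 13) [])
(.good (nat_lit 0) [])
(.ref (nat_lit 1) [nat_lit 13] []))
(.node (.good (nat_lit 0) [nat_lit 12, nat_lit 14, nat_lit 0, nat_lit 4, nat_lit 4, nat_lit 5, nat_lit 6, nat_lit 6, nat_lit 7, nat_lit 8, nat_lit 8, nat_lit 9, nat_lit 9, nat_lit 10, nat_lit 11, nat_lit 16])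
(.ref (nat_lit 0) [nat_lit 1, nat_lit 1] [])
(.ref (nat_lit 0) [nat_lit 1] []))
(.ref (nat_lit 1) [nat_lit 14] []))
(.node (.node (.good (nat_lit 0) [nat_lit 0, nat_lit 1, nat_lit 1, nat_lit 3, nat_lit 4, nat_lit 4, nat_lit 6, nat_lit 7, nat_lit 8, nat_lit 8, nat_lit 9, nat_lit 10, nat_lit 11, nat_lit 11, nat_lit 17, nat_lit 16])
(.ref (nat_lit 0) [nat_lit 5, nat_lit 5] [])
(.ref (nat_lit 0) [nat_lit 5] []))
(.ref (nat_lit 0) [nat_lit 2, nat_lit 2] [])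
(.ref (nat_lit 0) [nat_lit 2] []))
(.ref (nat_lit 1) [nat_lit 14] []))
(.node (.node (.node (.good (nat_lit 0) [nat_lit 1, nat_lit 3, nat_lit 3, nat_lit 5, nat_lit 7, nat_lit 7, nat_lit 8, nat_lit 9, nat_lit 9, nat_lit 15, nat_lit 16, nat_lit 4])
(.ref (nat_lit 0) [nat_lit 4] [])
(.ref (nat_lit 0) [nat_lit 4, nat_lit 4] []))
(.ref (nat_lit 0) [nat_lit 0, nat_lit 0] [])
(.ref (nat_lit 0) [nat_lit 0] []))
(.node (.node (.good (nat_lit 1) [])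
(.ref (nat_lit 0) [nat_lit 5, nat_lit 5] [])
(.ref (nat_lit 0) [nat_lit 5] []))
(.ref (nat_lit 0) [nat_lit 2, nat_lit 2] [])
(.ref (nat_lit 0) [nat_lit 2] []))
(.node (.node (.good (nat_lit 4) [nat_lit 12, nat_lit 14, nat_lit 0, nat_lit 0, nat_lit 1, nat_lit 1, nat_lit 2, nat_lit 2, nat_lit 3, nat_lit 3, nat_lit 4, nat_lit 4, nat_lit 5, nat_lit 5, nat_lit 6, nat_lit 7, nat_lit 7, nat_lit 8, nat_lit 8, nat_lit 9, nat_lit 10, nat_lit 10, nat_lit 15])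
(.ref (nat_lit 0) [nat_lit 5] [])
(.ref (nat_lit 0) [nat_lit 5, nat_lit 5] []))
(.ref (nat_lit 0) [nat_lit 2] [])
(.ref (nat_lit 0) [nat_lit 2, nat_lit 2] [])))
(.ref (nat_lit 1) [nat_lit 14] []))
(.node (.node (.node (.node (.good (nat_lit 0) [nat_lit 12, nat_lit 13, nat_lit 14, nat_lit 0, nat_lit 4, nat_lit 4, nat_lit 5, nat_lit 5, nat_lit 7, nat_lit 7, nat_lit 8, nat_lit 8, nat_lit 9, nat_lit 9, nat_lit 11, nat_lit 18, nat_lit 16])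
(.ref (nat_lit 0) [nat_lit 6, nat_lit 6] [])
(.ref (nat_lit 0) [nat_lit 6] []))
(.ref (nat_lit 0) [nat_lit 3, nat_lit 3] [])
(.ref (nat_lit 0) [nat_lit 3] []))
(.node (.node (.good (nat_lit 2) [])
(.ref (nat_lit 0) [nat_lit 6, nat_lit 6] [])
(.ref (nat_lit 0) [nat_lit 6] []))
(.ref (nat_lit 0) [nat_lit 3, nat_lit 3] [])
(.ref (nat_lit 0) [nat_lit 3] []))
(.node (.node (.good (nat_lit 7) [])
(.ref (nat_lit 0) [nat_lit 6, nat_lit 6] [])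
(.ref (nat_lit 0) [nat_lit 6] []))
(.ref (nat_lit 0) [nat_lit 3, nat_lit 3] [])
(.ref (nat_lit 0) [nat_lit 3] [])))
(.node (.node (.node (.good (nat_lit 3) [])
(.ref (nat_lit 0) [nat_lit 6, nat_lit 6] [])
(.ref (nat_lit 0) [nat_lit 6] []))
(.ref (nat_lit 0) [nat_lit 3, nat_lit 3] [])
(.ref (nat_lit 0) [nat_lit 3] []))
(.node (.node (.good (nat_lit 8) [])
(.ref (nat_lit 0) [nat_lit 6, nat_lit 6] [])
(.ref (nat_lit 0) [nat_lit 6] []))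
(.ref (nat_lit 0) [nat_lit 3, nat_lit 3] [])
(.ref (nat_lit 0) [nat_lit 3] []))
(.node (.node (.good (nat_lit 10) [])
(.ref (nat_lit 0) [nat_lit 6, nat_lit 6] [])
(.ref (nat_lit 0) [nat_lit 6] []))
(.ref (nat_lit 0) [nat_lit 3, nat_lit 3] [])
(.ref (nat_lit 0) [nat_lit 3] [])))
(.node (.node (.node (.good (nat_lit 6) [nat_lit 13, nat_lit 14, nat_lit 2, nat_lit 4, nat_lit 4, nat_lit 6, nat_lit 8, nat_lit 8, nat_lit 9, nat_lit 11, nat_lit 15])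
(.ref (nat_lit 0) [nat_lit 6, nat_lit 6] [])
(.ref (nat_lit 0) [nat_lit 6] []))
(.ref (nat_lit 0) [nat_lit 3, nat_lit 3] [])
(.ref (nat_lit 0) [nat_lit 3] []))
(.node (.node (.good (nat_lit 9) [nat_lit 14, nat_lit 0, nat_lit 0, nat_lit 3, nat_lit 3, nat_lit 4, nat_lit 6, nat_lit 6, nat_lit 7, nat_lit 8, nat_lit 9, nat_lit 9, nat_lit 15])
(.ref (nat_lit 0) [nat_lit 6, nat_lit 6] [])
(.ref (nat_lit 0) [nat_lit 6] []))
(.ref (nat_lit 0) [nat_lit 3, nat_lit 3] [])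
(.ref (nat_lit 0) [nat_lit 3] []))
(.node (.node (.good (nat_lit 11) [nat_lit 14, nat_lit 1, nat_lit 1, nat_lit 4, nat_lit 5, nat_lit 7, nat_lit 9, nat_lit 9, nat_lit 10, nat_lit 10, nat_lit 15])
(.ref (nat_lit 0) [nat_lit 6, nat_lit 6] [])
(.ref (nat_lit 0) [nat_lit 6] []))
(.ref (nat_lit 0) [nat_lit 3, nat_lit 3] [])
(.ref (nat_lit 0) [nat_lit 3] []))))
(.ref (nat_lit 1) [nat_lit 14] []))
(.node (.node (.node (.node (.node (.good (nat_lit 0) [nat_lit 1, nat_lit 1, nat_lit 3, nat_lit 3, nat_lit 4, nat_lit 4, nat_lit 6, nat_lit 8, nat_lit 10, nat_lit 15, nat_lit 17, nat_lit 16, nat_lit 4, nat_lit 5])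
(.ref (nat_lit 0) [nat_lit 7] [])
(.ref (nat_lit 0) [nat_lit 7, nat_lit 7] []))
(.node (.good (nat_lit 4) [])
(.ref (nat_lit 0) [nat_lit 7] [])
(.ref (nat_lit 0) [nat_lit 7, nat_lit 7] []))
(.node (.good (nat_lit 1) [nat_lit 12, nat_lit 13, nat_lit 0, nat_lit 3, nat_lit 3, nat_lit 4, nat_lit 8, nat_lit 9, nat_lit 11, nat_lit 17, nat_lit 2, nat_lit 2])
(.ref (nat_lit 0) [nat_lit 7] [])
(.ref (nat_lit 0) [nat_lit 7, nat_lit 7] [])))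
(.ref (nat_lit 0) [nat_lit 0, nat_lit 0] [])
(.ref (nat_lit 0) [nat_lit 0] []))
(.ref (nat_lit 0) [nat_lit 2, nat_lit 2] [])
(.ref (nat_lit 0) [nat_lit 2] []))
(.node (.node (.node (.node (.good (nat_lit 5) [])
(.ref (nat_lit 0) [nat_lit 7] [])
(.ref (nat_lit 0) [nat_lit 7, nat_lit 7] []))
(.ref (nat_lit 0) [nat_lit 3, nat_lit 3] [])
(.ref (nat_lit 0) [nat_lit 3] []))
(.ref (nat_lit 0) [nat_lit 0, nat_lit 0] [])
(.ref (nat_lit 0) [nat_lit 0] []))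
(.ref (nat_lit 0) [nat_lit 2, nat_lit 2] [])
(.ref (nat_lit 0) [nat_lit 2] []))
(.ref (nat_lit 1) [nat_lit 13, nat_lit 14] []))
(.ref (nat_lit 1) [nat_lit 14] []))
(.node (.node (.node (.node (.node (.node (.good (nat_lit 0) [nat_lit 4, nat_lit 4, nat_lit 5, nat_lit 5, nat_lit 6, nat_lit 7, nat_lit 7, nat_lit 11, nat_lit 11, nat_lit 15, nat_lit 18, nat_lit 16, nat_lit 4, nat_lit 6])
(.ref (nat_lit 0) [nat_lit 9] [])
(.ref (nat_lit 0) [nat_lit 9, nat_lit 9] []))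
(.node (.good (nat_lit 6) [])
(.ref (nat_lit 0) [nat_lit 9] [])
(.ref (nat_lit 0) [nat_lit 9, nat_lit 9] []))
(.node (.good (nat_lit 3) [nat_lit 1, nat_lit 3, nat_lit 4, nat_lit 4, nat_lit 6, nat_lit 7, nat_lit 7, nat_lit 11, nat_lit 11, nat_lit 15, nat_lit 0, nat_lit 0])
(.ref (nat_lit 0) [nat_lit 9] [])
(.ref (nat_lit 0) [nat_lit 9, nat_lit 9] [])))
(.node (.node (.good (nat_lit 5) [nat_lit 13, nat_lit 14, nat_lit 1, nat_lit 6, nat_lit 7, nat_lit 7, nat_lit 8, nat_lit 9, nat_lit 10, nat_lit 11, nat_lit 11, nat_lit 15])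
(.ref (nat_lit 0) [nat_lit 9] [])
(.ref (nat_lit 0) [nat_lit 9, nat_lit 9] []))
(.ref (nat_lit 0) [nat_lit 2, nat_lit 2] [])
(.ref (nat_lit 0) [nat_lit 2] []))
(.ref (nat_lit 1) [nat_lit 13, nat_lit 14] []))
(.ref (nat_lit 0) [nat_lit 3, nat_lit 3] [])
(.ref (nat_lit 0) [nat_lit 3] []))
(.ref (nat_lit 0) [nat_lit 0, nat_lit 0] [])
(.ref (nat_lit 0) [nat_lit 0] []))
(.node (.node (.node (.node (.node (.good (nat_lit 2) [nat_lit 1, nat_lit 1, nat_lit 2, nat_lit 3, nat_lit 3, nat_lit 6, nat_lit 7, nat_lit 9, nat_lit 9, nat_lit 10, nat_lit 10, nat_lit 15])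
(.ref (nat_lit 0) [nat_lit 9] [])
(.ref (nat_lit 0) [nat_lit 9, nat_lit 9] []))
(.node (.good (nat_lit 9) [])
(.ref (nat_lit 0) [nat_lit 9] [])
(.ref (nat_lit 0) [nat_lit 9, nat_lit 9] []))
(.node (.good (nat_lit 8) [nat_lit 12, nat_lit 14, nat_lit 1, nat_lit 1, nat_lit 2, nat_lit 2, nat_lit 3, nat_lit 3, nat_lit 5, nat_lit 6, nat_lit 8, nat_lit 8, nat_lit 9, nat_lit 10, nat_lit 10, nat_lit 11, nat_lit 15, nat_lit 0, nat_lit 0])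
(.ref (nat_lit 0) [nat_lit 9] [])
(.ref (nat_lit 0) [nat_lit 9, nat_lit 9] [])))
(.node (.node (.good (nat_lit 5) [nat_lit 13, nat_lit 14, nat_lit 1, nat_lit 4, nat_lit 5, nat_lit 6, nat_lit 7, nat_lit 9, nat_lit 9, nat_lit 10, nat_lit 11, nat_lit 11, nat_lit 15, nat_lit 0, nat_lit 0])
(.ref (nat_lit 0) [nat_lit 9] [])
(.ref (nat_lit 0) [nat_lit 9, nat_lit 9] []))
(.ref (nat_lit 0) [nat_lit 2, nat_lit 2, nat_lit 3] [])
(.ref (nat_lit 0) [nat_lit 2, nat_lit 3, nat_lit 3] []))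
(.ref (nat_lit 1) [nat_lit 13, nat_lit 14] []))
(.ref (nat_lit 0) [nat_lit 3, nat_lit 3] [])
(.ref (nat_lit 0) [nat_lit 3] []))
(.ref (nat_lit 0) [nat_lit 0, nat_lit 0] [nat_lit 9, nat_lit 9, nat_lit 11, nat_lit 11])
(.ref (nat_lit 0) [nat_lit 0] [nat_lit 9, nat_lit 11]))
(.node (.node (.node (.node (.node (.good (nat_lit 7) [nat_lit 1, nat_lit 2, nat_lit 3, nat_lit 6, nat_lit 6, nat_lit 10, nat_lit 15, nat_lit 0, nat_lit 0])
(.ref (nat_lit 0) [nat_lit 9] [])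
(.ref (nat_lit 0) [nat_lit 9, nat_lit 9] []))
(.node (.good (nat_lit 11) [])
(.ref (nat_lit 0) [nat_lit 9] [])
(.ref (nat_lit 0) [nat_lit 9, nat_lit 9] []))
(.node (.good (nat_lit 10) [nat_lit 1, nat_lit 2, nat_lit 2, nat_lit 3, nat_lit 3, nat_lit 4, nat_lit 7, nat_lit 8, nat_lit 8, nat_lit 10, nat_lit 10, nat_lit 15])
(.ref (nat_lit 0) [nat_lit 9] [])
(.ref (nat_lit 0) [nat_lit 9, nat_lit 9] [])))
(.node (.node (.good (nat_lit 5) [nat_lit 13, nat_lit 14, nat_lit 1, nat_lit 1, nat_lit 4, nat_lit 9, nat_lit 10, nat_lit 11, nat_lit 11, nat_lit 15, nat_lit 0])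
(.ref (nat_lit 0) [nat_lit 9] [])
(.ref (nat_lit 0) [nat_lit 9, nat_lit 9] []))
(.ref (nat_lit 0) [nat_lit 2, nat_lit 2, nat_lit 3, nat_lit 3] [])
(.ref (nat_lit 0) [nat_lit 2, nat_lit 3] []))
(.ref (nat_lit 1) [nat_lit 13, nat_lit 14] []))
(.ref (nat_lit 0) [nat_lit 3, nat_lit 3] [])
(.ref (nat_lit 0) [nat_lit 3] []))
(.ref (nat_lit 0) [nat_lit 0, nat_lit 0] [nat_lit 9, nat_lit 11])
(.ref (nat_lit 0) [nat_lit 0] [nat_lit 9, nat_lit 9, nat_lit 11, nat_lit 11])))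
(.ref (nat_lit 1) [nat_lit 14] []))
(.node (.node (.node (.node (.node (.node (.node (.good (nat_lit 0) [nat_lit 13, nat_lit 0, nat_lit 1, nat_lit 1, nat_lit 4, nat_lit 4, nat_lit 5, nat_lit 6, nat_lit 6, nat_lit 9, nat_lit 9, nat_lit 10, nat_lit 10, nat_lit 11, nat_lit 11, nat_lit 17, nat_lit 18, nat_lit 16, nat_lit 5])
(.ref (nat_lit 0) [nat_lit 8, nat_lit 8] [])
(.ref (nat_lit 0) [nat_lit 8] []))
(.node (.good (nat_lit 2) [nat_lit 14, nat_lit 0, nat_lit 0, nat_lit 1, nat_lit 4, nat_lit 4, nat_lit 8, nat_lit 8, nat_lit 9, nat_lit 9, nat_lit 11, nat_lit 11, nat_lit 17])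
(.ref (nat_lit 0) [nat_lit 8, nat_lit 8] [])
(.ref (nat_lit 0) [nat_lit 8] []))
(.node (.good (nat_lit 7) [nat_lit 14, nat_lit 0, nat_lit 10, nat_lit 11, nat_lit 17])
(.ref (nat_lit 0) [nat_lit 8, nat_lit 8] [])
(.ref (nat_lit 0) [nat_lit 8] [])))
(.ref (nat_lit 0) [nat_lit 3] [])
(.ref (nat_lit 0) [nat_lit 3, nat_lit 3] []))
(.node (.node (.node (.good (nat_lit 5) [nat_lit 14, nat_lit 1, nat_lit 1, nat_lit 6, nat_lit 6, nat_lit 7, nat_lit 7, nat_lit 8, nat_lit 9, nat_lit 9, nat_lit 10, nat_lit 11, nat_lit 17])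
(.ref (nat_lit 0) [nat_lit 8, nat_lit 8] [])
(.ref (nat_lit 0) [nat_lit 8] []))
(.ref (nat_lit 0) [nat_lit 0, nat_lit 0] [])
(.ref (nat_lit 0) [nat_lit 0] []))
(.ref (nat_lit 0) [nat_lit 3] [])
(.ref (nat_lit 0) [nat_lit 3, nat_lit 3] []))
(.ref (nat_lit 1) [nat_lit 13, nat_lit 14] []))
(.ref (nat_lit 0) [nat_lit 2] [])
(.ref (nat_lit 0) [nat_lit 2, nat_lit 2] []))
(.node (.node (.node (.node (.node (.good (nat_lit 6) [nat_lit 1, nat_lit 1, nat_lit 4, nat_lit 4, nat_lit 5, nat_lit 7, nat_lit 7, nat_lit 8, nat_lit 8, nat_lit 9, nat_lit 10, nat_lit 10, nat_lit 11, nat_lit 15, nat_lit 17, nat_lit 2, nat_lit 2])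
(.ref (nat_lit 0) [nat_lit 8, nat_lit 8] [])
(.ref (nat_lit 0) [nat_lit 8] []))
(.node (.good (nat_lit 9) [nat_lit 0, nat_lit 0, nat_lit 3, nat_lit 3, nat_lit 4, nat_lit 5, nat_lit 7, nat_lit 8, nat_lit 9, nat_lit 10, nat_lit 10, nat_lit 11, nat_lit 15, nat_lit 17])
(.ref (nat_lit 0) [nat_lit 8, nat_lit 8] [])
(.ref (nat_lit 0) [nat_lit 8] []))
(.node (.good (nat_lit 11) [nat_lit 0, nat_lit 0, nat_lit 1, nat_lit 1, nat_lit 3, nat_lit 3, nat_lit 5, nat_lit 5, nat_lit 6, nat_lit 7, nat_lit 9, nat_lit 9, nat_lit 11, nat_lit 11, nat_lit 15, nat_lit 17])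
(.ref (nat_lit 0) [nat_lit 8, nat_lit 8] [])
(.ref (nat_lit 0) [nat_lit 8] [])))
(.ref (nat_lit 0) [nat_lit 3] [])
(.ref (nat_lit 0) [nat_lit 3, nat_lit 3] []))
(.node (.node (.node (.good (nat_lit 5) [nat_lit 12, nat_lit 4, nat_lit 7, nat_lit 7, nat_lit 8, nat_lit 11, nat_lit 11, nat_lit 17, nat_lit 2])
(.ref (nat_lit 0) [nat_lit 8, nat_lit 8] [])
(.ref (nat_lit 0) [nat_lit 8] []))
(.ref (nat_lit 0) [nat_lit 0, nat_lit 0, nat_lit 3, nat_lit 3] [])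
(.ref (nat_lit 0) [nat_lit 0, nat_lit 3] []))
(.ref (nat_lit 0) [nat_lit 3] [])
(.ref (nat_lit 0) [nat_lit 3, nat_lit 3] []))
(.ref (nat_lit 1) [nat_lit 13, nat_lit 14] []))
(.ref (nat_lit 0) [nat_lit 2] [nat_lit 8, nat_lit 11, nat_lit 11])
(.ref (nat_lit 0) [nat_lit 2, nat_lit 2] [nat_lit 8, nat_lit 8, nat_lit 11]))
(.node (.node (.node (.node (.node (.good (nat_lit 3) [nat_lit 14, nat_lit 1, nat_lit 1, nat_lit 4, nat_lit 4, nat_lit 5, nat_lit 5, nat_lit 6, nat_lit 7, nat_lit 7, nat_lit 8, nat_lit 10, nat_lit 11, nat_lit 11, nat_lit 17, nat_lit 2, nat_lit 2])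
(.ref (nat_lit 0) [nat_lit 8, nat_lit 8] [])
(.ref (nat_lit 0) [nat_lit 8] []))
(.node (.good (nat_lit 8) [nat_lit 14, nat_lit 3, nat_lit 4, nat_lit 4, nat_lit 5, nat_lit 5, nat_lit 6, nat_lit 6, nat_lit 8, nat_lit 8, nat_lit 10, nat_lit 10, nat_lit 11, nat_lit 11, nat_lit 17, nat_lit 2, nat_lit 2])
(.ref (nat_lit 0) [nat_lit 8, nat_lit 8] [])
(.ref (nat_lit 0) [nat_lit 8] []))
(.node (.good (nat_lit 10) [nat_lit 14, nat_lit 1, nat_lit 1, nat_lit 3, nat_lit 5, nat_lit 5, nat_lit 6, nat_lit 7, nat_lit 7, nat_lit 8, nat_lit 8, nat_lit 9, nat_lit 9, nat_lit 17, nat_lit 2])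
(.ref (nat_lit 0) [nat_lit 8, nat_lit 8] [])
(.ref (nat_lit 0) [nat_lit 8] [])))
(.ref (nat_lit 0) [nat_lit 3] [])
(.ref (nat_lit 0) [nat_lit 3, nat_lit 3] []))
(.node (.node (.node (.good (nat_lit 5) [nat_lit 14, nat_lit 1, nat_lit 1, nat_lit 4, nat_lit 4, nat_lit 9, nat_lit 9, nat_lit 17, nat_lit 2, nat_lit 2])
(.ref (nat_lit 0) [nat_lit 8, nat_lit 8] [])
(.ref (nat_lit 0) [nat_lit 8] []))
(.ref (nat_lit 0) [nat_lit 0, nat_lit 0, nat_lit 3] [])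
(.ref (nat_lit 0) [nat_lit 0, nat_lit 3, nat_lit 3] []))
(.ref (nat_lit 0) [nat_lit 3] [])
(.ref (nat_lit 0) [nat_lit 3, nat_lit 3] []))
(.ref (nat_lit 1) [nat_lit 13, nat_lit 14] []))
(.ref (nat_lit 0) [nat_lit 2] [nat_lit 8, nat_lit 8, nat_lit 11])
(.ref (nat_lit 0) [nat_lit 2, nat_lit 2] [nat_lit 8, nat_lit 11, nat_lit 11])))
(.node (.node (.node (.node (.node (.node (.good (nat_lit 4) [nat_lit 0, nat_lit 1, nat_lit 1, nat_lit 2, nat_lit 4, nat_lit 5, nat_lit 5, nat_lit 6, nat_lit 6, nat_lit 7, nat_lit 7, nat_lit 15, nat_lit 18, nat_lit 3, nat_lit 3])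
(.ref (nat_lit 0) [nat_lit 9] [])
(.ref (nat_lit 0) [nat_lit 9, nat_lit 9] []))
(.node (.good (nat_lit 9) [nat_lit 12, nat_lit 14, nat_lit 0, nat_lit 0, nat_lit 1, nat_lit 2, nat_lit 2, nat_lit 4, nat_lit 4, nat_lit 5, nat_lit 8, nat_lit 9, nat_lit 9, nat_lit 11, nat_lit 11, nat_lit 15, nat_lit 18])
(.ref (nat_lit 0) [nat_lit 9] [])
(.ref (nat_lit 0) [nat_lit 9, nat_lit 9] []))
(.node (.good (nat_lit 10) [nat_lit 13, nat_lit 14, nat_lit 2, nat_lit 4, nat_lit 4, nat_lit 6, nat_lit 8, nat_lit 8, nat_lit 9, nat_lit 10, nat_lit 11, nat_lit 18, nat_lit 3])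
(.ref (nat_lit 0) [nat_lit 9] [])
(.ref (nat_lit 0) [nat_lit 9, nat_lit 9] [])))
(.node (.node (.good (nat_lit 5) [nat_lit 14, nat_lit 1, nat_lit 4, nat_lit 6, nat_lit 7, nat_lit 10, nat_lit 10, nat_lit 17, nat_lit 18, nat_lit 3, nat_lit 3])
(.ref (nat_lit 0) [nat_lit 9] [])
(.ref (nat_lit 0) [nat_lit 9, nat_lit 9] []))
(.ref (nat_lit 0) [nat_lit 0, nat_lit 0, nat_lit 2, nat_lit 2] [])
(.ref (nat_lit 0) [nat_lit 0, nat_lit 2] []))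
(.ref (nat_lit 1) [nat_lit 13, nat_lit 14] []))
(.ref (nat_lit 0) [nat_lit 3, nat_lit 3] [nat_lit 9, nat_lit 11])
(.ref (nat_lit 0) [nat_lit 3] [nat_lit 9, nat_lit 9, nat_lit 11, nat_lit 11]))
(.ref (nat_lit 0) [nat_lit 2] [])
(.ref (nat_lit 0) [nat_lit 2, nat_lit 2] []))
(.node (.node (.node (.node (.node (.good (nat_lit 9) [nat_lit 12, nat_lit 13, nat_lit 14, nat_lit 1, nat_lit 4, nat_lit 4, nat_lit 7, nat_lit 7, nat_lit 8, nat_lit 8, nat_lit 10, nat_lit 10, nat_lit 11, nat_lit 11, nat_lit 17, nat_lit 18])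
(.ref (nat_lit 0) [nat_lit 9] [])
(.ref (nat_lit 0) [nat_lit 9, nat_lit 9] []))
(.node (.good (nat_lit 12) [])
(.ref (nat_lit 0) [nat_lit 9] [])
(.ref (nat_lit 0) [nat_lit 9, nat_lit 9] []))
(.node (.good (nat_lit 5) [nat_lit 12, nat_lit 13, nat_lit 14, nat_lit 0, nat_lit 2, nat_lit 2, nat_lit 3, nat_lit 6, nat_lit 6, nat_lit 9, nat_lit 9, nat_lit 10, nat_lit 10, nat_lit 11, nat_lit 15, nat_lit 17, nat_lit 18, nat_lit 0, nat_lit 0, nat_lit 2, nat_lit 3, nat_lit 3])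
(.ref (nat_lit 0) [nat_lit 9] [])
(.ref (nat_lit 0) [nat_lit 9, nat_lit 9] [])))
(.ref (nat_lit 0) [nat_lit 0, nat_lit 2, nat_lit 3, nat_lit 3] [nat_lit 10, nat_lit 10, nat_lit 11])
(.ref (nat_lit 0) [nat_lit 0, nat_lit 0, nat_lit 2, nat_lit 2, nat_lit 3] [nat_lit 10, nat_lit 10, nat_lit 11, nat_lit 11]))
(.ref (nat_lit 0) [nat_lit 3, nat_lit 3] [nat_lit 9, nat_lit 11])
(.ref (nat_lit 0) [nat_lit 3] [nat_lit 9, nat_lit 9, nat_lit 11, nat_lit 11]))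
(.ref (nat_lit 0) [nat_lit 2] [nat_lit 8, nat_lit 11, nat_lit 11])
(.ref (nat_lit 0) [nat_lit 2, nat_lit 2] [nat_lit 8, nat_lit 8, nat_lit 11]))
(.node (.node (.node (.node (.node (.good (nat_lit 10) [nat_lit 1, nat_lit 1, nat_lit 7, nat_lit 7, nat_lit 8, nat_lit 11, nat_lit 11, nat_lit 15, nat_lit 17, nat_lit 18, nat_lit 2, nat_lit 2, nat_lit 3, nat_lit 3])
(.ref (nat_lit 0) [nat_lit 9] [])
(.ref (nat_lit 0) [nat_lit 9, nat_lit 9] []))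
(.node (.good (nat_lit 5) [nat_lit 12, nat_lit 14, nat_lit 0, nat_lit 0, nat_lit 2, nat_lit 3, nat_lit 6, nat_lit 6, nat_lit 7, nat_lit 7, nat_lit 8, nat_lit 9, nat_lit 10, nat_lit 11, nat_lit 11, nat_lit 15, nat_lit 17, nat_lit 18, nat_lit 0, nat_lit 2, nat_lit 2, nat_lit 3, nat_lit 3])
(.ref (nat_lit 0) [nat_lit 9] [])
(.ref (nat_lit 0) [nat_lit 9, nat_lit 9] []))
(.node (.good (nat_lit 12) [nat_lit 12, nat_lit 13, nat_lit 0, nat_lit 0, nat_lit 1, nat_lit 2, nat_lit 2, nat_lit 4, nat_lit 7, nat_lit 7, nat_lit 10, nat_lit 10, nat_lit 11, nat_lit 11, nat_lit 15, nat_lit 17, nat_lit 0, nat_lit 2])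
(.ref (nat_lit 0) [nat_lit 9] [])
(.ref (nat_lit 0) [nat_lit 9, nat_lit 9] [])))
(.ref (nat_lit 0) [nat_lit 0, nat_lit 0, nat_lit 2, nat_lit 2, nat_lit 3, nat_lit 3] [nat_lit 10, nat_lit 11])
(.ref (nat_lit 0) [nat_lit 0, nat_lit 2, nat_lit 3] [nat_lit 10, nat_lit 11, nat_lit 11]))
(.ref (nat_lit 0) [nat_lit 3, nat_lit 3] [nat_lit 9, nat_lit 11])
(.ref (nat_lit 0) [nat_lit 3] [nat_lit 9, nat_lit 9, nat_lit 11, nat_lit 11]))
(.ref (nat_lit 0) [nat_lit 2] [nat_lit 8, nat_lit 8, nat_lit 11])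
(.ref (nat_lit 0) [nat_lit 2, nat_lit 2] [nat_lit 8, nat_lit 11, nat_lit 11])))
(.node (.node (.node (.node (.node (.node (.good (nat_lit 1) [nat_lit 13, nat_lit 0, nat_lit 0, nat_lit 2, nat_lit 5, nat_lit 6, nat_lit 6, nat_lit 7, nat_lit 11, nat_lit 11, nat_lit 18, nat_lit 3, nat_lit 3])
(.ref (nat_lit 0) [nat_lit 9, nat_lit 9] [])
(.ref (nat_lit 0) [nat_lit 9] []))
(.node (.good (nat_lit 8) [nat_lit 13, nat_lit 2, nat_lit 2, nat_lit 4, nat_lit 4, nat_lit 6, nat_lit 6, nat_lit 9, nat_lit 10, nat_lit 11, nat_lit 11, nat_lit 18, nat_lit 3])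
(.ref (nat_lit 0) [nat_lit 9, nat_lit 9] [])
(.ref (nat_lit 0) [nat_lit 9] []))
(.node (.good (nat_lit 11) [nat_lit 13, nat_lit 0, nat_lit 1, nat_lit 2, nat_lit 2, nat_lit 4, nat_lit 5, nat_lit 5, nat_lit 6, nat_lit 6, nat_lit 7, nat_lit 7, nat_lit 9, nat_lit 10, nat_lit 10, nat_lit 11, nat_lit 11, nat_lit 15, nat_lit 18])
(.ref (nat_lit 0) [nat_lit 9, nat_lit 9] [])
(.ref (nat_lit 0) [nat_lit 9] [])))
(.node (.node (.good (nat_lit 5) [nat_lit 13, nat_lit 14, nat_lit 1, nat_lit 1, nat_lit 4, nat_lit 4, nat_lit 5, nat_lit 5, nat_lit 6, nat_lit 6, nat_lit 8, nat_lit 8, nat_lit 10, nat_lit 11, nat_lit 11, nat_lit 17, nat_lit 18, nat_lit 3])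
(.ref (nat_lit 0) [nat_lit 9, nat_lit 9] [])
(.ref (nat_lit 0) [nat_lit 9] []))
(.ref (nat_lit 0) [nat_lit 0, nat_lit 2, nat_lit 2] [])
(.ref (nat_lit 0) [nat_lit 0, nat_lit 0, nat_lit 2] []))
(.ref (nat_lit 1) [nat_lit 13, nat_lit 14] []))
(.ref (nat_lit 0) [nat_lit 3] [nat_lit 9, nat_lit 9, nat_lit 11])
(.ref (nat_lit 0) [nat_lit 3, nat_lit 3] [nat_lit 9, nat_lit 11, nat_lit 11]))
(.ref (nat_lit 0) [nat_lit 2] [])
(.ref (nat_lit 0) [nat_lit 2, nat_lit 2] []))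
(.node (.node (.node (.node (.node (.good (nat_lit 11) [nat_lit 14, nat_lit 4, nat_lit 5, nat_lit 5, nat_lit 8, nat_lit 8, nat_lit 9, nat_lit 10, nat_lit 17, nat_lit 18, nat_lit 2, nat_lit 2, nat_lit 3, nat_lit 3])
(.ref (nat_lit 0) [nat_lit 9, nat_lit 9] [])
(.ref (nat_lit 0) [nat_lit 9] []))
(.node (.good (nat_lit 5) [nat_lit 13, nat_lit 0, nat_lit 0, nat_lit 2, nat_lit 2, nat_lit 3, nat_lit 3, nat_lit 6, nat_lit 10, nat_lit 10, nat_lit 11, nat_lit 11, nat_lit 15, nat_lit 17, nat_lit 18, nat_lit 0, nat_lit 2, nat_lit 3])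
(.ref (nat_lit 0) [nat_lit 9, nat_lit 9] [])
(.ref (nat_lit 0) [nat_lit 9] []))
(.node (.good (nat_lit 12) [nat_lit 13, nat_lit 14, nat_lit 0, nat_lit 0, nat_lit 3, nat_lit 3, nat_lit 4, nat_lit 4, nat_lit 5, nat_lit 5, nat_lit 6, nat_lit 7, nat_lit 8, nat_lit 8, nat_lit 11, nat_lit 11, nat_lit 15, nat_lit 18, nat_lit 0, nat_lit 3])
(.ref (nat_lit 0) [nat_lit 9, nat_lit 9] [])
(.ref (nat_lit 0) [nat_lit 9] [])))
(.ref (nat_lit 0) [nat_lit 0, nat_lit 2, nat_lit 2, nat_lit 3, nat_lit 3] [nat_lit 10, nat_lit 11, nat_lit 11])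
(.ref (nat_lit 0) [nat_lit 0, nat_lit 0, nat_lit 2, nat_lit 3] [nat_lit 10, nat_lit 11]))
(.ref (nat_lit 0) [nat_lit 3] [nat_lit 9, nat_lit 9, nat_lit 11])
(.ref (nat_lit 0) [nat_lit 3, nat_lit 3] [nat_lit 9, nat_lit 11, nat_lit 11]))
(.ref (nat_lit 0) [nat_lit 2] [nat_lit 8, nat_lit 11, nat_lit 11])
(.ref (nat_lit 0) [nat_lit 2, nat_lit 2] [nat_lit 8, nat_lit 8, nat_lit 11]))
(.node (.node (.node (.node (.node (.good (nat_lit 8) [nat_lit 4, nat_lit 5, nat_lit 7, nat_lit 7, nat_lit 8, nat_lit 8, nat_lit 9, nat_lit 9, nat_lit 10, nat_lit 10, nat_lit 15, nat_lit 17, nat_lit 18, nat_lit 2, nat_lit 2, nat_lit 3])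
(.ref (nat_lit 0) [nat_lit 9, nat_lit 9] [])
(.ref (nat_lit 0) [nat_lit 9] []))
(.node (.good (nat_lit 12) [nat_lit 12, nat_lit 14, nat_lit 1, nat_lit 1, nat_lit 2, nat_lit 3, nat_lit 3, nat_lit 4, nat_lit 4, nat_lit 5, nat_lit 8, nat_lit 8, nat_lit 9, nat_lit 10, nat_lit 11, nat_lit 17, nat_lit 18, nat_lit 2, nat_lit 2, nat_lit 3])
(.ref (nat_lit 0) [nat_lit 9, nat_lit 9] [])
(.ref (nat_lit 0) [nat_lit 9] []))
(.node (.good (nat_lit 5) [nat_lit 13, nat_lit 14, nat_lit 0, nat_lit 2, nat_lit 3, nat_lit 3, nat_lit 4, nat_lit 6, nat_lit 6, nat_lit 8, nat_lit 8, nat_lit 10, nat_lit 11, nat_lit 15, nat_lit 17, nat_lit 18, nat_lit 0, nat_lit 0, nat_lit 2, nat_lit 2, nat_lit 3])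
(.ref (nat_lit 0) [nat_lit 9, nat_lit 9] [])
(.ref (nat_lit 0) [nat_lit 9] [])))
(.ref (nat_lit 0) [nat_lit 0, nat_lit 0, nat_lit 2, nat_lit 3, nat_lit 3] [nat_lit 10, nat_lit 10, nat_lit 11, nat_lit 11])
(.ref (nat_lit 0) [nat_lit 0, nat_lit 2, nat_lit 2, nat_lit 3] [nat_lit 10, nat_lit 10, nat_lit 11]))
(.ref (nat_lit 0) [nat_lit 3] [nat_lit 9, nat_lit 9, nat_lit 11])
(.ref (nat_lit 0) [nat_lit 3, nat_lit 3] [nat_lit 9, nat_lit 11, nat_lit 11]))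
(.ref (nat_lit 0) [nat_lit 2] [nat_lit 8, nat_lit 8, nat_lit 11])
(.ref (nat_lit 0) [nat_lit 2, nat_lit 2] [nat_lit 8, nat_lit 11, nat_lit 11]))))
(.ref (nat_lit 1) [nat_lit 14] []))
(.node (.node (.node (.node (.node (.node (.node (.node (.good (nat_lit 0) [nat_lit 12, nat_lit 14, nat_lit 0, nat_lit 2, nat_lit 3, nat_lit 3, nat_lit 8, nat_lit 10, nat_lit 16, nat_lit 15, nat_lit 17, nat_lit 16, nat_lit 4, nat_lit 5, nat_lit 7])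
(.good (nat_lit 1) [nat_lit 14, nat_lit 0, nat_lit 0, nat_lit 2, nat_lit 2, nat_lit 3, nat_lit 4, nat_lit 7, nat_lit 7, nat_lit 8, nat_lit 8, nat_lit 10, nat_lit 10, nat_lit 11, nat_lit 16, nat_lit 17, nat_lit 2, nat_lit 2, nat_lit 5, nat_lit 5])
(.good (nat_lit 4) [nat_lit 14, nat_lit 0, nat_lit 6, nat_lit 9, nat_lit 10, nat_lit 10, nat_lit 16]))
(.ref (nat_lit 0) [nat_lit 7] [])
(.ref (nat_lit 0) [nat_lit 7, nat_lit 7] []))
(.ref (nat_lit 0) [nat_lit 4, nat_lit 4] [])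
(.ref (nat_lit 0) [nat_lit 4] []))
(.ref (nat_lit 0) [nat_lit 5] [])
(.ref (nat_lit 0) [nat_lit 5, nat_lit 5] []))
(.node (.node (.node (.node (.good (nat_lit 5) [nat_lit 12, nat_lit 14, nat_lit 3, nat_lit 7, nat_lit 8, nat_lit 8, nat_lit 9, nat_lit 9, nat_lit 11, nat_lit 11, nat_lit 16])
(.ref (nat_lit 0) [nat_lit 6, nat_lit 6] [])
(.ref (nat_lit 0) [nat_lit 6] []))
(.ref (nat_lit 0) [nat_lit 7] [])
(.ref (nat_lit 0) [nat_lit 7, nat_lit 7] []))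
(.ref (nat_lit 0) [nat_lit 4, nat_lit 4] [])
(.ref (nat_lit 0) [nat_lit 4] []))
(.ref (nat_lit 0) [nat_lit 5] [])
(.ref (nat_lit 0) [nat_lit 5, nat_lit 5] []))
(.ref (nat_lit 1) [nat_lit 14] []))
(.ref (nat_lit 0) [nat_lit 1, nat_lit 1] [])
(.ref (nat_lit 0) [nat_lit 1] []))
(.node (.node (.node (.node (.node (.node (.good (nat_lit 5) [nat_lit 2, nat_lit 2, nat_lit 3, nat_lit 3, nat_lit 5, nat_lit 5, nat_lit 6, nat_lit 8, nat_lit 10, nat_lit 11, nat_lit 15, nat_lit 16])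
(.ref (nat_lit 0) [nat_lit 9] [])
(.ref (nat_lit 0) [nat_lit 9, nat_lit 9] []))
(.ref (nat_lit 0) [nat_lit 7] [])
(.ref (nat_lit 0) [nat_lit 7, nat_lit 7] []))
(.ref (nat_lit 0) [nat_lit 4, nat_lit 4] [nat_lit 11, nat_lit 11])
(.ref (nat_lit 0) [nat_lit 4] [nat_lit 11]))
(.ref (nat_lit 0) [nat_lit 5] [])
(.ref (nat_lit 0) [nat_lit 5, nat_lit 5] []))
(.ref (nat_lit 0) [nat_lit 0, nat_lit 0] [])
(.ref (nat_lit 0) [nat_lit 0] []))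
(.ref (nat_lit 0) [nat_lit 1, nat_lit 1] [])
(.ref (nat_lit 0) [nat_lit 1] []))
(.ref (nat_lit 1) [nat_lit 14] []))
(.node (.node (.node (.node (.node (.node (.node (.good (nat_lit 5) [nat_lit 14, nat_lit 6, nat_lit 6, nat_lit 9, nat_lit 9, nat_lit 10, nat_lit 11, nat_lit 17, nat_lit 16])
(.ref (nat_lit 0) [nat_lit 8, nat_lit 8] [])
(.ref (nat_lit 0) [nat_lit 8] []))
(.ref (nat_lit 0) [nat_lit 7] [])
(.ref (nat_lit 0) [nat_lit 7, nat_lit 7] []))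
(.ref (nat_lit 0) [nat_lit 4, nat_lit 4] [])
(.ref (nat_lit 0) [nat_lit 4] []))
(.ref (nat_lit 0) [nat_lit 5] [nat_lit 11])
(.ref (nat_lit 0) [nat_lit 5, nat_lit 5] [nat_lit 11, nat_lit 11]))
(.ref (nat_lit 0) [nat_lit 2] [])
(.ref (nat_lit 0) [nat_lit 2, nat_lit 2] []))
(.ref (nat_lit 0) [nat_lit 1, nat_lit 1] [])
(.ref (nat_lit 0) [nat_lit 1] []))
(.node (.node (.node (.node (.node (.node .big
(.ref (nat_lit 0) [nat_lit 9] [])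
(.ref (nat_lit 0) [nat_lit 9, nat_lit 9] []))
(.ref (nat_lit 0) [nat_lit 7] [])
(.ref (nat_lit 0) [nat_lit 7, nat_lit 7] []))
(.ref (nat_lit 0) [nat_lit 4, nat_lit 4] [nat_lit 11, nat_lit 11])
(.ref (nat_lit 0) [nat_lit 4] [nat_lit 11]))
(.ref (nat_lit 0) [nat_lit 5] [nat_lit 11])
(.ref (nat_lit 0) [nat_lit 5, nat_lit 5] [nat_lit 11, nat_lit 11]))
(.ref (nat_lit 0) [nat_lit 2] [])
(.ref (nat_lit 0) [nat_lit 2, nat_lit 2] []))
(.ref (nat_lit 0) [nat_lit 1, nat_lit 1] [])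
(.ref (nat_lit 0) [nat_lit 1] []))
(.node (.node (.node (.node (.node (.node .big
(.ref (nat_lit 0) [nat_lit 9, nat_lit 9] [])
(.ref (nat_lit 0) [nat_lit 9] []))
(.ref (nat_lit 0) [nat_lit 7] [])
(.ref (nat_lit 0) [nat_lit 7, nat_lit 7] []))
(.ref (nat_lit 0) [nat_lit 4, nat_lit 4] [nat_lit 11])
(.ref (nat_lit 0) [nat_lit 4] [nat_lit 11, nat_lit 11]))
(.ref (nat_lit 0) [nat_lit 5] [nat_lit 11])
(.ref (nat_lit 0) [nat_lit 5, nat_lit 5] [nat_lit 11, nat_lit 11]))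
(.ref (nat_lit 0) [nat_lit 2] [])
(.ref (nat_lit 0) [nat_lit 2, nat_lit 2] []))
(.ref (nat_lit 0) [nat_lit 1, nat_lit 1] [])
(.ref (nat_lit 0) [nat_lit 1] [])))
(.ref (nat_lit 1) [nat_lit 14] []))
(.ref (nat_lit 1) [nat_lit 13] []))
(.node (.node (.node (.node (.node (.node (.node (.node (.node (.good (nat_lit 0) [nat_lit 0, nat_lit 0, nat_lit 7, nat_lit 7, nat_lit 16, nat_lit 15, nat_lit 18, nat_lit 16, nat_lit 4, nat_lit 6])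
(.good (nat_lit 3) [nat_lit 0, nat_lit 2, nat_lit 3, nat_lit 5, nat_lit 5, nat_lit 6, nat_lit 6, nat_lit 7, nat_lit 8, nat_lit 8, nat_lit 9, nat_lit 9, nat_lit 10, nat_lit 10, nat_lit 11, nat_lit 11, nat_lit 16, nat_lit 15, nat_lit 0, nat_lit 0, nat_lit 4])
(.good (nat_lit 6) [nat_lit 14, nat_lit 2, nat_lit 2, nat_lit 3, nat_lit 3, nat_lit 7, nat_lit 7, nat_lit 8, nat_lit 11, nat_lit 16]))
(.ref (nat_lit 0) [nat_lit 9] [])
(.ref (nat_lit 0) [nat_lit 9, nat_lit 9] []))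
(.node (.node (.good (nat_lit 5) [nat_lit 12, nat_lit 0, nat_lit 0, nat_lit 3, nat_lit 7, nat_lit 7, nat_lit 9, nat_lit 10, nat_lit 10, nat_lit 11, nat_lit 16, nat_lit 15, nat_lit 4])
(.ref (nat_lit 0) [nat_lit 5, nat_lit 5] [])
(.ref (nat_lit 0) [nat_lit 5] []))
(.ref (nat_lit 0) [nat_lit 9] [])
(.ref (nat_lit 0) [nat_lit 9, nat_lit 9] []))
(.ref (nat_lit 1) [nat_lit 14] []))
(.ref (nat_lit 0) [nat_lit 6] [])
(.ref (nat_lit 0) [nat_lit 6, nat_lit 6] []))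
(.ref (nat_lit 0) [nat_lit 4, nat_lit 4] [])
(.ref (nat_lit 0) [nat_lit 4] []))
(.node (.node (.node (.node (.node (.good (nat_lit 5) [nat_lit 14, nat_lit 2, nat_lit 2, nat_lit 3, nat_lit 5, nat_lit 6, nat_lit 6, nat_lit 10, nat_lit 10, nat_lit 11, nat_lit 11, nat_lit 15, nat_lit 16, nat_lit 15])
(.ref (nat_lit 0) [nat_lit 7] [])
(.ref (nat_lit 0) [nat_lit 7, nat_lit 7] []))
(.ref (nat_lit 0) [nat_lit 9] [])
(.ref (nat_lit 0) [nat_lit 9, nat_lit 9] []))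
(.ref (nat_lit 0) [nat_lit 0, nat_lit 0] [])
(.ref (nat_lit 0) [nat_lit 0] []))
(.ref (nat_lit 0) [nat_lit 6] [])
(.ref (nat_lit 0) [nat_lit 6, nat_lit 6] []))
(.ref (nat_lit 0) [nat_lit 4, nat_lit 4] [nat_lit 11, nat_lit 11])
(.ref (nat_lit 0) [nat_lit 4] [nat_lit 11]))
(.ref (nat_lit 1) [nat_lit 14] []))
(.ref (nat_lit 0) [nat_lit 1, nat_lit 1] [])
(.ref (nat_lit 0) [nat_lit 1] []))
(.node (.node (.node (.node (.node (.node (.node (.good (nat_lit 5) [nat_lit 12, nat_lit 14, nat_lit 0, nat_lit 0, nat_lit 4, nat_lit 4, nat_lit 7, nat_lit 11, nat_lit 11, nat_lit 18, nat_lit 16, nat_lit 15, nat_lit 4])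
(.ref (nat_lit 0) [nat_lit 8, nat_lit 8] [])
(.ref (nat_lit 0) [nat_lit 8] []))
(.ref (nat_lit 0) [nat_lit 9] [])
(.ref (nat_lit 0) [nat_lit 9, nat_lit 9] []))
(.ref (nat_lit 0) [nat_lit 3] [])
(.ref (nat_lit 0) [nat_lit 3, nat_lit 3] []))
(.ref (nat_lit 0) [nat_lit 6] [nat_lit 11])
(.ref (nat_lit 0) [nat_lit 6, nat_lit 6] [nat_lit 11, nat_lit 11]))
(.ref (nat_lit 0) [nat_lit 4, nat_lit 4] [])
(.ref (nat_lit 0) [nat_lit 4] []))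
(.node (.node (.node (.node (.node .big
(.ref (nat_lit 0) [nat_lit 8, nat_lit 8] [])
(.ref (nat_lit 0) [nat_lit 8] []))
(.ref (nat_lit 0) [nat_lit 9] [])
(.ref (nat_lit 0) [nat_lit 9, nat_lit 9] []))
(.ref (nat_lit 0) [nat_lit 3] [])
(.ref (nat_lit 0) [nat_lit 3, nat_lit 3] []))
(.ref (nat_lit 0) [nat_lit 6] [nat_lit 11])
(.ref (nat_lit 0) [nat_lit 6, nat_lit 6] [nat_lit 11, nat_lit 11]))
(.ref (nat_lit 0) [nat_lit 4, nat_lit 4] [nat_lit 11, nat_lit 11])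
(.ref (nat_lit 0) [nat_lit 4] [nat_lit 11]))
(.node (.node (.node (.node (.node .big
(.ref (nat_lit 0) [nat_lit 8, nat_lit 8] [])
(.ref (nat_lit 0) [nat_lit 8] []))
(.ref (nat_lit 0) [nat_lit 9] [])
(.ref (nat_lit 0) [nat_lit 9, nat_lit 9] []))
(.ref (nat_lit 0) [nat_lit 3] [])
(.ref (nat_lit 0) [nat_lit 3, nat_lit 3] []))
(.ref (nat_lit 0) [nat_lit 6] [nat_lit 11])
(.ref (nat_lit 0) [nat_lit 6, nat_lit 6] [nat_lit 11, nat_lit 11]))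
(.ref (nat_lit 0) [nat_lit 4, nat_lit 4] [nat_lit 11])
(.ref (nat_lit 0) [nat_lit 4] [nat_lit 11, nat_lit 11])))
(.ref (nat_lit 0) [nat_lit 1, nat_lit 1] [])
(.ref (nat_lit 0) [nat_lit 1] []))
(.ref (nat_lit 1) [nat_lit 14] []))
(.node (.node (.node (.node (.node (.node (.node (.node (.good (nat_lit 2) [nat_lit 5, nat_lit 6, nat_lit 6, nat_lit 7, nat_lit 8, nat_lit 9, nat_lit 9, nat_lit 10, nat_lit 11, nat_lit 16, nat_lit 15, nat_lit 4, nat_lit 4])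
(.good (nat_lit 8) [nat_lit 12, nat_lit 14, nat_lit 2, nat_lit 3, nat_lit 3, nat_lit 5, nat_lit 6, nat_lit 7, nat_lit 7, nat_lit 8, nat_lit 8, nat_lit 9, nat_lit 10, nat_lit 10, nat_lit 16, nat_lit 15, nat_lit 0, nat_lit 0])
(.good (nat_lit 9) [nat_lit 2, nat_lit 7, nat_lit 16, nat_lit 1]))
(.ref (nat_lit 0) [nat_lit 9] [])
(.ref (nat_lit 0) [nat_lit 9, nat_lit 9] []))
(.node (.node (.good (nat_lit 5) [nat_lit 12, nat_lit 2, nat_lit 2, nat_lit 3, nat_lit 7, nat_lit 8, nat_lit 9, nat_lit 10, nat_lit 11, nat_lit 16, nat_lit 15, nat_lit 0, nat_lit 0, nat_lit 4])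
(.ref (nat_lit 0) [nat_lit 5, nat_lit 5, nat_lit 6] [])
(.ref (nat_lit 0) [nat_lit 5, nat_lit 6, nat_lit 6] []))
(.ref (nat_lit 0) [nat_lit 9] [])
(.ref (nat_lit 0) [nat_lit 9, nat_lit 9] []))
(.ref (nat_lit 1) [nat_lit 14] []))
(.ref (nat_lit 0) [nat_lit 6] [])
(.ref (nat_lit 0) [nat_lit 6, nat_lit 6] []))
(.ref (nat_lit 0) [nat_lit 4, nat_lit 4] [nat_lit 9, nat_lit 9, nat_lit 10, nat_lit 10])
(.ref (nat_lit 0) [nat_lit 4] [nat_lit 9, nat_lit 10]))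
(.node (.node (.node (.node (.node (.good (nat_lit 5) [nat_lit 12, nat_lit 2, nat_lit 5, nat_lit 6, nat_lit 6, nat_lit 8, nat_lit 10, nat_lit 10, nat_lit 11, nat_lit 11, nat_lit 15, nat_lit 16, nat_lit 15, nat_lit 0, nat_lit 0])
(.ref (nat_lit 0) [nat_lit 7, nat_lit 9, nat_lit 9] [])
(.ref (nat_lit 0) [nat_lit 7, nat_lit 7, nat_lit 9] []))
(.ref (nat_lit 0) [nat_lit 9] [])
(.ref (nat_lit 0) [nat_lit 9, nat_lit 9] []))
(.ref (nat_lit 0) [nat_lit 0, nat_lit 0] [])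
(.ref (nat_lit 0) [nat_lit 0] []))
(.ref (nat_lit 0) [nat_lit 6] [])
(.ref (nat_lit 0) [nat_lit 6, nat_lit 6] []))
(.ref (nat_lit 0) [nat_lit 4, nat_lit 4] [nat_lit 9, nat_lit 9, nat_lit 10, nat_lit 10, nat_lit 11, nat_lit 11])
(.ref (nat_lit 0) [nat_lit 4] [nat_lit 9, nat_lit 10, nat_lit 11]))
(.ref (nat_lit 1) [nat_lit 14] []))
(.ref (nat_lit 0) [nat_lit 1, nat_lit 1] [nat_lit 6, nat_lit 6, nat_lit 8, nat_lit 8])
(.ref (nat_lit 0) [nat_lit 1] [nat_lit 6, nat_lit 8]))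
(.node (.node (.node (.node (.node (.node (.node .big
(.ref (nat_lit 0) [nat_lit 8, nat_lit 8] [])
(.ref (nat_lit 0) [nat_lit 8] []))
(.ref (nat_lit 0) [nat_lit 9] [])
(.ref (nat_lit 0) [nat_lit 9, nat_lit 9] []))
(.ref (nat_lit 0) [nat_lit 3] [])
(.ref (nat_lit 0) [nat_lit 3, nat_lit 3] []))
(.ref (nat_lit 0) [nat_lit 6] [nat_lit 11])
(.ref (nat_lit 0) [nat_lit 6, nat_lit 6] [nat_lit 11, nat_lit 11]))
(.ref (nat_lit 0) [nat_lit 4, nat_lit 4] [nat_lit 9, nat_lit 9, nat_lit 10, nat_lit 10])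
(.ref (nat_lit 0) [nat_lit 4] [nat_lit 9, nat_lit 10]))
(.node (.node (.node (.node (.node .big
(.ref (nat_lit 0) [nat_lit 8, nat_lit 8] [])
(.ref (nat_lit 0) [nat_lit 8] []))
(.ref (nat_lit 0) [nat_lit 9] [])
(.ref (nat_lit 0) [nat_lit 9, nat_lit 9] []))
(.ref (nat_lit 0) [nat_lit 3] [])
(.ref (nat_lit 0) [nat_lit 3, nat_lit 3] []))
(.ref (nat_lit 0) [nat_lit 6] [nat_lit 11])
(.ref (nat_lit 0) [nat_lit 6, nat_lit 6] [nat_lit 11, nat_lit 11]))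
(.ref (nat_lit 0) [nat_lit 4, nat_lit 4] [nat_lit 9, nat_lit 9, nat_lit 10, nat_lit 10, nat_lit 11, nat_lit 11])
(.ref (nat_lit 0) [nat_lit 4] [nat_lit 9, nat_lit 10, nat_lit 11]))
(.node (.node (.node (.node (.node .big
(.ref (nat_lit 0) [nat_lit 8, nat_lit 8] [])
(.ref (nat_lit 0) [nat_lit 8] []))
(.ref (nat_lit 0) [nat_lit 9] [])
(.ref (nat_lit 0) [nat_lit 9, nat_lit 9] []))
(.ref (nat_lit 0) [nat_lit 3] [])
(.ref (nat_lit 0) [nat_lit 3, nat_lit 3] []))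
(.ref (nat_lit 0) [nat_lit 6] [nat_lit 11])
(.ref (nat_lit 0) [nat_lit 6, nat_lit 6] [nat_lit 11, nat_lit 11]))
(.ref (nat_lit 0) [nat_lit 4, nat_lit 4] [nat_lit 9, nat_lit 9, nat_lit 10, nat_lit 10, nat_lit 11])
(.ref (nat_lit 0) [nat_lit 4] [nat_lit 9, nat_lit 10, nat_lit 11, nat_lit 11])))
(.ref (nat_lit 0) [nat_lit 1, nat_lit 1] [nat_lit 6, nat_lit 6, nat_lit 8, nat_lit 8, nat_lit 11])
(.ref (nat_lit 0) [nat_lit 1] [nat_lit 6, nat_lit 8, nat_lit 11, nat_lit 11]))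
(.ref (nat_lit 1) [nat_lit 14] []))
(.node (.node (.node (.node (.node (.node (.node (.node (.good (nat_lit 7) [nat_lit 0, nat_lit 3, nat_lit 5, nat_lit 5, nat_lit 6, nat_lit 6, nat_lit 10, nat_lit 10, nat_lit 11, nat_lit 11, nat_lit 16, nat_lit 15, nat_lit 0, nat_lit 0])
(.good (nat_lit 10) [nat_lit 0, nat_lit 0, nat_lit 3, nat_lit 3, nat_lit 5, nat_lit 6, nat_lit 8, nat_lit 10, nat_lit 11, nat_lit 16, nat_lit 15])
(.good (nat_lit 11) [nat_lit 2, nat_lit 5, nat_lit 6, nat_lit 7, nat_lit 7, nat_lit 8, nat_lit 8, nat_lit 9, nat_lit 10, nat_lit 11, nat_lit 11, nat_lit 16, nat_lit 1, nat_lit 1]))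
(.ref (nat_lit 0) [nat_lit 9] [])
(.ref (nat_lit 0) [nat_lit 9, nat_lit 9] []))
(.node (.node (.good (nat_lit 5) [nat_lit 12, nat_lit 2, nat_lit 2, nat_lit 3, nat_lit 3, nat_lit 7, nat_lit 8, nat_lit 8, nat_lit 10, nat_lit 11, nat_lit 11, nat_lit 16, nat_lit 15, nat_lit 0, nat_lit 4, nat_lit 4])
(.ref (nat_lit 0) [nat_lit 5, nat_lit 5, nat_lit 6, nat_lit 6] [])
(.ref (nat_lit 0) [nat_lit 5, nat_lit 6] []))
(.ref (nat_lit 0) [nat_lit 9] [])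
(.ref (nat_lit 0) [nat_lit 9, nat_lit 9] []))
(.ref (nat_lit 1) [nat_lit 14] []))
(.ref (nat_lit 0) [nat_lit 6] [])
(.ref (nat_lit 0) [nat_lit 6, nat_lit 6] []))
(.ref (nat_lit 0) [nat_lit 4, nat_lit 4] [nat_lit 9, nat_lit 10])
(.ref (nat_lit 0) [nat_lit 4] [nat_lit 9, nat_lit 9, nat_lit 10, nat_lit 10]))
(.node (.node (.node (.node (.node (.good (nat_lit 5) [nat_lit 12, nat_lit 2, nat_lit 2, nat_lit 3, nat_lit 5, nat_lit 5, nat_lit 6, nat_lit 15, nat_lit 16, nat_lit 15, nat_lit 0, nat_lit 4, nat_lit 4])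
(.ref (nat_lit 0) [nat_lit 7, nat_lit 9] [])
(.ref (nat_lit 0) [nat_lit 7, nat_lit 7, nat_lit 9, nat_lit 9] []))
(.ref (nat_lit 0) [nat_lit 9] [])
(.ref (nat_lit 0) [nat_lit 9, nat_lit 9] []))
(.ref (nat_lit 0) [nat_lit 0, nat_lit 0] [])
(.ref (nat_lit 0) [nat_lit 0] []))
(.ref (nat_lit 0) [nat_lit 6] [])
(.ref (nat_lit 0) [nat_lit 6, nat_lit 6] []))
(.ref (nat_lit 0) [nat_lit 4, nat_lit 4] [nat_lit 9, nat_lit 10, nat_lit 11, nat_lit 11])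
(.ref (nat_lit 0) [nat_lit 4] [nat_lit 9, nat_lit 9, nat_lit 10, nat_lit 10, nat_lit 11]))
(.ref (nat_lit 1) [nat_lit 14] []))
(.ref (nat_lit 0) [nat_lit 1, nat_lit 1] [nat_lit 6, nat_lit 8])
(.ref (nat_lit 0) [nat_lit 1] [nat_lit 6, nat_lit 6, nat_lit 8, nat_lit 8]))
(.node (.node (.node (.node (.node (.node (.node .big
(.ref (nat_lit 0) [nat_lit 8, nat_lit 8] [])
(.ref (nat_lit 0) [nat_lit 8] []))
(.ref (nat_lit 0) [nat_lit 9] [])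
(.ref (nat_lit 0) [nat_lit 9, nat_lit 9] []))
(.ref (nat_lit 0) [nat_lit 3] [])
(.ref (nat_lit 0) [nat_lit 3, nat_lit 3] []))
(.ref (nat_lit 0) [nat_lit 6] [nat_lit 11])
(.ref (nat_lit 0) [nat_lit 6, nat_lit 6] [nat_lit 11, nat_lit 11]))
(.ref (nat_lit 0) [nat_lit 4, nat_lit 4] [nat_lit 9, nat_lit 10])
(.ref (nat_lit 0) [nat_lit 4] [nat_lit 9, nat_lit 9, nat_lit 10, nat_lit 10]))
(.node (.node (.node (.node (.node .big
(.ref (nat_lit 0) [nat_lit 8, nat_lit 8] [])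
(.ref (nat_lit 0) [nat_lit 8] []))
(.ref (nat_lit 0) [nat_lit 9] [])
(.ref (nat_lit 0) [nat_lit 9, nat_lit 9] []))
(.ref (nat_lit 0) [nat_lit 3] [])
(.ref (nat_lit 0) [nat_lit 3, nat_lit 3] []))
(.ref (nat_lit 0) [nat_lit 6] [nat_lit 11])
(.ref (nat_lit 0) [nat_lit 6, nat_lit 6] [nat_lit 11, nat_lit 11]))
(.ref (nat_lit 0) [nat_lit 4, nat_lit 4] [nat_lit 9, nat_lit 10, nat_lit 11, nat_lit 11])
(.ref (nat_lit 0) [nat_lit 4] [nat_lit 9, nat_lit 9, nat_lit 10, nat_lit 10, nat_lit 11]))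
(.node (.node (.node (.node (.node .big
(.ref (nat_lit 0) [nat_lit 8, nat_lit 8] [])
(.ref (nat_lit 0) [nat_lit 8] []))
(.ref (nat_lit 0) [nat_lit 9] [])
(.ref (nat_lit 0) [nat_lit 9, nat_lit 9] []))
(.ref (nat_lit 0) [nat_lit 3] [])
(.ref (nat_lit 0) [nat_lit 3, nat_lit 3] []))
(.ref (nat_lit 0) [nat_lit 6] [nat_lit 11])
(.ref (nat_lit 0) [nat_lit 6, nat_lit 6] [nat_lit 11, nat_lit 11]))
(.ref (nat_lit 0) [nat_lit 4, nat_lit 4] [nat_lit 9, nat_lit 10, nat_lit 11])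
(.ref (nat_lit 0) [nat_lit 4] [nat_lit 9, nat_lit 9, nat_lit 10, nat_lit 10, nat_lit 11, nat_lit 11])))
(.ref (nat_lit 0) [nat_lit 1, nat_lit 1] [nat_lit 6, nat_lit 8, nat_lit 11, nat_lit 11])
(.ref (nat_lit 0) [nat_lit 1] [nat_lit 6, nat_lit 6, nat_lit 8, nat_lit 8, nat_lit 11]))
(.ref (nat_lit 1) [nat_lit 14] [])))
(.ref (nat_lit 1) [nat_lit 13] []))

theorem k1 : t1.ok T B R 12 15 1 [] 0 = true := by decide +kernel

noncomputable def t2 : Tr :=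
(.node (.node (.node (.node (.node (.node (.node (.node (.node (.node (.good (nat_lit 0) [nat_lit 12, nat_lit 1, nat_lit 4, nat_lit 6, nat_lit 6, nat_lit 7, nat_lit 7, nat_lit 8, nat_lit 11, nat_lit 11, nat_lit 15, nat_lit 17, nat_lit 18, nat_lit 16, nat_lit 4, nat_lit 5])
(.ref (nat_lit 0) [nat_lit 10] [])
(.ref (nat_lit 0) [nat_lit 10, nat_lit 10] []))
(.node (.good (nat_lit 5) [nat_lit 12, nat_lit 1, nat_lit 4, nat_lit 6, nat_lit 6, nat_lit 8, nat_lit 8, nat_lit 10, nat_lit 18])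
(.ref (nat_lit 0) [nat_lit 10] [])
(.ref (nat_lit 0) [nat_lit 10, nat_lit 10] []))
(.ref (nat_lit 1) [nat_lit 13] []))
(.node (.node (.good (nat_lit 3) [nat_lit 14, nat_lit 3, nat_lit 6, nat_lit 6, nat_lit 7, nat_lit 7, nat_lit 8, nat_lit 8, nat_lit 9, nat_lit 9, nat_lit 10, nat_lit 10, nat_lit 15, nat_lit 17, nat_lit 0, nat_lit 0])
(.ref (nat_lit 0) [nat_lit 10] [])
(.ref (nat_lit 0) [nat_lit 10, nat_lit 10] []))
(.node (.good (nat_lit 5) [nat_lit 14, nat_lit 2, nat_lit 2, nat_lit 5, nat_lit 7, nat_lit 7, nat_lit 9, nat_lit 9, nat_lit 10, nat_lit 10, nat_lit 17, nat_lit 18, nat_lit 2, nat_lit 2])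
(.ref (nat_lit 0) [nat_lit 10] [])
(.ref (nat_lit 0) [nat_lit 10, nat_lit 10] []))
(.ref (nat_lit 1) [nat_lit 13] []))
(.node (.node (.good (nat_lit 6) [nat_lit 13, nat_lit 14, nat_lit 1, nat_lit 4, nat_lit 4, nat_lit 8, nat_lit 8, nat_lit 9, nat_lit 9, nat_lit 17])
(.ref (nat_lit 0) [nat_lit 10] [])
(.ref (nat_lit 0) [nat_lit 10, nat_lit 10] []))
(.node (.good (nat_lit 5) [nat_lit 12, nat_lit 14, nat_lit 1, nat_lit 2, nat_lit 4, nat_lit 4, nat_lit 7, nat_lit 8, nat_lit 8, nat_lit 9, nat_lit 10, nat_lit 10, nat_lit 11, nat_lit 11, nat_lit 17, nat_lit 18, nat_lit 2])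
(.ref (nat_lit 0) [nat_lit 10] [])
(.ref (nat_lit 0) [nat_lit 10, nat_lit 10] []))
(.ref (nat_lit 1) [nat_lit 13] [])))
(.node (.node (.node (.good (nat_lit 2) [nat_lit 14, nat_lit 1, nat_lit 4, nat_lit 4, nat_lit 5, nat_lit 5, nat_lit 6, nat_lit 6, nat_lit 7, nat_lit 7, nat_lit 9, nat_lit 9, nat_lit 10, nat_lit 15, nat_lit 17, nat_lit 0, nat_lit 0])
(.ref (nat_lit 0) [nat_lit 10] [])
(.ref (nat_lit 0) [nat_lit 10, nat_lit 10] []))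
(.node (.good (nat_lit 5) [nat_lit 13, nat_lit 14, nat_lit 1, nat_lit 1, nat_lit 6, nat_lit 7, nat_lit 8, nat_lit 8, nat_lit 9, nat_lit 9, nat_lit 11, nat_lit 15, nat_lit 17, nat_lit 0, nat_lit 0])
(.ref (nat_lit 0) [nat_lit 10] [])
(.ref (nat_lit 0) [nat_lit 10, nat_lit 10] []))
(.ref (nat_lit 1) [nat_lit 13] []))
(.node (.node (.good (nat_lit 8) [nat_lit 14, nat_lit 3, nat_lit 4, nat_lit 4, nat_lit 5, nat_lit 5, nat_lit 6, nat_lit 7, nat_lit 8, nat_lit 8, nat_lit 10, nat_lit 15, nat_lit 17, nat_lit 2, nat_lit 2])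
(.ref (nat_lit 0) [nat_lit 10] [])
(.ref (nat_lit 0) [nat_lit 10, nat_lit 10] []))
(.node (.good (nat_lit 5) [nat_lit 13, nat_lit 14, nat_lit 1, nat_lit 1, nat_lit 3, nat_lit 5, nat_lit 5, nat_lit 6, nat_lit 6, nat_lit 10, nat_lit 10, nat_lit 11, nat_lit 11, nat_lit 15, nat_lit 17, nat_lit 0, nat_lit 0, nat_lit 2, nat_lit 2])
(.ref (nat_lit 0) [nat_lit 10] [])
(.ref (nat_lit 0) [nat_lit 10, nat_lit 10] []))
(.ref (nat_lit 1) [nat_lit 13] []))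
(.node (.node (.good (nat_lit 9) [nat_lit 14, nat_lit 4, nat_lit 4, nat_lit 5, nat_lit 6, nat_lit 7, nat_lit 8, nat_lit 8, nat_lit 9, nat_lit 11, nat_lit 17])
(.ref (nat_lit 0) [nat_lit 10] [])
(.ref (nat_lit 0) [nat_lit 10, nat_lit 10] []))
(.node (.good (nat_lit 5) [nat_lit 12, nat_lit 13, nat_lit 1, nat_lit 1, nat_lit 3, nat_lit 3, nat_lit 5, nat_lit 6, nat_lit 8, nat_lit 10, nat_lit 10, nat_lit 11, nat_lit 15, nat_lit 17, nat_lit 0, nat_lit 0, nat_lit 2])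
(.ref (nat_lit 0) [nat_lit 10] [])
(.ref (nat_lit 0) [nat_lit 10, nat_lit 10] []))
(.ref (nat_lit 1) [nat_lit 13] [])))
(.node (.node (.node (.good (nat_lit 7) [nat_lit 12, nat_lit 1, nat_lit 1, nat_lit 4, nat_lit 4, nat_lit 5, nat_lit 7, nat_lit 8, nat_lit 8, nat_lit 9, nat_lit 9, nat_lit 10, nat_lit 10, nat_lit 11, nat_lit 15, nat_lit 17, nat_lit 0])
(.ref (nat_lit 0) [nat_lit 10] [])
(.ref (nat_lit 0) [nat_lit 10, nat_lit 10] []))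
(.node (.good (nat_lit 5) [nat_lit 12, nat_lit 14, nat_lit 0, nat_lit 5, nat_lit 6, nat_lit 7, nat_lit 9, nat_lit 15, nat_lit 18, nat_lit 0])
(.ref (nat_lit 0) [nat_lit 10] [])
(.ref (nat_lit 0) [nat_lit 10, nat_lit 10] []))
(.ref (nat_lit 1) [nat_lit 13] []))
(.node (.node (.good (nat_lit 10) [nat_lit 14, nat_lit 3, nat_lit 3, nat_lit 5, nat_lit 6, nat_lit 6, nat_lit 9, nat_lit 9, nat_lit 10, nat_lit 15, nat_lit 17, nat_lit 2, nat_lit 2])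
(.ref (nat_lit 0) [nat_lit 10] [])
(.ref (nat_lit 0) [nat_lit 10, nat_lit 10] []))
(.node (.good (nat_lit 5) [nat_lit 12, nat_lit 13, nat_lit 1, nat_lit 1, nat_lit 3, nat_lit 3, nat_lit 4, nat_lit 5, nat_lit 5, nat_lit 7, nat_lit 8, nat_lit 9, nat_lit 10, nat_lit 10, nat_lit 15, nat_lit 17, nat_lit 0, nat_lit 2, nat_lit 2])
(.ref (nat_lit 0) [nat_lit 10] [])
(.ref (nat_lit 0) [nat_lit 10, nat_lit 10] []))
(.ref (nat_lit 1) [nat_lit 13] []))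
(.node (.node (.good (nat_lit 11) [nat_lit 13, nat_lit 14, nat_lit 3, nat_lit 3, nat_lit 4, nat_lit 6, nat_lit 7, nat_lit 17, nat_lit 2, nat_lit 2])
(.ref (nat_lit 0) [nat_lit 10] [])
(.ref (nat_lit 0) [nat_lit 10, nat_lit 10] []))
(.node (.good (nat_lit 5) [nat_lit 12, nat_lit 13, nat_lit 3, nat_lit 5, nat_lit 5, nat_lit 6, nat_lit 6, nat_lit 8, nat_lit 8, nat_lit 11, nat_lit 11, nat_lit 15, nat_lit 17, nat_lit 0, nat_lit 2])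
(.ref (nat_lit 0) [nat_lit 10] [])
(.ref (nat_lit 0) [nat_lit 10, nat_lit 10] []))
(.ref (nat_lit 1) [nat_lit 13] []))))
(.node (.node (.node (.node (.good (nat_lit 1) [nat_lit 12, nat_lit 13, nat_lit 0, nat_lit 5, nat_lit 5, nat_lit 7, nat_lit 9, nat_lit 17, nat_lit 18, nat_lit 2, nat_lit 2, nat_lit 3])
(.ref (nat_lit 0) [nat_lit 10] [])
(.ref (nat_lit 0) [nat_lit 10, nat_lit 10] []))
(.node (.good (nat_lit 5) [nat_lit 12, nat_lit 4, nat_lit 9, nat_lit 9, nat_lit 11, nat_lit 18, nat_lit 3])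
(.ref (nat_lit 0) [nat_lit 10] [])
(.ref (nat_lit 0) [nat_lit 10, nat_lit 10] []))
(.ref (nat_lit 1) [nat_lit 13] []))
(.node (.node (.good (nat_lit 8) [nat_lit 14, nat_lit 1, nat_lit 4, nat_lit 4, nat_lit 6, nat_lit 8, nat_lit 9, nat_lit 10, nat_lit 17, nat_lit 18, nat_lit 2, nat_lit 2, nat_lit 3])
(.ref (nat_lit 0) [nat_lit 10] [])
(.ref (nat_lit 0) [nat_lit 10, nat_lit 10] []))
(.node (.good (nat_lit 5) [nat_lit 14, nat_lit 0, nat_lit 0, nat_lit 1, nat_lit 2, nat_lit 2, nat_lit 4, nat_lit 6, nat_lit 6, nat_lit 9, nat_lit 9, nat_lit 10, nat_lit 10, nat_lit 11, nat_lit 11, nat_lit 17, nat_lit 18, nat_lit 2, nat_lit 2, nat_lit 3])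
(.ref (nat_lit 0) [nat_lit 10] [])
(.ref (nat_lit 0) [nat_lit 10, nat_lit 10] []))
(.ref (nat_lit 1) [nat_lit 13] []))
(.node (.node (.good (nat_lit 11) [nat_lit 14, nat_lit 0, nat_lit 4, nat_lit 5, nat_lit 6, nat_lit 6, nat_lit 9, nat_lit 9, nat_lit 10, nat_lit 11, nat_lit 11, nat_lit 15, nat_lit 17, nat_lit 18, nat_lit 2, nat_lit 2])
(.ref (nat_lit 0) [nat_lit 10] [])
(.ref (nat_lit 0) [nat_lit 10, nat_lit 10] []))
(.node (.good (nat_lit 5) [nat_lit 12, nat_lit 14, nat_lit 0, nat_lit 1, nat_lit 1, nat_lit 2, nat_lit 5, nat_lit 6, nat_lit 6, nat_lit 7, nat_lit 8, nat_lit 8, nat_lit 9, nat_lit 10, nat_lit 17, nat_lit 18, nat_lit 2, nat_lit 3])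
(.ref (nat_lit 0) [nat_lit 10] [])
(.ref (nat_lit 0) [nat_lit 10, nat_lit 10] []))
(.ref (nat_lit 1) [nat_lit 13] [])))
(.node (.node (.node (.good (nat_lit 8) [nat_lit 12, nat_lit 1, nat_lit 6, nat_lit 6, nat_lit 10, nat_lit 10, nat_lit 11, nat_lit 11, nat_lit 15, nat_lit 18, nat_lit 0, nat_lit 0, nat_lit 3])
(.ref (nat_lit 0) [nat_lit 10] [])
(.ref (nat_lit 0) [nat_lit 10, nat_lit 10] []))
(.node (.good (nat_lit 5) [nat_lit 12, nat_lit 0, nat_lit 0, nat_lit 2, nat_lit 2, nat_lit 5, nat_lit 5, nat_lit 7, nat_lit 8, nat_lit 9, nat_lit 10, nat_lit 11, nat_lit 15, nat_lit 18, nat_lit 0, nat_lit 0, nat_lit 3])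
(.ref (nat_lit 0) [nat_lit 10] [])
(.ref (nat_lit 0) [nat_lit 10, nat_lit 10] []))
(.ref (nat_lit 1) [nat_lit 13] []))
(.node (.node (.good (nat_lit 12) [nat_lit 1, nat_lit 1, nat_lit 2, nat_lit 3, nat_lit 4, nat_lit 4, nat_lit 5, nat_lit 6, nat_lit 10, nat_lit 10, nat_lit 17, nat_lit 18, nat_lit 2, nat_lit 2, nat_lit 3, nat_lit 3])
(.ref (nat_lit 0) [nat_lit 10] [])
(.ref (nat_lit 0) [nat_lit 10, nat_lit 10] []))
(.node (.good (nat_lit 8) [nat_lit 0, nat_lit 2, nat_lit 3, nat_lit 5, nat_lit 6, nat_lit 6, nat_lit 8, nat_lit 10, nat_lit 10, nat_lit 15, nat_lit 17, nat_lit 18, nat_lit 2, nat_lit 2, nat_lit 3, nat_lit 3])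
(.ref (nat_lit 0) [nat_lit 10] [])
(.ref (nat_lit 0) [nat_lit 10, nat_lit 10] []))
(.ref (nat_lit 1) [nat_lit 13] []))
(.node (.node (.good (nat_lit 5) [nat_lit 13, nat_lit 14, nat_lit 0, nat_lit 1, nat_lit 1, nat_lit 2, nat_lit 2, nat_lit 3, nat_lit 3, nat_lit 4, nat_lit 5, nat_lit 6, nat_lit 9, nat_lit 9, nat_lit 15, nat_lit 17, nat_lit 18, nat_lit 0, nat_lit 0, nat_lit 2, nat_lit 3])
(.ref (nat_lit 0) [nat_lit 10] [])
(.ref (nat_lit 0) [nat_lit 10, nat_lit 10] []))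
(.node (.good (nat_lit 12) [nat_lit 12, nat_lit 13, nat_lit 0, nat_lit 0, nat_lit 2, nat_lit 5, nat_lit 6, nat_lit 7, nat_lit 8, nat_lit 10, nat_lit 11, nat_lit 18, nat_lit 3, nat_lit 3])
(.ref (nat_lit 0) [nat_lit 10] [])
(.ref (nat_lit 0) [nat_lit 10, nat_lit 10] []))
(.ref (nat_lit 1) [nat_lit 13] [])))
(.node (.node (.node (.good (nat_lit 11) [nat_lit 13, nat_lit 1, nat_lit 4, nat_lit 4, nat_lit 5, nat_lit 9, nat_lit 10, nat_lit 10, nat_lit 11, nat_lit 18])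
(.ref (nat_lit 0) [nat_lit 10] [])
(.ref (nat_lit 0) [nat_lit 10, nat_lit 10] []))
(.node (.good (nat_lit 5) [nat_lit 0, nat_lit 1, nat_lit 2, nat_lit 6, nat_lit 6, nat_lit 9, nat_lit 9, nat_lit 10, nat_lit 10, nat_lit 15, nat_lit 18, nat_lit 0, nat_lit 3])
(.ref (nat_lit 0) [nat_lit 10] [])
(.ref (nat_lit 0) [nat_lit 10, nat_lit 10] []))
(.ref (nat_lit 1) [nat_lit 13] []))
(.node (.node (.good (nat_lit 5) [nat_lit 12, nat_lit 0, nat_lit 0, nat_lit 1, nat_lit 1, nat_lit 2, nat_lit 3, nat_lit 3, nat_lit 4, nat_lit 6, nat_lit 6, nat_lit 7, nat_lit 8, nat_lit 8, nat_lit 10, nat_lit 15, nat_lit 17, nat_lit 18, nat_lit 0, nat_lit 2, nat_lit 2, nat_lit 3])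
(.ref (nat_lit 0) [nat_lit 10] [])
(.ref (nat_lit 0) [nat_lit 10, nat_lit 10] []))
(.node (.good (nat_lit 12) [nat_lit 12, nat_lit 14, nat_lit 0, nat_lit 4, nat_lit 6, nat_lit 7, nat_lit 9, nat_lit 11, nat_lit 15, nat_lit 17, nat_lit 18, nat_lit 0, nat_lit 2, nat_lit 3])
(.ref (nat_lit 0) [nat_lit 10] [])
(.ref (nat_lit 0) [nat_lit 10, nat_lit 10] []))
(.ref (nat_lit 1) [nat_lit 13] []))
(.node (.node (.good (nat_lit 12) [nat_lit 13, nat_lit 14, nat_lit 0, nat_lit 0, nat_lit 1, nat_lit 1, nat_lit 3, nat_lit 4, nat_lit 4, nat_lit 8, nat_lit 8, nat_lit 10, nat_lit 10, nat_lit 11, nat_lit 15, nat_lit 18, nat_lit 0, nat_lit 3, nat_lit 3])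
(.ref (nat_lit 0) [nat_lit 10] [])
(.ref (nat_lit 0) [nat_lit 10, nat_lit 10] []))
(.node (.good (nat_lit 11) [nat_lit 0, nat_lit 0, nat_lit 1, nat_lit 2, nat_lit 2, nat_lit 3, nat_lit 4, nat_lit 6, nat_lit 11, nat_lit 11, nat_lit 17, nat_lit 18, nat_lit 2, nat_lit 2])
(.ref (nat_lit 0) [nat_lit 10] [])
(.ref (nat_lit 0) [nat_lit 10, nat_lit 10] []))
(.ref (nat_lit 1) [nat_lit 13] []))))
(.node (.node (.node (.node (.good (nat_lit 4) [nat_lit 12, nat_lit 1, nat_lit 1, nat_lit 4, nat_lit 6, nat_lit 6, nat_lit 9, nat_lit 9, nat_lit 10, nat_lit 11, nat_lit 11, nat_lit 18])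
(.ref (nat_lit 0) [nat_lit 10] [])
(.ref (nat_lit 0) [nat_lit 10, nat_lit 10] []))
(.node (.good (nat_lit 5) [nat_lit 12, nat_lit 1, nat_lit 7, nat_lit 7, nat_lit 9, nat_lit 10, nat_lit 11, nat_lit 18, nat_lit 3, nat_lit 3])
(.ref (nat_lit 0) [nat_lit 10] [])
(.ref (nat_lit 0) [nat_lit 10, nat_lit 10] []))
(.ref (nat_lit 1) [nat_lit 13] []))
(.node (.node (.good (nat_lit 10) [nat_lit 12, nat_lit 1, nat_lit 1, nat_lit 7, nat_lit 7, nat_lit 9, nat_lit 17, nat_lit 18, nat_lit 2, nat_lit 3])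
(.ref (nat_lit 0) [nat_lit 10] [])
(.ref (nat_lit 0) [nat_lit 10, nat_lit 10] []))
(.node (.good (nat_lit 5) [nat_lit 14, nat_lit 0, nat_lit 2, nat_lit 2, nat_lit 5, nat_lit 6, nat_lit 7, nat_lit 7, nat_lit 10, nat_lit 11, nat_lit 17, nat_lit 18, nat_lit 2, nat_lit 2, nat_lit 3, nat_lit 3])
(.ref (nat_lit 0) [nat_lit 10] [])
(.ref (nat_lit 0) [nat_lit 10, nat_lit 10] []))
(.ref (nat_lit 1) [nat_lit 13] []))
(.node (.node (.good (nat_lit 9) [nat_lit 13, nat_lit 14, nat_lit 0, nat_lit 0, nat_lit 4, nat_lit 5, nat_lit 6, nat_lit 6, nat_lit 8, nat_lit 9, nat_lit 9, nat_lit 10, nat_lit 10, nat_lit 11, nat_lit 11, nat_lit 15, nat_lit 17, nat_lit 18, nat_lit 3, nat_lit 3])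
(.ref (nat_lit 0) [nat_lit 10] [])
(.ref (nat_lit 0) [nat_lit 10, nat_lit 10] []))
(.node (.good (nat_lit 5) [nat_lit 0, nat_lit 0, nat_lit 1, nat_lit 2, nat_lit 4, nat_lit 4, nat_lit 5, nat_lit 5, nat_lit 8, nat_lit 10, nat_lit 17, nat_lit 18, nat_lit 2, nat_lit 3, nat_lit 3])
(.ref (nat_lit 0) [nat_lit 10] [])
(.ref (nat_lit 0) [nat_lit 10, nat_lit 10] []))
(.ref (nat_lit 1) [nat_lit 13] [])))
(.node (.node (.node (.good (nat_lit 9) [nat_lit 14, nat_lit 1, nat_lit 4, nat_lit 4, nat_lit 5, nat_lit 7, nat_lit 7, nat_lit 9, nat_lit 9, nat_lit 10, nat_lit 11, nat_lit 11, nat_lit 18])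
(.ref (nat_lit 0) [nat_lit 10] [])
(.ref (nat_lit 0) [nat_lit 10, nat_lit 10] []))
(.node (.good (nat_lit 5) [nat_lit 12, nat_lit 0, nat_lit 0, nat_lit 1, nat_lit 1, nat_lit 2, nat_lit 4, nat_lit 4, nat_lit 6, nat_lit 6, nat_lit 7, nat_lit 8, nat_lit 9, nat_lit 9, nat_lit 10, nat_lit 10, nat_lit 11, nat_lit 11, nat_lit 15, nat_lit 18, nat_lit 0, nat_lit 0, nat_lit 3, nat_lit 3])
(.ref (nat_lit 0) [nat_lit 10] [])
(.ref (nat_lit 0) [nat_lit 10, nat_lit 10] []))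
(.ref (nat_lit 1) [nat_lit 13] []))
(.node (.node (.good (nat_lit 5) [nat_lit 12, nat_lit 13, nat_lit 14, nat_lit 0, nat_lit 1, nat_lit 2, nat_lit 3, nat_lit 4, nat_lit 4, nat_lit 5, nat_lit 5, nat_lit 6, nat_lit 6, nat_lit 9, nat_lit 9, nat_lit 10, nat_lit 11, nat_lit 15, nat_lit 17, nat_lit 18, nat_lit 0, nat_lit 0, nat_lit 2, nat_lit 2, nat_lit 3, nat_lit 3])
(.ref (nat_lit 0) [nat_lit 10] [])
(.ref (nat_lit 0) [nat_lit 10, nat_lit 10] []))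
(.node (.good (nat_lit 12) [nat_lit 13, nat_lit 14, nat_lit 0, nat_lit 0, nat_lit 1, nat_lit 3, nat_lit 4, nat_lit 4, nat_lit 6, nat_lit 7, nat_lit 7, nat_lit 8, nat_lit 17, nat_lit 2, nat_lit 2])
(.ref (nat_lit 0) [nat_lit 10] [])
(.ref (nat_lit 0) [nat_lit 10, nat_lit 10] []))
(.ref (nat_lit 1) [nat_lit 13] []))
(.node (.node (.good (nat_lit 12) [nat_lit 14, nat_lit 1, nat_lit 1, nat_lit 4, nat_lit 5, nat_lit 5, nat_lit 7, nat_lit 9, nat_lit 11, nat_lit 18])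
(.ref (nat_lit 0) [nat_lit 10] [])
(.ref (nat_lit 0) [nat_lit 10, nat_lit 10] []))
(.node (.good (nat_lit 9) [nat_lit 14, nat_lit 0, nat_lit 1, nat_lit 1, nat_lit 2, nat_lit 2, nat_lit 3, nat_lit 3, nat_lit 5, nat_lit 5, nat_lit 7, nat_lit 7, nat_lit 9, nat_lit 17, nat_lit 18, nat_lit 2, nat_lit 2])
(.ref (nat_lit 0) [nat_lit 10] [])
(.ref (nat_lit 0) [nat_lit 10, nat_lit 10] []))
(.ref (nat_lit 1) [nat_lit 13] [])))
(.node (.node (.node (.good (nat_lit 10) [nat_lit 2, nat_lit 2, nat_lit 5, nat_lit 6, nat_lit 7, nat_lit 8, nat_lit 8, nat_lit 9, nat_lit 10, nat_lit 11, nat_lit 15, nat_lit 18, nat_lit 3, nat_lit 3])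
(.ref (nat_lit 0) [nat_lit 10] [])
(.ref (nat_lit 0) [nat_lit 10, nat_lit 10] []))
(.node (.good (nat_lit 5) [nat_lit 12, nat_lit 14, nat_lit 0, nat_lit 1, nat_lit 1, nat_lit 2, nat_lit 2, nat_lit 6, nat_lit 7, nat_lit 7, nat_lit 9, nat_lit 10, nat_lit 10, nat_lit 15, nat_lit 18, nat_lit 0, nat_lit 3, nat_lit 3])
(.ref (nat_lit 0) [nat_lit 10] [])
(.ref (nat_lit 0) [nat_lit 10, nat_lit 10] []))
(.ref (nat_lit 1) [nat_lit 13] []))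
(.node (.node (.good (nat_lit 12) [nat_lit 12, nat_lit 13, nat_lit 0, nat_lit 0, nat_lit 1, nat_lit 1, nat_lit 2, nat_lit 4, nat_lit 4, nat_lit 6, nat_lit 6, nat_lit 7, nat_lit 7, nat_lit 8, nat_lit 9, nat_lit 10, nat_lit 15, nat_lit 17, nat_lit 0, nat_lit 2, nat_lit 2])
(.ref (nat_lit 0) [nat_lit 10] [])
(.ref (nat_lit 0) [nat_lit 10, nat_lit 10] []))
(.node (.good (nat_lit 10) [nat_lit 12, nat_lit 0, nat_lit 0, nat_lit 1, nat_lit 2, nat_lit 3, nat_lit 3, nat_lit 4, nat_lit 6, nat_lit 6, nat_lit 8, nat_lit 9, nat_lit 9, nat_lit 10, nat_lit 10, nat_lit 11, nat_lit 15, nat_lit 17, nat_lit 18, nat_lit 2, nat_lit 2, nat_lit 3])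
(.ref (nat_lit 0) [nat_lit 10] [])
(.ref (nat_lit 0) [nat_lit 10, nat_lit 10] []))
(.ref (nat_lit 1) [nat_lit 13] []))
(.node (.node (.good (nat_lit 5) [nat_lit 13, nat_lit 0, nat_lit 0, nat_lit 1, nat_lit 1, nat_lit 2, nat_lit 2, nat_lit 3, nat_lit 5, nat_lit 6, nat_lit 6, nat_lit 7, nat_lit 7, nat_lit 8, nat_lit 9, nat_lit 9, nat_lit 10, nat_lit 10, nat_lit 11, nat_lit 15, nat_lit 17, nat_lit 18, nat_lit 0, nat_lit 2, nat_lit 3, nat_lit 3])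
(.ref (nat_lit 0) [nat_lit 10] [])
(.ref (nat_lit 0) [nat_lit 10, nat_lit 10] []))
(.node (.good (nat_lit 12) [nat_lit 13, nat_lit 1, nat_lit 2, nat_lit 3, nat_lit 5, nat_lit 7, nat_lit 7, nat_lit 8, nat_lit 8, nat_lit 9, nat_lit 9, nat_lit 10, nat_lit 11, nat_lit 11, nat_lit 15, nat_lit 0])
(.ref (nat_lit 0) [nat_lit 10] [])
(.ref (nat_lit 0) [nat_lit 10, nat_lit 10] []))
(.ref (nat_lit 1) [nat_lit 13] [])))))
(.ref (nat_lit 0) [nat_lit 3] [])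
(.ref (nat_lit 0) [nat_lit 3, nat_lit 3] []))
(.ref (nat_lit 0) [nat_lit 2] [])
(.ref (nat_lit 0) [nat_lit 2, nat_lit 2] []))
(.ref (nat_lit 0) [nat_lit 0, nat_lit 0] [])
(.ref (nat_lit 0) [nat_lit 0] []))
(.node (.node (.node (.node (.node (.node (.node (.node (.good (nat_lit 5) [nat_lit 12, nat_lit 3, nat_lit 3, nat_lit 6, nat_lit 6, nat_lit 9, nat_lit 11, nat_lit 11, nat_lit 15, nat_lit 17, nat_lit 16])
(.ref (nat_lit 0) [nat_lit 10] [])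
(.ref (nat_lit 0) [nat_lit 10, nat_lit 10] []))
(.ref (nat_lit 0) [nat_lit 7] [])
(.ref (nat_lit 0) [nat_lit 7, nat_lit 7] []))
(.ref (nat_lit 0) [nat_lit 4, nat_lit 4] [])
(.ref (nat_lit 0) [nat_lit 4] []))
(.ref (nat_lit 0) [nat_lit 5] [])
(.ref (nat_lit 0) [nat_lit 5, nat_lit 5] []))
(.node (.node (.node (.node .big
(.ref (nat_lit 0) [nat_lit 10] [])
(.ref (nat_lit 0) [nat_lit 10, nat_lit 10] []))
(.ref (nat_lit 0) [nat_lit 7] [])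
(.ref (nat_lit 0) [nat_lit 7, nat_lit 7] []))
(.ref (nat_lit 0) [nat_lit 4, nat_lit 4] [])
(.ref (nat_lit 0) [nat_lit 4] []))
(.ref (nat_lit 0) [nat_lit 5] [])
(.ref (nat_lit 0) [nat_lit 5, nat_lit 5] []))
(.node (.node (.node (.node .big
(.ref (nat_lit 0) [nat_lit 10] [])
(.ref (nat_lit 0) [nat_lit 10, nat_lit 10] []))
(.ref (nat_lit 0) [nat_lit 7] [])
(.ref (nat_lit 0) [nat_lit 7, nat_lit 7] []))
(.ref (nat_lit 0) [nat_lit 4, nat_lit 4] [])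
(.ref (nat_lit 0) [nat_lit 4] []))
(.ref (nat_lit 0) [nat_lit 5] [])
(.ref (nat_lit 0) [nat_lit 5, nat_lit 5] [])))
(.ref (nat_lit 0) [nat_lit 3] [])
(.ref (nat_lit 0) [nat_lit 3, nat_lit 3] []))
(.ref (nat_lit 0) [nat_lit 2] [nat_lit 8, nat_lit 8])
(.ref (nat_lit 0) [nat_lit 2, nat_lit 2] [nat_lit 8]))
(.ref (nat_lit 0) [nat_lit 0, nat_lit 0] [nat_lit 9])
(.ref (nat_lit 0) [nat_lit 0] [nat_lit 9, nat_lit 9]))
(.ref (nat_lit 1) [nat_lit 13] []))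
(.node (.node (.node (.node (.node (.node (.node (.node (.node (.good (nat_lit 5) [nat_lit 12, nat_lit 14, nat_lit 1, nat_lit 2, nat_lit 5, nat_lit 8, nat_lit 11, nat_lit 11, nat_lit 15, nat_lit 18, nat_lit 16, nat_lit 15, nat_lit 9])
(.ref (nat_lit 0) [nat_lit 10] [])
(.ref (nat_lit 0) [nat_lit 10, nat_lit 10] []))
(.ref (nat_lit 0) [nat_lit 9] [])
(.ref (nat_lit 0) [nat_lit 9, nat_lit 9] []))
(.node (.node .big
(.ref (nat_lit 0) [nat_lit 10] [])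
(.ref (nat_lit 0) [nat_lit 10, nat_lit 10] []))
(.ref (nat_lit 0) [nat_lit 9] [])
(.ref (nat_lit 0) [nat_lit 9, nat_lit 9] []))
(.node (.node .big
(.ref (nat_lit 0) [nat_lit 10] [])
(.ref (nat_lit 0) [nat_lit 10, nat_lit 10] []))
(.ref (nat_lit 0) [nat_lit 9] [])
(.ref (nat_lit 0) [nat_lit 9, nat_lit 9] [])))
(.ref (nat_lit 0) [nat_lit 6] [])
(.ref (nat_lit 0) [nat_lit 6, nat_lit 6] []))
(.ref (nat_lit 0) [nat_lit 4, nat_lit 4] [])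
(.ref (nat_lit 0) [nat_lit 4] []))
(.ref (nat_lit 0) [nat_lit 3] [nat_lit 8, nat_lit 8])
(.ref (nat_lit 0) [nat_lit 3, nat_lit 3] [nat_lit 8]))
(.ref (nat_lit 0) [nat_lit 2] [])
(.ref (nat_lit 0) [nat_lit 2, nat_lit 2] []))
(.ref (nat_lit 0) [nat_lit 0, nat_lit 0] [nat_lit 7])
(.ref (nat_lit 0) [nat_lit 0] [nat_lit 7, nat_lit 7]))
(.node (.node (.node (.node (.node (.node (.node (.node .big
(.ref (nat_lit 0) [nat_lit 10] [])
(.ref (nat_lit 0) [nat_lit 10, nat_lit 10] []))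
(.ref (nat_lit 0) [nat_lit 9] [])
(.ref (nat_lit 0) [nat_lit 9, nat_lit 9] []))
(.node (.node .big
(.ref (nat_lit 0) [nat_lit 10] [])
(.ref (nat_lit 0) [nat_lit 10, nat_lit 10] []))
(.ref (nat_lit 0) [nat_lit 9] [])
(.ref (nat_lit 0) [nat_lit 9, nat_lit 9] []))
(.node (.node .big
(.ref (nat_lit 0) [nat_lit 10] [])
(.ref (nat_lit 0) [nat_lit 10, nat_lit 10] []))
(.ref (nat_lit 0) [nat_lit 9] [])
(.ref (nat_lit 0) [nat_lit 9, nat_lit 9] [])))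
(.ref (nat_lit 0) [nat_lit 6] [])
(.ref (nat_lit 0) [nat_lit 6, nat_lit 6] []))
(.ref (nat_lit 0) [nat_lit 4, nat_lit 4] [nat_lit 9, nat_lit 9, nat_lit 10, nat_lit 10])
(.ref (nat_lit 0) [nat_lit 4] [nat_lit 9, nat_lit 10]))
(.ref (nat_lit 0) [nat_lit 3] [nat_lit 8, nat_lit 8])
(.ref (nat_lit 0) [nat_lit 3, nat_lit 3] [nat_lit 8]))
(.ref (nat_lit 0) [nat_lit 2] [nat_lit 8, nat_lit 8])
(.ref (nat_lit 0) [nat_lit 2, nat_lit 2] [nat_lit 8]))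
(.ref (nat_lit 0) [nat_lit 0, nat_lit 0] [nat_lit 7, nat_lit 9, nat_lit 10])
(.ref (nat_lit 0) [nat_lit 0] [nat_lit 7, nat_lit 7, nat_lit 9, nat_lit 9, nat_lit 10, nat_lit 10]))
(.node (.node (.node (.node (.node (.node (.node (.node .big
(.ref (nat_lit 0) [nat_lit 10] [])
(.ref (nat_lit 0) [nat_lit 10, nat_lit 10] []))
(.ref (nat_lit 0) [nat_lit 9] [])
(.ref (nat_lit 0) [nat_lit 9, nat_lit 9] []))
(.node (.node .big
(.ref (nat_lit 0) [nat_lit 10] [])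
(.ref (nat_lit 0) [nat_lit 10, nat_lit 10] []))
(.ref (nat_lit 0) [nat_lit 9] [])
(.ref (nat_lit 0) [nat_lit 9, nat_lit 9] []))
(.node (.node .big
(.ref (nat_lit 0) [nat_lit 10] [])
(.ref (nat_lit 0) [nat_lit 10, nat_lit 10] []))
(.ref (nat_lit 0) [nat_lit 9] [])
(.ref (nat_lit 0) [nat_lit 9, nat_lit 9] [])))
(.ref (nat_lit 0) [nat_lit 6] [])
(.ref (nat_lit 0) [nat_lit 6, nat_lit 6] []))
(.ref (nat_lit 0) [nat_lit 4, nat_lit 4] [nat_lit 9, nat_lit 10])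
(.ref (nat_lit 0) [nat_lit 4] [nat_lit 9, nat_lit 9, nat_lit 10, nat_lit 10]))
(.ref (nat_lit 0) [nat_lit 3] [nat_lit 8, nat_lit 8])
(.ref (nat_lit 0) [nat_lit 3, nat_lit 3] [nat_lit 8]))
(.ref (nat_lit 0) [nat_lit 2] [nat_lit 8])
(.ref (nat_lit 0) [nat_lit 2, nat_lit 2] [nat_lit 8, nat_lit 8]))
(.ref (nat_lit 0) [nat_lit 0, nat_lit 0] [nat_lit 7, nat_lit 9, nat_lit 9, nat_lit 10, nat_lit 10])
(.ref (nat_lit 0) [nat_lit 0] [nat_lit 7, nat_lit 7, nat_lit 9, nat_lit 10])))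
(.ref (nat_lit 1) [nat_lit 13] []))

theorem k2 : t2.ok T B R 12 15 1 [] 1 = true := by decide +kernel

noncomputable def t3 : Tr :=
(.ref (nat_lit 1) [nat_lit 14] [])

theorem k3 : t3.ok T B R 12 15 1 [] 2 = true := by decide +kernel

noncomputable def t0 : Tr := .node t1 t2 t3
theorem k0 : t0.ok T B R 12 15 0 [] 0 = true :=
  Tr.ok_node (k1 := 1) (w1 := []) (by decide +kernel) k1 k2 k3

noncomputable def t5 : Tr :=
(.node (.node (.node (.node (.node (.node (.node (.node (.node (.node (.good (nat_lit 0) [nat_lit 14, nat_lit 0, nat_lit 0, nat_lit 2, nat_lit 2, nat_lit 4, nat_lit 7, nat_lit 10, nat_lit 11, nat_lit 11, nat_lit 16, nat_lit 17, nat_lit 18, nat_lit 16, nat_lit 5])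
(.good (nat_lit 2) [nat_lit 12, nat_lit 14, nat_lit 0, nat_lit 2, nat_lit 2, nat_lit 3, nat_lit 4, nat_lit 7, nat_lit 9, nat_lit 16, nat_lit 17])
(.good (nat_lit 7) [nat_lit 14, nat_lit 2, nat_lit 7, nat_lit 8, nat_lit 9, nat_lit 9, nat_lit 10, nat_lit 11, nat_lit 11, nat_lit 16, nat_lit 17, nat_lit 5, nat_lit 5]))
(.ref (nat_lit 0) [nat_lit 8] [])
(.ref (nat_lit 0) [nat_lit 8, nat_lit 8] []))
(.ref (nat_lit 0) [nat_lit 6] [])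
(.ref (nat_lit 0) [nat_lit 6, nat_lit 6] []))
(.node (.node (.node (.good (nat_lit 5) [nat_lit 14, nat_lit 0, nat_lit 3, nat_lit 7, nat_lit 9, nat_lit 9, nat_lit 16, nat_lit 17])
(.ref (nat_lit 0) [nat_lit 4] [])
(.ref (nat_lit 0) [nat_lit 4, nat_lit 4] []))
(.ref (nat_lit 0) [nat_lit 8] [])
(.ref (nat_lit 0) [nat_lit 8, nat_lit 8] []))
(.ref (nat_lit 0) [nat_lit 6] [])
(.ref (nat_lit 0) [nat_lit 6, nat_lit 6] []))
(.ref (nat_lit 1) [nat_lit 14] []))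
(.ref (nat_lit 0) [nat_lit 5] [])
(.ref (nat_lit 0) [nat_lit 5, nat_lit 5] []))
(.node (.node (.node (.node (.node (.good (nat_lit 5) [nat_lit 12, nat_lit 0, nat_lit 3, nat_lit 4, nat_lit 9, nat_lit 9, nat_lit 10, nat_lit 16, nat_lit 17, nat_lit 16])
(.ref (nat_lit 0) [nat_lit 7] [])
(.ref (nat_lit 0) [nat_lit 7, nat_lit 7] []))
(.ref (nat_lit 0) [nat_lit 8] [])
(.ref (nat_lit 0) [nat_lit 8, nat_lit 8] []))
(.ref (nat_lit 0) [nat_lit 6] [])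
(.ref (nat_lit 0) [nat_lit 6, nat_lit 6] []))
(.ref (nat_lit 0) [nat_lit 2, nat_lit 2] [])
(.ref (nat_lit 0) [nat_lit 2] []))
(.ref (nat_lit 0) [nat_lit 5] [nat_lit 11, nat_lit 11])
(.ref (nat_lit 0) [nat_lit 5, nat_lit 5] [nat_lit 11]))
(.ref (nat_lit 1) [nat_lit 14] []))
(.node (.node (.node (.node (.node (.node (.good (nat_lit 5) [nat_lit 14, nat_lit 0, nat_lit 4, nat_lit 10, nat_lit 11, nat_lit 11, nat_lit 18, nat_lit 16, nat_lit 17, nat_lit 8])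
(.ref (nat_lit 0) [nat_lit 9] [])
(.ref (nat_lit 0) [nat_lit 9, nat_lit 9] []))
(.ref (nat_lit 0) [nat_lit 8] [])
(.ref (nat_lit 0) [nat_lit 8, nat_lit 8] []))
(.ref (nat_lit 0) [nat_lit 6] [nat_lit 11, nat_lit 11])
(.ref (nat_lit 0) [nat_lit 6, nat_lit 6] [nat_lit 11]))
(.ref (nat_lit 0) [nat_lit 3, nat_lit 3] [])
(.ref (nat_lit 0) [nat_lit 3] []))
(.ref (nat_lit 0) [nat_lit 5] [])
(.ref (nat_lit 0) [nat_lit 5, nat_lit 5] []))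
(.node (.node (.node (.node (.node .big
(.ref (nat_lit 0) [nat_lit 9] [])
(.ref (nat_lit 0) [nat_lit 9, nat_lit 9] []))
(.ref (nat_lit 0) [nat_lit 8] [])
(.ref (nat_lit 0) [nat_lit 8, nat_lit 8] []))
(.ref (nat_lit 0) [nat_lit 6] [nat_lit 11, nat_lit 11])
(.ref (nat_lit 0) [nat_lit 6, nat_lit 6] [nat_lit 11]))
(.ref (nat_lit 0) [nat_lit 3, nat_lit 3] [])
(.ref (nat_lit 0) [nat_lit 3] []))
(.ref (nat_lit 0) [nat_lit 5] [nat_lit 11, nat_lit 11])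
(.ref (nat_lit 0) [nat_lit 5, nat_lit 5] [nat_lit 11]))
(.node (.node (.node (.node (.node .big
(.ref (nat_lit 0) [nat_lit 9] [])
(.ref (nat_lit 0) [nat_lit 9, nat_lit 9] []))
(.ref (nat_lit 0) [nat_lit 8] [])
(.ref (nat_lit 0) [nat_lit 8, nat_lit 8] []))
(.ref (nat_lit 0) [nat_lit 6] [nat_lit 11, nat_lit 11])
(.ref (nat_lit 0) [nat_lit 6, nat_lit 6] [nat_lit 11]))
(.ref (nat_lit 0) [nat_lit 3, nat_lit 3] [])
(.ref (nat_lit 0) [nat_lit 3] []))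
(.ref (nat_lit 0) [nat_lit 5] [nat_lit 11])
(.ref (nat_lit 0) [nat_lit 5, nat_lit 5] [nat_lit 11, nat_lit 11])))
(.ref (nat_lit 1) [nat_lit 14] []))
(.ref (nat_lit 0) [nat_lit 1] [])
(.ref (nat_lit 0) [nat_lit 1, nat_lit 1] []))
(.node (.node (.node (.node (.node (.node (.node (.node (.good (nat_lit 3) [nat_lit 12, nat_lit 14, nat_lit 0, nat_lit 0, nat_lit 2, nat_lit 2, nat_lit 3, nat_lit 4, nat_lit 6, nat_lit 7, nat_lit 8, nat_lit 8, nat_lit 9, nat_lit 10, nat_lit 11, nat_lit 11, nat_lit 16, nat_lit 17, nat_lit 2, nat_lit 2, nat_lit 5])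
(.good (nat_lit 8) [nat_lit 14, nat_lit 0, nat_lit 2, nat_lit 2, nat_lit 3, nat_lit 3, nat_lit 4, nat_lit 7, nat_lit 7, nat_lit 8, nat_lit 9, nat_lit 10, nat_lit 10, nat_lit 11, nat_lit 11, nat_lit 16, nat_lit 17, nat_lit 2, nat_lit 2])
(.good (nat_lit 10) [nat_lit 14, nat_lit 2, nat_lit 3, nat_lit 6, nat_lit 6, nat_lit 8, nat_lit 8, nat_lit 9, nat_lit 10, nat_lit 11, nat_lit 16, nat_lit 17, nat_lit 2, nat_lit 5]))
(.ref (nat_lit 0) [nat_lit 8] [])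
(.ref (nat_lit 0) [nat_lit 8, nat_lit 8] []))
(.ref (nat_lit 0) [nat_lit 6] [])
(.ref (nat_lit 0) [nat_lit 6, nat_lit 6] []))
(.node (.node (.node (.good (nat_lit 5) [nat_lit 14, nat_lit 0, nat_lit 0, nat_lit 2, nat_lit 2, nat_lit 3, nat_lit 3, nat_lit 7, nat_lit 8, nat_lit 9, nat_lit 9, nat_lit 10, nat_lit 10, nat_lit 11, nat_lit 16, nat_lit 17, nat_lit 2, nat_lit 2, nat_lit 5, nat_lit 5])
(.ref (nat_lit 0) [nat_lit 4, nat_lit 6] [])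
(.ref (nat_lit 0) [nat_lit 4, nat_lit 4, nat_lit 6, nat_lit 6] []))
(.ref (nat_lit 0) [nat_lit 8] [])
(.ref (nat_lit 0) [nat_lit 8, nat_lit 8] []))
(.ref (nat_lit 0) [nat_lit 6] [])
(.ref (nat_lit 0) [nat_lit 6, nat_lit 6] []))
(.ref (nat_lit 1) [nat_lit 14] []))
(.ref (nat_lit 0) [nat_lit 5] [nat_lit 8, nat_lit 8, nat_lit 10, nat_lit 10])
(.ref (nat_lit 0) [nat_lit 5, nat_lit 5] [nat_lit 8, nat_lit 10]))
(.node (.node (.node (.node (.node (.good (nat_lit 5) [nat_lit 14, nat_lit 3, nat_lit 4, nat_lit 6, nat_lit 6, nat_lit 10, nat_lit 10, nat_lit 11, nat_lit 16, nat_lit 17, nat_lit 16, nat_lit 1, nat_lit 1, nat_lit 2, nat_lit 2, nat_lit 5, nat_lit 5])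
(.ref (nat_lit 0) [nat_lit 7, nat_lit 8, nat_lit 8] [])
(.ref (nat_lit 0) [nat_lit 7, nat_lit 7, nat_lit 8] []))
(.ref (nat_lit 0) [nat_lit 8] [])
(.ref (nat_lit 0) [nat_lit 8, nat_lit 8] []))
(.ref (nat_lit 0) [nat_lit 6] [])
(.ref (nat_lit 0) [nat_lit 6, nat_lit 6] []))
(.ref (nat_lit 0) [nat_lit 2, nat_lit 2] [])
(.ref (nat_lit 0) [nat_lit 2] []))
(.ref (nat_lit 0) [nat_lit 5] [nat_lit 8, nat_lit 8, nat_lit 10, nat_lit 10, nat_lit 11, nat_lit 11])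
(.ref (nat_lit 0) [nat_lit 5, nat_lit 5] [nat_lit 8, nat_lit 10, nat_lit 11]))
(.ref (nat_lit 1) [nat_lit 14] []))
(.node (.node (.node (.node (.node (.node .big
(.ref (nat_lit 0) [nat_lit 9] [])
(.ref (nat_lit 0) [nat_lit 9, nat_lit 9] []))
(.ref (nat_lit 0) [nat_lit 8] [])
(.ref (nat_lit 0) [nat_lit 8, nat_lit 8] []))
(.ref (nat_lit 0) [nat_lit 6] [nat_lit 11, nat_lit 11])
(.ref (nat_lit 0) [nat_lit 6, nat_lit 6] [nat_lit 11]))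
(.ref (nat_lit 0) [nat_lit 3, nat_lit 3] [])
(.ref (nat_lit 0) [nat_lit 3] []))
(.ref (nat_lit 0) [nat_lit 5] [nat_lit 8, nat_lit 8, nat_lit 10, nat_lit 10])
(.ref (nat_lit 0) [nat_lit 5, nat_lit 5] [nat_lit 8, nat_lit 10]))
(.node (.node (.node (.node (.node .big
(.ref (nat_lit 0) [nat_lit 9] [])
(.ref (nat_lit 0) [nat_lit 9, nat_lit 9] []))
(.ref (nat_lit 0) [nat_lit 8] [])
(.ref (nat_lit 0) [nat_lit 8, nat_lit 8] []))
(.ref (nat_lit 0) [nat_lit 6] [nat_lit 11, nat_lit 11])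
(.ref (nat_lit 0) [nat_lit 6, nat_lit 6] [nat_lit 11]))
(.ref (nat_lit 0) [nat_lit 3, nat_lit 3] [])
(.ref (nat_lit 0) [nat_lit 3] []))
(.ref (nat_lit 0) [nat_lit 5] [nat_lit 8, nat_lit 8, nat_lit 10, nat_lit 10, nat_lit 11, nat_lit 11])
(.ref (nat_lit 0) [nat_lit 5, nat_lit 5] [nat_lit 8, nat_lit 10, nat_lit 11]))
(.node (.node (.node (.node (.node .big
(.ref (nat_lit 0) [nat_lit 9] [])
(.ref (nat_lit 0) [nat_lit 9, nat_lit 9] []))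
(.ref (nat_lit 0) [nat_lit 8] [])
(.ref (nat_lit 0) [nat_lit 8, nat_lit 8] []))
(.ref (nat_lit 0) [nat_lit 6] [nat_lit 11, nat_lit 11])
(.ref (nat_lit 0) [nat_lit 6, nat_lit 6] [nat_lit 11]))
(.ref (nat_lit 0) [nat_lit 3, nat_lit 3] [])
(.ref (nat_lit 0) [nat_lit 3] []))
(.ref (nat_lit 0) [nat_lit 5] [nat_lit 8, nat_lit 8, nat_lit 10, nat_lit 10, nat_lit 11])
(.ref (nat_lit 0) [nat_lit 5, nat_lit 5] [nat_lit 8, nat_lit 10, nat_lit 11, nat_lit 11])))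
(.ref (nat_lit 1) [nat_lit 14] []))
(.ref (nat_lit 0) [nat_lit 1] [nat_lit 6, nat_lit 9])
(.ref (nat_lit 0) [nat_lit 1, nat_lit 1] [nat_lit 6, nat_lit 6, nat_lit 9, nat_lit 9]))
(.node (.node (.node (.node (.node (.node (.node (.node (.good (nat_lit 6) [nat_lit 13, nat_lit 0, nat_lit 0, nat_lit 2, nat_lit 7, nat_lit 7, nat_lit 8, nat_lit 8, nat_lit 9, nat_lit 9, nat_lit 10, nat_lit 10, nat_lit 11, nat_lit 11, nat_lit 16, nat_lit 15, nat_lit 17, nat_lit 2, nat_lit 2])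
(.good (nat_lit 9) [nat_lit 12, nat_lit 13, nat_lit 0, nat_lit 2, nat_lit 7, nat_lit 7, nat_lit 8, nat_lit 8, nat_lit 9, nat_lit 10, nat_lit 10, nat_lit 11, nat_lit 16, nat_lit 15, nat_lit 17])
(.good (nat_lit 11) [nat_lit 12, nat_lit 13, nat_lit 14, nat_lit 7, nat_lit 7, nat_lit 8, nat_lit 9, nat_lit 10, nat_lit 10, nat_lit 11, nat_lit 16, nat_lit 15, nat_lit 17, nat_lit 7]))
(.ref (nat_lit 0) [nat_lit 8] [])
(.ref (nat_lit 0) [nat_lit 8, nat_lit 8] []))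
(.ref (nat_lit 0) [nat_lit 6] [])
(.ref (nat_lit 0) [nat_lit 6, nat_lit 6] []))
(.node (.node (.node (.good (nat_lit 5) [nat_lit 14, nat_lit 0, nat_lit 0, nat_lit 3, nat_lit 3, nat_lit 7, nat_lit 7, nat_lit 8, nat_lit 9, nat_lit 10, nat_lit 10, nat_lit 11, nat_lit 11, nat_lit 16, nat_lit 17, nat_lit 2])
(.ref (nat_lit 0) [nat_lit 4, nat_lit 6, nat_lit 6] [])
(.ref (nat_lit 0) [nat_lit 4, nat_lit 4, nat_lit 6] []))
(.ref (nat_lit 0) [nat_lit 8] [])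
(.ref (nat_lit 0) [nat_lit 8, nat_lit 8] []))
(.ref (nat_lit 0) [nat_lit 6] [])
(.ref (nat_lit 0) [nat_lit 6, nat_lit 6] []))
(.ref (nat_lit 1) [nat_lit 14] []))
(.ref (nat_lit 0) [nat_lit 5] [nat_lit 8, nat_lit 10])
(.ref (nat_lit 0) [nat_lit 5, nat_lit 5] [nat_lit 8, nat_lit 8, nat_lit 10, nat_lit 10]))
(.node (.node (.node (.node (.node (.good (nat_lit 5) [nat_lit 14, nat_lit 0, nat_lit 3, nat_lit 4, nat_lit 6, nat_lit 6, nat_lit 11, nat_lit 16, nat_lit 17, nat_lit 16, nat_lit 2])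
(.ref (nat_lit 0) [nat_lit 7, nat_lit 8] [])
(.ref (nat_lit 0) [nat_lit 7, nat_lit 7, nat_lit 8, nat_lit 8] []))
(.ref (nat_lit 0) [nat_lit 8] [])
(.ref (nat_lit 0) [nat_lit 8, nat_lit 8] []))
(.ref (nat_lit 0) [nat_lit 6] [])
(.ref (nat_lit 0) [nat_lit 6, nat_lit 6] []))
(.ref (nat_lit 0) [nat_lit 2, nat_lit 2] [])
(.ref (nat_lit 0) [nat_lit 2] []))
(.ref (nat_lit 0) [nat_lit 5] [nat_lit 8, nat_lit 10, nat_lit 11, nat_lit 11])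
(.ref (nat_lit 0) [nat_lit 5, nat_lit 5] [nat_lit 8, nat_lit 8, nat_lit 10, nat_lit 10, nat_lit 11]))
(.ref (nat_lit 1) [nat_lit 14] []))
(.node (.node (.node (.node (.node (.node .big
(.ref (nat_lit 0) [nat_lit 9] [])
(.ref (nat_lit 0) [nat_lit 9, nat_lit 9] []))
(.ref (nat_lit 0) [nat_lit 8] [])
(.ref (nat_lit 0) [nat_lit 8, nat_lit 8] []))
(.ref (nat_lit 0) [nat_lit 6] [nat_lit 11, nat_lit 11])
(.ref (nat_lit 0) [nat_lit 6, nat_lit 6] [nat_lit 11]))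
(.ref (nat_lit 0) [nat_lit 3, nat_lit 3] [])
(.ref (nat_lit 0) [nat_lit 3] []))
(.ref (nat_lit 0) [nat_lit 5] [nat_lit 8, nat_lit 10])
(.ref (nat_lit 0) [nat_lit 5, nat_lit 5] [nat_lit 8, nat_lit 8, nat_lit 10, nat_lit 10]))
(.node (.node (.node (.node (.node .big
(.ref (nat_lit 0) [nat_lit 9] [])
(.ref (nat_lit 0) [nat_lit 9, nat_lit 9] []))
(.ref (nat_lit 0) [nat_lit 8] [])
(.ref (nat_lit 0) [nat_lit 8, nat_lit 8] []))
(.ref (nat_lit 0) [nat_lit 6] [nat_lit 11, nat_lit 11])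
(.ref (nat_lit 0) [nat_lit 6, nat_lit 6] [nat_lit 11]))
(.ref (nat_lit 0) [nat_lit 3, nat_lit 3] [])
(.ref (nat_lit 0) [nat_lit 3] []))
(.ref (nat_lit 0) [nat_lit 5] [nat_lit 8, nat_lit 10, nat_lit 11, nat_lit 11])
(.ref (nat_lit 0) [nat_lit 5, nat_lit 5] [nat_lit 8, nat_lit 8, nat_lit 10, nat_lit 10, nat_lit 11]))
(.node (.node (.node (.node (.node .big
(.ref (nat_lit 0) [nat_lit 9] [])
(.ref (nat_lit 0) [nat_lit 9, nat_lit 9] []))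
(.ref (nat_lit 0) [nat_lit 8] [])
(.ref (nat_lit 0) [nat_lit 8, nat_lit 8] []))
(.ref (nat_lit 0) [nat_lit 6] [nat_lit 11, nat_lit 11])
(.ref (nat_lit 0) [nat_lit 6, nat_lit 6] [nat_lit 11]))
(.ref (nat_lit 0) [nat_lit 3, nat_lit 3] [])
(.ref (nat_lit 0) [nat_lit 3] []))
(.ref (nat_lit 0) [nat_lit 5] [nat_lit 8, nat_lit 10, nat_lit 11])
(.ref (nat_lit 0) [nat_lit 5, nat_lit 5] [nat_lit 8, nat_lit 8, nat_lit 10, nat_lit 10, nat_lit 11, nat_lit 11])))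
(.ref (nat_lit 1) [nat_lit 14] []))
(.ref (nat_lit 0) [nat_lit 1] [nat_lit 6, nat_lit 6, nat_lit 9, nat_lit 9])
(.ref (nat_lit 0) [nat_lit 1, nat_lit 1] [nat_lit 6, nat_lit 9])))
(.node (.node (.node (.node (.node (.node (.node (.node (.node (.good (nat_lit 1) [nat_lit 12, nat_lit 14, nat_lit 0, nat_lit 2, nat_lit 3, nat_lit 3, nat_lit 8, nat_lit 9, nat_lit 9, nat_lit 16, nat_lit 18, nat_lit 3, nat_lit 3, nat_lit 6])
(.good (nat_lit 8) [nat_lit 14, nat_lit 0, nat_lit 2, nat_lit 3, nat_lit 4, nat_lit 4, nat_lit 7, nat_lit 8, nat_lit 8, nat_lit 9, nat_lit 10, nat_lit 10, nat_lit 16, nat_lit 18, nat_lit 3])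
(.good (nat_lit 11) [nat_lit 12, nat_lit 2, nat_lit 4, nat_lit 4, nat_lit 5, nat_lit 5, nat_lit 8, nat_lit 9, nat_lit 9, nat_lit 10, nat_lit 16, nat_lit 15, nat_lit 18]))
(.ref (nat_lit 0) [nat_lit 9] [])
(.ref (nat_lit 0) [nat_lit 9, nat_lit 9] []))
(.node (.node (.good (nat_lit 5) [nat_lit 13, nat_lit 14, nat_lit 2, nat_lit 2, nat_lit 3, nat_lit 9, nat_lit 9, nat_lit 10, nat_lit 11, nat_lit 16, nat_lit 17, nat_lit 18, nat_lit 3, nat_lit 8])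
(.ref (nat_lit 0) [nat_lit 4, nat_lit 4, nat_lit 5, nat_lit 5] [])
(.ref (nat_lit 0) [nat_lit 4, nat_lit 5] []))
(.ref (nat_lit 0) [nat_lit 9] [])
(.ref (nat_lit 0) [nat_lit 9, nat_lit 9] []))
(.ref (nat_lit 1) [nat_lit 14] []))
(.ref (nat_lit 0) [nat_lit 6] [nat_lit 9, nat_lit 9, nat_lit 10, nat_lit 10])
(.ref (nat_lit 0) [nat_lit 6, nat_lit 6] [nat_lit 9, nat_lit 10]))
(.ref (nat_lit 0) [nat_lit 5] [])
(.ref (nat_lit 0) [nat_lit 5, nat_lit 5] []))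
(.node (.node (.node (.node (.node .big
(.ref (nat_lit 0) [nat_lit 7] [])
(.ref (nat_lit 0) [nat_lit 7, nat_lit 7] []))
(.ref (nat_lit 0) [nat_lit 9] [])
(.ref (nat_lit 0) [nat_lit 9, nat_lit 9] []))
(.ref (nat_lit 0) [nat_lit 2, nat_lit 6] [])
(.ref (nat_lit 0) [nat_lit 2, nat_lit 2, nat_lit 6, nat_lit 6, nat_lit 8] [nat_lit 10]))
(.ref (nat_lit 0) [nat_lit 6] [nat_lit 9, nat_lit 9, nat_lit 10, nat_lit 10])
(.ref (nat_lit 0) [nat_lit 6, nat_lit 6] [nat_lit 9, nat_lit 10]))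
(.ref (nat_lit 0) [nat_lit 5] [nat_lit 11, nat_lit 11])
(.ref (nat_lit 0) [nat_lit 5, nat_lit 5] [nat_lit 11]))
(.ref (nat_lit 1) [nat_lit 14] []))
(.node (.node (.node (.node (.node (.node (.good (nat_lit 5) [nat_lit 12, nat_lit 13, nat_lit 0, nat_lit 1, nat_lit 5, nat_lit 7, nat_lit 10, nat_lit 11, nat_lit 16, nat_lit 18, nat_lit 16, nat_lit 17, nat_lit 3, nat_lit 8])
(.ref (nat_lit 0) [nat_lit 8, nat_lit 8, nat_lit 9] [])
(.ref (nat_lit 0) [nat_lit 8, nat_lit 9, nat_lit 9] []))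
(.ref (nat_lit 0) [nat_lit 9] [nat_lit 11, nat_lit 11])
(.ref (nat_lit 0) [nat_lit 9, nat_lit 9] [nat_lit 11]))
(.ref (nat_lit 0) [nat_lit 3, nat_lit 6] [nat_lit 10, nat_lit 10, nat_lit 11, nat_lit 11])
(.ref (nat_lit 0) [nat_lit 3, nat_lit 3, nat_lit 6, nat_lit 6] [nat_lit 10, nat_lit 11]))
(.ref (nat_lit 0) [nat_lit 6] [nat_lit 9, nat_lit 9, nat_lit 10, nat_lit 10, nat_lit 11, nat_lit 11])
(.ref (nat_lit 0) [nat_lit 6, nat_lit 6] [nat_lit 9, nat_lit 10, nat_lit 11]))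
(.ref (nat_lit 0) [nat_lit 5] [])
(.ref (nat_lit 0) [nat_lit 5, nat_lit 5] []))
(.node (.node (.node (.node (.node .big
(.ref (nat_lit 0) [nat_lit 8, nat_lit 8, nat_lit 9] [])
(.ref (nat_lit 0) [nat_lit 8, nat_lit 9, nat_lit 9] []))
(.ref (nat_lit 0) [nat_lit 9] [nat_lit 11, nat_lit 11])
(.ref (nat_lit 0) [nat_lit 9, nat_lit 9] [nat_lit 11]))
(.ref (nat_lit 0) [nat_lit 3, nat_lit 6] [nat_lit 10, nat_lit 10, nat_lit 11, nat_lit 11])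
(.ref (nat_lit 0) [nat_lit 3, nat_lit 3, nat_lit 6, nat_lit 6] [nat_lit 10, nat_lit 11]))
(.ref (nat_lit 0) [nat_lit 6] [nat_lit 9, nat_lit 9, nat_lit 10, nat_lit 10, nat_lit 11, nat_lit 11])
(.ref (nat_lit 0) [nat_lit 6, nat_lit 6] [nat_lit 9, nat_lit 10, nat_lit 11]))
(.ref (nat_lit 0) [nat_lit 5] [nat_lit 11, nat_lit 11])
(.ref (nat_lit 0) [nat_lit 5, nat_lit 5] [nat_lit 11]))
(.node (.node (.node (.node (.node .big
(.ref (nat_lit 0) [nat_lit 8, nat_lit 8, nat_lit 9] [])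
(.ref (nat_lit 0) [nat_lit 8, nat_lit 9, nat_lit 9] []))
(.ref (nat_lit 0) [nat_lit 9] [nat_lit 11, nat_lit 11])
(.ref (nat_lit 0) [nat_lit 9, nat_lit 9] [nat_lit 11]))
(.ref (nat_lit 0) [nat_lit 3, nat_lit 6] [nat_lit 10, nat_lit 10, nat_lit 11, nat_lit 11])
(.ref (nat_lit 0) [nat_lit 3, nat_lit 3, nat_lit 6, nat_lit 6] [nat_lit 10, nat_lit 11]))
(.ref (nat_lit 0) [nat_lit 6] [nat_lit 9, nat_lit 9, nat_lit 10, nat_lit 10, nat_lit 11, nat_lit 11])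
(.ref (nat_lit 0) [nat_lit 6, nat_lit 6] [nat_lit 9, nat_lit 10, nat_lit 11]))
(.ref (nat_lit 0) [nat_lit 5] [nat_lit 11])
(.ref (nat_lit 0) [nat_lit 5, nat_lit 5] [nat_lit 11, nat_lit 11])))
(.ref (nat_lit 1) [nat_lit 14] []))
(.ref (nat_lit 0) [nat_lit 1] [nat_lit 5, nat_lit 7])
(.ref (nat_lit 0) [nat_lit 1, nat_lit 1] [nat_lit 5, nat_lit 5, nat_lit 7, nat_lit 7]))
(.node (.node (.node (.node (.node (.node (.node (.node (.good (nat_lit 8) [nat_lit 13, nat_lit 0, nat_lit 0, nat_lit 2, nat_lit 3, nat_lit 3, nat_lit 7, nat_lit 7, nat_lit 8, nat_lit 8, nat_lit 9, nat_lit 9, nat_lit 11, nat_lit 16, nat_lit 15, nat_lit 17, nat_lit 18, nat_lit 2, nat_lit 2, nat_lit 3])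
(.good (nat_lit 12) [nat_lit 13, nat_lit 14, nat_lit 5, nat_lit 5, nat_lit 6, nat_lit 7, nat_lit 8, nat_lit 16, nat_lit 17, nat_lit 18, nat_lit 2, nat_lit 2, nat_lit 3, nat_lit 8])
(.good (nat_lit 5) [nat_lit 12, nat_lit 13, nat_lit 14, nat_lit 0, nat_lit 0, nat_lit 2, nat_lit 2, nat_lit 3, nat_lit 3, nat_lit 4, nat_lit 5, nat_lit 5, nat_lit 6, nat_lit 7, nat_lit 7, nat_lit 9, nat_lit 9, nat_lit 11, nat_lit 11, nat_lit 16, nat_lit 15, nat_lit 17, nat_lit 18, nat_lit 0, nat_lit 0, nat_lit 2, nat_lit 2, nat_lit 3]))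
(.ref (nat_lit 0) [nat_lit 9] [])
(.ref (nat_lit 0) [nat_lit 9, nat_lit 9] []))
(.ref (nat_lit 0) [nat_lit 4, nat_lit 5, nat_lit 6, nat_lit 6] [nat_lit 10, nat_lit 11, nat_lit 11])
(.ref (nat_lit 0) [nat_lit 4, nat_lit 4, nat_lit 5, nat_lit 5, nat_lit 6] [nat_lit 10, nat_lit 10, nat_lit 11, nat_lit 11]))
(.ref (nat_lit 0) [nat_lit 6] [nat_lit 9, nat_lit 9, nat_lit 10, nat_lit 10])
(.ref (nat_lit 0) [nat_lit 6, nat_lit 6] [nat_lit 9, nat_lit 10]))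
(.ref (nat_lit 0) [nat_lit 5] [nat_lit 8, nat_lit 8, nat_lit 10, nat_lit 10])
(.ref (nat_lit 0) [nat_lit 5, nat_lit 5] [nat_lit 8, nat_lit 10]))
(.node (.node (.node (.node (.node .big
(.ref (nat_lit 0) [nat_lit 7, nat_lit 9, nat_lit 9] [])
(.ref (nat_lit 0) [nat_lit 7, nat_lit 7, nat_lit 9] []))
(.ref (nat_lit 0) [nat_lit 9] [])
(.ref (nat_lit 0) [nat_lit 9, nat_lit 9] []))
(.ref (nat_lit 0) [nat_lit 4, nat_lit 5, nat_lit 6, nat_lit 6] [nat_lit 10, nat_lit 11, nat_lit 11])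
(.ref (nat_lit 0) [nat_lit 4, nat_lit 4, nat_lit 5, nat_lit 5, nat_lit 6] [nat_lit 10, nat_lit 10, nat_lit 11, nat_lit 11]))
(.ref (nat_lit 0) [nat_lit 6] [nat_lit 9, nat_lit 9, nat_lit 10, nat_lit 10])
(.ref (nat_lit 0) [nat_lit 6, nat_lit 6] [nat_lit 9, nat_lit 10]))
(.ref (nat_lit 0) [nat_lit 5] [nat_lit 8, nat_lit 8, nat_lit 10, nat_lit 10, nat_lit 11, nat_lit 11])
(.ref (nat_lit 0) [nat_lit 5, nat_lit 5] [nat_lit 8, nat_lit 10, nat_lit 11]))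
(.ref (nat_lit 1) [nat_lit 14] []))
(.node (.node (.node (.node (.node (.node .big
(.ref (nat_lit 0) [nat_lit 8, nat_lit 8, nat_lit 9] [])
(.ref (nat_lit 0) [nat_lit 8, nat_lit 9, nat_lit 9] []))
(.ref (nat_lit 0) [nat_lit 9] [nat_lit 11, nat_lit 11])
(.ref (nat_lit 0) [nat_lit 9, nat_lit 9] [nat_lit 11]))
(.ref (nat_lit 0) [nat_lit 4, nat_lit 5, nat_lit 6, nat_lit 6] [nat_lit 10, nat_lit 11])
(.ref (nat_lit 0) [nat_lit 4, nat_lit 4, nat_lit 5, nat_lit 5, nat_lit 6] [nat_lit 10, nat_lit 10]))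
(.ref (nat_lit 0) [nat_lit 6] [nat_lit 9, nat_lit 9, nat_lit 10, nat_lit 10, nat_lit 11, nat_lit 11])
(.ref (nat_lit 0) [nat_lit 6, nat_lit 6] [nat_lit 9, nat_lit 10, nat_lit 11]))
(.ref (nat_lit 0) [nat_lit 5] [nat_lit 8, nat_lit 8, nat_lit 10, nat_lit 10])
(.ref (nat_lit 0) [nat_lit 5, nat_lit 5] [nat_lit 8, nat_lit 10]))
(.node (.node (.node (.node (.node .big
(.ref (nat_lit 0) [nat_lit 8, nat_lit 8, nat_lit 9] [])
(.ref (nat_lit 0) [nat_lit 8, nat_lit 9, nat_lit 9] []))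
(.ref (nat_lit 0) [nat_lit 9] [nat_lit 11, nat_lit 11])
(.ref (nat_lit 0) [nat_lit 9, nat_lit 9] [nat_lit 11]))
(.ref (nat_lit 0) [nat_lit 4, nat_lit 5, nat_lit 6, nat_lit 6] [nat_lit 10, nat_lit 11])
(.ref (nat_lit 0) [nat_lit 4, nat_lit 4, nat_lit 5, nat_lit 5, nat_lit 6] [nat_lit 10, nat_lit 10]))
(.ref (nat_lit 0) [nat_lit 6] [nat_lit 9, nat_lit 9, nat_lit 10, nat_lit 10, nat_lit 11, nat_lit 11])
(.ref (nat_lit 0) [nat_lit 6, nat_lit 6] [nat_lit 9, nat_lit 10, nat_lit 11]))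
(.ref (nat_lit 0) [nat_lit 5] [nat_lit 8, nat_lit 8, nat_lit 10, nat_lit 10, nat_lit 11, nat_lit 11])
(.ref (nat_lit 0) [nat_lit 5, nat_lit 5] [nat_lit 8, nat_lit 10, nat_lit 11]))
(.node (.node (.node (.node (.node .big
(.ref (nat_lit 0) [nat_lit 8, nat_lit 8, nat_lit 9] [])
(.ref (nat_lit 0) [nat_lit 8, nat_lit 9, nat_lit 9] []))
(.ref (nat_lit 0) [nat_lit 9] [nat_lit 11, nat_lit 11])
(.ref (nat_lit 0) [nat_lit 9, nat_lit 9] [nat_lit 11]))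
(.ref (nat_lit 0) [nat_lit 4, nat_lit 5, nat_lit 6, nat_lit 6] [nat_lit 10, nat_lit 11])
(.ref (nat_lit 0) [nat_lit 4, nat_lit 4, nat_lit 5, nat_lit 5, nat_lit 6] [nat_lit 10, nat_lit 10]))
(.ref (nat_lit 0) [nat_lit 6] [nat_lit 9, nat_lit 9, nat_lit 10, nat_lit 10, nat_lit 11, nat_lit 11])
(.ref (nat_lit 0) [nat_lit 6, nat_lit 6] [nat_lit 9, nat_lit 10, nat_lit 11]))
(.ref (nat_lit 0) [nat_lit 5] [nat_lit 8, nat_lit 8, nat_lit 10, nat_lit 10, nat_lit 11])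
(.ref (nat_lit 0) [nat_lit 5, nat_lit 5] [nat_lit 8, nat_lit 10, nat_lit 11, nat_lit 11])))
(.ref (nat_lit 1) [nat_lit 14] []))
(.ref (nat_lit 0) [nat_lit 1] [nat_lit 5, nat_lit 6, nat_lit 7, nat_lit 8, nat_lit 9, nat_lit 10, nat_lit 11])
(.ref (nat_lit 0) [nat_lit 1, nat_lit 1] [nat_lit 5, nat_lit 5, nat_lit 6, nat_lit 6, nat_lit 7, nat_lit 7, nat_lit 8, nat_lit 8, nat_lit 9, nat_lit 9, nat_lit 10, nat_lit 10, nat_lit 11]))
(.node (.node (.node (.node (.node (.node (.node (.node (.good (nat_lit 11) [nat_lit 2, nat_lit 3, nat_lit 3, nat_lit 7, nat_lit 8, nat_lit 11, nat_lit 11, nat_lit 16, nat_lit 17, nat_lit 18, nat_lit 2, nat_lit 2, nat_lit 3, nat_lit 3])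
(.good (nat_lit 5) [nat_lit 14, nat_lit 0, nat_lit 2, nat_lit 2, nat_lit 3, nat_lit 3, nat_lit 4, nat_lit 4, nat_lit 5, nat_lit 6, nat_lit 7, nat_lit 10, nat_lit 10, nat_lit 11, nat_lit 16, nat_lit 15, nat_lit 17, nat_lit 18, nat_lit 0, nat_lit 2, nat_lit 3, nat_lit 10, nat_lit 10])
(.good (nat_lit 12) [nat_lit 12, nat_lit 13, nat_lit 0, nat_lit 0, nat_lit 3, nat_lit 3, nat_lit 4, nat_lit 4, nat_lit 6, nat_lit 8, nat_lit 9, nat_lit 10, nat_lit 10, nat_lit 11, nat_lit 11, nat_lit 16, nat_lit 15, nat_lit 18, nat_lit 0, nat_lit 3, nat_lit 9, nat_lit 9]))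
(.ref (nat_lit 0) [nat_lit 9] [])
(.ref (nat_lit 0) [nat_lit 9, nat_lit 9] []))
(.ref (nat_lit 0) [nat_lit 4, nat_lit 4, nat_lit 5, nat_lit 5, nat_lit 6, nat_lit 6] [nat_lit 10, nat_lit 11])
(.ref (nat_lit 0) [nat_lit 4, nat_lit 5, nat_lit 6] [nat_lit 10, nat_lit 10, nat_lit 11]))
(.ref (nat_lit 0) [nat_lit 6] [nat_lit 9, nat_lit 9, nat_lit 10, nat_lit 10])
(.ref (nat_lit 0) [nat_lit 6, nat_lit 6] [nat_lit 9, nat_lit 10]))
(.ref (nat_lit 0) [nat_lit 5] [nat_lit 8, nat_lit 10])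
(.ref (nat_lit 0) [nat_lit 5, nat_lit 5] [nat_lit 8, nat_lit 8, nat_lit 10, nat_lit 10]))
(.node (.node (.node (.node (.node .big
(.ref (nat_lit 0) [nat_lit 7, nat_lit 9] [])
(.ref (nat_lit 0) [nat_lit 7, nat_lit 7, nat_lit 9, nat_lit 9] []))
(.ref (nat_lit 0) [nat_lit 9] [])
(.ref (nat_lit 0) [nat_lit 9, nat_lit 9] []))
(.ref (nat_lit 0) [nat_lit 4, nat_lit 4, nat_lit 5, nat_lit 5, nat_lit 6, nat_lit 6] [nat_lit 10, nat_lit 11])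
(.ref (nat_lit 0) [nat_lit 4, nat_lit 5, nat_lit 6] [nat_lit 10, nat_lit 10, nat_lit 11]))
(.ref (nat_lit 0) [nat_lit 6] [nat_lit 9, nat_lit 9, nat_lit 10, nat_lit 10])
(.ref (nat_lit 0) [nat_lit 6, nat_lit 6] [nat_lit 9, nat_lit 10]))
(.ref (nat_lit 0) [nat_lit 5] [nat_lit 8, nat_lit 10, nat_lit 11, nat_lit 11])
(.ref (nat_lit 0) [nat_lit 5, nat_lit 5] [nat_lit 8, nat_lit 8, nat_lit 10, nat_lit 10, nat_lit 11]))
(.ref (nat_lit 1) [nat_lit 14] []))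
(.node (.node (.node (.node (.node (.node .big
(.ref (nat_lit 0) [nat_lit 8, nat_lit 8, nat_lit 9] [])
(.ref (nat_lit 0) [nat_lit 8, nat_lit 9, nat_lit 9] []))
(.ref (nat_lit 0) [nat_lit 9] [nat_lit 11, nat_lit 11])
(.ref (nat_lit 0) [nat_lit 9, nat_lit 9] [nat_lit 11]))
(.ref (nat_lit 0) [nat_lit 4, nat_lit 4, nat_lit 5, nat_lit 5, nat_lit 6, nat_lit 6] [nat_lit 10])
(.ref (nat_lit 0) [nat_lit 4, nat_lit 5, nat_lit 6] [nat_lit 10, nat_lit 10, nat_lit 11, nat_lit 11]))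
(.ref (nat_lit 0) [nat_lit 6] [nat_lit 9, nat_lit 9, nat_lit 10, nat_lit 10, nat_lit 11, nat_lit 11])
(.ref (nat_lit 0) [nat_lit 6, nat_lit 6] [nat_lit 9, nat_lit 10, nat_lit 11]))
(.ref (nat_lit 0) [nat_lit 5] [nat_lit 8, nat_lit 10])
(.ref (nat_lit 0) [nat_lit 5, nat_lit 5] [nat_lit 8, nat_lit 8, nat_lit 10, nat_lit 10]))
(.node (.node (.node (.node (.node .big
(.ref (nat_lit 0) [nat_lit 8, nat_lit 8, nat_lit 9] [])
(.ref (nat_lit 0) [nat_lit 8, nat_lit 9, nat_lit 9] []))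
(.ref (nat_lit 0) [nat_lit 9] [nat_lit 11, nat_lit 11])
(.ref (nat_lit 0) [nat_lit 9, nat_lit 9] [nat_lit 11]))
(.ref (nat_lit 0) [nat_lit 4, nat_lit 4, nat_lit 5, nat_lit 5, nat_lit 6, nat_lit 6] [nat_lit 10])
(.ref (nat_lit 0) [nat_lit 4, nat_lit 5, nat_lit 6] [nat_lit 10, nat_lit 10, nat_lit 11, nat_lit 11]))
(.ref (nat_lit 0) [nat_lit 6] [nat_lit 9, nat_lit 9, nat_lit 10, nat_lit 10, nat_lit 11, nat_lit 11])
(.ref (nat_lit 0) [nat_lit 6, nat_lit 6] [nat_lit 9, nat_lit 10, nat_lit 11]))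
(.ref (nat_lit 0) [nat_lit 5] [nat_lit 8, nat_lit 10, nat_lit 11, nat_lit 11])
(.ref (nat_lit 0) [nat_lit 5, nat_lit 5] [nat_lit 8, nat_lit 8, nat_lit 10, nat_lit 10, nat_lit 11]))
(.node (.node (.node (.node (.node .big
(.ref (nat_lit 0) [nat_lit 8, nat_lit 8, nat_lit 9] [])
(.ref (nat_lit 0) [nat_lit 8, nat_lit 9, nat_lit 9] []))
(.ref (nat_lit 0) [nat_lit 9] [nat_lit 11, nat_lit 11])
(.ref (nat_lit 0) [nat_lit 9, nat_lit 9] [nat_lit 11]))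
(.ref (nat_lit 0) [nat_lit 4, nat_lit 4, nat_lit 5, nat_lit 5, nat_lit 6, nat_lit 6] [nat_lit 10])
(.ref (nat_lit 0) [nat_lit 4, nat_lit 5, nat_lit 6] [nat_lit 10, nat_lit 10, nat_lit 11, nat_lit 11]))
(.ref (nat_lit 0) [nat_lit 6] [nat_lit 9, nat_lit 9, nat_lit 10, nat_lit 10, nat_lit 11, nat_lit 11])
(.ref (nat_lit 0) [nat_lit 6, nat_lit 6] [nat_lit 9, nat_lit 10, nat_lit 11]))
(.ref (nat_lit 0) [nat_lit 5] [nat_lit 8, nat_lit 10, nat_lit 11])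
(.ref (nat_lit 0) [nat_lit 5, nat_lit 5] [nat_lit 8, nat_lit 8, nat_lit 10, nat_lit 10, nat_lit 11, nat_lit 11])))
(.ref (nat_lit 1) [nat_lit 14] []))
(.ref (nat_lit 0) [nat_lit 1] [nat_lit 5, nat_lit 6, nat_lit 6, nat_lit 7, nat_lit 8, nat_lit 8, nat_lit 9, nat_lit 9, nat_lit 10, nat_lit 10, nat_lit 11, nat_lit 11])
(.ref (nat_lit 0) [nat_lit 1, nat_lit 1] [nat_lit 5, nat_lit 5, nat_lit 6, nat_lit 7, nat_lit 7, nat_lit 8, nat_lit 9, nat_lit 10, nat_lit 11, nat_lit 11])))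
(.node (.node (.node (.node (.node (.node (.node (.node (.node (.good (nat_lit 4) [nat_lit 13, nat_lit 0, nat_lit 0, nat_lit 2, nat_lit 2, nat_lit 3, nat_lit 7, nat_lit 8, nat_lit 9, nat_lit 10, nat_lit 11, nat_lit 16, nat_lit 15, nat_lit 18, nat_lit 3, nat_lit 3, nat_lit 9, nat_lit 9])
(.good (nat_lit 9) [nat_lit 12, nat_lit 13, nat_lit 14, nat_lit 0, nat_lit 2, nat_lit 2, nat_lit 3, nat_lit 4, nat_lit 5, nat_lit 5, nat_lit 7, nat_lit 8, nat_lit 11, nat_lit 16, nat_lit 15, nat_lit 18, nat_lit 9])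
(.good (nat_lit 10) [nat_lit 13, nat_lit 0, nat_lit 2, nat_lit 5, nat_lit 5, nat_lit 7, nat_lit 7, nat_lit 8, nat_lit 9, nat_lit 11, nat_lit 11, nat_lit 16, nat_lit 18, nat_lit 3]))
(.ref (nat_lit 0) [nat_lit 9, nat_lit 9] [])
(.ref (nat_lit 0) [nat_lit 9] []))
(.node (.node (.good (nat_lit 5) [nat_lit 14, nat_lit 2, nat_lit 7, nat_lit 8, nat_lit 8, nat_lit 10, nat_lit 16, nat_lit 17, nat_lit 18, nat_lit 3, nat_lit 3, nat_lit 8, nat_lit 8])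
(.ref (nat_lit 0) [nat_lit 4, nat_lit 5, nat_lit 5] [])
(.ref (nat_lit 0) [nat_lit 4, nat_lit 4, nat_lit 5] []))
(.ref (nat_lit 0) [nat_lit 9, nat_lit 9] [])
(.ref (nat_lit 0) [nat_lit 9] []))
(.ref (nat_lit 1) [nat_lit 14] []))
(.ref (nat_lit 0) [nat_lit 6, nat_lit 6] [nat_lit 9, nat_lit 10, nat_lit 10])
(.ref (nat_lit 0) [nat_lit 6] [nat_lit 9, nat_lit 9, nat_lit 10]))
(.ref (nat_lit 0) [nat_lit 5] [])
(.ref (nat_lit 0) [nat_lit 5, nat_lit 5] []))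
(.node (.node (.node (.node (.node .big
(.ref (nat_lit 0) [nat_lit 7] [])
(.ref (nat_lit 0) [nat_lit 7, nat_lit 7] []))
(.ref (nat_lit 0) [nat_lit 9, nat_lit 9] [])
(.ref (nat_lit 0) [nat_lit 9] []))
(.ref (nat_lit 0) [nat_lit 2, nat_lit 2, nat_lit 6, nat_lit 8, nat_lit 8] [nat_lit 10])
(.ref (nat_lit 0) [nat_lit 2, nat_lit 6, nat_lit 6] [nat_lit 10]))
(.ref (nat_lit 0) [nat_lit 6, nat_lit 6] [nat_lit 9, nat_lit 10, nat_lit 10])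
(.ref (nat_lit 0) [nat_lit 6] [nat_lit 9, nat_lit 9, nat_lit 10]))
(.ref (nat_lit 0) [nat_lit 5] [nat_lit 11, nat_lit 11])
(.ref (nat_lit 0) [nat_lit 5, nat_lit 5] [nat_lit 11]))
(.ref (nat_lit 1) [nat_lit 14] []))
(.node (.node (.node (.node (.node (.node (.good (nat_lit 5) [nat_lit 12, nat_lit 0, nat_lit 1, nat_lit 1, nat_lit 2, nat_lit 5, nat_lit 5, nat_lit 7, nat_lit 16, nat_lit 18, nat_lit 16, nat_lit 17, nat_lit 3, nat_lit 3, nat_lit 8])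
(.ref (nat_lit 0) [nat_lit 8, nat_lit 9] [])
(.ref (nat_lit 0) [nat_lit 8, nat_lit 8, nat_lit 9, nat_lit 9] []))
(.ref (nat_lit 0) [nat_lit 9, nat_lit 9] [nat_lit 11])
(.ref (nat_lit 0) [nat_lit 9] [nat_lit 11, nat_lit 11]))
(.ref (nat_lit 0) [nat_lit 3, nat_lit 3, nat_lit 6] [nat_lit 10, nat_lit 11, nat_lit 11])
(.ref (nat_lit 0) [nat_lit 3, nat_lit 6, nat_lit 6] [nat_lit 10, nat_lit 10, nat_lit 11]))
(.ref (nat_lit 0) [nat_lit 6, nat_lit 6] [nat_lit 9, nat_lit 10, nat_lit 10, nat_lit 11])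
(.ref (nat_lit 0) [nat_lit 6] [nat_lit 9, nat_lit 9, nat_lit 10, nat_lit 11, nat_lit 11]))
(.ref (nat_lit 0) [nat_lit 5] [])
(.ref (nat_lit 0) [nat_lit 5, nat_lit 5] []))
(.node (.node (.node (.node (.node .big
(.ref (nat_lit 0) [nat_lit 8, nat_lit 9] [])
(.ref (nat_lit 0) [nat_lit 8, nat_lit 8, nat_lit 9, nat_lit 9] []))
(.ref (nat_lit 0) [nat_lit 9, nat_lit 9] [nat_lit 11])
(.ref (nat_lit 0) [nat_lit 9] [nat_lit 11, nat_lit 11]))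
(.ref (nat_lit 0) [nat_lit 3, nat_lit 3, nat_lit 6] [nat_lit 10, nat_lit 11, nat_lit 11])
(.ref (nat_lit 0) [nat_lit 3, nat_lit 6, nat_lit 6] [nat_lit 10, nat_lit 10, nat_lit 11]))
(.ref (nat_lit 0) [nat_lit 6, nat_lit 6] [nat_lit 9, nat_lit 10, nat_lit 10, nat_lit 11])
(.ref (nat_lit 0) [nat_lit 6] [nat_lit 9, nat_lit 9, nat_lit 10, nat_lit 11, nat_lit 11]))
(.ref (nat_lit 0) [nat_lit 5] [nat_lit 11, nat_lit 11])
(.ref (nat_lit 0) [nat_lit 5, nat_lit 5] [nat_lit 11]))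
(.node (.node (.node (.node (.node .big
(.ref (nat_lit 0) [nat_lit 8, nat_lit 9] [])
(.ref (nat_lit 0) [nat_lit 8, nat_lit 8, nat_lit 9, nat_lit 9] []))
(.ref (nat_lit 0) [nat_lit 9, nat_lit 9] [nat_lit 11])
(.ref (nat_lit 0) [nat_lit 9] [nat_lit 11, nat_lit 11]))
(.ref (nat_lit 0) [nat_lit 3, nat_lit 3, nat_lit 6] [nat_lit 10, nat_lit 11, nat_lit 11])
(.ref (nat_lit 0) [nat_lit 3, nat_lit 6, nat_lit 6] [nat_lit 10, nat_lit 10, nat_lit 11]))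
(.ref (nat_lit 0) [nat_lit 6, nat_lit 6] [nat_lit 9, nat_lit 10, nat_lit 10, nat_lit 11])
(.ref (nat_lit 0) [nat_lit 6] [nat_lit 9, nat_lit 9, nat_lit 10, nat_lit 11, nat_lit 11]))
(.ref (nat_lit 0) [nat_lit 5] [nat_lit 11])
(.ref (nat_lit 0) [nat_lit 5, nat_lit 5] [nat_lit 11, nat_lit 11])))
(.ref (nat_lit 1) [nat_lit 14] []))
(.ref (nat_lit 0) [nat_lit 1] [nat_lit 5, nat_lit 5, nat_lit 7, nat_lit 7])
(.ref (nat_lit 0) [nat_lit 1, nat_lit 1] [nat_lit 5, nat_lit 7]))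
(.node (.node (.node (.node (.node (.node (.node (.node (.good (nat_lit 10) [nat_lit 13, nat_lit 2, nat_lit 7, nat_lit 9, nat_lit 10, nat_lit 11, nat_lit 16, nat_lit 15, nat_lit 17, nat_lit 18, nat_lit 2, nat_lit 2, nat_lit 3, nat_lit 3, nat_lit 10])
(.good (nat_lit 5) [nat_lit 13, nat_lit 14, nat_lit 2, nat_lit 2, nat_lit 4, nat_lit 4, nat_lit 5, nat_lit 5, nat_lit 6, nat_lit 6, nat_lit 7, nat_lit 8, nat_lit 9, nat_lit 10, nat_lit 10, nat_lit 11, nat_lit 11, nat_lit 16, nat_lit 15, nat_lit 17, nat_lit 18, nat_lit 0, nat_lit 2, nat_lit 2, nat_lit 3, nat_lit 3])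
(.good (nat_lit 12) [nat_lit 12, nat_lit 13, nat_lit 14, nat_lit 4, nat_lit 4, nat_lit 5, nat_lit 7, nat_lit 7, nat_lit 9, nat_lit 10, nat_lit 10, nat_lit 16, nat_lit 15, nat_lit 17, nat_lit 0, nat_lit 2, nat_lit 7]))
(.ref (nat_lit 0) [nat_lit 9, nat_lit 9] [])
(.ref (nat_lit 0) [nat_lit 9] []))
(.ref (nat_lit 0) [nat_lit 4, nat_lit 5, nat_lit 5, nat_lit 6, nat_lit 6] [nat_lit 10, nat_lit 10, nat_lit 11])
(.ref (nat_lit 0) [nat_lit 4, nat_lit 4, nat_lit 5, nat_lit 6] [nat_lit 10, nat_lit 11]))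
(.ref (nat_lit 0) [nat_lit 6, nat_lit 6] [nat_lit 9, nat_lit 10, nat_lit 10])
(.ref (nat_lit 0) [nat_lit 6] [nat_lit 9, nat_lit 9, nat_lit 10]))
(.ref (nat_lit 0) [nat_lit 5] [nat_lit 8, nat_lit 8, nat_lit 10, nat_lit 10])
(.ref (nat_lit 0) [nat_lit 5, nat_lit 5] [nat_lit 8, nat_lit 10]))
(.node (.node (.node (.node (.node .big
(.ref (nat_lit 0) [nat_lit 7, nat_lit 9] [])
(.ref (nat_lit 0) [nat_lit 7, nat_lit 7, nat_lit 9, nat_lit 9] []))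
(.ref (nat_lit 0) [nat_lit 9, nat_lit 9] [])
(.ref (nat_lit 0) [nat_lit 9] []))
(.ref (nat_lit 0) [nat_lit 4, nat_lit 5, nat_lit 5, nat_lit 6, nat_lit 6] [nat_lit 10, nat_lit 10, nat_lit 11])
(.ref (nat_lit 0) [nat_lit 4, nat_lit 4, nat_lit 5, nat_lit 6] [nat_lit 10, nat_lit 11]))
(.ref (nat_lit 0) [nat_lit 6, nat_lit 6] [nat_lit 9, nat_lit 10, nat_lit 10])
(.ref (nat_lit 0) [nat_lit 6] [nat_lit 9, nat_lit 9, nat_lit 10]))
(.ref (nat_lit 0) [nat_lit 5] [nat_lit 8, nat_lit 8, nat_lit 10, nat_lit 10, nat_lit 11, nat_lit 11])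
(.ref (nat_lit 0) [nat_lit 5, nat_lit 5] [nat_lit 8, nat_lit 10, nat_lit 11]))
(.ref (nat_lit 1) [nat_lit 14] []))
(.node (.node (.node (.node (.node (.node .big
(.ref (nat_lit 0) [nat_lit 8, nat_lit 9] [])
(.ref (nat_lit 0) [nat_lit 8, nat_lit 8, nat_lit 9, nat_lit 9] []))
(.ref (nat_lit 0) [nat_lit 9, nat_lit 9] [nat_lit 11])
(.ref (nat_lit 0) [nat_lit 9] [nat_lit 11, nat_lit 11]))
(.ref (nat_lit 0) [nat_lit 4, nat_lit 5, nat_lit 5, nat_lit 6, nat_lit 6] [nat_lit 10, nat_lit 10])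
(.ref (nat_lit 0) [nat_lit 4, nat_lit 4, nat_lit 5, nat_lit 6] [nat_lit 10, nat_lit 11, nat_lit 11]))
(.ref (nat_lit 0) [nat_lit 6, nat_lit 6] [nat_lit 9, nat_lit 10, nat_lit 10, nat_lit 11])
(.ref (nat_lit 0) [nat_lit 6] [nat_lit 9, nat_lit 9, nat_lit 10, nat_lit 11, nat_lit 11]))
(.ref (nat_lit 0) [nat_lit 5] [nat_lit 8, nat_lit 8, nat_lit 10, nat_lit 10])
(.ref (nat_lit 0) [nat_lit 5, nat_lit 5] [nat_lit 8, nat_lit 10]))
(.node (.node (.node (.node (.node .big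
(.ref (nat_lit 0) [nat_lit 8, nat_lit 9] [])
(.ref (nat_lit 0) [nat_lit 8, nat_lit 8, nat_lit 9, nat_lit 9] []))
(.ref (nat_lit 0) [nat_lit 9, nat_lit 9] [nat_lit 11])
(.ref (nat_lit 0) [nat_lit 9] [nat_lit 11, nat_lit 11]))
(.ref (nat_lit 0) [nat_lit 4, nat_lit 5, nat_lit 5, nat_lit 6, nat_lit 6] [nat_lit 10, nat_lit 10])
(.ref (nat_lit 0) [nat_lit 4, nat_lit 4, nat_lit 5, nat_lit 6] [nat_lit 10, nat_lit 11, nat_lit 11]))
(.ref (nat_lit 0) [nat_lit 6, nat_lit 6] [nat_lit 9, nat_lit 10, nat_lit 10, nat_lit 11])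
(.ref (nat_lit 0) [nat_lit 6] [nat_lit 9, nat_lit 9, nat_lit 10, nat_lit 11, nat_lit 11]))
(.ref (nat_lit 0) [nat_lit 5] [nat_lit 8, nat_lit 8, nat_lit 10, nat_lit 10, nat_lit 11, nat_lit 11])
(.ref (nat_lit 0) [nat_lit 5, nat_lit 5] [nat_lit 8, nat_lit 10, nat_lit 11]))
(.node (.node (.node (.node (.node .big
(.ref (nat_lit 0) [nat_lit 8, nat_lit 9] [])
(.ref (nat_lit 0) [nat_lit 8, nat_lit 8, nat_lit 9, nat_lit 9] []))
(.ref (nat_lit 0) [nat_lit 9, nat_lit 9] [nat_lit 11])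
(.ref (nat_lit 0) [nat_lit 9] [nat_lit 11, nat_lit 11]))
(.ref (nat_lit 0) [nat_lit 4, nat_lit 5, nat_lit 5, nat_lit 6, nat_lit 6] [nat_lit 10, nat_lit 10])
(.ref (nat_lit 0) [nat_lit 4, nat_lit 4, nat_lit 5, nat_lit 6] [nat_lit 10, nat_lit 11, nat_lit 11]))
(.ref (nat_lit 0) [nat_lit 6, nat_lit 6] [nat_lit 9, nat_lit 10, nat_lit 10, nat_lit 11])
(.ref (nat_lit 0) [nat_lit 6] [nat_lit 9, nat_lit 9, nat_lit 10, nat_lit 11, nat_lit 11]))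
(.ref (nat_lit 0) [nat_lit 5] [nat_lit 8, nat_lit 8, nat_lit 10, nat_lit 10, nat_lit 11])
(.ref (nat_lit 0) [nat_lit 5, nat_lit 5] [nat_lit 8, nat_lit 10, nat_lit 11, nat_lit 11])))
(.ref (nat_lit 1) [nat_lit 14] []))
(.ref (nat_lit 0) [nat_lit 1] [nat_lit 5, nat_lit 5, nat_lit 6, nat_lit 7, nat_lit 7, nat_lit 8, nat_lit 8, nat_lit 9, nat_lit 10, nat_lit 10, nat_lit 11, nat_lit 11])
(.ref (nat_lit 0) [nat_lit 1, nat_lit 1] [nat_lit 5, nat_lit 6, nat_lit 6, nat_lit 7, nat_lit 8, nat_lit 9, nat_lit 9, nat_lit 10, nat_lit 11, nat_lit 11]))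
(.node (.node (.node (.node (.node (.node (.node (.node (.good (nat_lit 9) [nat_lit 0, nat_lit 3, nat_lit 7, nat_lit 8, nat_lit 8, nat_lit 9, nat_lit 10, nat_lit 10, nat_lit 11, nat_lit 16, nat_lit 17, nat_lit 18, nat_lit 8, nat_lit 8])
(.good (nat_lit 12) [nat_lit 12, nat_lit 13, nat_lit 3, nat_lit 7, nat_lit 7, nat_lit 8, nat_lit 8, nat_lit 10, nat_lit 10, nat_lit 11, nat_lit 11, nat_lit 16])
(.good (nat_lit 5) [nat_lit 3, nat_lit 3, nat_lit 4, nat_lit 5, nat_lit 6, nat_lit 6, nat_lit 7, nat_lit 10, nat_lit 11, nat_lit 16, nat_lit 15, nat_lit 17, nat_lit 18, nat_lit 0, nat_lit 0, nat_lit 2, nat_lit 3, nat_lit 3]))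
(.ref (nat_lit 0) [nat_lit 9, nat_lit 9] [])
(.ref (nat_lit 0) [nat_lit 9] []))
(.ref (nat_lit 0) [nat_lit 4, nat_lit 4, nat_lit 5, nat_lit 6, nat_lit 6] [nat_lit 10, nat_lit 10, nat_lit 11, nat_lit 11])
(.ref (nat_lit 0) [nat_lit 4, nat_lit 5, nat_lit 5, nat_lit 6] [nat_lit 10, nat_lit 11, nat_lit 11]))
(.ref (nat_lit 0) [nat_lit 6, nat_lit 6] [nat_lit 9, nat_lit 10, nat_lit 10])
(.ref (nat_lit 0) [nat_lit 6] [nat_lit 9, nat_lit 9, nat_lit 10]))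
(.ref (nat_lit 0) [nat_lit 5] [nat_lit 8, nat_lit 10])
(.ref (nat_lit 0) [nat_lit 5, nat_lit 5] [nat_lit 8, nat_lit 8, nat_lit 10, nat_lit 10]))
(.node (.node (.node (.node (.node .big
(.ref (nat_lit 0) [nat_lit 7, nat_lit 9, nat_lit 9] [])
(.ref (nat_lit 0) [nat_lit 7, nat_lit 7, nat_lit 9] []))
(.ref (nat_lit 0) [nat_lit 9, nat_lit 9] [])
(.ref (nat_lit 0) [nat_lit 9] []))
(.ref (nat_lit 0) [nat_lit 4, nat_lit 4, nat_lit 5, nat_lit 6, nat_lit 6] [nat_lit 10, nat_lit 10, nat_lit 11, nat_lit 11])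
(.ref (nat_lit 0) [nat_lit 4, nat_lit 5, nat_lit 5, nat_lit 6] [nat_lit 10, nat_lit 11, nat_lit 11]))
(.ref (nat_lit 0) [nat_lit 6, nat_lit 6] [nat_lit 9, nat_lit 10, nat_lit 10])
(.ref (nat_lit 0) [nat_lit 6] [nat_lit 9, nat_lit 9, nat_lit 10]))
(.ref (nat_lit 0) [nat_lit 5] [nat_lit 8, nat_lit 10, nat_lit 11, nat_lit 11])
(.ref (nat_lit 0) [nat_lit 5, nat_lit 5] [nat_lit 8, nat_lit 8, nat_lit 10, nat_lit 10, nat_lit 11]))
(.ref (nat_lit 1) [nat_lit 14] []))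
(.node (.node (.node (.node (.node (.node .big
(.ref (nat_lit 0) [nat_lit 8, nat_lit 9] [])
(.ref (nat_lit 0) [nat_lit 8, nat_lit 8, nat_lit 9, nat_lit 9] []))
(.ref (nat_lit 0) [nat_lit 9, nat_lit 9] [nat_lit 11])
(.ref (nat_lit 0) [nat_lit 9] [nat_lit 11, nat_lit 11]))
(.ref (nat_lit 0) [nat_lit 4, nat_lit 4, nat_lit 5, nat_lit 6, nat_lit 6] [nat_lit 10, nat_lit 10, nat_lit 11])
(.ref (nat_lit 0) [nat_lit 4, nat_lit 5, nat_lit 5, nat_lit 6] [nat_lit 10]))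
(.ref (nat_lit 0) [nat_lit 6, nat_lit 6] [nat_lit 9, nat_lit 10, nat_lit 10, nat_lit 11])
(.ref (nat_lit 0) [nat_lit 6] [nat_lit 9, nat_lit 9, nat_lit 10, nat_lit 11, nat_lit 11]))
(.ref (nat_lit 0) [nat_lit 5] [nat_lit 8, nat_lit 10])
(.ref (nat_lit 0) [nat_lit 5, nat_lit 5] [nat_lit 8, nat_lit 8, nat_lit 10, nat_lit 10]))
(.node (.node (.node (.node (.node .big
(.ref (nat_lit 0) [nat_lit 8, nat_lit 9] [])
(.ref (nat_lit 0) [nat_lit 8, nat_lit 8, nat_lit 9, nat_lit 9] []))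
(.ref (nat_lit 0) [nat_lit 9, nat_lit 9] [nat_lit 11])
(.ref (nat_lit 0) [nat_lit 9] [nat_lit 11, nat_lit 11]))
(.ref (nat_lit 0) [nat_lit 4, nat_lit 4, nat_lit 5, nat_lit 6, nat_lit 6] [nat_lit 10, nat_lit 10, nat_lit 11])
(.ref (nat_lit 0) [nat_lit 4, nat_lit 5, nat_lit 5, nat_lit 6] [nat_lit 10]))
(.ref (nat_lit 0) [nat_lit 6, nat_lit 6] [nat_lit 9, nat_lit 10, nat_lit 10, nat_lit 11])
(.ref (nat_lit 0) [nat_lit 6] [nat_lit 9, nat_lit 9, nat_lit 10, nat_lit 11, nat_lit 11]))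
(.ref (nat_lit 0) [nat_lit 5] [nat_lit 8, nat_lit 10, nat_lit 11, nat_lit 11])
(.ref (nat_lit 0) [nat_lit 5, nat_lit 5] [nat_lit 8, nat_lit 8, nat_lit 10, nat_lit 10, nat_lit 11]))
(.node (.node (.node (.node (.node .big
(.ref (nat_lit 0) [nat_lit 8, nat_lit 9] [])
(.ref (nat_lit 0) [nat_lit 8, nat_lit 8, nat_lit 9, nat_lit 9] []))
(.ref (nat_lit 0) [nat_lit 9, nat_lit 9] [nat_lit 11])
(.ref (nat_lit 0) [nat_lit 9] [nat_lit 11, nat_lit 11]))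
(.ref (nat_lit 0) [nat_lit 4, nat_lit 4, nat_lit 5, nat_lit 6, nat_lit 6] [nat_lit 10, nat_lit 10, nat_lit 11])
(.ref (nat_lit 0) [nat_lit 4, nat_lit 5, nat_lit 5, nat_lit 6] [nat_lit 10]))
(.ref (nat_lit 0) [nat_lit 6, nat_lit 6] [nat_lit 9, nat_lit 10, nat_lit 10, nat_lit 11])
(.ref (nat_lit 0) [nat_lit 6] [nat_lit 9, nat_lit 9, nat_lit 10, nat_lit 11, nat_lit 11]))
(.ref (nat_lit 0) [nat_lit 5] [nat_lit 8, nat_lit 10, nat_lit 11])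
(.ref (nat_lit 0) [nat_lit 5, nat_lit 5] [nat_lit 8, nat_lit 8, nat_lit 10, nat_lit 10, nat_lit 11, nat_lit 11])))
(.ref (nat_lit 1) [nat_lit 14] []))
(.ref (nat_lit 0) [nat_lit 1] [nat_lit 5, nat_lit 5, nat_lit 6, nat_lit 6, nat_lit 7, nat_lit 7, nat_lit 8, nat_lit 9, nat_lit 9, nat_lit 10, nat_lit 11])
(.ref (nat_lit 0) [nat_lit 1, nat_lit 1] [nat_lit 5, nat_lit 6, nat_lit 7, nat_lit 8, nat_lit 8, nat_lit 9, nat_lit 10, nat_lit 10, nat_lit 11]))))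

theorem k5 : t5.ok T B R 12 15 1 [nat_lit 0] 0 = true := by decide +kernel

noncomputable def t6 : Tr :=
(.node (.node (.node (.node (.node (.node (.node (.node (.node (.node (.good (nat_lit 5) [nat_lit 12, nat_lit 14, nat_lit 0, nat_lit 0, nat_lit 1, nat_lit 4, nat_lit 4, nat_lit 7, nat_lit 11, nat_lit 17, nat_lit 18, nat_lit 16, nat_lit 17, nat_lit 8, nat_lit 8])
(.ref (nat_lit 0) [nat_lit 10] [])
(.ref (nat_lit 0) [nat_lit 10, nat_lit 10] []))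
(.ref (nat_lit 0) [nat_lit 8] [nat_lit 11, nat_lit 11])
(.ref (nat_lit 0) [nat_lit 8, nat_lit 8] [nat_lit 11]))
(.ref (nat_lit 0) [nat_lit 6] [])
(.ref (nat_lit 0) [nat_lit 6, nat_lit 6] []))
(.node (.node (.node .big
(.ref (nat_lit 0) [nat_lit 10] [])
(.ref (nat_lit 0) [nat_lit 10, nat_lit 10] []))
(.ref (nat_lit 0) [nat_lit 8] [nat_lit 11, nat_lit 11])
(.ref (nat_lit 0) [nat_lit 8, nat_lit 8] [nat_lit 11]))
(.ref (nat_lit 0) [nat_lit 6] [])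
(.ref (nat_lit 0) [nat_lit 6, nat_lit 6] []))
(.node (.node (.node .big
(.ref (nat_lit 0) [nat_lit 10] [])
(.ref (nat_lit 0) [nat_lit 10, nat_lit 10] []))
(.ref (nat_lit 0) [nat_lit 8] [nat_lit 11, nat_lit 11])
(.ref (nat_lit 0) [nat_lit 8, nat_lit 8] [nat_lit 11]))
(.ref (nat_lit 0) [nat_lit 6] [])
(.ref (nat_lit 0) [nat_lit 6, nat_lit 6] [])))
(.ref (nat_lit 0) [nat_lit 5] [])
(.ref (nat_lit 0) [nat_lit 5, nat_lit 5] []))
(.ref (nat_lit 0) [nat_lit 3] [])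
(.ref (nat_lit 0) [nat_lit 3, nat_lit 3] []))
(.ref (nat_lit 0) [nat_lit 2] [])
(.ref (nat_lit 0) [nat_lit 2, nat_lit 2] []))
(.ref (nat_lit 0) [nat_lit 1] [])
(.ref (nat_lit 0) [nat_lit 1, nat_lit 1] []))
(.node (.node (.node (.node (.node (.node (.node (.node .big
(.ref (nat_lit 0) [nat_lit 10] [])
(.ref (nat_lit 0) [nat_lit 10, nat_lit 10] []))
(.ref (nat_lit 0) [nat_lit 8] [nat_lit 11, nat_lit 11])
(.ref (nat_lit 0) [nat_lit 8, nat_lit 8] [nat_lit 11]))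
(.ref (nat_lit 0) [nat_lit 6] [])
(.ref (nat_lit 0) [nat_lit 6, nat_lit 6] []))
(.node (.node (.node .big
(.ref (nat_lit 0) [nat_lit 10] [])
(.ref (nat_lit 0) [nat_lit 10, nat_lit 10] []))
(.ref (nat_lit 0) [nat_lit 8] [nat_lit 11, nat_lit 11])
(.ref (nat_lit 0) [nat_lit 8, nat_lit 8] [nat_lit 11]))
(.ref (nat_lit 0) [nat_lit 6] [])
(.ref (nat_lit 0) [nat_lit 6, nat_lit 6] []))
(.node (.node (.node .big
(.ref (nat_lit 0) [nat_lit 10] [])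
(.ref (nat_lit 0) [nat_lit 10, nat_lit 10] []))
(.ref (nat_lit 0) [nat_lit 8] [nat_lit 11, nat_lit 11])
(.ref (nat_lit 0) [nat_lit 8, nat_lit 8] [nat_lit 11]))
(.ref (nat_lit 0) [nat_lit 6] [])
(.ref (nat_lit 0) [nat_lit 6, nat_lit 6] [])))
(.ref (nat_lit 0) [nat_lit 5] [nat_lit 8, nat_lit 8, nat_lit 10, nat_lit 10])
(.ref (nat_lit 0) [nat_lit 5, nat_lit 5] [nat_lit 8, nat_lit 10]))
(.ref (nat_lit 0) [nat_lit 3] [])
(.ref (nat_lit 0) [nat_lit 3, nat_lit 3] []))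
(.ref (nat_lit 0) [nat_lit 2] [nat_lit 8, nat_lit 8])
(.ref (nat_lit 0) [nat_lit 2, nat_lit 2] [nat_lit 8]))
(.ref (nat_lit 0) [nat_lit 1] [nat_lit 6, nat_lit 9])
(.ref (nat_lit 0) [nat_lit 1, nat_lit 1] [nat_lit 6, nat_lit 6, nat_lit 9, nat_lit 9]))
(.node (.node (.node (.node (.node (.node (.node (.node .big
(.ref (nat_lit 0) [nat_lit 10] [])
(.ref (nat_lit 0) [nat_lit 10, nat_lit 10] []))
(.ref (nat_lit 0) [nat_lit 8] [nat_lit 11, nat_lit 11])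
(.ref (nat_lit 0) [nat_lit 8, nat_lit 8] [nat_lit 11]))
(.ref (nat_lit 0) [nat_lit 6] [])
(.ref (nat_lit 0) [nat_lit 6, nat_lit 6] []))
(.node (.node (.node .big
(.ref (nat_lit 0) [nat_lit 10] [])
(.ref (nat_lit 0) [nat_lit 10, nat_lit 10] []))
(.ref (nat_lit 0) [nat_lit 8] [nat_lit 11, nat_lit 11])
(.ref (nat_lit 0) [nat_lit 8, nat_lit 8] [nat_lit 11]))
(.ref (nat_lit 0) [nat_lit 6] [])
(.ref (nat_lit 0) [nat_lit 6, nat_lit 6] []))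
(.node (.node (.node .big
(.ref (nat_lit 0) [nat_lit 10] [])
(.ref (nat_lit 0) [nat_lit 10, nat_lit 10] []))
(.ref (nat_lit 0) [nat_lit 8] [nat_lit 11, nat_lit 11])
(.ref (nat_lit 0) [nat_lit 8, nat_lit 8] [nat_lit 11]))
(.ref (nat_lit 0) [nat_lit 6] [])
(.ref (nat_lit 0) [nat_lit 6, nat_lit 6] [])))
(.ref (nat_lit 0) [nat_lit 5] [nat_lit 8, nat_lit 10])
(.ref (nat_lit 0) [nat_lit 5, nat_lit 5] [nat_lit 8, nat_lit 8, nat_lit 10, nat_lit 10]))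
(.ref (nat_lit 0) [nat_lit 3] [])
(.ref (nat_lit 0) [nat_lit 3, nat_lit 3] []))
(.ref (nat_lit 0) [nat_lit 2] [nat_lit 8])
(.ref (nat_lit 0) [nat_lit 2, nat_lit 2] [nat_lit 8, nat_lit 8]))
(.ref (nat_lit 0) [nat_lit 1] [nat_lit 6, nat_lit 6, nat_lit 9, nat_lit 9])
(.ref (nat_lit 0) [nat_lit 1, nat_lit 1] [nat_lit 6, nat_lit 9])))
(.node (.node (.node (.node (.node (.node (.node (.node (.node .big
(.ref (nat_lit 0) [nat_lit 10] [])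
(.ref (nat_lit 0) [nat_lit 10, nat_lit 10] []))
(.ref (nat_lit 0) [nat_lit 9] [])
(.ref (nat_lit 0) [nat_lit 9, nat_lit 9] []))
(.node (.node .big
(.ref (nat_lit 0) [nat_lit 10] [])
(.ref (nat_lit 0) [nat_lit 10, nat_lit 10] []))
(.ref (nat_lit 0) [nat_lit 9] [])
(.ref (nat_lit 0) [nat_lit 9, nat_lit 9] []))
(.node (.node .big
(.ref (nat_lit 0) [nat_lit 10] [])
(.ref (nat_lit 0) [nat_lit 10, nat_lit 10] []))
(.ref (nat_lit 0) [nat_lit 9] [])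
(.ref (nat_lit 0) [nat_lit 9, nat_lit 9] [])))
(.ref (nat_lit 0) [nat_lit 6] [nat_lit 9, nat_lit 9, nat_lit 10, nat_lit 10])
(.ref (nat_lit 0) [nat_lit 6, nat_lit 6] [nat_lit 9, nat_lit 10]))
(.ref (nat_lit 0) [nat_lit 5] [])
(.ref (nat_lit 0) [nat_lit 5, nat_lit 5] []))
(.ref (nat_lit 0) [nat_lit 3] [nat_lit 8, nat_lit 8])
(.ref (nat_lit 0) [nat_lit 3, nat_lit 3] [nat_lit 8]))
(.ref (nat_lit 0) [nat_lit 2] [])
(.ref (nat_lit 0) [nat_lit 2, nat_lit 2] []))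
(.ref (nat_lit 0) [nat_lit 1] [nat_lit 5, nat_lit 7])
(.ref (nat_lit 0) [nat_lit 1, nat_lit 1] [nat_lit 5, nat_lit 5, nat_lit 7, nat_lit 7]))
(.node (.node (.node (.node (.node (.node (.node (.node .big
(.ref (nat_lit 0) [nat_lit 10] [])
(.ref (nat_lit 0) [nat_lit 10, nat_lit 10] []))
(.ref (nat_lit 0) [nat_lit 9] [])
(.ref (nat_lit 0) [nat_lit 9, nat_lit 9] []))
(.ref (nat_lit 0) [nat_lit 4, nat_lit 5, nat_lit 6, nat_lit 6] [nat_lit 10, nat_lit 11, nat_lit 11])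
(.ref (nat_lit 0) [nat_lit 4, nat_lit 4, nat_lit 5, nat_lit 5, nat_lit 6] [nat_lit 10, nat_lit 10, nat_lit 11, nat_lit 11]))
(.ref (nat_lit 0) [nat_lit 6] [nat_lit 9, nat_lit 9, nat_lit 10, nat_lit 10])
(.ref (nat_lit 0) [nat_lit 6, nat_lit 6] [nat_lit 9, nat_lit 10]))
(.ref (nat_lit 0) [nat_lit 5] [nat_lit 8, nat_lit 8, nat_lit 10, nat_lit 10])
(.ref (nat_lit 0) [nat_lit 5, nat_lit 5] [nat_lit 8, nat_lit 10]))
(.ref (nat_lit 0) [nat_lit 3] [nat_lit 8, nat_lit 8])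
(.ref (nat_lit 0) [nat_lit 3, nat_lit 3] [nat_lit 8]))
(.ref (nat_lit 0) [nat_lit 2] [nat_lit 8, nat_lit 8])
(.ref (nat_lit 0) [nat_lit 2, nat_lit 2] [nat_lit 8]))
(.ref (nat_lit 0) [nat_lit 1] [nat_lit 5, nat_lit 6, nat_lit 7, nat_lit 8, nat_lit 9, nat_lit 10, nat_lit 11])
(.ref (nat_lit 0) [nat_lit 1, nat_lit 1] [nat_lit 5, nat_lit 5, nat_lit 6, nat_lit 6, nat_lit 7, nat_lit 7, nat_lit 8, nat_lit 8, nat_lit 9, nat_lit 9, nat_lit 10, nat_lit 10, nat_lit 11]))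
(.node (.node (.node (.node (.node (.node (.node (.node .big
(.ref (nat_lit 0) [nat_lit 10] [])
(.ref (nat_lit 0) [nat_lit 10, nat_lit 10] []))
(.ref (nat_lit 0) [nat_lit 9] [])
(.ref (nat_lit 0) [nat_lit 9, nat_lit 9] []))
(.ref (nat_lit 0) [nat_lit 4, nat_lit 4, nat_lit 5, nat_lit 5, nat_lit 6, nat_lit 6] [nat_lit 10, nat_lit 11])
(.ref (nat_lit 0) [nat_lit 4, nat_lit 5, nat_lit 6] [nat_lit 10, nat_lit 10, nat_lit 11]))
(.ref (nat_lit 0) [nat_lit 6] [nat_lit 9, nat_lit 9, nat_lit 10, nat_lit 10])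
(.ref (nat_lit 0) [nat_lit 6, nat_lit 6] [nat_lit 9, nat_lit 10]))
(.ref (nat_lit 0) [nat_lit 5] [nat_lit 8, nat_lit 10])
(.ref (nat_lit 0) [nat_lit 5, nat_lit 5] [nat_lit 8, nat_lit 8, nat_lit 10, nat_lit 10]))
(.ref (nat_lit 0) [nat_lit 3] [nat_lit 8, nat_lit 8])
(.ref (nat_lit 0) [nat_lit 3, nat_lit 3] [nat_lit 8]))
(.ref (nat_lit 0) [nat_lit 2] [nat_lit 8])
(.ref (nat_lit 0) [nat_lit 2, nat_lit 2] [nat_lit 8, nat_lit 8]))
(.ref (nat_lit 0) [nat_lit 1] [nat_lit 5, nat_lit 6, nat_lit 6, nat_lit 7, nat_lit 8, nat_lit 8, nat_lit 9, nat_lit 9, nat_lit 10, nat_lit 10, nat_lit 11, nat_lit 11])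
(.ref (nat_lit 0) [nat_lit 1, nat_lit 1] [nat_lit 5, nat_lit 5, nat_lit 6, nat_lit 7, nat_lit 7, nat_lit 8, nat_lit 9, nat_lit 10, nat_lit 11, nat_lit 11])))
(.node (.node (.node (.node (.node (.node (.node (.node (.node .big
(.ref (nat_lit 0) [nat_lit 10] [])
(.ref (nat_lit 0) [nat_lit 10, nat_lit 10] []))
(.ref (nat_lit 0) [nat_lit 9, nat_lit 9] [])
(.ref (nat_lit 0) [nat_lit 9] []))
(.node (.node .big
(.ref (nat_lit 0) [nat_lit 10] [])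
(.ref (nat_lit 0) [nat_lit 10, nat_lit 10] []))
(.ref (nat_lit 0) [nat_lit 9, nat_lit 9] [])
(.ref (nat_lit 0) [nat_lit 9] []))
(.node (.node .big
(.ref (nat_lit 0) [nat_lit 10] [])
(.ref (nat_lit 0) [nat_lit 10, nat_lit 10] []))
(.ref (nat_lit 0) [nat_lit 9, nat_lit 9] [])
(.ref (nat_lit 0) [nat_lit 9] [])))
(.ref (nat_lit 0) [nat_lit 6, nat_lit 6] [nat_lit 9, nat_lit 10, nat_lit 10])
(.ref (nat_lit 0) [nat_lit 6] [nat_lit 9, nat_lit 9, nat_lit 10]))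
(.ref (nat_lit 0) [nat_lit 5] [])
(.ref (nat_lit 0) [nat_lit 5, nat_lit 5] []))
(.ref (nat_lit 0) [nat_lit 3] [nat_lit 8])
(.ref (nat_lit 0) [nat_lit 3, nat_lit 3] [nat_lit 8, nat_lit 8]))
(.ref (nat_lit 0) [nat_lit 2] [])
(.ref (nat_lit 0) [nat_lit 2, nat_lit 2] []))
(.ref (nat_lit 0) [nat_lit 1] [nat_lit 5, nat_lit 5, nat_lit 7, nat_lit 7])
(.ref (nat_lit 0) [nat_lit 1, nat_lit 1] [nat_lit 5, nat_lit 7]))
(.node (.node (.node (.node (.node (.node (.node (.node .big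
(.ref (nat_lit 0) [nat_lit 10] [])
(.ref (nat_lit 0) [nat_lit 10, nat_lit 10] []))
(.ref (nat_lit 0) [nat_lit 9, nat_lit 9] [])
(.ref (nat_lit 0) [nat_lit 9] []))
(.ref (nat_lit 0) [nat_lit 4, nat_lit 5, nat_lit 5, nat_lit 6, nat_lit 6] [nat_lit 10, nat_lit 10, nat_lit 11])
(.ref (nat_lit 0) [nat_lit 4, nat_lit 4, nat_lit 5, nat_lit 6] [nat_lit 10, nat_lit 11]))
(.ref (nat_lit 0) [nat_lit 6, nat_lit 6] [nat_lit 9, nat_lit 10, nat_lit 10])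
(.ref (nat_lit 0) [nat_lit 6] [nat_lit 9, nat_lit 9, nat_lit 10]))
(.ref (nat_lit 0) [nat_lit 5] [nat_lit 8, nat_lit 8, nat_lit 10, nat_lit 10])
(.ref (nat_lit 0) [nat_lit 5, nat_lit 5] [nat_lit 8, nat_lit 10]))
(.ref (nat_lit 0) [nat_lit 3] [nat_lit 8])
(.ref (nat_lit 0) [nat_lit 3, nat_lit 3] [nat_lit 8, nat_lit 8]))
(.ref (nat_lit 0) [nat_lit 2] [nat_lit 8, nat_lit 8])
(.ref (nat_lit 0) [nat_lit 2, nat_lit 2] [nat_lit 8]))
(.ref (nat_lit 0) [nat_lit 1] [nat_lit 5, nat_lit 5, nat_lit 6, nat_lit 7, nat_lit 7, nat_lit 8, nat_lit 8, nat_lit 9, nat_lit 10, nat_lit 10, nat_lit 11, nat_lit 11])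
(.ref (nat_lit 0) [nat_lit 1, nat_lit 1] [nat_lit 5, nat_lit 6, nat_lit 6, nat_lit 7, nat_lit 8, nat_lit 9, nat_lit 9, nat_lit 10, nat_lit 11, nat_lit 11]))
(.node (.node (.node (.node (.node (.node (.node (.node .big
(.ref (nat_lit 0) [nat_lit 10] [])
(.ref (nat_lit 0) [nat_lit 10, nat_lit 10] []))
(.ref (nat_lit 0) [nat_lit 9, nat_lit 9] [])
(.ref (nat_lit 0) [nat_lit 9] []))
(.ref (nat_lit 0) [nat_lit 4, nat_lit 4, nat_lit 5, nat_lit 6, nat_lit 6] [nat_lit 10, nat_lit 10, nat_lit 11, nat_lit 11])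
(.ref (nat_lit 0) [nat_lit 4, nat_lit 5, nat_lit 5, nat_lit 6] [nat_lit 10, nat_lit 11, nat_lit 11]))
(.ref (nat_lit 0) [nat_lit 6, nat_lit 6] [nat_lit 9, nat_lit 10, nat_lit 10])
(.ref (nat_lit 0) [nat_lit 6] [nat_lit 9, nat_lit 9, nat_lit 10]))
(.ref (nat_lit 0) [nat_lit 5] [nat_lit 8, nat_lit 10])
(.ref (nat_lit 0) [nat_lit 5, nat_lit 5] [nat_lit 8, nat_lit 8, nat_lit 10, nat_lit 10]))
(.ref (nat_lit 0) [nat_lit 3] [nat_lit 8])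
(.ref (nat_lit 0) [nat_lit 3, nat_lit 3] [nat_lit 8, nat_lit 8]))
(.ref (nat_lit 0) [nat_lit 2] [nat_lit 8])
(.ref (nat_lit 0) [nat_lit 2, nat_lit 2] [nat_lit 8, nat_lit 8]))
(.ref (nat_lit 0) [nat_lit 1] [nat_lit 5, nat_lit 5, nat_lit 6, nat_lit 6, nat_lit 7, nat_lit 7, nat_lit 8, nat_lit 9, nat_lit 9, nat_lit 10, nat_lit 11])
(.ref (nat_lit 0) [nat_lit 1, nat_lit 1] [nat_lit 5, nat_lit 6, nat_lit 7, nat_lit 8, nat_lit 8, nat_lit 9, nat_lit 10, nat_lit 10, nat_lit 11]))))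

theorem k6 : t6.ok T B R 12 15 1 [nat_lit 0] 1 = true := by decide +kernel

noncomputable def t7 : Tr :=
(.ref (nat_lit 1) [nat_lit 14] [])

theorem k7 : t7.ok T B R 12 15 1 [nat_lit 0] 2 = true := by decide +kernel

noncomputable def t4 : Tr := .node t5 t6 t7
theorem k4 : t4.ok T B R 12 15 0 [] 1 = true :=
  Tr.ok_node (k1 := 1) (w1 := [nat_lit 0]) (by decide +kernel) k5 k6 k7

noncomputable def t8 : Tr :=
(.ref (nat_lit 1) [nat_lit 13] [])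

theorem k8 : t8.ok T B R 12 15 0 [] 2 = true := by decide +kernel

theorem good (y : Om) : PcT.Good x R y :=
  cover hpc hAM hinj htb.2 (by norm_num) k0 k4 k8 loU (by rw [cardOm']; norm_num) y

end Cfsg.Agent.H25.O8
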