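import Mathlib
import Cfsg.Agent.H25.Util
import Cfsg.Agent.H25.X2
import Cfsg.Agent.H15.ON

set_option maxRecDepth 100000
set_option linter.all false

namespace Cfsg.Agent.H25.ON
open Cfsg.Agent.H25

abbrev G0 := H15.ON.G
noncomputable abbrev g : ℕ → G0 := H15.ON.E
noncomputable abbrev A0 := H15.ON.A0
theorem hcard : Nat.card G0 = 460815505920 := H15.ON.card
noncomputable def eq (u v : List ℕ) : Bool := H15.eqOn H15.ONa.ap 8 H15.ON.bs u v
theorem heq : ∀ u v, eq u v = true → ev g u = ev g v := base_chk2 H15.ON.base0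
noncomputable def ne (u v : List ℕ) : Bool := anyL (fun b => H15.neAt H15.ONa.ap 8 122760 b u v) H15.ON.bs
theorem hne : ∀ u v, ne u v = true → ev g u ≠ ev g v := fun _ _ h => by
  obtain ⟨b, -, e⟩ := anyL_sound h
  exact tab_ne2 (A := A0) e
noncomputable def P : List (List ℕ) := relL H15.ON.D.B ++ [[6, 7]]
theorem relP : Rel g P 0 (2 ^ 8 - 1) := (pres_rel2 H15.ON.good [[6, 7]] (by decide +kernel) :)
theorem htop : Lc (2 ^ 8 - 1) g = ⊤ := (pres_top H15.ON.good :)
theorem hP : ∀ w ∈ P, ev g w = 1 := fun w hw => heq w [] (allL_sound (p := fun w => eq w []) (by decide +kernel) w hw)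
theorem hg : ∀ a, 8 ≤ a → g a = 1 := fun _ h => H15.ON.good.E_ge h
theorem hna : ∃ a b : G0, a * b ≠ b * a := ⟨g 0, g 1, by simpa using hne [0, 1] [1, 0] (by decide +kernel)⟩

end Cfsg.Agent.H25.ON
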