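import Mathlib
import Cfsg.Agent.H25.Util
import Cfsg.Agent.H25.ONOA

set_option maxRecDepth 100000
set_option linter.all false

namespace Cfsg.Agent.H25.ON
open Cfsg.Agent.H25

theorem tb_0 : tabE H15.ONa.ap 122760 T df (fun i => i) (nat_lit 0) (nat_lit 2800) = true := by decide +kernel
theorem tb_1 : tabE H15.ONa.ap 122760 T df (fun i => i) (nat_lit 2800) (nat_lit 5587) = true := by decide +kernel
theorem sc_0 : scan H15.ONa.ap u F (nat_lit 0) (nat_lit 41000) = true := by decide +kernel
theorem sc_1 : scan H15.ONa.ap u F (nat_lit 41000) (nat_lit 82000) = true := by decide +kernel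
theorem sc_2 : scan H15.ONa.ap u F (nat_lit 82000) (nat_lit 122760) = true := by decide +kernel
end Cfsg.Agent.H25.ON
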