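import Mathlib
import Cfsg.Agent.H25.Util
import Cfsg.Agent.H25.ONOA

set_option maxRecDepth 100000
set_option linter.all false

namespace Cfsg.Agent.H25.ON
open Cfsg.Agent.H25

theorem r1_0 : allRange (St.row s1 T R1 (bt T R1 lf1 ss1) [0] []) (nat_lit 0) (nat_lit 2000) = true := by decide +kernel
theorem r1_1 : allRange (St.row s1 T R1 (bt T R1 lf1 ss1) [0] []) (nat_lit 2000) (nat_lit 4000) = true := by decide +kernel
theorem r1_2 : allRange (St.row s1 T R1 (bt T R1 lf1 ss1) [0] []) (nat_lit 4000) (nat_lit 5586) = true := by decide +kernel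
theorem r2_0 : allRange (St.row s2 T (R2 0) (bt T (R2 0) (lf2 0) ss2) [0] []) 0 5586 = true := by decide +kernel
theorem r2_1 : allRange (St.row s2 T (R2 1) (bt T (R2 1) (lf2 1) ss2) [0] []) 0 5586 = true := by decide +kernel
theorem r2_2 : allRange (St.row s2 T (R2 2) (bt T (R2 2) (lf2 2) ss2) [0] []) 0 5586 = true := by decide +kernel
theorem r2_3 : allRange (St.row s2 T (R2 3) (bt T (R2 3) (lf2 3) ss2) [0] []) 0 5586 = true := by decide +kernel
theorem r2_4 : allRange (St.row s2 T (R2 4) (bt T (R2 4) (lf2 4) ss2) [0] []) 0 5586 = true := by decide +kernel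
theorem r2_5 : allRange (St.row s2 T (R2 5) (bt T (R2 5) (lf2 5) ss2) [0] []) 0 5586 = true := by decide +kernel
theorem r2_6 : allRange (St.row s2 T (R2 6) (bt T (R2 6) (lf2 6) ss2) [0] []) 0 5586 = true := by decide +kernel
theorem r2_7 : allRange (St.row s2 T (R2 7) (bt T (R2 7) (lf2 7) ss2) [0] []) 0 5586 = true := by decide +kernel
theorem r2_8 : allRange (St.row s2 T (R2 8) (bt T (R2 8) (lf2 8) ss2) [0] []) 0 5586 = true := by decide +kernel
end Cfsg.Agent.H25.ON
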