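import Mathlib
import Cfsg.Agent.H25.Util
import Cfsg.Agent.H25.ONOR0
import Cfsg.Agent.H25.ONOR1

set_option maxRecDepth 100000
set_option linter.all false

namespace Cfsg.Agent.H25.ON
open Cfsg.Agent.H25

noncomputable def g' : ℕ → G0 := locv df g
noncomputable def pt (i : ℕ) := A0.c i
theorem htb : ∀ i < T.N, TabP A0.ap A0.n T df (fun i => i) i := (rng_all (rng_join (tabE_sound tb_0) (tabE_sound tb_1)))
theorem hAM : AM T g' pt := AM_of_tabE (A := A0) (by decide +kernel) htb
theorem hinj : ∀ i < T.N, ∀ j < T.N, pt i = pt j → i = j := inj_of_tabE htb fun _ _ _ _ h => h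
theorem hpd : Pd T g' := pd_of_words heq (by decide +kernel)
theorem hB0 : ∀ b ∈ [0], b < T.N := by decide +kernel
theorem hst : fixB G0 pt [0] = H15.gp g H15.ON.hs := by
  rw [H15.ON.stab0.1]; ext y; exact ⟨fun h => h 0 (by simp), fun h b hb => by
    obtain rfl : b = 0 := by simpa using hb
    exact h⟩
theorem full1 : Full T 16383 G0 pt c1 [0] :=
  full_fix hAM hinj hB0 (by decide +kernel) (by rw [hst, H15.ON.card_hs]; decide +kernel)
theorem full2 : Full T 16383 G0 pt c2 [0] :=
  full_fix hAM hinj hB0 (by decide +kernel) (by rw [hst, H15.ON.card_hs]; decide +kernel)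
theorem hB1 : IsBase G0 T.N pt B1 := by
  have := Full.base c1 hB0 full1
  rwa [show (c1.map OL.b).reverse ++ [0] = B1 by decide +kernel] at this
theorem tl1 : TLF T g' pt [0] R1 lf1 :=
  bt_fix (s := s1) (ss := ss1) hAM hinj hpd hB0 full1 rfl (by decide +kernel) (rng_all (rng_join (rng_join (allRange_sound r1_0) (allRange_sound r1_1)) (allRange_sound r1_2)))
theorem tl2 : ∀ j < 9, TLF T g' pt [0] (R2 j) (lf2 j) := fun j hj =>
  bt_fix (s := s2) (ss := ss2) hAM hinj hpd hB0 full2 rfl
    (allLin_sound (p := fun j => band (smR T (R2 j)) (planOK T (R2 j) (s2 :: ss2) [0])) (lo := 0) (n := 9)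
      (by decide +kernel) j (Nat.zero_le _) (by omega)) (by
    interval_cases j
    · exact rng_all (allRange_sound r2_0)
    · exact rng_all (allRange_sound r2_1)
    · exact rng_all (allRange_sound r2_2)
    · exact rng_all (allRange_sound r2_3)
    · exact rng_all (allRange_sound r2_4)
    · exact rng_all (allRange_sound r2_5)
    · exact rng_all (allRange_sound r2_6)
    · exact rng_all (allRange_sound r2_7)
    · exact rng_all (allRange_sound r2_8))
theorem evx : ev g' [12] = ev g x := by
  rw [g', ← ev_expand]; exact heq _ _ (by decide +kernel)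
theorem evu : ev g' [10, 0, 2] = ev g u := by
  rw [g', ← ev_expand]; exact heq _ _ (by decide +kernel)
theorem ox : orderOf (ev g x) = 19 :=
  haveI : Fact (Nat.Prime 19) := ⟨by norm_num⟩
  orderOf_eq_prime (by rw [← ev_pw]; exact heq _ [] (by decide +kernel)) (hne _ [] (by decide +kernel))
theorem xH : ev g x ∈ H15.gp g H15.ON.hs := by
  rw [← hst, ← evx, ← inv_mem_iff]
  intro b hb
  obtain rfl : b = 0 := by simpa using hb
  rw [(hAM.tr (w := [12]) (by decide +kernel) 0 (by decide +kernel)).2]
  exact congrArg pt (by decide +kernel)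
theorem cenx (c : G0) (h : c⁻¹ * ev g x * c = ev g x) : c ∈ Subgroup.zpowers (ev g x) := by
  have h0 : c • A0.c 0 = A0.c 0 := nofix (A := A0) (p := 19) H15.ON.stab0.1 H15.ON.pok.full H15.ON.segs0
    (by decide +kernel) (by rw [H15.ON.card_hs]; norm_num) xH ox (by
      have := (H15.ON.stab0.1.le xH : ev g x • A0.c 0 = A0.c 0)
      conv_rhs => rw [← this, ← h]
      rw [smul_smul, smul_smul]; congr 1; group)
  obtain ⟨w, w1, w2, w3⟩ := tlf_cen hAM hinj hB1.1 tl1 (by decide +kernel) (c := c)
    (fun b hb => by obtain rfl : b = 0 := by simpa using hb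
                    exact h0) (by rw [evx, h])
  rw [w2, ← evx]; exact mem_of_inPw hAM hB1 (by decide +kernel) w1 w3
theorem cenu (c : G0) (h : c⁻¹ * ev g u * c = ev g u) : ∃ v, c = ev g v ∧
    allL (fun k => fin3 eq ne t t' u x dead k v) [1, 2, 4] = true := by
  obtain ⟨j, hj, e⟩ := cen_split (A := A0) (W := WT) H15.ON.pok.full (rng_all (rng_join (rng_join (scan_sound sc_0) (scan_sound sc_1)) (scan_sound sc_2))) (by decide +kernel) h
  have hj' : j < 9 := hj
  have h1 := allLin_sound (p := fun j => band (band (T.small [10, 0, 2]) (T.small (gd [] UT j)))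
    (eq (app (gd [] WT j) u) (app (expand df (gd [] UT j)) (gd [] WT j)))) (lo := 0) (n := 9)
    (by decide +kernel) j (Nat.zero_le _) (by omega)
  have h2 := heq _ _ (band_r h1)
  rw [app_eq, app_eq, ev_append, ev_append, ev_expand] at h2
  obtain ⟨w, -, w2, w3⟩ := tlf_cen hAM hinj (B := B2) (by decide +kernel) (tl2 j hj') (band_l h1)
    (c := c * (ev g (gd [] WT j))⁻¹) (fun b hb => by obtain rfl : b = 0 := by simpa using hb
                                                     exact e) (by
      rw [evu, g', eq_mul_inv_of_mul_eq h2.symm]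
      conv_rhs => rw [← h]
      group)
  rw [L2, forceL_eq] at w3
  exact ⟨_, by rw [app_eq, ev_append, ev_expand]; exact eq_mul_of_mul_inv_eq w2, w3⟩
theorem hgen : Gen g [t, u, x] := gen_of_words heq htop WG fun l hl =>
  allLin_sound (p := fun l => eq [l] (expand [t, u, x] (gd [] WG l))) (lo := 0) (n := 8)
    (by decide +kernel) l (Nat.zero_le _) (by omega)
theorem hux : (ev g u)⁻¹ * ev g x * ev g u = ev g x ^ 8 := by
  have := heq (app x u) (app u (pw x 8)) (by decide +kernel)
  rw [app_eq, app_eq, ev_append, ev_append, ev_pw] at this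
  rw [mul_assoc, this, inv_mul_cancel_left]
theorem hnx : (ev g u)⁻¹ * ev g x * ev g u ≠ ev g x := fun e =>
  hne (app x u) (app u x) (by decide +kernel) (by
    rw [app_eq, app_eq, ev_append, ev_append]
    conv_rhs => rw [← e]
    group)
theorem htu : (ev g t)⁻¹ * ev g u * ev g t = ev g u := by
  have := heq (app u t) (app t u) (by decide +kernel)
  rw [app_eq, app_eq, ev_append, ev_append] at this
  rw [mul_assoc, this, inv_mul_cancel_left]
theorem out : Nat.card (Out G0) = 2 := by
  haveI := H15.ON.simple
  obtain ⟨φ, hφ⟩ := aut_of_words relP htop hg hP (W := WS) (by decide)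
    (fun w hw => heq _ [] (allL_sound (p := fun w => eq (expand WS w) []) (by decide +kernel) w hw))
    (hne _ [] (by decide +kernel))
  have h1 : φ (ev g t) = ev g t' := (hφ t).trans (heq _ _ (by decide +kernel))
  have h2 : φ (ev g u) = ev g u := (hφ u).trans (heq _ _ (by decide +kernel))
  have h3 : φ (ev g x) = ev g x := (hφ x).trans (heq _ _ (by decide +kernel))
  have h4 : ∀ j, φ (locv [t, u, x] g j) = locv [t', u, x] g j := fun j => by
    rcases j with _ | _ | _ | j
    exacts [h1, h2, h3, by rw [locv_ge _ (by simp), locv_ge _ (by simp), map_one]]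
  refine card_out_two (good_of_two (reps := [1, 2, 4]) (m := 6) (by norm_num) ox
    (by rw [hcard]; norm_num) cenx hux hnx (by decide +kernel) fun k hk β e1 e2 => ?_)
    (not_inner2 (by norm_num) ox cenx hnx h3 h2 (by rw [h1]; exact hne t' t (by decide +kernel)))
  obtain ⟨v, e, hv⟩ := cenu (β (ev g t)) (by rw [← e2, ← map_inv, ← map_mul, ← map_mul, htu])
  exact fin_step heq hne hgen h4 (by decide +kernel) e1 e2 e (allL_sound hv k hk)

end Cfsg.Agent.H25.ON
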