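import Mathlib
import Cfsg.Agent.H25.Util
import Cfsg.Agent.H25.ONB
import Cfsg.Agent.H28.PC

set_option maxRecDepth 100000
set_option linter.all false

namespace Cfsg.Agent.H25.ON
open Cfsg.Agent.H25

open Cfsg.Agent.H28

noncomputable def onp3_ru : RuT :=
(.node (nat_lit 51)
(.node (nat_lit 31)
(.node (nat_lit 20)
(.node (nat_lit 1)
(.node (nat_lit 0)
(.leaf (nat_lit 0) (nat_lit 0) (nat_lit 0) [nat_lit 1])
(.leaf (nat_lit 0) (nat_lit 1) (nat_lit 1) []))
(.node (nat_lit 10)
(.leaf (nat_lit 1) (nat_lit 0) (nat_lit 2) [])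
(.node (nat_lit 11)
(.leaf (nat_lit 1) (nat_lit 1) (nat_lit 3) [nat_lit 0])
(.leaf (nat_lit 2) (nat_lit 0) (nat_lit 4) [nat_lit 0, nat_lit 2]))))
(.node (nat_lit 22)
(.node (nat_lit 21)
(.leaf (nat_lit 2) (nat_lit 1) (nat_lit 5) [nat_lit 1, nat_lit 2])
(.leaf (nat_lit 2) (nat_lit 2) (nat_lit 6) [nat_lit 3]))
(.node (nat_lit 23)
(.leaf (nat_lit 2) (nat_lit 3) (nat_lit 7) [])
(.node (nat_lit 30)
(.leaf (nat_lit 3) (nat_lit 0) (nat_lit 8) [nat_lit 0, nat_lit 3])
(.leaf (nat_lit 3) (nat_lit 1) (nat_lit 9) [nat_lit 1, nat_lit 3])))))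
(.node (nat_lit 42)
(.node (nat_lit 33)
(.node (nat_lit 32)
(.leaf (nat_lit 3) (nat_lit 2) (nat_lit 10) [])
(.leaf (nat_lit 3) (nat_lit 3) (nat_lit 11) [nat_lit 2]))
(.node (nat_lit 40)
(.leaf (nat_lit 4) (nat_lit 0) (nat_lit 12) [nat_lit 0, nat_lit 4])
(.node (nat_lit 41)
(.leaf (nat_lit 4) (nat_lit 1) (nat_lit 13) [nat_lit 1, nat_lit 4])
(.leaf (nat_lit 4) (nat_lit 2) (nat_lit 14) [nat_lit 2, nat_lit 4]))))
(.node (nat_lit 44)
(.node (nat_lit 43)
(.leaf (nat_lit 4) (nat_lit 3) (nat_lit 15) [nat_lit 3, nat_lit 4])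
(.leaf (nat_lit 4) (nat_lit 4) (nat_lit 16) [nat_lit 5]))
(.node (nat_lit 45)
(.leaf (nat_lit 4) (nat_lit 5) (nat_lit 17) [])
(.node (nat_lit 50)
(.leaf (nat_lit 5) (nat_lit 0) (nat_lit 18) [nat_lit 0, nat_lit 5])
(.leaf (nat_lit 5) (nat_lit 1) (nat_lit 19) [nat_lit 1, nat_lit 5]))))))
(.node (nat_lit 65)
(.node (nat_lit 60)
(.node (nat_lit 53)
(.node (nat_lit 52)
(.leaf (nat_lit 5) (nat_lit 2) (nat_lit 20) [nat_lit 2, nat_lit 5])
(.leaf (nat_lit 5) (nat_lit 3) (nat_lit 21) [nat_lit 3, nat_lit 5]))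
(.node (nat_lit 54)
(.leaf (nat_lit 5) (nat_lit 4) (nat_lit 22) [])
(.node (nat_lit 55)
(.leaf (nat_lit 5) (nat_lit 5) (nat_lit 23) [nat_lit 4])
(.leaf (nat_lit 6) (nat_lit 0) (nat_lit 24) [nat_lit 0, nat_lit 6]))))
(.node (nat_lit 62)
(.node (nat_lit 61)
(.leaf (nat_lit 6) (nat_lit 1) (nat_lit 25) [nat_lit 1, nat_lit 6])
(.leaf (nat_lit 6) (nat_lit 2) (nat_lit 26) [nat_lit 2, nat_lit 6]))
(.node (nat_lit 63)
(.leaf (nat_lit 6) (nat_lit 3) (nat_lit 27) [nat_lit 3, nat_lit 6])
(.node (nat_lit 64)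
(.leaf (nat_lit 6) (nat_lit 4) (nat_lit 28) [nat_lit 4, nat_lit 6])
(.leaf (nat_lit 6) (nat_lit 5) (nat_lit 29) [nat_lit 5, nat_lit 6])))))
(.node (nat_lit 72)
(.node (nat_lit 67)
(.node (nat_lit 66)
(.leaf (nat_lit 6) (nat_lit 6) (nat_lit 30) [nat_lit 7])
(.leaf (nat_lit 6) (nat_lit 7) (nat_lit 31) []))
(.node (nat_lit 70)
(.leaf (nat_lit 7) (nat_lit 0) (nat_lit 32) [nat_lit 0, nat_lit 7])
(.node (nat_lit 71)
(.leaf (nat_lit 7) (nat_lit 1) (nat_lit 33) [nat_lit 1, nat_lit 7])
(.leaf (nat_lit 7) (nat_lit 2) (nat_lit 34) [nat_lit 2, nat_lit 7]))))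
(.node (nat_lit 74)
(.node (nat_lit 73)
(.leaf (nat_lit 7) (nat_lit 3) (nat_lit 35) [nat_lit 3, nat_lit 7])
(.leaf (nat_lit 7) (nat_lit 4) (nat_lit 36) [nat_lit 4, nat_lit 7]))
(.node (nat_lit 75)
(.leaf (nat_lit 7) (nat_lit 5) (nat_lit 37) [nat_lit 5, nat_lit 7])
(.node (nat_lit 76)
(.leaf (nat_lit 7) (nat_lit 6) (nat_lit 38) [])
(.leaf (nat_lit 7) (nat_lit 7) (nat_lit 39) [nat_lit 6])))))))

def onp3_E : List (List ℕ × List ℕ) :=
  [([nat_lit 0, nat_lit 0], [nat_lit 1]),
    ([nat_lit 0, nat_lit 1], []),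
    ([nat_lit 1, nat_lit 0], []),
    ([nat_lit 1, nat_lit 1], [nat_lit 0]),
    ([nat_lit 2, nat_lit 0], [nat_lit 0, nat_lit 2]),
    ([nat_lit 2, nat_lit 1], [nat_lit 1, nat_lit 2]),
    ([nat_lit 2, nat_lit 2], [nat_lit 3]),
    ([nat_lit 2, nat_lit 3], []),
    ([nat_lit 3, nat_lit 0], [nat_lit 0, nat_lit 3]),
    ([nat_lit 3, nat_lit 1], [nat_lit 1, nat_lit 3]),
    ([nat_lit 3, nat_lit 2], []),
    ([nat_lit 3, nat_lit 3], [nat_lit 2]),
    ([nat_lit 4, nat_lit 0], [nat_lit 0, nat_lit 4]),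
    ([nat_lit 4, nat_lit 1], [nat_lit 1, nat_lit 4]),
    ([nat_lit 4, nat_lit 2], [nat_lit 2, nat_lit 4]),
    ([nat_lit 4, nat_lit 3], [nat_lit 3, nat_lit 4]),
    ([nat_lit 4, nat_lit 4], [nat_lit 5]),
    ([nat_lit 4, nat_lit 5], []),
    ([nat_lit 5, nat_lit 0], [nat_lit 0, nat_lit 5]),
    ([nat_lit 5, nat_lit 1], [nat_lit 1, nat_lit 5]),
    ([nat_lit 5, nat_lit 2], [nat_lit 2, nat_lit 5]),
    ([nat_lit 5, nat_lit 3], [nat_lit 3, nat_lit 5]),
    ([nat_lit 5, nat_lit 4], []),
    ([nat_lit 5, nat_lit 5], [nat_lit 4]),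
    ([nat_lit 6, nat_lit 0], [nat_lit 0, nat_lit 6]),
    ([nat_lit 6, nat_lit 1], [nat_lit 1, nat_lit 6]),
    ([nat_lit 6, nat_lit 2], [nat_lit 2, nat_lit 6]),
    ([nat_lit 6, nat_lit 3], [nat_lit 3, nat_lit 6]),
    ([nat_lit 6, nat_lit 4], [nat_lit 4, nat_lit 6]),
    ([nat_lit 6, nat_lit 5], [nat_lit 5, nat_lit 6]),
    ([nat_lit 6, nat_lit 6], [nat_lit 7]),
    ([nat_lit 6, nat_lit 7], []),
    ([nat_lit 7, nat_lit 0], [nat_lit 0, nat_lit 7]),
    ([nat_lit 7, nat_lit 1], [nat_lit 1, nat_lit 7]),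
    ([nat_lit 7, nat_lit 2], [nat_lit 2, nat_lit 7]),
    ([nat_lit 7, nat_lit 3], [nat_lit 3, nat_lit 7]),
    ([nat_lit 7, nat_lit 4], [nat_lit 4, nat_lit 7]),
    ([nat_lit 7, nat_lit 5], [nat_lit 5, nat_lit 7]),
    ([nat_lit 7, nat_lit 6], []),
    ([nat_lit 7, nat_lit 7], [nat_lit 6])]

def onp3_A : List ℕ :=
  [nat_lit 0x2000000000014000040000000000000000000000000000000000000000000000000000005000000000000000000000000000000000000000000000000000000000000000000000000000040000000000000000000000000000000000000000000000000000005000000000000000000000000000000000,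
    nat_lit 0x1c00000000004000080000000000000000000000000000000000000000000000000000001000000000000000000000000000000000000000000000000000000000000000000000000000080000000000000000000000000000000000000000000000000000001000000000000000000000000000000001,
    nat_lit 0x400001c000040000000000000000000000000000000000000000000000000000005000000000000000000000000000000000000000000000000000000000000000000000000000030000000000000000000000000000000000000000000000000000002000000000000000000000000000000000,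
    nat_lit 0x8000014000080000000000000000000000000000000000000000000000000000001000000000000000000000000000000000000000000000000000000000000000000000000000060000000000000000000000000000000000000000000000000000005000000000000000000000000000000000,
    nat_lit 0x1000004000000000000000000000000000000000000000000000000000000000000000000000000000000000000000000000000000000000000000000000000000000000000000000000080000000000000000000000000000000000000000000000000000000000000000000000000000000000000003,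
    nat_lit 0x2000008000000000000000000000000000000000000000000000000000000000000000000000000000000000000000000000000000000000000000000000000000000000000000000000080000000000000000000000000000000000000000000000000000000000000000000000000000000000000006,
    nat_lit 0x100000800000c000060000000000000000000000000000000000000000000000000000006000000000000000000000000000000000000000000000000000000000000000000000000000020000000000000000000000000000000000000000000000000000003000000000000000000000000000000003,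
    nat_lit 0x2000007000018000030000000000000000000000000000000000000000000000000000004000000000000000000000000000000000000000000000000000000000000000000000000000040000000000000000000000000000000000000000000000000000006000000000000000000000000000000006]

def onp3_co : List ℕ :=
  [nat_lit 0,
    nat_lit 0x1083043000000000002000200002000080000000000081080102101,
    nat_lit 0x1083043000000000002000200002000080000000000081080102100,
    nat_lit 0x1083043000000000002000200002000080000000000081081102101,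
    nat_lit 0x40000000000000000000000000000000000000000000000000000000000000000000,
    nat_lit 0x200000000000000000000000000000000000000000000000000000001000000000000,
    nat_lit 0,
    nat_lit 0x20830020000000000020001c0002000080000000000080080100140,
    nat_lit 0x200000000000000000000000000000000000008000000000000000000000000000000,
    nat_lit 0x40000000000000000000000000000000000001000000000000000040000000000000,
    nat_lit 0x20830020000000000020001c0002000080000000000080080100100,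
    nat_lit 0x20830020000000000020001c00020000800000000000800c0100140,
    nat_lit 0x1c00000010801c0207008000000000008000000008000200000000000040000000000,
    nat_lit 0x800000081c0080042001000000000001000000001000040000001000200000000000,
    nat_lit 0x2051011000450831451430000000001c4101180004104000040180000000000000000,
    nat_lit 0x441421402041c30471c00000000002051421800051450000801c00001830000c6000,
    nat_lit 0,
    nat_lit 0xc01800850000000000000000000000000000000000001820000c5000,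
    nat_lit 0x800000081c0080042001000000000001000200001000040000000000200000000000,
    nat_lit 0x1c00000010801c0207008000000000008000040008000200001000000040000000000,
    nat_lit 0x441421402041c30471c00000000002051411800051450000801800001830000c6000,
    nat_lit 0x2051011000450831451430000000001c4102180004104000080180000000000000000,
    nat_lit 0xc01800850000000000000000000000000000000000001820000c4000,
    nat_lit 0xc01800850000000000000000000000000000000000001830000c5000,
    nat_lit 0x200000200041200000000000000000008200000008200000000000000000000000000,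
    nat_lit 0x40000040208040000000000000000001040000001040001000000000000000000000,
    nat_lit 0x200000000040200008000000000000008000000008000000000000000000000000000,
    nat_lit 0x40000000200040001000000000000001000000001000040000000000000000000000,
    nat_lit 0x51411400040c31051030000000001c5142180005145000080180000000000000000,
    nat_lit 0x41021000050c3147143000000000204101180004105000040180000000000000000,
    nat_lit 0,
    nat_lit 0xc0180084000000000000000000000000000000000000182000104000,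
    nat_lit 0x40000040208040000000000000000001000000001040000000000000000000000000,
    nat_lit 0x200000200041200000000000000000008000000008000000000000000000000000000,
    nat_lit 0x40000000200040001000000000000000000000001000000000000000000000000000,
    nat_lit 0x200000000040200008000000000000000000000000000000000000000000000000000,
    nat_lit 0x41021000050c31471430000000001c4101180004104000040180000000000000000,
    nat_lit 0x51411400040c3105103000000000205142180045145000080180000000000000000,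
    nat_lit 0xc01800840000000000000000000000000000000000001820000c4000,
    nat_lit 0xc01800840000000000000000000000000000000000001c2000104000]

noncomputable def onp3 : PCD where
  G := nat_lit 10
  w := nat_lit 22
  k := nat_lit 48
  n := nat_lit 9
  fuel := nat_lit 34
  o := nat_lit 0x4000010000040000100000400001000004000010000040000100000400001000004000010000040000100000400001000004000010000040000100000400001000004000010000040000100000400001000004000010000040000100000400001000004000010000040000100000400001000004000010000040000100000400001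
  c0 := nat_lit 197068
  cq := nat_lit 262143
  cA := nat_lit 15
  Lm := nat_lit 2
  np := nat_lit 40
  rules := onp3_ru
  E := onp3_E
  C := [(nat_lit 8, [nat_lit 0], [nat_lit 3, nat_lit 7]),
    (nat_lit 8, [nat_lit 2], [nat_lit 0, nat_lit 4]),
    (nat_lit 8, [nat_lit 4], [nat_lit 6]),
    (nat_lit 8, [nat_lit 6], [nat_lit 5]),
    (nat_lit 9, [nat_lit 0], [nat_lit 3, nat_lit 6]),
    (nat_lit 9, [nat_lit 2], [nat_lit 6]),
    (nat_lit 9, [nat_lit 4], [nat_lit 3, nat_lit 4, nat_lit 6]),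
    (nat_lit 9, [nat_lit 6], [nat_lit 1, nat_lit 6])]
  RA := [([nat_lit 0], [nat_lit 1, nat_lit 0]),
    ([nat_lit 2], [nat_lit 3, nat_lit 2]),
    ([nat_lit 4], [nat_lit 5, nat_lit 4]),
    ([nat_lit 6], [nat_lit 7, nat_lit 6]),
    ([nat_lit 0], [nat_lit 0, nat_lit 1]),
    ([nat_lit 2], [nat_lit 2, nat_lit 3]),
    ([nat_lit 4], [nat_lit 4, nat_lit 5]),
    ([nat_lit 6], [nat_lit 6, nat_lit 7]),
    ([nat_lit 2], [nat_lit 0, nat_lit 1]),
    ([nat_lit 3], [nat_lit 0, nat_lit 1]),
    ([nat_lit 4], [nat_lit 0, nat_lit 1]),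
    ([nat_lit 4], [nat_lit 2, nat_lit 3]),
    ([nat_lit 5], [nat_lit 0, nat_lit 1]),
    ([nat_lit 5], [nat_lit 2, nat_lit 3]),
    ([nat_lit 6], [nat_lit 0, nat_lit 1]),
    ([nat_lit 6], [nat_lit 2, nat_lit 3]),
    ([nat_lit 6], [nat_lit 4, nat_lit 5]),
    ([nat_lit 7], [nat_lit 0, nat_lit 1]),
    ([nat_lit 7], [nat_lit 2, nat_lit 3]),
    ([nat_lit 7], [nat_lit 4, nat_lit 5]),
    ([nat_lit 2], [nat_lit 3, nat_lit 0]),
    ([nat_lit 4], [nat_lit 5, nat_lit 0]),
    ([nat_lit 4], [nat_lit 5, nat_lit 2]),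
    ([nat_lit 6], [nat_lit 7, nat_lit 0]),
    ([nat_lit 6], [nat_lit 7, nat_lit 2]),
    ([nat_lit 6], [nat_lit 7, nat_lit 4]),
    ([nat_lit 2], [nat_lit 0, nat_lit 0]),
    ([nat_lit 4], [nat_lit 0, nat_lit 0]),
    ([nat_lit 4], [nat_lit 2, nat_lit 2]),
    ([nat_lit 6], [nat_lit 0, nat_lit 0]),
    ([nat_lit 6], [nat_lit 2, nat_lit 2]),
    ([nat_lit 6], [nat_lit 4, nat_lit 4])]
  RB := [(nat_lit 8, [nat_lit 2, nat_lit 2, nat_lit 2]),
    (nat_lit 8, [nat_lit 3, nat_lit 3, nat_lit 3]),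
    (nat_lit 9, [nat_lit 5, nat_lit 5, nat_lit 5]),
    (nat_lit 8, [nat_lit 0, nat_lit 0, nat_lit 0]),
    (nat_lit 8, [nat_lit 1, nat_lit 1, nat_lit 1]),
    (nat_lit 9, [nat_lit 4, nat_lit 4, nat_lit 4]),
    (nat_lit 9, [nat_lit 7, nat_lit 7, nat_lit 7]),
    (nat_lit 9, [nat_lit 4, nat_lit 4, nat_lit 5, nat_lit 4, nat_lit 5, nat_lit 5]),
    (nat_lit 8, [nat_lit 0, nat_lit 0, nat_lit 2, nat_lit 0, nat_lit 2, nat_lit 2]),
    (nat_lit 9, [nat_lit 5, nat_lit 5, nat_lit 7, nat_lit 5, nat_lit 7, nat_lit 7]),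
    (nat_lit 9, [nat_lit 6, nat_lit 6, nat_lit 6]),
    (nat_lit 8, [nat_lit 0, nat_lit 0, nat_lit 3, nat_lit 0, nat_lit 3, nat_lit 3]),
    (nat_lit 9, [nat_lit 5, nat_lit 5, nat_lit 6, nat_lit 5, nat_lit 6, nat_lit 6])]
  A := onp3_A
  β := [(nat_lit 0x10000000000000000000000, nat_lit 3, nat_lit 0xc0180006000002000000006000000006000080000000000000000000000)]
  co := onp3_co
  lay := [(nat_lit 252, [nat_lit 0, nat_lit 1]),
    (nat_lit 240, [nat_lit 2, nat_lit 3]),
    (nat_lit 192, [nat_lit 4, nat_lit 5]),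
    (nat_lit 0, [nat_lit 6, nat_lit 7])]

theorem onp3_1 : onp3.ok1 (nat_lit 255) = true := by decide +kernel
theorem onp3_2 : onp3.ok2 = true := by decide +kernel

def onp3_df : List (List ℕ) :=
  [[nat_lit 1, nat_lit 0, nat_lit 3, nat_lit 2, nat_lit 4, nat_lit 3, nat_lit 6, nat_lit 2, nat_lit 1, nat_lit 4, nat_lit 6, nat_lit 2, nat_lit 3, nat_lit 2, nat_lit 4, nat_lit 3, nat_lit 1, nat_lit 2, nat_lit 7, nat_lit 1, nat_lit 7, nat_lit 4, nat_lit 2, nat_lit 3, nat_lit 2, nat_lit 1, nat_lit 7],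
  [nat_lit 6, nat_lit 1, nat_lit 2, nat_lit 3, nat_lit 2, nat_lit 4, nat_lit 6, nat_lit 1, nat_lit 6, nat_lit 2, nat_lit 1, nat_lit 3, nat_lit 2, nat_lit 4, nat_lit 3, nat_lit 2, nat_lit 7, nat_lit 4, nat_lit 1, nat_lit 2, nat_lit 7, nat_lit 3, nat_lit 4, nat_lit 2, nat_lit 3, nat_lit 0, nat_lit 1],
  [nat_lit 0, nat_lit 3, nat_lit 6, nat_lit 4, nat_lit 6, nat_lit 3, nat_lit 2, nat_lit 1, nat_lit 3, nat_lit 2, nat_lit 4, nat_lit 3, nat_lit 6, nat_lit 2, nat_lit 3, nat_lit 7, nat_lit 4, nat_lit 3, nat_lit 1, nat_lit 2, nat_lit 3, nat_lit 4, nat_lit 2, nat_lit 1, nat_lit 6, nat_lit 0, nat_lit 1],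
  [nat_lit 1, nat_lit 0, nat_lit 7, nat_lit 1, nat_lit 2, nat_lit 3, nat_lit 4, nat_lit 3, nat_lit 2, nat_lit 1, nat_lit 3, nat_lit 2, nat_lit 3, nat_lit 4, nat_lit 3, nat_lit 7, nat_lit 4, nat_lit 2, nat_lit 7, nat_lit 3, nat_lit 1, nat_lit 2, nat_lit 6, nat_lit 3, nat_lit 4, nat_lit 7, nat_lit 3],
  [nat_lit 2, nat_lit 3, nat_lit 7, nat_lit 4, nat_lit 3, nat_lit 7, nat_lit 1, nat_lit 2, nat_lit 1, nat_lit 7, nat_lit 3, nat_lit 4, nat_lit 2, nat_lit 7, nat_lit 1, nat_lit 2, nat_lit 3, nat_lit 2, nat_lit 1, nat_lit 7, nat_lit 4, nat_lit 5, nat_lit 3, nat_lit 1],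
  [nat_lit 3, nat_lit 6, nat_lit 1, nat_lit 2, nat_lit 6, nat_lit 1, nat_lit 4, nat_lit 6, nat_lit 2, nat_lit 3, nat_lit 6, nat_lit 4, nat_lit 2, nat_lit 3, nat_lit 1, nat_lit 2, nat_lit 3, nat_lit 4, nat_lit 2, nat_lit 6, nat_lit 3, nat_lit 1, nat_lit 2, nat_lit 0],
  [nat_lit 3, nat_lit 7, nat_lit 1, nat_lit 2, nat_lit 1, nat_lit 3, nat_lit 2, nat_lit 6, nat_lit 1, nat_lit 4, nat_lit 3, nat_lit 7, nat_lit 4, nat_lit 2, nat_lit 3, nat_lit 0, nat_lit 1, nat_lit 2, nat_lit 3, nat_lit 1, nat_lit 7, nat_lit 0],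
  [nat_lit 7, nat_lit 3, nat_lit 2, nat_lit 1, nat_lit 3, nat_lit 2, nat_lit 3, nat_lit 2, nat_lit 4, nat_lit 6, nat_lit 3, nat_lit 1, nat_lit 7, nat_lit 4, nat_lit 2, nat_lit 3, nat_lit 1, nat_lit 2, nat_lit 1, nat_lit 7, nat_lit 3, nat_lit 0],
  [nat_lit 6, nat_lit 2, nat_lit 6, nat_lit 1, nat_lit 2, nat_lit 7, nat_lit 1, nat_lit 3, nat_lit 2, nat_lit 4, nat_lit 3, nat_lit 2, nat_lit 7, nat_lit 4, nat_lit 1, nat_lit 7, nat_lit 3, nat_lit 2, nat_lit 3, nat_lit 4, nat_lit 2, nat_lit 3, nat_lit 2, nat_lit 1, nat_lit 6, nat_lit 0, nat_lit 1, nat_lit 0],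
  [nat_lit 3, nat_lit 6, nat_lit 1, nat_lit 3, nat_lit 2, nat_lit 4, nat_lit 7, nat_lit 3, nat_lit 2, nat_lit 4, nat_lit 3, nat_lit 7, nat_lit 1, nat_lit 2, nat_lit 4, nat_lit 6, nat_lit 1, nat_lit 6, nat_lit 3, nat_lit 4, nat_lit 2, nat_lit 1, nat_lit 6, nat_lit 3, nat_lit 4, nat_lit 2, nat_lit 6]]

noncomputable def onp3T_tbl : NT :=
(.node (nat_lit 2043)
(.leaf (nat_lit 0) (nat_lit 0x2e11e1836640c97b1dfa35028c035e4599a7cd1ab9051a0a388e91493b09000206c2319d1129c0ea1fae0e152ba9855a142afe7878f3c0241a45803364dad07d0430718f19b05e34fbf1f08aa59321dba0e8decf3a4472420a4c14203470018b138b0d019139d2538a62b4da988a59c51828743570230b7249f2128761229898aa11edc28922d4fca6938cc56d201082ce5f8e36806b34e5469a3691e2d6a75fb7291008f364401a2e2909a204501e5e15e1e2f1561a1418c968cd4401309e1ac1c5e34c8e05c140a5e0ce24085b59a15123391d098322d5aa3f041220f11d8928e984578a58a47b0d8af4e8180c5d344128c985c950e048f88dd220343a2c3))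
(.leaf (nat_lit 2044) (nat_lit 0x925397c7db2b94de1217e71eb3110644d324cf025d3a43268aa389932caa256f5c4c9309d207341a139100328032e61d4ac09369b3a04a64266287a843ac54c85964c09d846030bc300212a3761408f70c41ac14022d09edca9d752d4ce10d97063e0cb2b6466548263cecf428d4106898fd05caa038971d44f3888f0c521169024e8e0588e1bb638ed12597080509499a922c5a5bd1205bbb730a7941eedc049049741574071f26e5308163533e272a6b2465d4b03c9c8af8ca8cc0693658386b4c2408722843ccc1a08eb16a70634f3c9a0a0b654fa62f586189078256af150cd0c6300b2a0d41b2d651832b7cb92b3)))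

noncomputable def onp3T : PT where
  N := nat_lit 81
  G := nat_lit 7
  W := nat_lit 7
  mask := nat_lit 127
  sb := nat_lit 0
  sm := nat_lit 0
  tbl := onp3T_tbl

noncomputable def onp3E_t : NT :=
(.leaf (nat_lit 0) (nat_lit 0x1c757d9cae43bf17c579b4bb7adc332bf7b59b0a361d157649f51dc084314145dfddef4f979773c775da94e734725236b05a652d3236723b24b18fb4c32360e9b07018376c0e85a2e2cb6560749a884be5242a51d968c1544f9226cd0d6282d23f091f134edec75c638dc1c364dd7e6859318817298a68252f325e3123d08fe2452a226310fac83cc402d1c748e134615c2ebc174e8b8c4578a2b630eae068502e7c131108c98310c01f20000))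

noncomputable def onp3E (i : ℕ) : ℕ := onp3E_t.get (Nat.mul i (nat_lit 17)) (nat_lit 131071)

noncomputable def onp3L : OL where
  b := nat_lit 0
  n := nat_lit 81
  S := [[nat_lit 0],
  [nat_lit 2],
  [nat_lit 4],
  [nat_lit 6]]
  O := ⟨nat_lit 0, nat_lit 4, nat_lit 7, nat_lit 127, nat_lit 0, nat_lit 0,
(.node (nat_lit 2043)
(.leaf (nat_lit 0) (nat_lit 0x700dccc740dbb6760dace0a0da25420d982020d9073a0993c9c0d79f560d6b4360d615960d52b2c0d419840d3c9220d3466e0d2c71c092ad100d1c8080d13a8e0d088380d0238009029400cf859208f9e2a0ced0200cd934a0cd1da00cca6720cc212408c107c0cb409e0cacb680ca0b500c9a826089985c0c9098a0892f180c8926a0c81c98088045a0c7c406087b3820478c640c6ca5e0c642460c5b5340c53f120851b7a0c4944e0848d1e0c4162e0c3bd7e083b1320c3016008327480432c140c2bb58082b01604297040c239300c1cf3e081a4520c10f0c081114c0411a6c0c0b88608083940408a66000c5440c0370e08020880400e28000430000000))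
(.leaf (nat_lit 2044) (nat_lit 0x620e62e1a0e42a8c0e2c19a0e1cd900e122540dfbe3c0de06780dd32)))⟩

theorem onp3_x_0 : tabE H15.ONa.ap 122760 onp3T onp3_df onp3E (nat_lit 0) (nat_lit 81) = true := by decide +kernel
theorem onp3_t : ∀ i < onp3T.N, TabP A0.ap A0.n onp3T onp3_df onp3E i := (rng_all (tabE_sound onp3_x_0))
theorem onp3_hE : allL (fun e => eq (expand onp3_df e.1) (expand onp3_df e.2)) onp3.eqs = true := by decide +kernel
theorem pb3 : PB G0 3 1 :=
  H28.PCD.pb (g := locv onp3_df g) (e := 2) (by norm_num) onp3_1 onp3_2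
    (fun e he => by rw [← ev_expand, ← ev_expand]; exact heq _ _ (allL_sound onp3_hE e he))
    (card_ge_of_chain (ls := [onp3L]) (AM_of_tabE (A := A0) (by decide +kernel) onp3_t)
      (inj_of_tabE onp3_t (incr_inj (by decide +kernel))) (by decide +kernel) (by decide +kernel))
    hcard (by decide +kernel)

end Cfsg.Agent.H25.ON
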