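import Mathlib
import Cfsg.Agent.H25.RuC0

/-! The short vectors of the lattice of the Rudvalis group. -/

set_option linter.all false
set_option maxRecDepth 100000
set_option exponentiation.threshold 5000

namespace Cfsg.Agent.H25.Ru
open Cfsg.Agent.H14 (sumLt sumLt_eq)
open Cfsg.Agent.H25.Leech (dg_sum eq_sum_dg dg_land dg_shift dg_lt dgf dgf_eq exists_mask)
open Finset Matrix

theorem en0 : allLe rr (fun _ => true) leaf 15 15 (hb 0) = true := by decide +kernel
theorem en1 : allLe rr (fun _ => true) leaf 15 15 (hb 1) = true := by decide +kernel
theorem en2 : allLe rr (fun _ => true) leaf 15 15 (hb 2) = true := by decide +kernel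
theorem en3 : allLe rr (fun _ => true) leaf 15 15 (hb 3) = true := by decide +kernel
theorem en4 : allLe rr (fun _ => true) leaf 15 15 (hb 4) = true := by decide +kernel
theorem en5 : allLe rr (fun _ => true) leaf 15 15 (hb 5) = true := by decide +kernel
theorem en6 : allLe rr (fun _ => true) leaf 15 15 (hb 6) = true := by decide +kernel
theorem en7 : allLe rr (fun _ => true) leaf 15 15 (hb 7) = true := by decide +kernel
end Cfsg.Agent.H25.Ru
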