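import Mathlib
import Cfsg.Agent.H25.RuC0

/-! The short vectors of the lattice of the Rudvalis group. -/

set_option linter.all false
set_option maxRecDepth 100000
set_option exponentiation.threshold 5000

namespace Cfsg.Agent.H25.Ru
open Cfsg.Agent.H14 (sumLt sumLt_eq)
open Cfsg.Agent.H25.Leech (dg_sum eq_sum_dg dg_land dg_shift dg_lt dgf dgf_eq exists_mask)
open Finset Matrix

theorem en8 : allLe rr (fun _ => true) leaf 15 15 (hb 8) = true := by decide +kernel
theorem en9 : allLe rr (fun _ => true) leaf 15 15 (hb 9) = true := by decide +kernel
theorem en10 : allLe rr (fun _ => true) leaf 15 15 (hb 10) = true := by decide +kernel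
theorem en11 : allLe rr (fun _ => true) leaf 15 15 (hb 11) = true := by decide +kernel
theorem en12 : allLe rr (fun _ => true) leaf 15 15 (hb 12) = true := by decide +kernel
theorem en13 : allLe rr (fun _ => true) leaf 15 15 (hb 13) = true := by decide +kernel
theorem en14 : allLe rr (fun _ => true) leaf 15 15 (hb 14) = true := by decide +kernel
theorem en15 : allLe rr (fun _ => true) leaf 15 15 (hb 15) = true := by decide +kernel
end Cfsg.Agent.H25.Ru
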