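import Mathlib
import Cfsg.Agent.H25.RuL
import Cfsg.Agent.H25.VM

/-! Automorphisms of the lattice of the Rudvalis group given by matrices. -/

set_option linter.all false
set_option maxRecDepth 100000
set_option exponentiation.threshold 5000

namespace Cfsg.Agent.H25.Ru
open Cfsg.Agent.H14 (sumLt sumLt_eq)
open Cfsg.Agent.H25.Leech (TR forceT forceT_eq dgf dgf_eq foldW foldW_cons smallW)
open Finset Matrix MulAction Cfsg.Spor

abbrev L := ruLattice
abbrev G := fourRu

def rv : L →+ W := cw.toAddMonoidHom.comp L.subtype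
theorem rv_mem (v : L) : rv v ∈ SW := mem_iff.1 v.2
theorem rv_inj : Function.Injective rv := cw.injective.comp Subtype.val_injective
def mkL (x : W) (h : x ∈ SW) : L := ⟨cw.symm x, mem_iff.2 (by simpa using h)⟩
theorem rv_mkL (x : W) (h : x ∈ SW) : rv (mkL x h) = x := cw.apply_symm_apply x
def dt (v w : L) : ℤ := rv v ⬝ᵥ rv w
theorem dt_norm (v : L) : ruNorm v.1 = dt v v := norm_eq _

def hom (g : G) : L →+ L := AddMonoidHom.mk' (fun v => g • v) g.2.1
theorem g_nm (g : G) (v : L) : dt (g • v) (g • v) = dt v v := by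
  rw [← dt_norm, ← dt_norm]; exact g.2.2.2 v
theorem g_dot (g : G) (v w : L) : dt (g • v) (g • w) = dt v w := by
  have h := g_nm g (v + w)
  rw [show g • (v + w) = g • v + g • w from g.2.1 v w] at h
  have a := g_nm g v
  have b := g_nm g w
  simp only [dt, map_add, add_dotProduct, dotProduct_add] at h a b ⊢
  rw [dotProduct_comm (rv w), dotProduct_comm (rv (g • w))] at h
  omega

theorem g_ext {g h : G} (e : ∀ v : L, g • v = h • v) : g = h := Subtype.ext (Equiv.ext e)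

theorem e4_mem (k : Fin 56) : Pi.single k 4 ∈ SW := chkV_sound (by revert k; decide +kernel)
noncomputable def e4 (k : Fin 56) : L := mkL _ (e4_mem k)
theorem e4_nm (k : Fin 56) : dt (e4 k) (e4 k) = 16 := by simp [dt, e4, rv_mkL]

theorem four_smul (v : L) : (4 : ℤ) • v = ∑ k, rv v k • e4 k := rv_inj (by
  rw [map_zsmul, map_sum]
  funext j
  simp [e4, rv_mkL, Finset.sum_apply, Pi.single_apply, mul_comm])

theorem g_ext4 {g h : G} (e : ∀ k, g • e4 k = h • e4 k) : g = h := g_ext fun v => rv_inj (by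
  have key : ∀ g : G, (4 : ℤ) • rv (g • v) = ∑ k, rv v k • rv (g • e4 k) := fun g => by
    have := congrArg (rv.comp (hom g)) (four_smul v)
    rw [map_zsmul, map_sum] at this
    exact this.trans (sum_congr rfl fun k _ => map_zsmul _ _ _)
  refine smul_right_injective W (by norm_num : (4 : ℤ) ≠ 0) ?_
  simp only [key, e])

def SL (n : ℤ) : Set L := {v | dt v v = n}

theorem SL_finite : (SL 16).Finite :=
  Set.Finite.of_injOn (f := fun v => code (rv v)) (t := Set.Iio (2 ^ 1400))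
    (fun v hv => (code_spec (bd_of (hv.le.trans (by norm_num)))).1.1)
    (fun v hv w hw e => rv_inj (by
      rw [← (code_spec (bd_of (hv.le.trans (by norm_num)))).2, show code (rv v) = code (rv w) from e,
        (code_spec (bd_of (hw.le.trans (by norm_num)))).2])) (Set.finite_Iio _)

instance finite_G : Finite G := by
  haveI := SL_finite.to_subtype
  exact Finite.of_injective (fun (g : G) (k : Fin 56) => (⟨g • e4 k, (g_nm g _).trans (e4_nm k)⟩ : SL 16))
    fun g h e => g_ext4 fun k => congrArg Subtype.val (congrFun e k)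

theorem dot_zero {x : W} (h : x ⬝ᵥ x = 0) : x = 0 := dotProduct_self_eq_zero.1 h

theorem bij_of_isom (f : L →+ L) (h : ∀ v, dt (f v) (f v) = dt v v) : Function.Bijective f := by
  have hi : Function.Injective f := (injective_iff_map_eq_zero f).2 fun v hv =>
    rv_inj ((dot_zero (by have := h v; rw [hv] at this; simpa [dt] using this.symm)).trans (map_zero rv).symm)
  refine ⟨hi, fun v => ?_⟩
  have : SW ≤ f.range.map rv := (AddSubgroup.closure_le _).2 (by
    rintro _ ⟨k, rfl⟩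
    obtain ⟨u, -, e⟩ := ((SL_finite.injOn_iff_bijOn_of_mapsTo (f := f) fun u hu => (h u).trans hu).1
      hi.injOn).surjOn (show mkL _ (u_mem k) ∈ SL 16 by simp [SL, dt, rv_mkL, u_norm])
    exact ⟨_, ⟨u, e⟩, rv_mkL _ _⟩)
  obtain ⟨w, hw, e⟩ := this (rv_mem v)
  exact rv_inj e ▸ hw

noncomputable def fM (M : ℕ) (x : W) : W := fun p => row M p ⬝ᵥ x / 4
def D4 (M : ℕ) (x : W) : Prop := ∀ p : Fin 56, 4 ∣ row M p ⬝ᵥ x

theorem D4.mul {M : ℕ} {x : W} (h : D4 M x) (p : Fin 56) : 4 * fM M x p = row M p ⬝ᵥ x :=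
  Int.mul_ediv_cancel' (h p)
theorem D4.add {M : ℕ} {x : W} (h : D4 M x) (y : W) : fM M (x + y) = fM M x + fM M y :=
  funext fun p => by rw [fM, dotProduct_add, Int.add_ediv_of_dvd_left (h p)]; rfl
theorem D4.neg {M : ℕ} {x : W} (h : D4 M x) : fM M (-x) = -fM M x :=
  funext fun p => by rw [fM, dotProduct_neg, Int.neg_ediv_of_dvd (h p)]; rfl
theorem fM_zero (M : ℕ) : fM M 0 = 0 := funext fun p => by simp [fM]

theorem D4.norm {M : ℕ} {x : W} (h : D4 M x) (ho : (mat M)ᵀ * mat M = ((16 : ℕ) : ℤ) • 1) :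
    fM M x ⬝ᵥ fM M x = x ⬝ᵥ x := by
  have a : (4 : ℤ) • fM M x = mat M *ᵥ x := funext h.mul
  have b : (mat M *ᵥ x) ⬝ᵥ (mat M *ᵥ x) = 16 * (x ⬝ᵥ x) := by
    rw [dotProduct_mulVec, vecMul_mulVec, ho]; simp [vecMul_smul, smul_vecMul, mul_comm]
  rw [← a, smul_dotProduct, dotProduct_smul, smul_eq_mul, smul_eq_mul] at b
  omega

def sw (p : Fin 56) : Fin 56 := if p.1 % 2 = 0 then fi (p + 1) else fi (p - 1)

theorem row_J (x : W) (p : Fin 56) : row MJ p ⬝ᵥ x = 4 * if p.1 % 2 = 0 then -x (sw p) else x (sw p) := by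
  have : ∀ p : Fin 56, eqV (row MJ p) (Pi.single (sw p) (if p.1 % 2 = 0 then -4 else 4)) = true := by
    decide +kernel
  rw [eqV_sound (this p), single_dotProduct]
  split_ifs <;> ring

theorem D4_J (x : W) : D4 MJ x := fun p => ⟨_, row_J x p⟩

theorem rv_I (v : L) : rv (ruI v) = fM MJ (rv v) := funext fun p => by
  have h : ∀ p : Fin 56, ix (sw p) = ix p ∧ ((sw p).1 % 2 = 0 ↔ ¬ p.1 % 2 = 0) := by decide
  rw [fM, row_J, Int.mul_ediv_cancel_left _ (by norm_num)]
  show (if p.1 % 2 = 0 then (gI * v.1 (ix p)).re else (gI * v.1 (ix p)).im) =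
    if p.1 % 2 = 0 then -(if (sw p).1 % 2 = 0 then (v.1 (ix (sw p))).re else (v.1 (ix (sw p))).im)
    else if (sw p).1 % 2 = 0 then (v.1 (ix (sw p))).re else (v.1 (ix (sw p))).im
  simp only [(h p).1, (h p).2]
  by_cases e : p.1 % 2 = 0 <;> simp [e, gI]

theorem J_mem {x : W} (h : x ∈ SW) : fM MJ x ∈ SW := by
  rw [← rv_mkL x h, ← rv_I]; exact rv_mem _

theorem J_norm (x : W) : fM MJ x ⬝ᵥ fM MJ x = x ⬝ᵥ x :=
  (D4_J x).norm (orth_sound bJ bJ (by norm_num) (by decide +kernel))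

noncomputable def ok (M : ℕ) : Bool :=
  band (mbb M) (forceT (prep M) fun t => forceT (prep MJ) fun tj => band (orth t M 16)
    (allLin (fun k => band (force (rowc M k) memb) (force (rowc MU k) fun u => force (act t u) fun y =>
      band (memb y) (Nat.beq (force (act tj u) (act t)) (act tj y)))) 0 56))

theorem ok_spec {M : ℕ} (h : ok M = true) : MB M ∧ ∀ x ∈ SW, D4 M x ∧ fM M x ⬝ᵥ fM M x = x ⬝ᵥ x ∧
    fM M x ∈ SW ∧ fM M (fM MJ x) = fM MJ (fM M x) := by
  simp only [ok, band_eq, forceT_eq, force_eq, Bool.and_eq_true] at h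
  obtain ⟨h1, h2, h3⟩ := h
  have ha := mbb_sound h1
  have h4 := fun k (hk : k < 56) => allLin_sound h3 k (Nat.zero_le _) (by omega)
  simp only [Bool.and_eq_true, Nat.beq_eq] at h4
  have h5 : ∀ x ∈ SW, D4 M x := fun x hx p =>
    four_dvd ((rowc_spec ha p.2).2 ▸ memb_sound (rowc_spec ha p.2).1 (h4 p p.2).1) hx
  have h6 := fun x hx => (h5 x hx).norm (orth_sound ha ha (by norm_num) h2)
  refine ⟨ha, fun x hx => ⟨h5 x hx, h6 x hx, ?_⟩⟩
  induction hx using AddSubgroup.closure_induction with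
  | mem x hx =>
    obtain ⟨k, rfl⟩ := hx
    obtain ⟨a, b⟩ := rowc_spec bU k.2
    obtain ⟨-, c, d⟩ := h4 k k.2
    have hu := u_mem k
    have key : ∀ {M c x}, MB M → Dg c → dv c = x → D4 M x → fM M x ⬝ᵥ fM M x = 16 →
        act (prep M) c = code (fM M x) ∧ Dg (code (fM M x)) ∧ dv (code (fM M x)) = fM M x :=
      fun hM hc e hd hn => ⟨act_eq hM hc (bd_of (by omega)) (e ▸ hd.mul), code_spec (bd_of (by omega))⟩
    have n0 := u_norm k
    have n1 := (h6 _ hu).trans n0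
    have n2 := (J_norm _).trans n0
    obtain ⟨e1, f1, g1⟩ := key ha a b (h5 _ hu) n1
    obtain ⟨e2, f2, g2⟩ := key bJ a b (D4_J _) n2
    obtain ⟨e3, f3, g3⟩ := key ha f2 g2 (h5 _ (J_mem hu)) ((h6 _ (J_mem hu)).trans n2)
    obtain ⟨e4, f4, g4⟩ := key bJ f1 g1 (D4_J _) ((J_norm _).trans n1)
    rw [e1, e2, e3, e4] at d
    rw [e1] at c
    have c' := memb_sound f1 c
    rw [g1] at c'
    rw [d, g4] at g3
    exact ⟨c', g3.symm⟩
  | zero => simp only [fM_zero, and_true]; exact SW.zero_mem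
  | add x y hx hy a b =>
    rw [(h5 x hx).add, (D4_J _).add, (D4_J _).add, (h5 _ (J_mem hx)).add, a.2, b.2]
    exact ⟨SW.add_mem a.1 b.1, rfl⟩
  | neg x hx a =>
    rw [(h5 x hx).neg, (D4_J _).neg, (D4_J _).neg, (h5 _ (J_mem hx)).neg, a.2]
    exact ⟨SW.neg_mem a.1, rfl⟩

noncomputable def fL {M : ℕ} (h : ok M = true) : L →+ L :=
  AddMonoidHom.mk' (fun x => mkL (fM M (rv x)) ((ok_spec h).2 _ (rv_mem x)).2.2.1) fun x y =>
    rv_inj (by rw [rv_mkL, map_add rv, map_add rv, rv_mkL, rv_mkL, ((ok_spec h).2 _ (rv_mem x)).1.add])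

theorem rv_fL {M : ℕ} (h : ok M = true) (x : L) : rv (fL h x) = fM M (rv x) :=
  rv_mkL _ ((ok_spec h).2 _ (rv_mem x)).2.2.1

theorem fL_nm {M : ℕ} (h : ok M = true) (x : L) : dt (fL h x) (fL h x) = dt x x := by
  rw [dt, rv_fL]; exact ((ok_spec h).2 _ (rv_mem x)).2.1

open Classical in
noncomputable def el (M : ℕ) : G :=
  if h : ok M = true then ⟨Equiv.ofBijective (fL h) (bij_of_isom _ (fL_nm h)), (fL h).map_add,
    fun v => rv_inj (by
      show rv (fL h _) = rv (ruI (fL h v))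
      rw [rv_fL, rv_I, rv_I, rv_fL, ((ok_spec h).2 _ (rv_mem v)).2.2.2]),
    fun v => by rw [dt_norm, dt_norm]; exact fL_nm h v⟩ else 1

theorem rv_el {M : ℕ} (h : ok M = true) (v : L) : rv (el M • v) = fM M (rv v) := by
  rw [el, dif_pos h]; exact rv_fL h v

open Classical in
noncomputable def pt (c : ℕ) : L := if h : dv c ∈ SW then mkL _ h else 0

def VC (c : ℕ) : Prop := Dg c ∧ dv c ∈ SW ∧ dv c ⬝ᵥ dv c ≤ 64

theorem VC.val {c : ℕ} (h : VC c) : rv (pt c) = dv c := by rw [pt, dif_pos h.2.1, rv_mkL]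

theorem VC.inj {c d : ℕ} (hc : VC c) (hd : VC d) (e : pt c = pt d) : c = d :=
  dv_inj hc.1 hd.1 (by rw [← hc.val, e, hd.val])

theorem VC_code {x : L} (h : dt x x ≤ 64) : VC (code (rv x)) ∧ pt (code (rv x)) = x := by
  obtain ⟨a, b⟩ := code_spec (bd_of h)
  have : VC (code (rv x)) := ⟨a, b.symm ▸ rv_mem x, b.symm ▸ h⟩
  exact ⟨this, rv_inj (this.val.trans b)⟩

theorem el_smul {M c : ℕ} (h : ok M = true) (hc : VC c) :
    VC (act (prep M) c) ∧ el M • pt c = pt (act (prep M) c) := by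
  have hn : dt (el M • pt c) (el M • pt c) ≤ 64 := by rw [g_nm, dt, hc.val]; exact hc.2.2
  rw [act_eq (ok_spec h).1 hc.1 (bd_of hn)
    (by rw [rv_el h, hc.val]; exact ((ok_spec h).2 _ hc.2.1).1.mul)]
  exact ⟨(VC_code hn).1, (VC_code hn).2.symm⟩

noncomputable def nrm (c : ℕ) : ℕ := sumLt 56 fun i => force (dgf c i) fun d =>
  Nat.add (Nat.mul (Nat.sub d 8) (Nat.sub d 8)) (Nat.mul (Nat.sub 8 d) (Nat.sub 8 d))

noncomputable def vcb (c : ℕ) : Bool :=
  band (Nat.ble c MD) (band (Nat.beq (nrm c) 16) (memb c))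

theorem vcb_sound {c : ℕ} (h : vcb c = true) : VC c ∧ pt c ∈ SL 16 := by
  simp only [vcb, band_eq, Bool.and_eq_true, Nat.ble_eq, Nat.beq_eq] at h
  obtain ⟨h1, h2, h3⟩ := h
  have h4 : dv c ⬝ᵥ dv c = 16 := by
    rw [nrm, sumLt_eq, sum_range] at h2
    rw [dotProduct, ← show ((16 : ℕ) : ℤ) = 16 from rfl, ← h2, Nat.cast_sum]
    refine sum_congr rfl fun i _ => ?_
    simp only [force_eq, dgf_eq, dv, Nat.add_eq, Nat.mul_eq, Nat.sub_eq]
    rcases le_total (dg 25 c i) 8 with h | h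
    · rw [Nat.sub_eq_zero_of_le h]; push_cast [h]; ring
    · rw [Nat.sub_eq_zero_of_le h]; push_cast [h]; ring
  have hd : Dg c := ⟨h1.trans_lt (by decide +kernel), fun i hi => by
    have := (bd_of (y := dv c) (by omega) ⟨i, hi⟩).2
    simp only [dv] at this; omega⟩
  have hv : VC c := ⟨hd, memb_sound hd h3, by omega⟩
  exact ⟨hv, by rw [SL, Set.mem_setOf_eq, dt, hv.val, h4]⟩

/-! ### words -/

noncomputable def prepL (Ms : List ℕ) : (List TR → Bool) → Bool :=
  List.rec (motive := fun _ => (List TR → Bool) → Bool) (fun k => k [])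
    (fun M _ ih k => forceT (prep M) fun t => ih fun l => k (t :: l)) Ms

theorem prepL_eq (Ms : List ℕ) : ∀ k, prepL Ms k = k (Ms.map prep) := by
  induction Ms with
  | nil => intro k; rfl
  | cons M Ms ih =>
    intro k
    have : prepL (M :: Ms) k = forceT (prep M) fun t => prepL Ms fun l => k (t :: l) := rfl
    rw [this, forceT_eq, ih, List.map_cons]

theorem gd_prep {Ms : List ℕ} {a : ℕ} (h : a < Ms.length) :
    gd ⟨0, 0, 0⟩ (Ms.map prep) a = prep (gd 0 Ms a) := by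
  rw [gd_eq, gd_eq, List.getD_eq_getElem _ _ h, List.getD_eq_getElem _ _ (by simpa using h),
    List.getElem_map]

noncomputable def actW (ts : List TR) (w : List ℕ) : ℕ → ℕ :=
  List.rec (motive := fun _ => ℕ → ℕ) (fun c => c) (fun a _ ih c => force (act (gd ⟨0, 0, 0⟩ ts a) c) ih) w

theorem actW_cons (ts : List TR) (a : ℕ) (w : List ℕ) (c : ℕ) :
    actW ts (a :: w) c = actW ts w (act (gd ⟨0, 0, 0⟩ ts a) c) := force_eq _ _

noncomputable def l0 (Ms : List ℕ) (a : ℕ) : G := if a < Ms.length then (el (gd 0 Ms a))⁻¹ else 1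

theorem actW_spec {Ms : List ℕ} (hM : allL ok Ms = true) {w : List ℕ}
    (hw : smallW Ms.length w = true) : ∀ {c}, VC c → VC (actW (Ms.map prep) w c) ∧
      (ev (l0 Ms) w)⁻¹ • pt c = pt (actW (Ms.map prep) w c) := by
  have hw' : ∀ a ∈ w, a < Ms.length := fun a ha => Nat.le_of_ble_eq_true (allL_sound hw a ha)
  clear hw
  induction w with
  | nil => intro c hc; rw [ev_nil, inv_one, one_smul]; exact ⟨hc, rfl⟩
  | cons a w ih =>
    intro c hc
    have ha := hw' a (by simp)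
    obtain ⟨h1, h2⟩ := el_smul (allL_sound hM _ (gd_mem 0 ha)) hc
    obtain ⟨h3, h4⟩ := ih (fun b hb => hw' b (by simp [hb])) h1
    rw [actW_cons, gd_prep ha]
    exact ⟨h3, by rw [ev_cons, _root_.mul_inv_rev, mul_smul, l0, if_pos ha, inv_inv, h2, h4]⟩

noncomputable def c4 (i : ℕ) : ℕ := Nat.add Z1 (Nat.shiftLeft 4 (Nat.mul 25 i))

theorem c4_spec (i : Fin 56) : VC (c4 i) ∧ pt (c4 i) = e4 i := by
  have : ∀ i : Fin 56, c4 i = code (Pi.single i 4) := by decide +kernel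
  rw [this, ← rv_mkL _ (e4_mem i)]; exact VC_code ((e4_nm i).le.trans (by norm_num))

/-- a word maps one vector to another -/
noncomputable def mapW (Ms w : List ℕ) (c d : ℕ) : Bool :=
  band (smallW Ms.length w) (prepL Ms fun ts => Nat.beq (actW ts w c) d)

theorem mapW_sound {Ms w : List ℕ} {c d : ℕ} (hM : allL ok Ms = true) (hc : VC c)
    (h : mapW Ms w c d = true) : (ev (l0 Ms) w)⁻¹ • pt c = pt d := by
  rw [mapW, band_eq, prepL_eq, Bool.and_eq_true] at h
  rw [(actW_spec hM h.1 hc).2, Nat.eq_of_beq_eq_true h.2]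

/-- two words act in the same way -/
noncomputable def eqW (Ms u v : List ℕ) : Bool :=
  band (smallW Ms.length u) (band (smallW Ms.length v) (prepL Ms fun ts =>
    allLin (fun i => force (c4 i) fun c => Nat.beq (actW ts u c) (actW ts v c)) 0 56))

theorem eqW_sound {Ms : List ℕ} (hM : allL ok Ms = true) {u v : List ℕ}
    (h : eqW Ms u v = true) : ev (l0 Ms) u = ev (l0 Ms) v := by
  simp only [eqW, band_eq, Bool.and_eq_true, force_eq, prepL_eq] at h
  refine inv_injective (g_ext4 fun i => ?_)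
  obtain ⟨a, b⟩ := c4_spec i
  rw [← b, (actW_spec hM h.1 a).2, (actW_spec hM h.2.1 a).2,
    Nat.eq_of_beq_eq_true (allLin_sound h.2.2 _ (Nat.zero_le _) (by simpa using i.2))]

/-! ### the scalars -/

theorem ok_J : ok MJ = true := by decide +kernel
noncomputable def J : G := el MJ
theorem J_smul (v : L) : J • v = ruI v := rv_inj ((rv_el ok_J v).trans (rv_I v).symm)
theorem J_central : J ∈ Subgroup.center G := Subgroup.mem_center_iff.2 fun g => g_ext fun v => by
  rw [mul_smul, mul_smul, J_smul, J_smul]; exact g.2.2.1 v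

noncomputable def jp (t : TR) (k c : ℕ) : ℕ :=
  Nat.rec (motive := fun _ => ℕ) c (fun _ ih => force ih (act t)) k

theorem jp_spec {c : ℕ} (hc : VC c) (k : ℕ) :
    VC (jp (prep MJ) k c) ∧ J ^ k • pt c = pt (jp (prep MJ) k c) := by
  induction k with
  | zero => exact ⟨hc, one_smul _ _⟩
  | succ k ih =>
    rw [show jp (prep MJ) (k + 1) c = act (prep MJ) (jp (prep MJ) k c) from force_eq _ _, pow_succ',
      mul_smul, ih.2]
    exact el_smul ok_J ih.1

theorem J_four : J ^ 4 = 1 := g_ext4 fun i => by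
  obtain ⟨a, b⟩ := c4_spec i
  have h : ∀ i : Fin 56, jp (prep MJ) 4 (c4 i) = c4 i := by decide +kernel
  rw [← b, (jp_spec a 4).2, h, one_smul]

abbrev mk1 : G →* Spor.Ru := QuotientGroup.mk' (Subgroup.center G)

noncomputable def amq (vec : ℕ → ℕ) (T : PT) (Ms : List ℕ) (lo hi : ℕ) : Bool :=
  forceT (prep MJ) fun tj => prepL Ms fun ts => allRange (fun i => force (vec i) fun c => allLin (fun a =>
    force (T.tgt i a) fun t => band (Nat.ble (Nat.succ t) T.N)
      (Nat.beq (act (gd ⟨0, 0, 0⟩ ts a) c) (jp tj (T.cv i a) (vec t)))) 0 T.G) lo hi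

def AmP (vec : ℕ → ℕ) (T : PT) (Ms : List ℕ) (i : ℕ) : Prop := ∀ a < T.G, T.tgt i a < T.N ∧
  act (gd ⟨0, 0, 0⟩ (Ms.map prep) a) (vec i) = jp (prep MJ) (T.cv i a) (vec (T.tgt i a))

theorem amq_rng {vec : ℕ → ℕ} {T : PT} {Ms : List ℕ} {lo hi : ℕ} (h : amq vec T Ms lo hi = true) :
    ∀ i, lo ≤ i → i < hi → AmP vec T Ms i := fun i h1 h2 a ha => by
  rw [amq, forceT_eq, prepL_eq] at h
  have := allRange_sound h i h1 h2
  rw [force_eq] at this
  have := allLin_sound this a (Nat.zero_le _) (by omega)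
  simp only [force_eq, band_eq, Bool.and_eq_true, Nat.ble_eq, Nat.beq_eq] at this
  exact this

theorem am_q {vec : ℕ → ℕ} {T : PT} {Ms : List ℕ} (hG : T.G ≤ Ms.length) (hM : allL ok Ms = true)
    (hv : ∀ i < T.N, VC (vec i)) (h : ∀ i < T.N, AmP vec T Ms i) :
    AM T (fun a => mk1 (l0 Ms a)) fun i => OQ.mk G (pt (vec i)) := fun i hi a ha => by
  obtain ⟨h1, h2⟩ := h i hi a ha
  have ha' := ha.trans_le hG
  rw [gd_prep ha'] at h2
  refine ⟨h1, ?_⟩
  rw [← map_inv, l0, if_pos ha', inv_inv]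
  show OQ.mk G (el _ • _) = _
  rw [(el_smul (allL_sound hM _ (gd_mem 0 ha')) (hv i hi)).2, h2, ← (jp_spec (hv _ h1) _).2, OQ.eq]
  exact ⟨_, pow_mem J_central _, rfl⟩

end Cfsg.Agent.H25.Ru
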