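import Mathlib
import Cfsg.Agent.H25.RuG
import Cfsg.Agent.H25.RuC1
import Cfsg.Agent.H25.RuC2
import Cfsg.Agent.H25.RuC3

/-! The short vectors of the lattice of the Rudvalis group. -/

set_option linter.all false
set_option maxRecDepth 100000
set_option exponentiation.threshold 5000

namespace Cfsg.Agent.H25.Ru
open Cfsg.Agent.H14 (sumLt sumLt_eq)
open Cfsg.Agent.H25.Leech (dg_sum eq_sum_dg dg_land dg_shift dg_lt dgf dgf_eq exists_mask)
open Finset Matrix

theorem lc_vc : ∀ j < 19, VC (lc j) := fun j hj =>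
  (vcb_sound ((show ∀ j < 19, vcb (lc j) = true by decide +kernel) j hj)).1

theorem bit_eq (m j : ℕ) : Nat.land (Nat.shiftRight m j) 1 = dg 1 m j := by
  show (m >>> j) &&& 1 = _
  rw [Nat.and_one_is_mod, Nat.shiftRight_eq_div_pow, dg, one_mul, pow_one]

theorem bit_le (m j : ℕ) : dg 1 m j ≤ 1 := Nat.le_of_lt_succ (dg_lt 1 m j)

noncomputable def cv (m : ℕ) : W := ∑ j ∈ range 19, (dg 1 m j : ℤ) • dv (lc j)

theorem cv_mem (m : ℕ) : cv m ∈ SW :=
  SW.sum_mem fun j hj => SW.zsmul_mem (lc_vc j (mem_range.1 hj)).2.1 _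

theorem cmb_eq (m : ℕ) : cmb m = ∑ j ∈ range 19, dg 1 m j * lc j := by
  rw [cmb, sumLt_eq]; exact sum_congr rfl fun j _ => by rw [bit_eq]; rfl

theorem D_eq (m : ℕ) {k : ℕ} (hk : k < 56) : D m k = ∑ j ∈ range 19, dg 1 m j * dg 25 (lc j) k := by
  have e : cmb m = pk fun k => ∑ j ∈ range 19, dg 1 m j * dg 25 (lc j) k := by
    rw [cmb_eq, sum_congr rfl fun j hj => congrArg _ (lc_vc j (mem_range.1 hj)).1.eq]
    simp only [pk, mul_sum, sum_mul, mul_assoc]
    exact sum_comm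
  rw [D, dgf_eq, e, dg_pk (fun k hk => (sum_le_card_nsmul _ _ 16 fun j hj => (Nat.mul_le_mul (bit_le m j)
    ((lc_vc j (mem_range.1 hj)).1.2 k hk))).trans (by simp)) hk]

theorem D_cv (m : ℕ) (k : Fin 56) : 8 ∣ (D m k : ℤ) - cv m k := by
  rw [D_eq m k.2, cv, Finset.sum_apply, Nat.cast_sum, ← sum_sub_distrib]
  exact dvd_sum fun j _ => ⟨dg 1 m j, by simp only [Pi.smul_apply, dv, smul_eq_mul]; push_cast; ring⟩

def MUc : List ℕ := [nat_lit 0, nat_lit 408738, nat_lit 268973, nat_lit 115696, nat_lit 158931, nat_lit 504443, nat_lit 218040, nat_lit 404334, nat_lit 207695, nat_lit 190053, nat_lit 40315, nat_lit 249933, nat_lit 391702, nat_lit 208113, nat_lit 133111, nat_lit 439542, nat_lit 0, nat_lit 492123, nat_lit 294107, nat_lit 299616, nat_lit 0, nat_lit 418795, nat_lit 0, nat_lit 33345, nat_lit 29667, nat_lit 93092, nat_lit 490412, nat_lit 468868, nat_lit 29667, nat_lit 93092, nat_lit 397470, nat_lit 7400, nat_lit 29667, nat_lit 93092, nat_lit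 490412, nat_lit 453087, nat_lit 29667, nat_lit 58972, nat_lit 418795, nat_lit 114069, nat_lit 125129, nat_lit 189386, nat_lit 51894, nat_lit 190181, nat_lit 100789, nat_lit 285858, nat_lit 340199, nat_lit 175266, nat_lit 218040, nat_lit 347316, nat_lit 357120, nat_lit 397470, nat_lit 493647, nat_lit 404334, nat_lit 238614, nat_lit 205972]

def Par (m : ℕ) (x : W) : Prop := ∀ k : Fin 56, 2 ∣ x k - D m k

theorem exists_par {x : W} (hx : x ∈ SW) : ∃ m < 2 ^ 19, Par m x := by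
  obtain ⟨c, hc⟩ : ∃ c : ℕ → ℤ, ∀ k, 2 ∣ x k - ∑ j ∈ range 19, c j * dv (lc j) k := by
    induction hx using AddSubgroup.closure_induction with
    | mem x hx =>
      obtain ⟨i, rfl⟩ := hx
      have h : ∀ i k : Fin 56, (md MU i k + D (gd 0 MUc i) k) % 2 = 0 := by decide +kernel
      refine ⟨fun j => dg 1 (gd 0 MUc i) j, fun k => ?_⟩
      have a := D_cv (gd 0 MUc i) k
      have b := h i k
      rw [cv, Finset.sum_apply] at a
      simp only [Pi.smul_apply, smul_eq_mul] at a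
      simp only [mat, row]
      omega
    | zero => exact ⟨0, by simp⟩
    | add x y _ _ a b =>
      obtain ⟨c, hc⟩ := a
      obtain ⟨d, hd⟩ := b
      exact ⟨c + d, fun k => by
        have := hc k; have := hd k
        simp only [Pi.add_apply, add_mul, sum_add_distrib]; omega⟩
    | neg x _ a =>
      obtain ⟨c, hc⟩ := a
      exact ⟨c, fun k => by have := hc k; simp only [Pi.neg_apply]; omega⟩
  obtain ⟨m, hm, h⟩ := exists_mask (fun j => c j % 2 = 1) 19
  refine ⟨m, hm, fun k => ?_⟩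
  have a := D_cv m k
  have b : 2 ∣ ∑ j ∈ range 19, c j * dv (lc j) k - cv m k := by
    rw [cv, Finset.sum_apply, ← sum_sub_distrib]
    refine dvd_sum fun j hj => ?_
    rw [Pi.smul_apply, smul_eq_mul, ← sub_mul]
    refine Dvd.dvd.mul_right ?_ _
    have := h j (mem_range.1 hj)
    rw [Nat.testBit_eq_decide_div_mod_eq, decide_eq_true_eq] at this
    rw [dg, one_mul, pow_one]
    omega
  have := hc k
  omega

theorem wt_eq (m : ℕ) : wt m = ∑ k : Fin 56, D m k % 2 := by rw [wt, sumLt_eq, sum_range]; rfl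

theorem mod_eq (a b : ℕ) : Nat.mod a b = a % b := rfl
theorem div_eq (a b : ℕ) : Nat.div a b = a / b := rfl
theorem land_eq (a b : ℕ) : Nat.land a b = a &&& b := rfl

theorem acc_eq {m : ℕ} (hm : m < 2 ^ 19) :
    hb (m / 2 ^ 15) + ∑ j ∈ range 15, dg 1 m j * rr j = m + cmb m * 2 ^ 25 := by
  have : ∀ t, dg 1 (m / 2 ^ 15) t = dg 1 m (15 + t) := fun t => by
    rw [add_comm, ← dg_shift, Nat.shiftRight_eq_div_pow]
  rw [hb, sumLt_eq, add_comm]
  simp only [this]
  rw [← sum_range_add (fun j => dg 1 m j * rr j), cmb_eq, sum_mul]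
  conv_rhs => enter [1]; rw [eq_sum_dg 1 19 m hm]
  rw [← sum_add_distrib]
  refine sum_congr rfl fun j _ => ?_
  rw [rr, Nat.add_eq, Nat.shiftLeft_eq', Nat.shiftLeft_eq', Nat.shiftLeft_eq, Nat.shiftLeft_eq]; ring

theorem msk_eq {m c : ℕ} (hm : m < 2 ^ 19) :
    ((m + c * 2 ^ 25) &&& MSK) % 33554431 = m + ∑ k ∈ range 56, dg 25 c k % 2 := by
  have a : MSK < 2 ^ (25 * 57) := by decide +kernel
  have b : ∀ j < 56, dg 25 MSK (j + 1) = 1 := by decide +kernel
  have c' : dg 25 MSK 0 = 2 ^ 25 - 1 := by decide +kernel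
  have d : ∑ k ∈ range 56, dg 25 c k % 2 ≤ 56 :=
    (sum_le_card_nsmul _ _ 1 fun j _ => by omega).trans (by simp)
  have f : ∀ j, 2 ^ (25 * j) ≡ 1 [MOD 33554431] := fun j => by
    rw [pow_mul]; simpa using (show 2 ^ 25 ≡ 1 [MOD 33554431] by decide +kernel).pow j
  have g1 : (m + c * 2 ^ 25) / 2 ^ 25 = c := by
    rw [Nat.add_mul_div_right _ _ (by positivity), Nat.div_eq_of_lt (by omega), zero_add]
  have g2 : (m + c * 2 ^ 25) % 2 ^ 25 = m := by
    rw [Nat.add_mul_mod_self_right, Nat.mod_eq_of_lt (by omega)]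
  generalize m + c * 2 ^ 25 = A at g1 g2
  rw [eq_sum_dg 25 57 _ (lt_of_le_of_lt Nat.and_le_right a), sum_range_succ', add_comm m,
    ← Nat.mod_eq_of_lt (show ∑ k ∈ range 56, dg 25 c k % 2 + m < 33554431 by omega)]
  refine Nat.ModEq.add (Nat.ModEq.sum fun j hj => ?_) ?_
  · rw [dg_land, b j (mem_range.1 hj), dg_succ, g1, Nat.and_one_is_mod]
    simpa using (f (j + 1)).mul_left _
  · rw [dg_land, c', Nat.and_two_pow_sub_one_eq_mod, dg_zero_idx, g2, Nat.mod_eq_of_lt (by omega),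
      mul_zero, pow_zero, mul_one]

theorem leaf_spec {acc m s : ℕ} (e1 : Nat.land acc 33554431 = m)
    (e2 : Nat.mod (Nat.land acc MSK) 33554431 = s) (h1 : leaf acc = true) :
    m + 17 ≤ s ∨ m = 0 ∨ (∃ R ∈ CL, cm R = m) ∨ ∃ p ∈ EL, p.1 = m := by
  rw [leaf, force_eq, e1, e2, force_eq] at h1
  generalize look.get _ _ = t at h1
  by_cases h5 : m = 0
  · exact Or.inr (Or.inl h5)
  have h2 : Nat.beq m 0 = false := Bool.eq_false_iff.2 fun h => h5 (Nat.eq_of_beq_eq_true h)
  cases h3 : Nat.ble (Nat.add m 17) s with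
  | true => exact Or.inl (Nat.le_of_ble_eq_true h3)
  | false =>
    rw [h2, h3] at h1
    refine Or.inr (Or.inr ?_)
    have a := gd_cases 0 CL t
    have b := gd_cases (0, []) EL (Nat.sub t 952)
    generalize gd 0 CL t = R at a h1
    generalize gd (0, []) EL (Nat.sub t 952) = p at b h1
    cases h6 : Nat.beq (cm R) m with
    | true =>
      have h7 := Nat.eq_of_beq_eq_true h6
      exact Or.inl ⟨R, a.resolve_right fun h => h5 (by rw [← h7, h]; rfl), h7⟩
    | false =>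
      rw [h6] at h1
      have h7 := Nat.eq_of_beq_eq_true h1
      exact Or.inr ⟨p, b.resolve_right fun h => h5 (by rw [← h7, h]), h7⟩

theorem en_all : ∀ h < 16, allLe rr (fun _ => true) leaf 15 15 (hb h) = true := fun h hh => by
  interval_cases h; exacts [en0, en1, en2, en3, en4, en5, en6, en7, en8, en9, en10, en11, en12, en13, en14, en15]

theorem leaf_all {m : ℕ} (hm : m < 2 ^ 19) :
    17 ≤ wt m ∨ m = 0 ∨ (∃ R ∈ CL, cm R = m) ∨ ∃ p ∈ EL, p.1 = m := by
  have h1 := allLe_sound (dg 1 m) 15 15 _ (en_all (m / 2 ^ 15) (by omega))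
    (fun j _ => by have := bit_le m j; simp only [and_true]; omega)
    ((sum_le_card_nsmul _ _ 1 fun j _ => bit_le m j).trans (by simp))
  rw [acc_eq hm] at h1
  have h2 := leaf_spec (m := m) (s := m + wt m) (by
    rw [land_eq, show 33554431 = 2 ^ 25 - 1 by norm_num, Nat.and_two_pow_sub_one_eq_mod,
      Nat.add_mul_mod_self_right, Nat.mod_eq_of_lt (by omega)]) (by
    rw [mod_eq, land_eq, msk_eq hm, wt, sumLt_eq]
    simp only [D, dgf_eq, mod_eq]) h1
  exact h2.imp_left fun h => by omega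

/-- positions with an entry congruent to two modulo four -/
def tw (x : W) (k : ℕ) : ℕ := if x (fi k) % 4 = 2 then 1 else 0

theorem sq_ge {m : ℕ} {x : W} (h : Par m x) (k : Fin 56) :
    ((D m k % 2 : ℕ) : ℤ) + 4 * (tw x k : ℕ) ≤ x k * x k := by
  have := h k
  rw [tw, fi_fin]
  rcases (by omega : x k = 0 ∨ x k = 1 ∨ x k = -1 ∨ x k = 2 ∨ x k = -2 ∨ 3 ≤ x k ∨ x k ≤ -3) with
    e | e | e | e | e | e | e
  iterate 5 (rw [e] at this ⊢; split_ifs <;> omega)
  all_goals (have : 9 ≤ x k * x k := by nlinarith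
             split_ifs <;> omega)

theorem wt_le {m : ℕ} {x : W} (h : Par m x) :
    (wt m : ℤ) + 4 * (∑ k ∈ range 56, tw x k : ℕ) ≤ x ⬝ᵥ x := by
  rw [wt_eq, sum_range, Nat.cast_sum, Nat.cast_sum, mul_sum, ← sum_add_distrib]
  exact sum_le_sum fun k _ => sq_ge h k

theorem enc8_lin (f : ℕ → ℕ) (g : ℕ → ℕ → ℕ) (c : ℕ → ℕ) (l : List ℕ) :
    enc8 f l + ∑ k ∈ range 56, c k * enc8 (g k) l = enc8 (fun a => f a + ∑ k ∈ range 56, c k * g k a) l := by
  induction l with
  | nil => simp [enc8]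
  | cons a l ih =>
    show f a + 8 * enc8 f l + ∑ k ∈ range 56, c k * (g k a + 8 * enc8 (g k) l) =
      f a + ∑ k ∈ range 56, c k * g k a + 8 * enc8 _ l
    rw [← ih]
    simp only [mul_add, sum_add_distrib, mul_sum, mul_left_comm _ 8]
    ring

theorem enc8_even {f : ℕ → ℕ} {l : List ℕ} (h : ∀ a ∈ l, f a < 8 ∧ f a % 2 = 0) :
    Nat.land (enc8 f l) O8 = 0 := by
  have key : ∀ j, dg 3 (enc8 f l) j % 2 = 0 := by
    induction l with
    | nil => simp [enc8]
    | cons a l ih =>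
      intro j
      have := h a (by simp)
      show dg 3 (f a + 8 * enc8 f l) j % 2 = 0
      cases j with
      | zero => rw [dg_zero_idx]; omega
      | succ j =>
        rw [dg_succ, show (f a + 8 * enc8 f l) / 2 ^ 3 = enc8 f l by omega]
        exact ih (fun b hb => h b (by simp [hb])) j
  have a : O8 < 2 ^ (3 * 21) := by decide +kernel
  have b : ∀ j < 21, dg 3 O8 j = 1 := by decide +kernel
  show _ &&& O8 = 0
  rw [eq_sum_dg 3 21 _ (lt_of_le_of_lt Nat.and_le_right a)]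
  exact sum_eq_zero fun j hj => by rw [dg_land, b j (mem_range.1 hj), Nat.and_one_is_mod, key, zero_mul]

theorem term4 (x l : ℤ) (p d : ℕ) (h1 : 2 ∣ x - p) (h2 : 8 ∣ d - l) (h3 : p % 2 * (d % 2) = 0) :
    4 ∣ x * l - ((p % 2 * d : ℕ) + 2 * ((if x % 4 = 2 then 1 else 0) * (d % 2) : ℕ)) := by
  have e := Int.mul_emod x l 4
  generalize x * l = y at e
  rcases (by omega : x % 4 = 0 ∨ x % 4 = 1 ∨ x % 4 = 2 ∨ x % 4 = 3) with a | a | a | a <;>
  rcases (by omega : l % 4 = 0 ∨ l % 4 = 1 ∨ l % 4 = 2 ∨ l % 4 = 3) with b | b | b | b <;>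
  rcases Nat.mod_two_eq_zero_or_one p with c | c <;> rw [a, b] at e <;> rw [c] at h3 ⊢ <;>
  simp only [a] <;> norm_num at e h3 ⊢ <;> omega

theorem emp_sound {m : ℕ} {ms : List ℕ} (h : emp m ms = true) {x : W} (hx : x ∈ SW) (hn : x ⬝ᵥ x ≤ 16)
    (hp : Par m x) : bas m ms + ∑ k ∈ range 56, tw x k * col ms k = 0 := by
  rw [emp, force_eq, force_eq] at h
  have h1 := wt_le hp
  have h2 := allLe_sound (tw x) 56 _ _ (band_r h) (fun j hj => by
    have := hp (fi j)
    rw [fi_val hj] at this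
    simp only [tw, Nat.beq_eq, mod_eq]
    split_ifs <;> omega) (by simp only [div_eq, Nat.sub_eq]; omega)
  have h3 : Nat.land (bas m ms + ∑ k ∈ range 56, tw x k * col ms k) O8 = 0 := by
    rw [bas]
    simp only [col]
    rw [enc8_lin]
    refine enc8_even fun a ha => ?_
    have b1 : ∑ k ∈ range 56, tw x k * Nat.mod (D a k) 2 ≤ ∑ k ∈ range 56, tw x k :=
      sum_le_sum fun k _ => mul_le_of_le_one_right' (Nat.le_of_lt_succ (Nat.mod_lt _ two_pos))
    have b2 : 4 ∣ x ⬝ᵥ cv a - ((bs m a : ℕ) + 2 * (∑ k ∈ range 56, tw x k * Nat.mod (D a k) 2 : ℕ)) := by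
      rw [bs, sumLt_eq, sum_range, sum_range, dotProduct, Nat.cast_sum, Nat.cast_sum, mul_sum,
        ← sum_add_distrib, ← sum_sub_distrib]
      refine dvd_sum fun k _ => ?_
      rw [tw, fi_fin]
      exact term4 _ _ _ _ (hp k) (D_cv a k) (Nat.eq_of_beq_eq_true
        (allLin_sound (allL_sound (band_l h) a ha) k (Nat.zero_le _) (by simpa using k.2)))
    have b3 := four_dvd hx (cv_mem a)
    simp only [mod_eq, div_eq] at b1 b2 ⊢
    omega
  rw [h3] at h2
  exact Nat.eq_of_beq_eq_true h2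

theorem classify {x : W} (hx : x ∈ SW) (hn : x ⬝ᵥ x ≤ 16) : x = 0 ∨
    (∃ p : Fin 56 × Bool, x = Pi.single p.1 (if p.2 then 4 else -4)) ∨ ∃ R ∈ CL, Par (cm R) x := by
  obtain ⟨m, hm, hp⟩ := exists_par hx
  rcases leaf_all hm with h | rfl | ⟨R, h, rfl⟩ | ⟨p, h, rfl⟩
  · have := wt_le hp; omega
  · have h1 := emp_sound hemp0 hx hn hp
    have h2 : ∀ k < 56, col units k ≠ 0 ∧ D 0 k = 0 := by decide +kernel
    have h3 : ∀ k : Fin 56, 4 ∣ x k := fun k => by
      have a := sum_eq_zero_iff.1 (Nat.add_eq_zero_iff.1 h1).2 k (mem_range.2 k.2)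
      have b := hp k
      rw [(h2 k k.2).2] at b
      rw [Nat.mul_eq_zero, or_iff_left (h2 k k.2).1, tw, fi_fin] at a
      split_ifs at a <;> omega
    by_cases h0 : x = 0
    · exact Or.inl h0
    obtain ⟨k, hk⟩ := Function.ne_iff.1 h0
    have a := h3 k
    have b : 16 ≤ x k * x k := by
      rcases (by simp only [Pi.zero_apply] at hk; omega : 4 ≤ x k ∨ x k ≤ -4) with e | e <;> nlinarith
    rw [dotProduct, ← add_sum_erase _ _ (mem_univ k)] at hn
    have c := sum_nonneg (s := univ.erase k) fun i _ => mul_self_nonneg (x i)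
    have d := (sum_eq_zero_iff_of_nonneg (s := univ.erase k) fun i _ => mul_self_nonneg (x i)).1 (by omega)
    have e : x k = 4 ∨ x k = -4 := mul_self_eq_mul_self_iff.1 (by omega)
    refine Or.inr (Or.inl ⟨(k, decide (x k = 4)), funext fun j => ?_⟩)
    by_cases f : j = k
    · subst f; rcases e with e | e <;> simp [e]
    · rw [Pi.single_eq_of_ne f]; exact mul_self_eq_zero.1 (d j (by simp [f]))
  · exact Or.inr (Or.inr ⟨R, h, hp⟩)
  · have h1 := allL_sound hemp p h
    have h2 := emp_sound (band_l h1) hx hn hp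
    have := Nat.le_of_ble_eq_true (band_r h1)
    omega

theorem brec_f {u v : ℕ → ℕ} {k : ℕ} (h : allLin (fun k => Bool.rec (anyL (fun e => Nat.beq (v e) k)
    (List.range 16)) true (Nat.beq (Nat.mod (u k) 2) 0)) 0 56 = true) (hk : k < 56) (e : u k % 2 = 1) :
    ∃ e < 16, v e = k := by
  have := allLin_sound h k (Nat.zero_le _) (by omega)
  rw [mod_eq, e] at this
  obtain ⟨i, i1, i2⟩ := anyL_sound (l := List.range 16) this
  exact ⟨i, List.mem_range.1 i1, Nat.eq_of_beq_eq_true i2⟩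

theorem con_spec {R : ℕ} (h : con R = true) : wt (cm R) = 16 ∧
    (∀ k < 56, D (cm R) k % 2 = 1 → ∃ e < 16, cp R e = k) ∧
    ∀ e, cn R ≤ e → e < 16 → ∀ e', cn R ≤ e' → e' < 16 →
      (D (cq R e) (cp R e') % 2 = 1 ↔ cp R e' = cp R e) := by
  simp only [con, force_eq, band_eq, Bool.and_eq_true, Nat.beq_eq] at h
  obtain ⟨h1, h2, h3⟩ := h
  refine ⟨h1, fun k hk e => ?_, fun e a b e' c d => ?_⟩
  · exact brec_f h2 hk e
  · have f := Nat.eq_of_beq_eq_true (allLin_sound (allLin_sound h3 e a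
      (by simp only [Nat.sub_eq]; omega)) e' c (by simp only [Nat.sub_eq]; omega))
    rw [mod_eq] at f
    rw [f]
    generalize cp R e' = u
    generalize cp R e = v
    cases g : Nat.beq u v with
    | true => exact iff_of_true rfl (Nat.eq_of_beq_eq_true g)
    | false => exact iff_of_false Nat.zero_ne_one (Nat.ne_of_beq_eq_false g)

theorem con_wt {R : ℕ} (h : R ∈ CL) : wt (cm R) = 16 := (con_spec (allL_sound hcon R h)).1

theorem min_norm {x : W} (hx : x ∈ SW) (h0 : x ≠ 0) : 16 ≤ x ⬝ᵥ x := by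
  by_contra h
  rcases classify hx (by omega) with e | ⟨p, rfl⟩ | ⟨R, a, b⟩
  · exact h0 e
  · rw [single_dotProduct, Pi.single_eq_same] at h; split_ifs at h <;> omega
  · have := wt_le b
    rw [con_wt a] at this; omega

theorem shape {m : ℕ} {x : W} (hw : wt m = 16) (hn : x ⬝ᵥ x = 16) (hp : Par m x) (k : Fin 56) :
    x k = 0 ∨ D m k % 2 = 1 ∧ (x k = 1 ∨ x k = -1) := by
  have a : ∀ k ∈ (univ : Finset (Fin 56)), ((D m (k : ℕ) % 2 : ℕ) : ℤ) ≤ x k * x k := fun k _ => by
    have := sq_ge hp k; omega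
  have b := (sum_eq_sum_iff_of_le a).1 (by rw [← Nat.cast_sum, ← wt_eq, hw]; exact hn.symm) k (mem_univ k)
  rcases Nat.mod_two_eq_zero_or_one (D m k) with e | e <;> rw [e] at b
  · exact Or.inl (mul_self_eq_zero.1 b.symm)
  · exact Or.inr ⟨e, mul_self_eq_one_iff.1 b.symm⟩

theorem con_inj {R : ℕ} (h : R ∈ CL) {x y : W} (hx : x ∈ SW ∧ x ⬝ᵥ x = 16 ∧ Par (cm R) x)
    (hy : y ∈ SW ∧ y ⬝ᵥ y = 16 ∧ Par (cm R) y)
    (hs : ∀ e < cn R, 0 < x (fi (cp R e)) ↔ 0 < y (fi (cp R e))) : x = y := by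
  obtain ⟨h1, h2, h3⟩ := con_spec (allL_sound hcon R h)
  have sx := shape h1 hx.2.1 hx.2.2
  have sy := shape h1 hy.2.1 hy.2.2
  have key : ∀ k : Fin 56, (x - y) k = 0 ∨
      ((x - y) k = 2 ∨ (x - y) k = -2) ∧ ∃ e, cn R ≤ e ∧ e < 16 ∧ cp R e = (k : ℕ) := fun k => by
    have c := hx.2.2 k
    have d := hy.2.2 k
    rw [Pi.sub_apply]
    rcases sx k with a | ⟨e, a⟩
    · rcases sy k with b | ⟨e, b⟩ <;> omega
    rcases sy k with b | ⟨-, b⟩
    · omega
    obtain ⟨i, i1, i3⟩ := h2 k k.2 e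
    by_cases g : i < cn R
    · have := hs i g
      rw [i3, fi_fin] at this
      left; omega
    · by_cases g' : x k - y k = 0
      · exact Or.inl g'
      · exact Or.inr ⟨by omega, i, by omega, i1, i3⟩
  have b := fun m => four_dvd (SW.sub_mem hx.1 hy.1) (cv_mem m)
  rw [← sub_eq_zero]
  generalize x - y = z at key b
  funext k
  refine (key k).resolve_right ?_
  rintro ⟨a, e, e1, e2, e3⟩
  have par := h3 e e1 e2
  generalize cq R e = m at par
  have b := b m
  have g' := D_cv m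
  generalize cv m = l at b g'
  rw [dotProduct, ← add_sum_erase _ _ (mem_univ k)] at b
  have c : 4 ∣ ∑ j ∈ univ.erase k, z j * l j := dvd_sum fun j hj => by
    rcases key j with f | ⟨f, e', f1, f2, f3⟩
    · rw [f, zero_mul]; exact dvd_zero _
    · have g := par e' f1 f2
      have g' := g' j
      rw [e3, f3, Fin.val_inj, iff_false_right (ne_of_mem_erase hj)] at g
      rcases f with f | f <;> rw [f] <;> omega
  have g := (par e e1 e2).2 rfl
  have g' := g' k
  rw [e3] at g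
  generalize ∑ j ∈ univ.erase k, z j * l j = s at b c
  rcases a with f | f <;> rw [f] at b <;> omega

theorem ncard_list {α β : Type*} (l : List α) (B : α → Set β) (n : α → ℕ)
    (h : ∀ a ∈ l, (B a).ncard ≤ n a) : {x | ∃ a ∈ l, x ∈ B a}.ncard ≤ (l.map n).sum := by
  induction l with
  | nil => simp
  | cons a l ih =>
    rw [show {x | ∃ b ∈ a :: l, x ∈ B b} = B a ∪ {x | ∃ b ∈ l, x ∈ B b} by ext; simp, List.map_cons,
      List.sum_cons]
    exact (Set.ncard_union_le _ _).trans (add_le_add (h a (by simp)) (ih fun b hb => h b (by simp [hb])))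

theorem ncard_SL : (SL 16).ncard ≤ 16240 := by
  classical
  let B : ℕ → Set L := fun R => {v | v ∈ SL 16 ∧ Par (cm R) (rv v)}
  have h1 := ncard_list CL B (fun R => 2 ^ cn R) fun R hR => by
    rw [← card_range (cn R), ← card_powerset, ← Set.ncard_coe_finset]
    refine Set.ncard_le_ncard_of_injOn (fun v => (range (cn R)).filter fun e => 0 < rv v (fi (cp R e)))
      (fun v _ => mem_coe.2 (mem_powerset.2 (filter_subset _ _))) (fun v hv w hw e => rv_inj (con_inj hR ⟨rv_mem v, hv⟩ ⟨rv_mem w, hw⟩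
        fun i hi => ?_)) (Finset.finite_toSet _)
    simpa [hi] using Finset.ext_iff.1 e i
  have h2 : {v : L | ∃ p : Fin 56 × Bool, rv v = Pi.single p.1 (if p.2 then 4 else -4)}.ncard ≤ 112 := by
    refine (Set.ncard_le_ncard_of_injOn rv (t := Set.range fun p : Fin 56 × Bool =>
      (Pi.single p.1 (if p.2 then 4 else -4) : W)) (fun v hv => hv.imp fun p e => e.symm) rv_inj.injOn).trans ?_
    rw [← Set.image_univ]
    exact (Set.ncard_image_le).trans (by simp [Set.ncard_univ])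
  rw [show (CL.map fun R => 2 ^ cn R).sum = 16128 by decide +kernel] at h1
  refine (Set.ncard_le_ncard (fun v hv => ?_) (SL_finite.subset ?_)).trans
    ((Set.ncard_union_le _ _).trans (add_le_add h2 h1))
  · rcases classify (rv_mem v) (le_of_eq hv) with e | e | ⟨R, a, b⟩
    · rw [SL, Set.mem_setOf_eq, dt, e] at hv; simp at hv
    · exact Or.inl e
    · exact Or.inr ⟨R, a, hv, b⟩
  · rintro v (⟨p, e⟩ | ⟨R, -, a, -⟩)
    · rw [SL, Set.mem_setOf_eq, dt, e, single_dotProduct, Pi.single_eq_same]; split_ifs <;> norm_num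
    · exact a

end Cfsg.Agent.H25.Ru
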