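import Mathlib
import Cfsg.Agent.H25.Util
import Cfsg.Agent.H25.RuD0

set_option maxRecDepth 100000
set_option linter.all false

namespace Cfsg.Agent.H25.Ru
open Cfsg.Agent.H25

theorem hMs : allL ok Ms = true := by decide +kernel
theorem hM2 : allL ok M2 = true := by decide +kernel
theorem am_0 : amq vec T0 Ms (nat_lit 0) (nat_lit 290) = true := by decide +kernel
theorem am_1 : amq vec T0 Ms (nat_lit 290) (nat_lit 580) = true := by decide +kernel
theorem am_2 : amq vec T0 Ms (nat_lit 580) (nat_lit 870) = true := by decide +kernel
theorem am_3 : amq vec T0 Ms (nat_lit 870) (nat_lit 1160) = true := by decide +kernel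
theorem am_4 : amq vec T0 Ms (nat_lit 1160) (nat_lit 1450) = true := by decide +kernel
theorem am_5 : amq vec T0 Ms (nat_lit 1450) (nat_lit 1740) = true := by decide +kernel
theorem am_6 : amq vec T0 Ms (nat_lit 1740) (nat_lit 2030) = true := by decide +kernel
theorem am_7 : amq vec T0 Ms (nat_lit 2030) (nat_lit 2320) = true := by decide +kernel
theorem am_8 : amq vec T0 Ms (nat_lit 2320) (nat_lit 2610) = true := by decide +kernel
theorem am_9 : amq vec T0 Ms (nat_lit 2610) (nat_lit 2900) = true := by decide +kernel
theorem am_10 : amq vec T0 Ms (nat_lit 2900) (nat_lit 3190) = true := by decide +kernel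
theorem am_11 : amq vec T0 Ms (nat_lit 3190) (nat_lit 3480) = true := by decide +kernel
theorem am_12 : amq vec T0 Ms (nat_lit 3480) (nat_lit 3770) = true := by decide +kernel
theorem am_13 : amq vec T0 Ms (nat_lit 3770) (nat_lit 4060) = true := by decide +kernel
end Cfsg.Agent.H25.Ru
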