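import Mathlib
import Cfsg.Agent.H25.Util
import Cfsg.Agent.H25.RuD0

set_option maxRecDepth 100000
set_option linter.all false

namespace Cfsg.Agent.H25.Ru
open Cfsg.Agent.H25

theorem cn_0 : can (nat_lit 0) (nat_lit 290) = true := by decide +kernel
theorem cn_1 : can (nat_lit 290) (nat_lit 580) = true := by decide +kernel
theorem cn_2 : can (nat_lit 580) (nat_lit 870) = true := by decide +kernel
theorem cn_3 : can (nat_lit 870) (nat_lit 1160) = true := by decide +kernel
theorem cn_4 : can (nat_lit 1160) (nat_lit 1450) = true := by decide +kernel
theorem cn_5 : can (nat_lit 1450) (nat_lit 1740) = true := by decide +kernel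
theorem cn_6 : can (nat_lit 1740) (nat_lit 2030) = true := by decide +kernel
theorem cn_7 : can (nat_lit 2030) (nat_lit 2320) = true := by decide +kernel
theorem cn_8 : can (nat_lit 2320) (nat_lit 2610) = true := by decide +kernel
theorem cn_9 : can (nat_lit 2610) (nat_lit 2900) = true := by decide +kernel
theorem cn_10 : can (nat_lit 2900) (nat_lit 3190) = true := by decide +kernel
theorem cn_11 : can (nat_lit 3190) (nat_lit 3480) = true := by decide +kernel
theorem cn_12 : can (nat_lit 3480) (nat_lit 3770) = true := by decide +kernel
theorem cn_13 : can (nat_lit 3770) (nat_lit 4060) = true := by decide +kernel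
theorem hmono : Leech.mono vec 0 4059 = true := by decide +kernel
end Cfsg.Agent.H25.Ru
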