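import Mathlib
import Cfsg.Agent.H25.Util
import Cfsg.Agent.H25.RuD0

set_option maxRecDepth 100000
set_option linter.all false

namespace Cfsg.Agent.H25.Ru
open Cfsg.Agent.H25

theorem wc_0 : wchk (nat_lit 0x100000000000000000000000000000000000000000000000000000000000000000000000000000000000000000000000000000000000000000000000000000000000000000001000000000000000000000000000000000000000000000000000000000000000000000000000000000000000000000000000200000000080009100488) (nat_lit 0) (nat_lit 290) = true := by decide +kernel
theorem wc_1 : wchk (nat_lit 0x100000000040009200488) (nat_lit 290) (nat_lit 290) = true := by decide +kernel
theorem wc_2 : wchk (nat_lit 0x1000000000000000000000000100000000020000000000000000000000000000000000000000000000000000000000030000000001000cf00488) (nat_lit 580) (nat_lit 290) = true := by decide +kernel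
theorem wc_3 : wchk (nat_lit 0x200000000050009100488) (nat_lit 870) (nat_lit 290) = true := by decide +kernel
theorem wc_4 : wchk (nat_lit 0x100000000040009100488) (nat_lit 1160) (nat_lit 290) = true := by decide +kernel
theorem wc_5 : wchk (nat_lit 0x1000000000000002000000000100001000000000000002000010000e000cc00488) (nat_lit 1450) (nat_lit 290) = true := by decide +kernel
theorem wc_6 : wchk (nat_lit 0x100000000030009000488) (nat_lit 1740) (nat_lit 290) = true := by decide +kernel
theorem wc_7 : wchk (nat_lit 0x1000000000000000000000000000000000000000000000000000000000000000000000000000000000000000000000000000000000000000000000000000000000000000000000000100000000000000000000000010000000000000000000000000000000000000000000000000000000000000000000000000070009600488) (nat_lit 2030) (nat_lit 290) = true := by decide +kernel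
theorem wc_8 : wchk (nat_lit 0x200000000040009200488) (nat_lit 2320) (nat_lit 290) = true := by decide +kernel
theorem wc_9 : wchk (nat_lit 0x1000010000000000000000000100001000000000100001000000000100000000000000100001000020000100004000fa00488) (nat_lit 2610) (nat_lit 290) = true := by decide +kernel
theorem wc_10 : wchk (nat_lit 0x100000000000000000000000000000000000000000000000000000000000000000000000000000000000030000000007000ae00488) (nat_lit 2900) (nat_lit 290) = true := by decide +kernel
theorem wc_11 : wchk (nat_lit 0x10000000000000000000000000000000000000000000000000000000000000000000000000000000000000000000000000000000000000000000000000000000000000000000000000000000000000000000000000000000000000000000000000000000000000000000000000000000000000300000000020008d00488) (nat_lit 3190) (nat_lit 290) = true := by decide +kernel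
theorem wc_12 : wchk (nat_lit 0x100000000060008f00488) (nat_lit 3480) (nat_lit 290) = true := by decide +kernel
theorem wc_13 : wchk (nat_lit 0x10000100001000010000100001000010000100001000010000100001000010000100001000010000100001000010000100001000010000100001000010000000000000000000000000000000000000000000000000000000000000000000000000000000000000000000000000000000020000000009000a400488) (nat_lit 3770) (nat_lit 290) = true := by decide +kernel
end Cfsg.Agent.H25.Ru
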