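import Mathlib
import Cfsg.Agent.H25.Out
import Cfsg.Agent.H25.RuOA

set_option maxRecDepth 100000
set_option linter.all false

namespace Cfsg.Agent.H25.RuO
open Cfsg.Agent.H25

open Cfsg.Agent.H25.Ru (T0 g0 ptq hAM0 hinj0 card_le)

theorem slp_1 : allRange (slpRow T0 T 3 (nat_lit 31) df) (nat_lit 1142) (nat_lit 2284) = true := by decide +kernel
theorem chc1 : chainOK T (nat_lit 0x3fffffffffffffff) c1 [] = true := by decide +kernel
theorem rc2_0 : allRange (St.row sc2_0 T Rc2 (bt T Rc2 lf2 ssc2) [] []) (nat_lit 0) (nat_lit 4060) = true := by decide +kernel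
end Cfsg.Agent.H25.RuO
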