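import Mathlib
import Cfsg.Agent.H25.Out
import Cfsg.Agent.H25.RuOA

set_option maxRecDepth 100000
set_option linter.all false

namespace Cfsg.Agent.H25.RuO
open Cfsg.Agent.H25

open Cfsg.Agent.H25.Ru (T0 g0 ptq hAM0 hinj0 card_le)

theorem slp_2 : allRange (slpRow T0 T 3 (nat_lit 31) df) (nat_lit 2284) (nat_lit 3426) = true := by decide +kernel
theorem chc2 : chainOK T (nat_lit 0x3fffffffffffffff) c2 [] = true := by decide +kernel
end Cfsg.Agent.H25.RuO
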