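import Mathlib
import Cfsg.Agent.H25.Out
import Cfsg.Agent.H25.RuOR0
import Cfsg.Agent.H25.RuOR1
import Cfsg.Agent.H25.RuOR2

set_option maxRecDepth 100000
set_option linter.all false

namespace Cfsg.Agent.H25.RuO
open Cfsg.Agent.H25

open Cfsg.Agent.H25.Ru (T0 g0 ptq hAM0 hinj0 card_le)

theorem hst : slpSt T0 T 3 (nat_lit 31) df = true := by decide +kernel
noncomputable def g : ℕ → G0 := slpg g0 3 df
theorem hAM : AM T g pt := AM.slp hAM0 hst (rng_all (rng_join (rng_join (rng_join (allRange_sound slp_0) (allRange_sound slp_1)) (allRange_sound slp_2)) (allRange_sound slp_3)))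
theorem hpd : Pd T g := slp_pd hst
theorem hinj : ∀ i < T.N, ∀ j < T.N, pt i = pt j → i = j := hinj0
theorem hcard : Nat.card G0 = 145926144000 :=
  le_antisymm card_le ((card_ge_of_chain hAM hinj chc1 (by decide +kernel)).trans (Subgroup.card_le_card_group _))
theorem fullc1 : Full T (nat_lit 0x3fffffffffffffff) G0 pt c1 [] :=
  full_top hAM hinj chc1 (hcard.le.trans (by decide +kernel))
theorem fullc2 : Full T (nat_lit 0x3fffffffffffffff) G0 pt c2 [] :=
  full_top hAM hinj chc2 (hcard.le.trans (by decide +kernel))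
theorem hBe : (c1.map OL.b).reverse = B := by decide +kernel
theorem htb : Lc (nat_lit 0x3fffffffffffffff) g = ⊤ ∧ IsBase G0 T.N pt (c1.map OL.b).reverse :=
  base_of_chain hAM hinj chc1 (hcard.le.trans (by decide +kernel))
theorem hB : IsBase G0 T.N pt B := hBe ▸ htb.2
theorem hgen : Gen g [[4], [2], [0]] := gen_of_slp hst htb.1 (by decide +kernel)

theorem tlc1 : TL T g Rc1 lf1 :=
  bt_top (s := sc1_0) (ss := ssc1) hAM hinj hpd fullc1 rfl (by decide +kernel) (rng_all (allRange_sound rc1_0))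

theorem tlc2 : TL T g Rc2 lf2 :=
  bt_top (s := sc2_0) (ss := ssc2) hAM hinj hpd fullc2 rfl (by decide +kernel) (rng_all (allRange_sound rc2_0))

theorem n2_0  : Node g 1 [[2], [0]] A2_0 :=
  Node.ext (a0 := [4]) (dead := d3) (opts := o3_0) hAM hinj hB [([nat_lit 0, nat_lit 0], [nat_lit 0, nat_lit 0, nat_lit 0, nat_lit 0, nat_lit 0, nat_lit 0, nat_lit 0, nat_lit 0, nat_lit 0, nat_lit 0, nat_lit 0, nat_lit 0])] tlc2 (fun w h => band_l h)
    (by decide +kernel) (opts_mko (Node.fin1 hgen _))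
theorem n1_0  : Node g 1 [[0]] A1_0 :=
  Node.ext (a0 := [2]) (dead := d2) (opts := o2_0) hAM hinj hB [([nat_lit 0], [nat_lit 0, nat_lit 0, nat_lit 0, nat_lit 0])] tlc1 (fun w h => band_l h)
    (by decide +kernel) (opts_mko (n2_0))
theorem n2_1  : Node g 1 [[2], [0]] A2_1 :=
  Node.ext (a0 := [4]) (dead := d3) (opts := o3_1) hAM hinj hB [([nat_lit 0, nat_lit 0], [nat_lit 0, nat_lit 0, nat_lit 0, nat_lit 0, nat_lit 0, nat_lit 0, nat_lit 0, nat_lit 0, nat_lit 0, nat_lit 0, nat_lit 0, nat_lit 0])] tlc2 (fun w h => (band_r h))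
    (by decide +kernel) (opts_nil)
theorem n1_1  : Node g 1 [[0]] A1_1 :=
  Node.ext (a0 := [2]) (dead := d2) (opts := o2_1) hAM hinj hB [([nat_lit 0, nat_lit 0, nat_lit 0, nat_lit 0, nat_lit 0, nat_lit 0, nat_lit 0, nat_lit 0, nat_lit 0, nat_lit 0, nat_lit 0, nat_lit 0, nat_lit 0, nat_lit 0, nat_lit 0], [nat_lit 0, nat_lit 0])] tlc1 (fun w h => (band_r h))
    (by decide +kernel) (opts_mko (n2_1))
theorem good  : ∀ β : MulAut G0, Good 1 β :=
  Node.syl (G := G0) (a0 := [0]) (dead := []) (opts := o1) (p := 29) hAM hinj hB (by norm_num) hcard (by norm_num)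
    (by decide +kernel) (opts_app (opts_mko (n1_0)) (opts_mko (n1_1)))

theorem out : Nat.card (Out G0) = 1 := card_out_one good

def Rcc : RL := [([nat_lit 0], [nat_lit 0])]
noncomputable def scc_0 : St := ⟨c1_0, true, nat_lit 0, nat_lit 0, []⟩
noncomputable def scc_1 : St := ⟨c1_1, false, nat_lit 0, nat_lit 0, []⟩
noncomputable def scc_2 : St := ⟨c1_2, false, nat_lit 0, nat_lit 0, []⟩
noncomputable def scc_3 : St := ⟨c1_3, false, nat_lit 0, nat_lit 0, []⟩
noncomputable def scc_4 : St := ⟨c1_4, false, nat_lit 0, nat_lit 0, []⟩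
noncomputable def sscc : List St := [scc_1, scc_2, scc_3, scc_4]
theorem rcc_0 : allRange (St.row scc_0 T Rcc (bt T Rcc (inPw T B [0] 29) sscc) [] []) (nat_lit 0) (nat_lit 4060) = true := by decide +kernel
theorem tlcc : TL T g Rcc (inPw T B [0] 29) :=
  bt_top (s := scc_0) (ss := sscc) hAM hinj hpd fullc1 rfl (by decide +kernel) (rng_all (allRange_sound rcc_0))

theorem perf : commutator G0 = ⊤ :=
  perf_of_comm hAM hB hgen [[nat_lit 9, nat_lit 44, nat_lit 11, nat_lit 46, nat_lit 8, nat_lit 42, nat_lit 3],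
  [nat_lit 43, nat_lit 56, nat_lit 46, nat_lit 52, nat_lit 26, nat_lit 7],
  [nat_lit 0, nat_lit 0, nat_lit 0, nat_lit 0, nat_lit 0, nat_lit 0, nat_lit 0, nat_lit 0, nat_lit 0, nat_lit 0, nat_lit 0]] [[nat_lit 1, nat_lit 33, nat_lit 30, nat_lit 26, nat_lit 16, nat_lit 34, nat_lit 28],
  [nat_lit 6, nat_lit 9, nat_lit 16, nat_lit 7, nat_lit 9, nat_lit 10, nat_lit 0],
  [nat_lit 2]] (by decide +kernel)

theorem simple : IsSimpleGroup G0 :=
  simple_of_tl (A := 38) hAM hinj hB [nat_lit 1] [2, 3, 5, 7, 13, 29] tlcc (by norm_num) hcard (by simp; norm_num)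
    (by decide +kernel) (by decide +kernel) perf

end Cfsg.Agent.H25.RuO
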