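import Mathlib
import Cfsg.Agent.H25.RuD1
import Cfsg.Agent.H25.RuD2
import Cfsg.Agent.H25.RuD3
import Cfsg.Agent.H14.CSub

/-! The minimal vectors, an upper bound for the order, the centre of `fourRu`. -/

set_option linter.all false
set_option maxRecDepth 100000
set_option exponentiation.threshold 5000

namespace Cfsg.Agent.H25.Ru
open Cfsg.Agent.H14 (sumLt sumLt_eq)
open Cfsg.Agent.H25.Leech (TR forceT forceT_eq smallW inj_of_mono mono_rng dg_sum eq_sum_dg dg_shift)
open Finset Matrix MulAction Cfsg.Spor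
open scoped commutatorElement

def CanP (i : ℕ) : Prop :=
  (VC (vec i) ∧ pt (vec i) ∈ SL 16) ∧ ∀ k, 1 ≤ k → k < 4 → vec i < jp (prep MJ) k (vec i)

theorem can_rng {lo hi : ℕ} (h : can lo hi = true) : ∀ i, lo ≤ i → i < hi → CanP i := fun i a b => by
  rw [can, forceT_eq] at h
  have := allRange_sound h i a b
  rw [force_eq] at this
  exact ⟨vcb_sound (band_l this), fun k c d =>
    Nat.le_of_ble_eq_true (allLin_sound (band_r this) k c (by omega))⟩

theorem hcan : ∀ i < 4060, CanP i := (rng_all (rng_join (rng_join (rng_join (rng_join (rng_join (rng_join (rng_join (rng_join (rng_join (rng_join (rng_join (rng_join (rng_join (can_rng cn_0) (can_rng cn_1)) (can_rng cn_2)) (can_rng cn_3)) (can_rng cn_4)) (can_rng cn_5)) (can_rng cn_6)) (can_rng cn_7)) (can_rng cn_8)) (can_rng cn_9)) (can_rng cn_10)) (can_rng cn_11)) (can_rng cn_12)) (can_rng cn_13)))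
theorem hamp : ∀ i < 4060, AmP vec T0 Ms i := (rng_all (rng_join (rng_join (rng_join (rng_join (rng_join (rng_join (rng_join (rng_join (rng_join (rng_join (rng_join (rng_join (rng_join (amq_rng am_0) (amq_rng am_1)) (amq_rng am_2)) (amq_rng am_3)) (amq_rng am_4)) (amq_rng am_5)) (amq_rng am_6)) (amq_rng am_7)) (amq_rng am_8)) (amq_rng am_9)) (amq_rng am_10)) (amq_rng am_11)) (amq_rng am_12)) (amq_rng am_13)))

noncomputable def vp (i : ℕ) : L := pt (vec i)

theorem canon {i j m : ℕ} (hi : i < 4060) (hj : j < 4060) (hm : m < 4) (e : J ^ m • vp j = vp i) :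
    i = j ∧ m = 0 := by
  have key : ∀ {i j m : ℕ}, i < 4060 → j < 4060 → 1 ≤ m → m < 4 → J ^ m • vp j = vp i →
      vec j < vec i := fun {i j m} hi hj h1 h2 e => by
    obtain ⟨a, b⟩ := jp_spec (hcan _ hj).1.1 m
    rw [← a.inj (hcan _ hi).1.1 (b.symm.trans e)]
    exact (hcan _ hj).2 _ h1 h2
  rcases Nat.eq_zero_or_pos m with rfl | h
  · exact ⟨inj_of_mono (rng_all (mono_rng hmono)) i (by omega) j (by omega)
      ((hcan _ hi).1.1.inj (hcan _ hj).1.1 (e.symm.trans (one_smul _ _))), rfl⟩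
  · have a := key hi hj h hm e
    have b := key (m := 4 - m) hj hi (by omega) (by omega)
      (by rw [← e, ← mul_smul, ← pow_add, Nat.sub_add_cancel hm.le, J_four, one_smul])
    omega

theorem canon2 {i j k m : ℕ} (hi : i < 4060) (hj : j < 4060) (hk : k < 4) (hm : m < 4)
    (e : J ^ m • vp j = J ^ k • vp i) : i = j ∧ k = m := by
  have := canon (m := (4 - k + m) % 4) hi hj (by omega) (by
    rw [← pow_eq_pow_mod _ J_four, pow_add, mul_smul, e, ← mul_smul, ← pow_add, Nat.sub_add_cancel hk.le,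
      J_four, one_smul])
  omega

theorem enum {x : L} (hx : x ∈ SL 16) : ∃ i < 4060, ∃ k < 4, J ^ k • vp i = x := by
  have : (fun n => J ^ (n % 4) • vp (n / 4)) '' (range 16240 : Set ℕ) = SL 16 :=
    Set.eq_of_subset_of_ncard_le (by
      rintro _ ⟨n, h, rfl⟩
      have := mem_range.1 h
      exact (g_nm _ _).trans (hcan _ (by omega)).1.2) (by
      rw [Set.ncard_image_of_injOn fun n a m b e => by
        have := mem_range.1 a
        have := mem_range.1 b
        have := canon2 (by omega) (by omega) (by omega) (by omega) e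
        omega, Set.ncard_coe_finset, card_range]
      exact ncard_SL) SL_finite
  obtain ⟨n, h, e⟩ := this.ge hx
  have := mem_range.1 h
  exact ⟨_, by omega, _, by omega, e⟩

theorem J_comm (g : G) (k : ℕ) (v : L) : g • J ^ k • v = J ^ k • g • v := by
  rw [← mul_smul, Subgroup.mem_center_iff.1 (pow_mem J_central k), mul_smul]

/-! ### the upper bound -/

theorem wsum_eq (L : List (ℕ × ℕ)) (d : ℕ) : wsum L d = ∑ j ∈ range L.length,
    (if d >>> (gd (0, 0) L j).1 = (gd (0, 0) L j).2 then 1 else 0) * 2 ^ (20 * j) := by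
  induction L with
  | nil => rfl
  | cons p L ih =>
    have e : wsum (p :: L) d = (Bool.rec 0 1 (Nat.beq (d >>> p.1) p.2) : ℕ) + wsum L d <<< 20 := rfl
    rw [e, ih, List.length_cons, sum_range_succ', Nat.shiftLeft_eq, sum_mul, add_comm]
    refine congrArg₂ _ ?_ ?_
    · exact sum_congr rfl fun j _ => by rw [mul_assoc, ← pow_add]; rfl
    · show _ = (if d >>> p.1 = p.2 then 1 else 0) * 1
      by_cases h : d >>> p.1 = p.2
      · rw [if_pos h, h, Nat.beq_refl]
      · rw [if_neg h, Bool.eq_false_iff.2 fun a => h (Nat.eq_of_beq_eq_true a)]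

theorem wstep {x y lo a : ℕ} (h : ∑ i ∈ range lo, wrow (prep MJ) (prep BM) i = x)
    (h2 : wchk y lo a = true) : ∑ i ∈ range (lo + a), wrow (prep MJ) (prep BM) i = x + y := by
  rw [wchk, forceT_eq, forceT_eq, sumLt_eq] at h2
  rw [sum_range_add, h, ← Nat.eq_of_beq_eq_true h2]
  exact congrArg _ (sum_congr rfl fun q _ => (force_eq _ _).symm)

def HH : ℕ := nat_lit 0x1000010000100001000010000100001000010000100001000010000100001000010000100001000010000100001000010000100001000010000100001000010000100001000010000100001000010000100001000010000100002000010000100001000010000100002000010000100001000010000100019000020004e0090003f70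

theorem hHH : ∑ i ∈ range 4060, wrow (prep MJ) (prep BM) i = HH :=
  (wstep (wstep (wstep (wstep (wstep (wstep (wstep (wstep (wstep (wstep (wstep (wstep (wstep (wstep (sum_range_zero _) wc_0) wc_1) wc_2) wc_3) wc_4) wc_5) wc_6) wc_7) wc_8) wc_9) wc_10) wc_11) wc_12) wc_13).trans (by decide +kernel)

def cell (j : ℕ) : Set L :=
  {x | x ∈ SL 16 ∧ dots (prep BM) (code (rv x)) >>> (gd (0, 0) TS j).1 = (gd (0, 0) TS j).2}

theorem cell_card {j : ℕ} (hj : j < 53) : (cell j).ncard ≤ dg 20 HH j := by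
  let q : ℕ × ℕ → ℕ → Prop := fun s j =>
    dots (prep BM) (jp (prep MJ) s.2 (vec s.1)) >>> (gd (0, 0) TS j).1 = (gd (0, 0) TS j).2
  have e : HH = ∑ s ∈ (range 4060 ×ˢ range 4) ×ˢ range 53, (if q s.1 s.2 then 1 else 0) * 2 ^ (20 * s.2) := by
    rw [← hHH, sum_product, sum_product]
    refine sum_congr rfl fun i _ => ?_
    rw [wrow, force_eq, sumLt_eq]
    refine sum_congr rfl fun k _ => ?_
    rw [force_eq, force_eq, wsum_eq, show TS.length = 53 from rfl]
  rw [e, dg_sum _ _ _ (lt_of_le_of_lt (sum_le_card_nsmul _ _ 1 fun s _ => by split_ifs <;> omega)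
    (by simp only [card_product, card_range, smul_eq_mul]; omega)), sum_product]
  simp only [sum_ite_eq', mem_range, hj, if_true]
  rw [← card_filter, ← Set.ncard_coe_finset]
  refine le_trans (Set.ncard_le_ncard (t := (fun s => J ^ s.2 • vp s.1) '' _) ?_ ((finite_toSet _).image _))
    (Set.ncard_image_le (finite_toSet _))
  rintro x ⟨h1, h2⟩
  obtain ⟨i, hi, k, hk, rfl⟩ := enum h1
  refine ⟨(i, k), mem_coe.2 (mem_filter.2 ⟨mem_product.2 ⟨mem_range.2 hi, mem_range.2 hk⟩, ?_⟩), rfl⟩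
  obtain ⟨a, b⟩ := jp_spec (hcan _ hi).1.1 k
  rwa [vp, b, a.val, a.1.code_dv] at h2

theorem pk_shift {f g : ℕ → ℕ} {s : ℕ} (hf : ∀ j < 56, f j ≤ 500000) (hg : ∀ j < 56, g j ≤ 500000)
    (h : ∀ j, s ≤ j → j < 56 → f j = g j) : pk f >>> (25 * s) = pk g >>> (25 * s) := by
  rw [eq_sum_dg 25 56 _ ((Nat.shiftRight_le _ _).trans_lt (pk_lt hf)),
    eq_sum_dg 25 56 (pk g >>> _) ((Nat.shiftRight_le _ _).trans_lt (pk_lt hg))]
  refine sum_congr rfl fun j _ => ?_
  rw [dg_shift, dg_shift]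
  by_cases hj : j + s < 56
  · rw [dg_pk hf hj, dg_pk hg hj, h _ (by omega) hj]
  · have : 2 ^ 1400 ≤ 2 ^ (25 * (j + s)) := Nat.pow_le_pow_right (by norm_num) (by omega)
    rw [dg, dg, Nat.div_eq_of_lt ((pk_lt hf).trans_le this), Nat.div_eq_of_lt ((pk_lt hg).trans_le this)]

noncomputable def tv (j : ℕ) : L := pt (gd 0 TG j)

theorem htg : ∀ j < 53, (VC (gd 0 TG j) ∧ tv j ∈ SL 16) ∧ (gd (0, 0) TS j).1 = 25 * (56 - 2 * min j 25) ∧
    dots (prep BM) (gd 0 TG j) >>> (gd (0, 0) TS j).1 = (gd (0, 0) TS j).2 := fun j hj => by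
  have h : (forceT (prep BM) fun tb => allLin (fun j => band (vcb (gd 0 TG j))
      (band (Nat.beq (gd (0, 0) TS j).1 (25 * (56 - 2 * min j 25)))
        (Nat.beq (dots tb (gd 0 TG j) >>> (gd (0, 0) TS j).1) (gd (0, 0) TS j).2))) 0 53) = true := by
    decide +kernel
  rw [forceT_eq] at h
  have := allLin_sound h j (Nat.zero_le _) (by omega)
  exact ⟨vcb_sound (band_l this), Nat.eq_of_beq_eq_true (band_l (band_r this)),
    Nat.eq_of_beq_eq_true (band_r (band_r this))⟩

theorem bB : MB BM := mbb_sound (by decide +kernel)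

theorem hrow {r : ℕ} (h1 : 6 ≤ r) (h2 : r < 56) : row BM r = rv (J ^ ((55 - r) % 2) • tv ((55 - r) / 2)) := by
  have h : (forceT (prep MJ) fun tj => allLin (fun r => Nat.beq (rowc BM r)
      (jp tj ((55 - r) % 2) (gd 0 TG ((55 - r) / 2)))) 6 50) = true := by decide +kernel
  rw [forceT_eq] at h
  obtain ⟨a, b⟩ := jp_spec (htg ((55 - r) / 2) (by omega)).1.1 ((55 - r) % 2)
  rw [tv, b, a.val, ← Nat.eq_of_beq_eq_true (allLin_sound h r h1 (by omega)), (rowc_spec bB h2).2]

noncomputable def KK (j : ℕ) : Subgroup G :=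
  Nat.rec (motive := fun _ => Subgroup G) ⊤ (fun i K => K ⊓ stabilizer G (tv i)) j

theorem KK_fix {g : G} {j : ℕ} : g ∈ KK j → ∀ i < j, g • tv i = tv i := by
  induction j with
  | zero => intro _ i hi; omega
  | succ j ih =>
    intro h i hi
    rcases Nat.lt_succ_iff_lt_or_eq.1 hi with a | rfl
    exacts [ih h.1 i a, h.2]

theorem KK_orb {j : ℕ} (hj : j < 53) : orbit (KK j) (tv j) ⊆ cell j := by
  rintro _ ⟨⟨g, hg⟩, rfl⟩
  obtain ⟨⟨a, b⟩, c, d⟩ := htg j hj
  have hn : g • tv j ∈ SL 16 := (g_nm _ _).trans b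
  refine ⟨hn, ?_⟩
  show dots _ (code (rv (g • tv j))) >>> _ = _
  obtain ⟨e1, e2⟩ := code_spec (bd_of (y := rv (g • tv j)) (hn.le.trans (by norm_num)))
  rw [← d, c, dots_eq bB e1, dots_eq bB a.1]
  refine pk_shift (fun r hr => by have := dot_bd bB e1 hr; omega)
    (fun r hr => by have := dot_bd bB a.1 hr; omega) fun r h1 h2 => ?_
  rw [e2, ← a.val, hrow (by omega) h2]
  conv_lhs => rw [← KK_fix hg ((55 - r) / 2) (by omega), ← J_comm]
  exact congrArg (fun t => (t + 8192).toNat) (g_dot g _ _)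

theorem card_G_le : Nat.card G ≤ 583704576000 := by
  have h : ∀ n ≤ 53, Nat.card (KK 0) ≤ (∏ j ∈ range n, dg 20 HH j) * Nat.card (KK n) := by
    intro n
    induction n with
    | zero => intro _; simp
    | succ n ih =>
      intro hn
      rw [prod_range_succ, mul_assoc]
      exact (ih (by omega)).trans (Nat.mul_le_mul_left _ ((H14.card_le_of_orbit_subset (KK_orb hn)
        (SL_finite.subset fun _ h => h.1)).trans (Nat.mul_le_mul_right _ (cell_card hn))))
  have h2 : KK 53 = ⊥ := eq_bot_iff.2 fun g hg => g_ext4 fun i => by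
    have h : (forceT (prep MJ) fun tj => allLin (fun i => Nat.beq (c4 i)
      (jp tj (i % 2) (gd 0 TG (25 + i / 2)))) 0 56) = true := by decide +kernel
    rw [forceT_eq] at h
    rw [one_smul, ← (c4_spec i).2, Nat.eq_of_beq_eq_true (allLin_sound h i (Nat.zero_le _) (by omega)),
      ← (jp_spec (htg _ (by omega)).1.1 _).2, J_comm]
    exact congrArg _ (KK_fix hg _ (by omega))
  have h3 := h 53 le_rfl
  rwa [h2, Subgroup.card_bot, show ∏ j ∈ range 53, dg 20 HH j = 583704576000 by decide +kernel,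
    show KK 0 = ⊤ from rfl, Subgroup.card_top] at h3

/-! ### the centre -/

theorem amv {i a : ℕ} (hi : i < 4060) (ha : a < 4) :
    T0.tgt i a < 4060 ∧ (l0 Ms a)⁻¹ • vp i = J ^ T0.cv i a • vp (T0.tgt i a) := by
  obtain ⟨h1, h2⟩ := hamp i hi a ha
  have ha' : a < Ms.length := ha
  rw [gd_prep ha'] at h2
  refine ⟨h1, ?_⟩
  rw [l0, if_pos ha', inv_inv, vp, vp, (el_smul (allL_sound hMs _ (gd_mem 0 ha')) (hcan i hi).1.1).2, h2,
    (jp_spec (hcan _ h1).1.1 _).2]

theorem center_J {z : G} (hz : z ∈ Subgroup.center G) : ∃ m < 4, J ^ m = z := by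
  have h1 : ∀ i < 4060, T0.cv i 3 < 4 ∧ (T0.tgt i 3 = i ∧ T0.cv i 3 = 0 ↔ i = 4059) := fun i hi =>
    of_decide_eq_true (allRange_sound (p := fun i => decide (T0.cv i 3 < 4 ∧
      (T0.tgt i 3 = i ∧ T0.cv i 3 = 0 ↔ i = 4059))) (lo := 0) (hi := 4060) (by decide +kernel) i
      (Nat.zero_le _) hi)
  have hc : ∀ (g : G) (v : L), g • z • v = z • g • v := fun g v => by
    rw [← mul_smul, Subgroup.mem_center_iff.1 hz, mul_smul]
  obtain ⟨i, hi, k, hk, e⟩ := enum (x := z • vp 4059) ((g_nm _ _).trans (hcan _ (by omega)).1.2)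
  have h2 := (amv (i := 4059) (a := 3) (by omega) (by omega)).2
  obtain ⟨a1, a2⟩ := (h1 4059 (by omega)).2.2 rfl
  rw [a1, a2, pow_zero, one_smul] at h2
  have h3 := hc (l0 Ms 3)⁻¹ (vp 4059)
  obtain ⟨b1, b2⟩ := amv (a := 3) hi (by omega)
  rw [h2, ← e, J_comm, smul_left_cancel_iff, b2] at h3
  obtain ⟨c1, c2⟩ := canon hi b1 (h1 i hi).1 h3
  rw [(h1 i hi).2.1 ⟨c1.symm, c2⟩] at e
  refine ⟨k, hk, g_ext4 fun j => ?_⟩
  have h : (prepL M2 fun ts => allLin (fun k => band (smallW M2.length (gd [] WE k))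
    (Nat.beq (actW ts (gd [] WE k) (vec 4059)) (c4 k))) 0 56) = true := by decide +kernel
  rw [prepL_eq] at h
  have h4 := allLin_sound h j (Nat.zero_le _) (by omega)
  rw [← (c4_spec j).2, ← Nat.eq_of_beq_eq_true (band_r h4),
    ← (actW_spec hM2 (band_l h4) (hcan 4059 (by omega)).1.1).2, ← J_comm, ← hc]
  exact congrArg _ e

theorem card_center : Nat.card (Subgroup.center G) = 4 := by
  rw [show Subgroup.center G = Subgroup.zpowers J from le_antisymm (fun z hz => by
    obtain ⟨m, -, rfl⟩ := center_J hz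
    exact pow_mem (Subgroup.mem_zpowers J) m) (Subgroup.zpowers_le.2 J_central), Nat.card_zpowers]
  exact orderOf_eq_prime_pow (p := 2) (n := 1) (fun e => by
    have := canon (i := 0) (j := 0) (m := 2) (by omega) (by omega) (by omega)
      (by rw [show J ^ 2 = 1 from e, one_smul])
    omega) J_four

theorem J_sq : J ^ 2 ∈ commutator G := by
  have h := eqW_sound hM2 (u := [0, 1]) (v := [3, 3, 1, 0]) (by decide +kernel)
  have e : l0 M2 3 = J⁻¹ := by
    rw [l0, if_pos (by decide), show gd 0 M2 3 = MJ by decide +kernel, J]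
  simp only [ev_cons, ev_nil, mul_one, e] at h
  rw [← inv_mem_iff, show (J ^ 2)⁻¹ = ⁅l0 M2 0, l0 M2 1⁆ by rw [commutatorElement_def, h]; group]
  exact Subgroup.commutator_mem_commutator (Subgroup.mem_top _) (Subgroup.mem_top _)

theorem exists_c : ∃ c ∈ commutator G, c • vp 4059 = J ^ 1 • vp 4059 := by
  have hy := (vcb_sound (c := cy) (by decide +kernel)).1
  have h1 := mapW_sound (w := cw1 ++ cw2) (d := vec 4059) hMs hy (by decide +kernel)
  have h2 := mapW_sound (w := cw2 ++ cw1) (d := jp (prep MJ) 1 (vec 4059)) hMs hy (by decide +kernel)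
  refine ⟨⁅(ev (l0 Ms) cw1)⁻¹, (ev (l0 Ms) cw2)⁻¹⁆,
    Subgroup.commutator_mem_commutator (Subgroup.mem_top _) (Subgroup.mem_top _), ?_⟩
  rw [vp, (jp_spec (hcan 4059 (by omega)).1.1 1).2, ← h2, ← h1, ev_append, ev_append, ← mul_smul]
  exact congrArg (· • pt cy) (by rw [commutatorElement_def]; group)

/-! ### the action on the lines -/

noncomputable def g0 (a : ℕ) : Spor.Ru := mk1 (l0 Ms a)
noncomputable def ptq (i : ℕ) : OQ G L := OQ.mk G (vp i)

theorem hAM0 : AM T0 g0 ptq := am_q (by decide) hMs (fun i hi => (hcan i hi).1.1) hamp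

theorem hinj0 : ∀ i < 4060, ∀ j < 4060, ptq i = ptq j → i = j := fun i hi j hj e => by
  obtain ⟨c, hc, e⟩ := OQ.eq.1 e
  obtain ⟨m, hm, rfl⟩ := center_J hc
  exact (canon hi hj hm e).1

theorem card_mul : Nat.card G = Nat.card Spor.Ru * 4 := by
  rw [← card_center]; exact Subgroup.card_eq_card_quotient_mul_card_subgroup _

theorem card_le : Nat.card Spor.Ru ≤ 145926144000 := by
  have := card_G_le
  rw [card_mul] at this
  omega

theorem orb_q (y : Spor.Ru) {i : ℕ} (hi : i < 4060) : ∃ j < 4060, y • ptq i = ptq j := by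
  obtain ⟨g, rfl⟩ := QuotientGroup.mk_surjective y
  obtain ⟨j, hj, k, -, e⟩ := enum (x := g • vp i) ((g_nm _ _).trans (hcan _ hi).1.2)
  exact ⟨j, hj, OQ.eq.2 ⟨_, pow_mem J_central k, e⟩⟩

end Cfsg.Agent.H25.Ru
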