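import Mathlib
import Cfsg.Agent.H25.VM

/-! A variant of the simplicity criterion; perfectness from commutator words. -/

set_option linter.all false

namespace Cfsg.Agent.H25
open Finset
open scoped commutatorElement

variable {G : Type*} [Group G] [Finite G]

theorem simple_of_sc2 {x : G} {p n : ℕ} (hp : p.Prime) (hx : orderOf x = p) (hn : Nat.card G = n)
    (h2 : ¬ p ^ 2 ∣ n) (hc : ∀ c, c⁻¹ * x * c = x → c ∈ Subgroup.zpowers x)
    (hq : ∀ N : Subgroup G, N.Normal → (∀ q, q.Prime → q ∣ Nat.card N →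
      q ^ (Nat.card N).factorization q % p = 1) → N = ⊥)
    (hperf : commutator G = ⊤) : IsSimpleGroup G := by
  haveI := Fact.mk hp
  subst hn
  have hx1 : x ≠ 1 := by rintro rfl; rw [orderOf_one] at hx; exact hp.one_lt.ne hx
  haveI : Nontrivial G := nontrivial_of_ne x 1 hx1
  have hcP : Nat.card (Subgroup.zpowers x) = p := by rw [Nat.card_zpowers, hx]
  have hP : IsPGroup p (Subgroup.zpowers x) := IsPGroup.of_card (n := 1) (by rw [hcP, pow_one])
  refine ⟨fun N hN => ?_⟩
  by_cases hd : p ∣ Nat.card N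
  · right
    obtain ⟨y, hy⟩ := exists_prime_orderOf_dvd_card' p hd
    have hxN : x ∈ N := by
      obtain ⟨c, k, k1, k2, e⟩ := exists_conj_pow hp hx (y := (y : G))
        (by rw [Subgroup.orderOf_coe, hy]) h2
      have h3 : x ^ k ∈ N := e ▸ hN.conj_mem' _ y.2 c
      obtain ⟨m, hm⟩ := exists_pow_eq_self_of_coprime (x := x) (n := k)
        (by rw [hx]; exact (Nat.coprime_of_lt_prime (by omega) k2 hp).symm)
      exact hm ▸ N.pow_mem h3 m
    rw [eq_top_iff, ← hperf, commutator, Subgroup.commutator_le]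
    -- every element is in `N` times the normaliser of the cyclic group
    have key : ∀ g : G, ∃ y ∈ N, ∃ u k, g = y * u ∧ u⁻¹ * x * u = x ^ k := fun g => by
      have hxo : orderOf (⟨x, hxN⟩ : N) = p := by rw [← Subgroup.orderOf_coe]; exact hx
      have hy : orderOf (⟨g⁻¹ * x * g, hN.conj_mem' _ hxN g⟩ : N) = p := by
        rw [← Subgroup.orderOf_coe, ← hx]
        exact (MulAut.conj g⁻¹).orderOf_eq x ▸ by simp
      obtain ⟨c, k, -, -, e⟩ := exists_conj_pow hp hxo hy
        (fun h => h2 (h.trans (Subgroup.card_subgroup_dvd_card N)))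
      refine ⟨g * (c : G)⁻¹ * g⁻¹, hN.conj_mem _ (N.inv_mem c.2) g, g * c, k, ?_, ?_⟩
      · group
      · have := congrArg Subtype.val e
        simpa [mul_assoc] using this
    intro a _ b _
    obtain ⟨y, hy, u, k, rfl, e1⟩ := key a
    obtain ⟨z, hz, v, l, rfl, e2⟩ := key b
    have h3 : ⁅u, v⁆ ∈ N := by
      have : (u * v * (v * u)⁻¹)⁻¹ * x * (u * v * (v * u)⁻¹) = x := by
        have f1 : (u * v)⁻¹ * x * (u * v) = x ^ (k * l) := by
          rw [mul_inv_rev, show v⁻¹ * u⁻¹ * x * (u * v) = v⁻¹ * (u⁻¹ * x * u) * v by group, e1,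
            ← cpw, e2, ← pow_mul, mul_comm]
        have f2 : (v * u)⁻¹ * x * (v * u) = x ^ (k * l) := by
          rw [mul_inv_rev, show u⁻¹ * v⁻¹ * x * (v * u) = u⁻¹ * (v⁻¹ * x * v) * u by group, e2,
            ← cpw, e1, ← pow_mul]
        calc _ = (v * u) * ((u * v)⁻¹ * x * (u * v)) * (v * u)⁻¹ := by group
          _ = x := by rw [f1, ← f2]; group
      have h4 := (Subgroup.zpowers_le.2 hxN) (hc _ this)
      rwa [commutatorElement_def, show u * v * u⁻¹ * v⁻¹ = u * v * (v * u)⁻¹ by group]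
    rw [← QuotientGroup.eq_one_iff] at h3 hy hz ⊢
    rw [← QuotientGroup.mk'_apply] at h3 hy hz ⊢
    rw [map_commutatorElement] at h3 ⊢
    rw [map_mul, map_mul, hy, hz, one_mul, one_mul, h3]
  · left
    refine hq N hN fun q q1 _ => ?_
    haveI := Fact.mk q1
    letI : MulDistribMulAction (Subgroup.zpowers x) N :=
      MulDistribMulAction.compHom N ((MulAut.conjNormal (H := N)).comp (Subgroup.zpowers x).subtype)
    open Pointwise in
    obtain ⟨Q, hQ⟩ := hP.nonempty_fixed_point_of_prime_not_dvd_card (Sylow q N)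
      (fun h => hd (h.trans (Sylow.card_dvd_index (Classical.arbitrary _) |>.trans
        (Subgroup.index_dvd_card _))))
    let S : SubMulAction (Subgroup.zpowers x) N :=
      { carrier := (Q : Subgroup N)
        smul_mem' := fun c y hy => by
          open Pointwise in
          have e : c • (Q : Subgroup N) = Q := congrArg Sylow.toSubgroup (hQ c)
          exact e ▸ Subgroup.smul_mem_pointwise_smul y c _ hy }
    have h3 := hP.card_modEq_card_fixedPoints S
    have h4 : Nat.card (MulAction.fixedPoints (Subgroup.zpowers x) S) = 1 := by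
      rw [Nat.card_eq_one_iff_exists]
      refine ⟨⟨⟨1, (Q : Subgroup N).one_mem⟩, fun c => Subtype.ext (smul_one c)⟩, ?_⟩
      rintro ⟨⟨y, hy⟩, h5⟩
      have h6 : x * y * x⁻¹ = y :=
        congrArg (fun t : S => ((t : N) : G)) (h5 ⟨x, Subgroup.mem_zpowers x⟩)
      have h7 := hc y (by rw [mul_assoc, inv_mul_eq_iff_eq_mul]; exact mul_inv_eq_iff_eq_mul.1 h6)
      have h8 : orderOf (y : G) ∣ p := hcP ▸ Subgroup.orderOf_dvd_natCard _ h7
      have h9 : orderOf (y : G) ∣ Nat.card N := Subgroup.orderOf_dvd_natCard _ y.2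
      have h10 := Nat.dvd_gcd h8 h9
      rw [((Nat.Prime.coprime_iff_not_dvd hp).2 hd).gcd_eq_one, Nat.dvd_one, orderOf_eq_one_iff] at h10
      exact Subtype.ext (Subtype.ext (Subtype.ext h10))
    have h5 : Nat.card S = q ^ (Nat.card N).factorization q := Q.card_eq_multiplicity
    rw [h4, h5] at h3
    rw [h3, Nat.mod_eq_of_lt hp.one_lt]

variable {Ω : Type*} [MulAction G Ω] {T : PT} {g : ℕ → G} {pt : ℕ → Ω}

theorem simple_of_tl2 (h : AM T g pt) (hinj : ∀ i < T.N, ∀ j < T.N, pt i = pt j → i = j)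
    {B : List ℕ} (hB : IsBase G T.N pt B) {x : List ℕ} {p n : ℕ} {R : RL} (E : List ℕ)
    (hT : TL T g R (inPw T B x p)) (hp : p.Prime) (hn : Nat.card G = n)
    (hs : band (band (T.small x) (band (T.chk B (pw x p)) (neqv T B x [])))
      (allLin (fun j => band (T.chk2 B (gd ([], []) R j).1 (pw x (gd 0 E j)))
        (T.chk2 B (gd ([], []) R j).2 (pw x (gd 0 E j)))) 0 R.length) = true)
    (h3 : ¬ p ^ 2 ∣ n) (hq : ∀ N : Subgroup G, N.Normal → (∀ q, q.Prime → q ∣ Nat.card N →
      q ^ (Nat.card N).factorization q % p = 1) → N = ⊥)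
    (hperf : commutator G = ⊤) : IsSimpleGroup G := by
  simp only [band_eq, Bool.and_eq_true] at hs
  obtain ⟨⟨s1, s2, s3⟩, s4⟩ := hs
  haveI := Fact.mk hp
  have sx : Sm T x := T.small_sound s1
  refine simple_of_sc2 (x := ev g x) hp (orderOf_eq_prime (by rw [← ev_pw]; exact h.chk hB _ s2)
    (h.neqv hinj hB.1 sx Sm.nil s3)) hn h3 (fun c hc => ?_) hq hperf
  obtain ⟨w, w1, rfl, w3⟩ := hT c fun q hq => by
    obtain ⟨j, hj, rfl⟩ := exists_gd ([], []) hq
    have := allLin_sound s4 j (Nat.zero_le _) (by omega)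
    simp only [Bool.and_eq_true] at this
    rw [h.chk2 hB _ _ this.1, h.chk2 hB _ _ this.2, ev_pw, ← cpw, hc]
  obtain ⟨k, -, hk⟩ := anyL_sound w3
  rw [h.eqv hB w1 (sx.pw k) hk, ev_pw]
  exact Subgroup.pow_mem _ (Subgroup.mem_zpowers _) k

theorem tits_normal (hn : Nat.card G = 17971200) {x y : G} (hx : x ^ 3 = 1) (hy : y ^ 3 = 1)
    (h : (x * y) ^ 27 ≠ 1) (N : Subgroup G) (hN : N.Normal)
    (hq : ∀ q, q.Prime → q ∣ Nat.card N → q ^ (Nat.card N).factorization q % 13 = 1) : N = ⊥ := by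
  have h0 : Nat.card N ≠ 0 := Nat.card_pos.ne'
  have h1 : Nat.card N ∣ 17971200 := hn ▸ Subgroup.card_subgroup_dvd_card N
  have h2 : ∀ {q}, q.Prime → q ∣ Nat.card N → q = 3 := fun {q} a b => by
    by_contra c
    obtain ⟨k, hk⟩ := Nat.exists_eq_succ_of_ne_zero (a.factorization_pos_of_dvd h0 b).ne'
    refine ppow_ne (p := 13) (n := 665600) (A := 20) [2, 5, 13] (by simp; norm_num) (by norm_num) (by decide +kernel)
      (by norm_num) (by decide +kernel) q k a ?_ (by have := hq q a b; rwa [hk] at this)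
    refine Nat.Coprime.dvd_of_dvd_mul_left (Nat.Coprime.pow _ 3
      ((Nat.coprime_primes a (by norm_num)).2 c)) ?_
    have := Nat.ordProj_dvd (Nat.card N) q
    rw [hk] at this
    exact this.trans h1
  have h3 := Nat.eq_prime_pow_of_unique_prime_dvd h0 h2
  generalize (Nat.card N).primeFactorsList.length = k at h3
  by_contra hne
  have h4 : k ≠ 0 := fun e => hne (Subgroup.card_eq_one.1 (by rw [h3, e, pow_zero]))
  have h5 := hq 3 (by norm_num) (h3 ▸ dvd_pow_self 3 h4)
  rw [h3, Nat.Prime.factorization_pow (by norm_num), Finsupp.single_eq_same] at h5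
  have h6 : k < 4 := by
    by_contra c
    exact absurd ((pow_dvd_pow 3 (not_lt.1 c)).trans (h3 ▸ h1)) (by norm_num)
  have h7 : Nat.card N = 27 := by interval_cases k <;> omega
  have h8 : Nat.card (G ⧸ N) = 665600 := by
    have := Subgroup.card_eq_card_quotient_mul_card_subgroup N
    rw [hn, h7] at this
    omega
  have h9 : ∀ z : G, z ^ 3 = 1 → z ∈ N := fun z hz => by
    rw [← QuotientGroup.eq_one_iff, ← orderOf_eq_one_iff]
    exact Nat.eq_one_of_dvd_coprimes (by norm_num : Nat.Coprime 3 665600) (orderOf_dvd_of_pow_eq_one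
      (by rw [← QuotientGroup.mk_pow, hz]; rfl)) (h8 ▸ orderOf_dvd_natCard _)
  have := pow_card_eq_one' (x := (⟨_, N.mul_mem (h9 x hx) (h9 y hy)⟩ : N))
  rw [h7] at this
  exact h (congrArg Subtype.val this)

omit [Finite G] in
theorem comm_eq (h : AM T g pt) {B : List ℕ} (hB : IsBase G T.N pt B) {a u v : List ℕ}
    (hc : T.chk2 B (u ++ v) (a ++ (v ++ u)) = true) : ev g a = ⁅ev g u, ev g v⁆ := by
  have := h.chk2 hB _ _ hc
  rw [ev_append, ev_append, ev_append] at this
  rw [commutatorElement_def, this]; group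

omit [Finite G] in
theorem perf_of_comm (h : AM T g pt) {B : List ℕ} (hB : IsBase G T.N pt B) (hg : Gen g [[4], [2], [0]])
    (U V : List (List ℕ)) (hc : ∀ j < 3, T.chk2 B (gd [] U j ++ gd [] V j)
      (gd [] [[4], [2], [0]] j ++ (gd [] V j ++ gd [] U j)) = true) : commutator G = ⊤ :=
  hg _ fun j => by
    by_cases hj : j < 3
    · rw [locv, comm_eq h hB (hc j hj)]
      exact Subgroup.commutator_mem_commutator (Subgroup.mem_top _) (Subgroup.mem_top _)
    · rw [locv_ge j (by simpa using hj)]; exact one_mem _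

end Cfsg.Agent.H25
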